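import Cfsg.Agent.Helper17.SuzTC.Lemmas

set_option autoImplicit false
set_option linter.all false

noncomputable section

namespace Cfsg.Agent.Helper17.SuzTC

theorem F1 : act 0 n0 = n0 := d26_0 B0 
theorem F2 : act 1 n0 = n0 := d27_0 B1 
theorem F3 : act 2 n0 = n0 := d28_0 B2 
theorem F4 : act 3 n0 = n0 := d29_0 B3 
theorem F5 : act 4 n0 = n0 := d30_0 B4 
theorem F6 : act 5 n0 = n0 := d31_0 B5 
def n1 : Q := act 6 n0
theorem D1 : act 6 n0 = n1 := rfl
theorem F7 : act 0 n1 = n1 := d5_1 D1 (iv D1) F1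
theorem F8 : act 2 n1 = n1 := d14_1 D1 (iv D1) F3
theorem F9 : act 3 n1 = n1 := d17_1 D1 (iv D1) F4
theorem F10 : act 4 n1 = n1 := d19_1 D1 (iv D1) F5
theorem F11 : act 5 n1 = n1 := d22_2 F6 D1 (iv D1) F1
def n2 : Q := act 1 n1
theorem D2 : act 1 n1 = n2 := rfl
theorem F12 : act 3 n2 = n2 := d7_2 F9 D2 (iv D2)
theorem F13 : act 4 n2 = n2 := d8_2 F10 D2 (iv D2)
theorem F14 : act 6 n2 = n2 := d10_2 D1 D2 (iv D2) (iv D1) F2
def n3 : Q := act 0 n2
theorem D3 : act 0 n2 = n3 := rfl
theorem F15 : act 3 n3 = n3 := d2_2 F12 D3 (iv D3)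
theorem F16 : act 4 n3 = n3 := d3_2 F13 D3 (iv D3)
theorem F17 : act 6 n3 = n3 := d5_2 F14 D3 (iv D3)
def n4 : Q := act 2 n2
theorem D4 : act 2 n2 = n4 := rfl
theorem F18 : act 1 n4 = n4 := d6_1 D4 (iv D4) (iv D2) F8 D2
theorem F19 : act 4 n4 = n4 := d12_2 F13 D4 (iv D4)
theorem F20 : act 6 n4 = n4 := d14_2 F14 D4 (iv D4)
def n5 : Q := act 5 n2
theorem D5 : act 5 n2 = n5 := rfl
theorem F21 : act 1 n5 = n5 := d9_1 D5 (iv D5) (iv D2) F11 D2
theorem F22 : act 3 n5 = n5 := d16_1 D5 (iv D5) F12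
theorem F23 : act 4 n5 = n5 := d18_1 D5 (iv D5) F13
def n6 : Q := act 1 n3
theorem D6 : act 1 n3 = n6 := rfl
theorem F24 : act 3 n6 = n6 := d7_2 F15 D6 (iv D6)
theorem F25 : act 4 n6 = n6 := d8_2 F16 D6 (iv D6)
def n7 : Q := act 2 n3
theorem D7 : act 2 n3 = n7 := rfl
theorem F26 : act 0 n7 = n4 := d1_1 D7 (iv D4) D3
theorem F27 : act 4 n7 = n7 := d12_2 F16 D7 (iv D7)
theorem F28 : act 6 n7 = n7 := d14_2 F17 D7 (iv D7)
def n8 : Q := act 5 n3
theorem D8 : act 5 n3 = n8 := rfl
theorem F29 : act 0 n8 = n5 := d4_1 D8 (iv D5) D3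
theorem F32 : act 6 n8 = n5 := d22_1 D8 (iv D5) F14 D3
theorem E1 : n8 = n6 := ((c24_3 (iv F32) (iv D8) D6 F32 (iv D5) (iv D2) (iv D1) F6 F2 D1 F11 D2 F14 D5 F21)).symm
theorem F33 : act 0 n6 = n5 := (sb E1 F29)
theorem F34 : act 5 n6 = n3 := (sb E1 (iv D8))
theorem F35 : act 6 n6 = n5 := (sb E1 F32)
def n9 : Q := act 3 n4
theorem D9 : act 3 n4 = n9 := rfl
theorem F36 : act 1 n9 = n9 := d7_1 D9 (iv D9) F18
theorem F37 : act 6 n9 = n9 := d17_2 F20 D9 (iv D9)
def n10 : Q := act 5 n4
theorem D10 : act 5 n4 = n10 := rfl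
theorem F38 : act 2 n10 = n5 := d13_1 D10 (iv D5) D4
theorem F39 : act 4 n10 = n10 := d18_1 D10 (iv D10) F19
def n11 : Q := act 2 n6
theorem D11 : act 2 n6 = n11 := rfl
theorem F40 : act 0 n11 = n10 := d1_1 D11 F38 (iv F33)
theorem F41 : act 4 n11 = n11 := d12_2 F25 D11 (iv D11)
theorem F42 : act 5 n11 = n7 := d13_2 (iv F34) D11 (iv D7)
theorem F43 : act 6 n11 = n10 := d14_2 (iv F35) D11 F38
def n12 : Q := act 1 n7
theorem D12 : act 1 n7 = n12 := rfl
theorem F44 : act 4 n12 = n12 := d8_2 F27 D12 (iv D12)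
def n13 : Q := act 3 n7
theorem D13 : act 3 n7 = n13 := rfl
theorem F45 : act 0 n13 = n9 := d2_1 D13 (iv D9) (iv F26)
theorem F46 : act 6 n13 = n13 := d17_2 F28 D13 (iv D13)
def n14 : Q := act 2 n9
theorem D14 : act 2 n9 = n14 := rfl
theorem F47 : act 6 n14 = n14 := d14_2 F37 D14 (iv D14)
def n15 : Q := act 4 n9
theorem D15 : act 4 n9 = n15 := rfl
theorem F48 : act 1 n15 = n15 := d8_1 D15 (iv D15) F36
theorem F49 : act 3 n15 = n15 := d15_1 D15 (iv D15) (iv D9) F19 D9
theorem F50 : act 6 n15 = n15 := d19_2 F37 D15 (iv D15)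
def n16 : Q := act 5 n9
theorem D16 : act 5 n9 = n16 := rfl
theorem F51 : act 3 n16 = n10 := d16_1 D16 (iv D10) D9
def n17 : Q := act 1 n10
theorem D17 : act 1 n10 = n17 := rfl
theorem F52 : act 2 n17 = n17 := d6_2 (iv F38) D17 (iv D17) F38 F21
theorem F53 : act 4 n17 = n17 := d8_2 F39 D17 (iv D17)
theorem F54 : act 5 n17 = n17 := d9_2 D10 D17 (iv D17) (iv D10) F18
theorem F55 : act 0 n17 = n17 := d23_3 D5 (iv F38) D17 F54 F52 (iv D17) (iv F40) F42 (iv D7) D6 F33 (iv D5) D4 F18 (iv F26) (iv F42) (iv D11) (iv D6) (iv D3)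
def n18 : Q := act 1 n11
theorem D18 : act 1 n11 = n18 := rfl
theorem F56 : act 2 n18 = n12 := d6_2 D11 D18 (iv D12) (iv D7) D6
theorem F57 : act 4 n18 = n18 := d8_2 F41 D18 (iv D18)
def n19 : Q := act 3 n11
theorem D19 : act 3 n11 = n19 := rfl
theorem F58 : act 0 n19 = n16 := d2_1 D19 F51 (iv F40)
theorem F59 : act 5 n19 = n13 := d16_2 (iv F42) D19 (iv D13)
theorem F60 : act 6 n19 = n16 := d17_2 (iv F43) D19 F51
def n20 : Q := act 0 n12
theorem D20 : act 0 n12 = n20 := rfl
theorem F61 : act 4 n20 = n20 := d3_2 F44 D20 (iv D20)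
def n21 : Q := act 3 n12
theorem D21 : act 3 n12 = n21 := rfl
theorem F62 : act 1 n21 = n13 := d7_1 D21 (iv D13) D12
def n22 : Q := act 5 n12
theorem D22 : act 5 n12 = n22 := rfl
theorem F63 : act 4 n22 = n22 := d18_1 D22 (iv D22) F44
def n23 : Q := act 6 n12
theorem D23 : act 6 n12 = n23 := rfl
theorem F64 : act 1 n23 = n23 := d10_1 D23 (iv D23) (iv D12) F28 D12
theorem F65 : act 4 n23 = n23 := d19_1 D23 (iv D23) F44
def n24 : Q := act 2 n13
theorem D24 : act 2 n13 = n24 := rfl
theorem F66 : act 0 n24 = n14 := d1_1 D24 (iv D14) (iv F45)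
theorem F67 : act 6 n24 = n24 := d14_2 F46 D24 (iv D24)
theorem F68 : act 3 n24 = n14 := d21_1 D24 (iv D14) (iv D9) (iv D4) F12 D4 D9 (iv F45)
def n25 : Q := act 4 n13
theorem D25 : act 4 n13 = n25 := rfl
theorem F69 : act 0 n25 = n15 := d3_1 D25 (iv D15) (iv F45)
theorem F70 : act 3 n25 = n25 := d15_1 D25 (iv D25) (iv D13) F27 D13
theorem F71 : act 6 n25 = n25 := d19_2 F46 D25 (iv D25)
def n26 : Q := act 1 n14
theorem D26 : act 1 n14 = n26 := rfl
theorem F72 : act 2 n26 = n26 := d6_2 D14 D26 (iv D26) (iv D14) F36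
def n27 : Q := act 4 n14
theorem D27 : act 4 n14 = n27 := rfl
theorem F73 : act 2 n27 = n15 := d12_1 D27 (iv D15) D14
theorem F74 : act 6 n27 = n27 := d19_2 F47 D27 (iv D27)
def n28 : Q := act 5 n14
theorem D28 : act 5 n14 = n28 := rfl
theorem F75 : act 2 n28 = n16 := d13_1 D28 (iv D16) D14
def n29 : Q := act 5 n15
theorem D29 : act 5 n15 = n29 := rfl
theorem F76 : act 3 n29 = n29 := d16_1 D29 (iv D29) F49
theorem F77 : act 4 n29 = n16 := d18_1 D29 (iv D16) D15
def n30 : Q := act 1 n16
theorem D30 : act 1 n16 = n30 := rfl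
theorem F78 : act 3 n30 = n17 := d7_2 (iv F51) D30 (iv D17)
theorem F79 : act 5 n30 = n30 := d9_2 D16 D30 (iv D30) (iv D16) F36
theorem F80 : act 0 n30 = n30 := d2_3 F78 F55 (iv F78)
def n31 : Q := act 6 n17
theorem D31 : act 6 n17 = n31 := rfl
theorem F81 : act 0 n31 = n31 := d5_1 D31 (iv D31) F55
theorem F82 : act 2 n31 = n31 := d14_1 D31 (iv D31) F52
theorem F83 : act 4 n31 = n31 := d19_1 D31 (iv D31) F53
theorem F84 : act 5 n31 = n31 := d22_2 F54 D31 (iv D31) F55
def n32 : Q := act 0 n18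
theorem D32 : act 0 n18 = n32 := rfl
theorem F86 : act 2 n32 = n20 := d1_2 (iv F56) D32 (iv D20)
def n33 : Q := act 3 n18
theorem D33 : act 3 n18 = n33 := rfl
theorem F88 : act 1 n33 = n19 := d7_1 D33 (iv D19) D18
def n34 : Q := act 5 n18
theorem D34 : act 5 n18 = n34 := rfl
theorem F89 : act 1 n34 = n22 := d9_1 D34 (iv D22) (iv D12) (iv F42) D18
theorem F90 : act 2 n34 = n22 := d13_1 D34 (iv D22) (iv F56)
theorem F91 : act 4 n34 = n34 := d18_1 D34 (iv D34) F57
def n35 : Q := act 6 n18
theorem D35 : act 6 n18 = n35 := rfl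
theorem F92 : act 1 n35 = n31 := d10_1 D35 (iv D31) (iv D17) (iv F43) D18
theorem F93 : act 2 n35 = n23 := d14_1 D35 (iv D23) (iv F56)
theorem F95 : act 6 n22 = n34 := d24_3 (iv D35) D34 F89 (iv D34) (iv D18) F43 (iv D10) F18 F20 D10 D17 D31 F84 (iv F92)
theorem E2 : n35 = n20 := (c22_4 D22 F95 (iv D34) D35 (iv D20))
theorem F96 : act 1 n20 = n31 := (sb E2 F92)
theorem E3 : n32 = n23 := (((iv F86)).symm.trans (sb E2 F93))
theorem F97 : act 6 n20 = n18 := (sb E2 (iv D35))
theorem F98 : act 0 n23 = n18 := (sb E3 (iv D32))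
theorem F99 : act 2 n23 = n20 := (sb E3 F86)
def n36 : Q := act 2 n19
theorem D36 : act 2 n19 = n36 := rfl
theorem F100 : act 0 n36 = n28 := d1_1 D36 F75 (iv F58)
theorem F101 : act 5 n36 = n24 := d13_2 (iv F59) D36 (iv D24)
theorem F102 : act 6 n36 = n28 := d14_2 (iv F60) D36 F75
theorem F103 : act 3 n36 = n28 := d21_1 D36 F75 F51 F38 F22 (iv F38) (iv F51) (iv F58)
def n37 : Q := act 4 n19
theorem D37 : act 4 n19 = n37 := rfl
theorem F104 : act 0 n37 = n29 := d3_1 D37 F77 (iv F58)
theorem F105 : act 3 n37 = n37 := d15_1 D37 (iv D37) (iv D19) F41 D19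
theorem F106 : act 5 n37 = n25 := d18_2 (iv F59) D37 (iv D25)
theorem F107 : act 6 n37 = n29 := d19_2 (iv F60) D37 F77
def n38 : Q := act 3 n20
theorem D38 : act 3 n20 = n38 := rfl
theorem F108 : act 0 n38 = n21 := d2_1 D38 (iv D21) D20
theorem F109 : act 6 n38 = n33 := d17_2 (iv F97) D38 (iv D33)
def n39 : Q := act 5 n20
theorem D39 : act 5 n20 = n39 := rfl
theorem F110 : act 0 n39 = n22 := d4_1 D39 (iv D22) D20
theorem F111 : act 1 n39 = n39 := d9_1 D39 (iv D39) F96 F84 (iv F96)
theorem F112 : act 4 n39 = n39 := d18_1 D39 (iv D39) F61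
def n40 : Q := act 2 n21
theorem D40 : act 2 n21 = n40 := rfl
def n41 : Q := act 4 n21
theorem D41 : act 4 n21 = n41 := rfl
theorem F113 : act 1 n41 = n25 := d8_1 D41 (iv D25) (iv F62)
theorem F114 : act 3 n41 = n41 := d15_1 D41 (iv D41) (iv D21) F44 D21
def n42 : Q := act 5 n21
theorem D42 : act 5 n21 = n42 := rfl
theorem F115 : act 3 n42 = n22 := d16_1 D42 (iv D22) D21
def n43 : Q := act 6 n21
theorem D43 : act 6 n21 = n43 := rfl
theorem F116 : act 0 n43 = n33 := d5_1 D43 (iv F109) F108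
theorem F117 : act 1 n43 = n43 := d10_1 D43 (iv D43) F62 F46 (iv F62)
theorem F118 : act 3 n43 = n23 := d17_1 D43 (iv D23) D21
def n44 : Q := act 5 n23
theorem D44 : act 5 n23 = n44 := rfl
theorem F119 : act 0 n44 = n34 := d4_1 D44 (iv D34) (iv F98)
theorem F120 : act 2 n44 = n39 := d13_1 D44 (iv D39) (iv F99)
theorem F121 : act 4 n44 = n44 := d18_1 D44 (iv D44) F65
theorem F122 : act 6 n44 = n39 := d20_2 D23 D44 (iv D39) F97 D34 (iv F95) (iv D22)
def n45 : Q := act 1 n24
theorem D45 : act 1 n24 = n45 := rfl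
theorem F123 : act 3 n45 = n26 := d7_2 (iv F68) D45 (iv D26)
def n46 : Q := act 4 n24
theorem D46 : act 4 n24 = n46 := rfl
theorem F124 : act 0 n46 = n27 := d3_1 D46 (iv D27) (iv F66)
theorem F125 : act 2 n46 = n25 := d12_1 D46 (iv D25) D24
theorem F126 : act 6 n46 = n46 := d19_2 F67 D46 (iv D46)
def n47 : Q := act 0 n26
theorem D47 : act 0 n26 = n47 := rfl
theorem F127 : act 2 n47 = n47 := d1_2 F72 D47 (iv D47)
def n48 : Q := act 4 n26
theorem D48 : act 4 n26 = n48 := rfl
theorem F128 : act 1 n48 = n27 := d8_1 D48 (iv D27) D26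
theorem F129 : act 2 n48 = n48 := d12_1 D48 (iv D48) F72
def n49 : Q := act 5 n26
theorem D49 : act 5 n26 = n49 := rfl
theorem F130 : act 2 n49 = n49 := d13_1 D49 (iv D49) F72
def n50 : Q := act 6 n26
theorem D50 : act 6 n26 = n50 := rfl
theorem F131 : act 1 n50 = n50 := d10_1 D50 (iv D50) (iv D26) F47 D26
theorem F132 : act 2 n50 = n50 := d14_1 D50 (iv D50) F72
def n51 : Q := act 3 n27
theorem D51 : act 3 n27 = n51 := rfl
theorem F133 : act 6 n51 = n51 := d17_2 F74 D51 (iv D51)
def n52 : Q := act 5 n27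
theorem D52 : act 5 n27 = n52 := rfl
theorem F134 : act 2 n52 = n29 := d13_1 D52 (iv D29) (iv F73)
theorem F135 : act 4 n52 = n28 := d18_1 D52 (iv D28) D27
def n53 : Q := act 1 n28
theorem D53 : act 1 n28 = n53 := rfl
def n54 : Q := act 1 n29
theorem D54 : act 1 n29 = n54 := rfl
theorem F136 : act 3 n54 = n54 := d7_2 F76 D54 (iv D54)
theorem F137 : act 4 n54 = n30 := d8_2 (iv F77) D54 (iv D30)
theorem F138 : act 5 n54 = n54 := d9_2 D29 D54 (iv D54) (iv D29) F48
theorem F139 : act 0 n54 = n54 := d3_3 F137 F80 (iv F137)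
def n55 : Q := act 2 n30
theorem D55 : act 2 n30 = n55 := rfl
theorem F140 : act 0 n55 = n55 := d1_1 D55 (iv D55) F80
theorem F141 : act 5 n55 = n55 := d13_2 F79 D55 (iv D55)
def n56 : Q := act 6 n30
theorem D56 : act 6 n30 = n56 := rfl
theorem F143 : act 1 n56 = n38 := d10_1 D56 F109 F88 F60 D30
theorem F144 : act 3 n56 = n31 := d17_1 D56 (iv D31) (iv F78)
theorem F145 : act 5 n56 = n56 := d22_2 F79 D56 (iv D56) F80
def n57 : Q := act 2 n33
theorem D57 : act 2 n33 = n57 := rfl
def n58 : Q := act 4 n33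
theorem D58 : act 4 n33 = n58 := rfl
theorem F146 : act 1 n58 = n37 := d8_1 D58 (iv D37) (iv F88)
theorem F147 : act 3 n58 = n58 := d15_1 D58 (iv D58) (iv D33) F57 D33
def n59 : Q := act 5 n33
theorem D59 : act 5 n33 = n59 := rfl
theorem F148 : act 1 n59 = n42 := d9_1 D59 (iv D42) F62 (iv F59) (iv F88)
theorem F149 : act 3 n59 = n34 := d16_1 D59 (iv D34) D33
theorem F150 : act 6 n59 = n42 := d22_1 D59 (iv D42) D43 F116
def n60 : Q := act 1 n36
theorem D60 : act 1 n36 = n60 := rfl
theorem F151 : act 3 n60 = n53 := d7_2 (iv F103) D60 (iv D53)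
def n61 : Q := act 4 n36
theorem D61 : act 4 n36 = n61 := rfl
theorem F152 : act 0 n61 = n52 := d3_1 D61 F135 (iv F100)
theorem F153 : act 2 n61 = n37 := d12_1 D61 (iv D37) D36
theorem F154 : act 5 n61 = n46 := d18_2 (iv F101) D61 (iv D46)
theorem F155 : act 6 n61 = n52 := d19_2 (iv F102) D61 F135
def n62 : Q := act 2 n38
theorem D62 : act 2 n38 = n62 := rfl
theorem F156 : act 0 n62 = n40 := d1_1 D62 (iv D40) (iv F108)
theorem F157 : act 6 n62 = n57 := d14_2 (iv F109) D62 (iv D57)
def n63 : Q := act 4 n38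
theorem D63 : act 4 n38 = n63 := rfl
theorem F158 : act 0 n63 = n41 := d3_1 D63 (iv D41) (iv F108)
theorem F159 : act 3 n63 = n63 := d15_1 D63 (iv D63) (iv D38) F61 D38
theorem F160 : act 6 n63 = n58 := d19_2 (iv F109) D63 (iv D58)
def n64 : Q := act 5 n38
theorem D64 : act 5 n38 = n64 := rfl
theorem F161 : act 0 n64 = n42 := d4_1 D64 (iv D42) (iv F108)
theorem F162 : act 1 n64 = n64 := d9_1 D64 (iv D64) (iv F143) F145 F143
theorem F163 : act 3 n64 = n39 := d16_1 D64 (iv D39) D38
def n65 : Q := act 1 n40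
theorem D65 : act 1 n40 = n65 := rfl
theorem F164 : act 2 n65 = n45 := d6_2 D40 D65 (iv D45) (iv D24) (iv F62)
def n66 : Q := act 3 n40
theorem D66 : act 3 n40 = n66 := rfl
def n67 : Q := act 4 n40
theorem D67 : act 4 n40 = n67 := rfl
theorem F165 : act 2 n67 = n41 := d12_1 D67 (iv D41) D40
def n68 : Q := act 5 n40
theorem D68 : act 5 n40 = n68 := rfl
theorem F166 : act 2 n68 = n42 := d13_1 D68 (iv D42) D40
def n69 : Q := act 6 n40
theorem D69 : act 6 n40 = n69 := rfl
theorem F167 : act 0 n69 = n57 := d5_1 D69 (iv F157) F156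
theorem F168 : act 2 n69 = n43 := d14_1 D69 (iv D43) D40
def n70 : Q := act 5 n41
theorem D70 : act 5 n41 = n70 := rfl
theorem F169 : act 3 n70 = n70 := d16_1 D70 (iv D70) F114
theorem F170 : act 4 n70 = n42 := d18_1 D70 (iv D42) D41
def n71 : Q := act 6 n41
theorem D71 : act 6 n41 = n71 := rfl
theorem F171 : act 0 n71 = n58 := d5_1 D71 (iv F160) F158
theorem F172 : act 1 n71 = n71 := d10_1 D71 (iv D71) F113 F71 (iv F113)
theorem F173 : act 3 n71 = n71 := d17_1 D71 (iv D71) F114
theorem F174 : act 4 n71 = n43 := d19_1 D71 (iv D43) D41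
def n72 : Q := act 5 n43
theorem D72 : act 5 n43 = n72 := rfl
theorem F175 : act 0 n72 = n59 := d4_1 D72 (iv D59) (iv F116)
theorem F176 : act 3 n72 = n44 := d16_1 D72 (iv D44) (iv F118)
theorem F177 : act 6 n72 = n64 := d20_2 D43 D72 (iv D64) F109 D59 F150 (iv D42)
def n73 : Q := act 1 n44
theorem D73 : act 1 n44 = n73 := rfl
theorem F178 : act 0 n73 = n73 := d0_1 D73 (iv D73) F119 F89 (iv F110) F111 F110 (iv F89) (iv F119)
theorem F179 : act 2 n73 = n73 := d6_2 (iv F120) D73 (iv D73) F120 F111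
theorem F180 : act 4 n73 = n73 := d8_2 F121 D73 (iv D73)
theorem F181 : act 5 n73 = n73 := d9_2 D44 D73 (iv D73) (iv D44) F64
theorem F182 : act 6 n73 = n73 := d10_2 (iv F122) D73 (iv D73) F122 F111
def n74 : Q := act 0 n45
theorem D74 : act 0 n45 = n74 := rfl
theorem F183 : act 3 n74 = n47 := d2_2 (iv F123) D74 (iv D47)
def n75 : Q := act 4 n45
theorem D75 : act 4 n45 = n75 := rfl
theorem F184 : act 1 n75 = n46 := d8_1 D75 (iv D46) D45
def n76 : Q := act 5 n45
theorem D76 : act 5 n45 = n76 := rfl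
theorem F185 : act 3 n76 = n49 := d16_1 D76 (iv D49) (iv F123)
def n77 : Q := act 6 n45
theorem D77 : act 6 n45 = n77 := rfl
theorem F186 : act 1 n77 = n77 := d10_1 D77 (iv D77) (iv D45) F67 D45
theorem F187 : act 3 n77 = n50 := d17_1 D77 (iv D50) (iv F123)
def n78 : Q := act 3 n46
theorem D78 : act 3 n46 = n78 := rfl
theorem F188 : act 0 n78 = n51 := d2_1 D78 (iv D51) (iv F124)
theorem F189 : act 4 n78 = n51 := d15_2 D46 D78 (iv D51) (iv D27) (iv F68)
theorem F190 : act 6 n78 = n78 := d17_2 F126 D78 (iv D78)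
def n79 : Q := act 1 n47
theorem D79 : act 1 n47 = n79 := rfl
def n80 : Q := act 4 n47
theorem D80 : act 4 n47 = n80 := rfl
theorem F191 : act 0 n80 = n48 := d3_1 D80 (iv D48) D47
theorem F192 : act 2 n80 = n80 := d12_1 D80 (iv D80) F127
def n81 : Q := act 5 n47
theorem D81 : act 5 n47 = n81 := rfl
theorem F193 : act 0 n81 = n49 := d4_1 D81 (iv D49) D47
theorem F194 : act 2 n81 = n81 := d13_1 D81 (iv D81) F127
def n82 : Q := act 6 n47
theorem D82 : act 6 n47 = n82 := rfl
theorem F195 : act 0 n82 = n50 := d5_1 D82 (iv D50) D47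
theorem F196 : act 2 n82 = n82 := d14_1 D82 (iv D82) F127
def n83 : Q := act 3 n48
theorem D83 : act 3 n48 = n83 := rfl
theorem F197 : act 1 n83 = n51 := d7_1 D83 (iv D51) (iv F128)
def n84 : Q := act 5 n48
theorem D84 : act 5 n48 = n84 := rfl
theorem F198 : act 2 n84 = n84 := d13_1 D84 (iv D84) F129
theorem F199 : act 4 n84 = n49 := d18_1 D84 (iv D49) D48
def n85 : Q := act 6 n48
theorem D85 : act 6 n48 = n85 := rfl
theorem F200 : act 1 n85 = n85 := d10_1 D85 (iv D85) F128 F74 (iv F128)
theorem F201 : act 2 n85 = n85 := d14_1 D85 (iv D85) F129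
theorem F202 : act 4 n85 = n50 := d19_1 D85 (iv D50) D48
def n86 : Q := act 1 n49
theorem D86 : act 1 n49 = n86 := rfl
theorem F203 : act 5 n86 = n53 := d9_2 D49 D86 (iv D53) (iv D28) D26
def n87 : Q := act 6 n49
theorem D87 : act 6 n49 = n87 := rfl
theorem F204 : act 2 n87 = n87 := d14_1 D87 (iv D87) F130
theorem F205 : act 5 n87 = n82 := d22_2 D49 D87 (iv D82) (iv D47)
def n88 : Q := act 5 n50
theorem D88 : act 5 n50 = n88 := rfl
theorem F206 : act 0 n88 = n87 := d4_1 D88 F205 F195
theorem F207 : act 2 n88 = n88 := d13_1 D88 (iv D88) F132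
theorem F208 : act 6 n88 = n81 := d20_2 D50 D88 (iv D81) D82 (iv F205) (iv D87) (iv D49)
def n89 : Q := act 2 n51
theorem D89 : act 2 n51 = n89 := rfl
theorem F209 : act 6 n89 = n89 := d14_2 F133 D89 (iv D89)
def n90 : Q := act 5 n51
theorem D90 : act 5 n51 = n90 := rfl
theorem F210 : act 3 n90 = n52 := d16_1 D90 (iv D52) D51
def n91 : Q := act 1 n52
theorem D91 : act 1 n52 = n91 := rfl
theorem F211 : act 4 n91 = n53 := d8_2 (iv F135) D91 (iv D53)
def n92 : Q := act 0 n53
theorem D92 : act 0 n53 = n92 := rfl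
def n93 : Q := act 2 n53
theorem D93 : act 2 n53 = n93 := rfl
theorem F212 : act 1 n93 = n55 := d6_1 D93 (iv D55) (iv D30) (iv F75) D53
def n94 : Q := act 6 n53
theorem D94 : act 6 n53 = n94 := rfl
def n95 : Q := act 2 n54
theorem D95 : act 2 n54 = n95 := rfl
theorem F213 : act 0 n95 = n95 := d1_1 D95 (iv D95) F139
theorem F214 : act 4 n95 = n55 := d12_2 (iv F137) D95 (iv D55)
theorem F215 : act 5 n95 = n95 := d13_2 F138 D95 (iv D95)
def n96 : Q := act 6 n54
theorem D96 : act 6 n54 = n96 := rfl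
theorem F217 : act 1 n96 = n63 := d10_1 D96 F160 F146 F107 D54
theorem F218 : act 3 n96 = n96 := d17_1 D96 (iv D96) F136
theorem F219 : act 4 n96 = n56 := d19_1 D96 (iv D56) (iv F137)
theorem F220 : act 5 n96 = n96 := d22_2 F138 D96 (iv D96) F139
def n97 : Q := act 3 n55
theorem D97 : act 3 n55 = n97 := rfl
theorem F223 : act 2 n97 = n97 := d21_2 D55 D97 (iv D97) (iv D55) F78 F52 (iv F78) F80
def n98 : Q := act 6 n55
theorem D98 : act 6 n55 = n98 := rfl
theorem F225 : act 2 n98 = n56 := d14_1 D98 (iv D56) D55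
def n99 : Q := act 1 n57
theorem D99 : act 1 n57 = n99 := rfl
theorem F227 : act 2 n99 = n60 := d6_2 D57 D99 (iv D60) (iv D36) (iv F88)
def n100 : Q := act 3 n57
theorem D100 : act 3 n57 = n100 := rfl
def n101 : Q := act 4 n57
theorem D101 : act 4 n57 = n101 := rfl
theorem F228 : act 2 n101 = n58 := d12_1 D101 (iv D58) D57
def n102 : Q := act 5 n57
theorem D102 : act 5 n57 = n102 := rfl
theorem F229 : act 2 n102 = n59 := d13_1 D102 (iv D59) D57
theorem F230 : act 6 n102 = n68 := d22_1 D102 (iv D68) D69 F167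
def n103 : Q := act 5 n58
theorem D103 : act 5 n58 = n103 := rfl
theorem F231 : act 1 n103 = n70 := d9_1 D103 (iv D70) F113 (iv F106) (iv F146)
theorem F232 : act 3 n103 = n103 := d16_1 D103 (iv D103) F147
theorem F233 : act 4 n103 = n59 := d18_1 D103 (iv D59) D58
theorem F234 : act 6 n103 = n70 := d22_1 D103 (iv D70) D71 F171
def n104 : Q := act 0 n60
theorem D104 : act 0 n60 = n104 := rfl
theorem F235 : act 3 n104 = n92 := d2_2 (iv F151) D104 (iv D92)
def n105 : Q := act 4 n60
theorem D105 : act 4 n60 = n105 := rfl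
theorem F236 : act 1 n105 = n61 := d8_1 D105 (iv D61) D60
def n106 : Q := act 5 n60
theorem D106 : act 5 n60 = n106 := rfl
theorem F237 : act 1 n106 = n76 := d9_1 D106 (iv D76) (iv D45) (iv F101) D60
theorem F238 : act 3 n106 = n86 := d16_1 D106 F203 (iv F151)
def n107 : Q := act 6 n60
theorem D107 : act 6 n60 = n107 := rfl
theorem F239 : act 1 n107 = n94 := d10_1 D107 (iv D94) (iv D53) (iv F102) D60
theorem F240 : act 3 n107 = n94 := d17_1 D107 (iv D94) (iv F151)
def n108 : Q := act 3 n61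
theorem D108 : act 3 n61 = n108 := rfl
theorem F241 : act 0 n108 = n90 := d2_1 D108 F210 (iv F152)
theorem F242 : act 4 n108 = n90 := d15_2 D61 D108 F210 F135 (iv F103)
theorem F243 : act 5 n108 = n78 := d16_2 (iv F154) D108 (iv D78)
theorem F244 : act 6 n108 = n90 := d17_2 (iv F155) D108 F210
def n109 : Q := act 1 n62
theorem D109 : act 1 n62 = n109 := rfl
def n110 : Q := act 3 n62
theorem D110 : act 3 n62 = n110 := rfl
theorem F245 : act 0 n110 = n66 := d2_1 D110 (iv D66) (iv F156)
theorem F247 : act 2 n110 = n100 := d21_2 D62 D110 (iv D100) (iv D57) (iv D33) F56 D21 (iv F108)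
def n111 : Q := act 4 n62
theorem D111 : act 4 n62 = n111 := rfl
theorem F248 : act 0 n111 = n67 := d3_1 D111 (iv D67) (iv F156)
theorem F250 : act 6 n111 = n101 := d19_2 (iv F157) D111 (iv D101)
def n112 : Q := act 5 n62
theorem D112 : act 5 n62 = n112 := rfl
theorem F251 : act 0 n112 = n68 := d4_1 D112 (iv D68) (iv F156)
theorem F252 : act 2 n112 = n64 := d13_1 D112 (iv D64) D62
def n113 : Q := act 5 n63
theorem D113 : act 5 n63 = n113 := rfl
theorem F253 : act 0 n113 = n70 := d4_1 D113 (iv D70) (iv F158)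
theorem F254 : act 1 n113 = n113 := d9_1 D113 (iv D113) (iv F217) F220 F217
theorem F255 : act 3 n113 = n113 := d16_1 D113 (iv D113) F159
theorem F256 : act 4 n113 = n64 := d18_1 D113 (iv D64) D63
def n114 : Q := act 0 n65
theorem D114 : act 0 n65 = n114 := rfl
theorem F257 : act 2 n114 = n74 := d1_2 (iv F164) D114 (iv D74)
def n115 : Q := act 3 n65
theorem D115 : act 3 n65 = n115 := rfl
theorem F258 : act 1 n115 = n66 := d7_1 D115 (iv D66) D65
def n116 : Q := act 4 n65
theorem D116 : act 4 n65 = n116 := rfl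
theorem F259 : act 1 n116 = n67 := d8_1 D116 (iv D67) D65
theorem F260 : act 2 n116 = n75 := d12_1 D116 (iv D75) (iv F164)
def n117 : Q := act 5 n65
theorem D117 : act 5 n65 = n117 := rfl
theorem F261 : act 2 n117 = n76 := d13_1 D117 (iv D76) (iv F164)
def n118 : Q := act 6 n65
theorem D118 : act 6 n65 = n118 := rfl
theorem F262 : act 2 n118 = n77 := d14_1 D118 (iv D77) (iv F164)
def n119 : Q := act 2 n66
theorem D119 : act 2 n66 = n119 := rfl
theorem F263 : act 0 n119 = n100 := d1_1 D119 (iv F247) F245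
theorem F264 : act 3 n119 = n69 := d11_2 D66 D119 F168 F118 F99 D38 D62 D110 F247 (iv D100) (iv D57) (iv D33) F56 D21 D40
theorem F265 : act 6 n66 = n119 := d17_0 F264 (iv D69) D66
def n120 : Q := act 4 n66
theorem D120 : act 4 n66 = n120 := rfl
def n121 : Q := act 5 n66
theorem D121 : act 5 n66 = n121 := rfl
theorem F266 : act 3 n121 = n68 := d16_1 D121 (iv D68) D66
def n122 : Q := act 3 n67
theorem D122 : act 3 n67 = n122 := rfl
def n123 : Q := act 5 n67
theorem D123 : act 5 n67 = n123 := rfl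
theorem F267 : act 2 n123 = n70 := d13_1 D123 (iv D70) (iv F165)
theorem F268 : act 4 n123 = n68 := d18_1 D123 (iv D68) D67
def n124 : Q := act 6 n67
theorem D124 : act 6 n67 = n124 := rfl
theorem F269 : act 0 n124 = n101 := d5_1 D124 (iv F250) F248
theorem F270 : act 2 n124 = n71 := d14_1 D124 (iv D71) (iv F165)
theorem F271 : act 4 n124 = n69 := d19_1 D124 (iv D69) D67
def n125 : Q := act 1 n68
theorem D125 : act 1 n68 = n125 := rfl
def n126 : Q := act 1 n69
theorem D126 : act 1 n69 = n126 := rfl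
theorem F272 : act 2 n126 = n126 := d6_2 (iv F168) D126 (iv D126) F168 F117
def n127 : Q := act 5 n69
theorem D127 : act 5 n69 = n127 := rfl
theorem F273 : act 0 n127 = n102 := d4_1 D127 (iv D102) (iv F167)
theorem F274 : act 2 n127 = n72 := d13_1 D127 (iv D72) (iv F168)
theorem F275 : act 6 n127 = n112 := d20_2 D69 D127 (iv D112) F157 D102 F230 (iv D68)
def n128 : Q := act 5 n71
theorem D128 : act 5 n71 = n128 := rfl
theorem F276 : act 0 n128 = n103 := d4_1 D128 (iv D103) (iv F171)
theorem F277 : act 3 n128 = n128 := d16_1 D128 (iv D128) F173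
theorem F278 : act 4 n128 = n72 := d18_1 D128 (iv D72) (iv F174)
theorem F279 : act 6 n128 = n113 := d20_2 D71 D128 (iv D113) F160 D103 F234 (iv D70)
def n129 : Q := act 1 n72
theorem D129 : act 1 n72 = n129 := rfl
theorem F280 : act 0 n129 = n129 := d0_1 D129 (iv D129) F175 F148 (iv F161) F162 F161 (iv F148) (iv F175)
theorem F281 : act 3 n129 = n73 := d7_2 (iv F176) D129 (iv D73)
theorem F282 : act 5 n129 = n129 := d9_2 D72 D129 (iv D129) (iv D72) F117
theorem F283 : act 6 n129 = n129 := d10_2 (iv F177) D129 (iv D129) F177 F162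
def n130 : Q := act 1 n74
theorem D130 : act 1 n74 = n130 := rfl
theorem F284 : act 3 n130 = n79 := d7_2 (iv F183) D130 (iv D79)
def n131 : Q := act 4 n74
theorem D131 : act 4 n74 = n131 := rfl
theorem F285 : act 0 n131 = n75 := d3_1 D131 (iv D75) D74
def n132 : Q := act 5 n74
theorem D132 : act 5 n74 = n132 := rfl
theorem F286 : act 0 n132 = n76 := d4_1 D132 (iv D76) D74
theorem F287 : act 3 n132 = n81 := d16_1 D132 (iv D81) (iv F183)
def n133 : Q := act 6 n74
theorem D133 : act 6 n74 = n133 := rfl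
theorem F288 : act 0 n133 = n77 := d5_1 D133 (iv D77) D74
theorem F289 : act 3 n133 = n82 := d17_1 D133 (iv D82) (iv F183)
def n134 : Q := act 3 n75
theorem D134 : act 3 n75 = n134 := rfl
theorem F290 : act 1 n134 = n78 := d7_1 D134 (iv D78) (iv F184)
theorem F291 : act 4 n134 = n83 := d15_2 D75 D134 (iv D83) (iv D48) (iv F123)
def n135 : Q := act 5 n75
theorem D135 : act 5 n75 = n135 := rfl
theorem F292 : act 4 n135 = n76 := d18_1 D135 (iv D76) D75
def n136 : Q := act 6 n75
theorem D136 : act 6 n75 = n136 := rfl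
theorem F293 : act 1 n136 = n136 := d10_1 D136 (iv D136) F184 F126 (iv F184)
theorem F294 : act 4 n136 = n77 := d19_1 D136 (iv D77) D75
def n137 : Q := act 6 n76
theorem D137 : act 6 n76 = n137 := rfl
theorem F295 : act 3 n137 = n87 := d17_1 D137 (iv D87) (iv F185)
theorem F296 : act 5 n137 = n133 := d22_2 D76 D137 (iv D133) (iv D74)
def n138 : Q := act 5 n77
theorem D138 : act 5 n77 = n138 := rfl
theorem F297 : act 0 n138 = n137 := d4_1 D138 F296 F288
theorem F298 : act 3 n138 = n88 := d16_1 D138 (iv D88) (iv F187)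
theorem F299 : act 6 n138 = n132 := d20_2 D77 D138 (iv D132) D133 (iv F296) (iv D137) (iv D76)
def n139 : Q := act 2 n78
theorem D139 : act 2 n78 = n139 := rfl
theorem F300 : act 0 n139 = n89 := d1_1 D139 (iv D89) (iv F188)
theorem F301 : act 4 n139 = n89 := d12_2 (iv F189) D139 (iv D89)
theorem F302 : act 6 n139 = n139 := d14_2 F190 D139 (iv D139)
theorem F303 : act 3 n139 = n89 := d21_1 D139 (iv D89) (iv D51) F73 F49 (iv F73) D51 (iv F188)
def n140 : Q := act 0 n79
theorem D140 : act 0 n79 = n140 := rfl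
def n141 : Q := act 2 n79
theorem D141 : act 2 n79 = n141 := rfl
theorem F304 : act 1 n141 = n141 := d6_1 D141 (iv D141) (iv D79) F127 D79
def n142 : Q := act 4 n79
theorem D142 : act 4 n79 = n142 := rfl
theorem F305 : act 1 n142 = n80 := d8_1 D142 (iv D80) D79
def n143 : Q := act 5 n79
theorem D143 : act 5 n79 = n143 := rfl
def n144 : Q := act 6 n79
theorem D144 : act 6 n79 = n144 := rfl
def n145 : Q := act 3 n80
theorem D145 : act 3 n80 = n145 := rfl
theorem F306 : act 0 n145 = n83 := d2_1 D145 (iv D83) (iv F191)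
def n146 : Q := act 5 n80
theorem D146 : act 5 n80 = n146 := rfl
theorem F307 : act 0 n146 = n84 := d4_1 D146 (iv D84) (iv F191)
theorem F308 : act 2 n146 = n146 := d13_1 D146 (iv D146) F192
theorem F309 : act 4 n146 = n81 := d18_1 D146 (iv D81) D80
def n147 : Q := act 6 n80
theorem D147 : act 6 n80 = n147 := rfl
theorem F310 : act 0 n147 = n85 := d5_1 D147 (iv D85) (iv F191)
theorem F311 : act 2 n147 = n147 := d14_1 D147 (iv D147) F192
theorem F312 : act 4 n147 = n82 := d19_1 D147 (iv D82) D80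
def n148 : Q := act 1 n81
theorem D148 : act 1 n81 = n148 := rfl
def n149 : Q := act 1 n82
theorem D149 : act 1 n82 = n149 := rfl
def n150 : Q := act 2 n83
theorem D150 : act 2 n83 = n150 := rfl
def n151 : Q := act 5 n83
theorem D151 : act 5 n83 = n151 := rfl
theorem F313 : act 3 n151 = n84 := d16_1 D151 (iv D84) D83
def n152 : Q := act 6 n83
theorem D152 : act 6 n83 = n152 := rfl
theorem F314 : act 1 n152 = n152 := d10_1 D152 (iv D152) F197 F133 (iv F197)
theorem F315 : act 3 n152 = n85 := d17_1 D152 (iv D85) D83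
def n153 : Q := act 1 n84
theorem D153 : act 1 n84 = n153 := rfl
theorem F316 : act 4 n153 = n86 := d8_2 (iv F199) D153 (iv D86)
theorem F317 : act 5 n153 = n91 := d9_2 D84 D153 (iv D91) (iv D52) (iv F128)
def n154 : Q := act 6 n84
theorem D154 : act 6 n84 = n154 := rfl
theorem F318 : act 2 n154 = n154 := d14_1 D154 (iv D154) F198
theorem F319 : act 4 n154 = n87 := d19_1 D154 (iv D87) (iv F199)
theorem F320 : act 5 n154 = n147 := d22_2 D84 D154 (iv D147) F191
def n155 : Q := act 5 n85
theorem D155 : act 5 n85 = n155 := rfl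
theorem F321 : act 0 n155 = n154 := d4_1 D155 F320 F310
theorem F322 : act 2 n155 = n155 := d13_1 D155 (iv D155) F201
theorem F323 : act 4 n155 = n88 := d18_1 D155 (iv D88) (iv F202)
theorem F324 : act 6 n155 = n146 := d20_2 D85 D155 (iv D146) D147 (iv F320) (iv D154) (iv D84)
def n156 : Q := act 0 n86
theorem D156 : act 0 n86 = n156 := rfl
theorem F325 : act 5 n156 = n92 := d4_2 (iv F203) D156 (iv D92)
def n157 : Q := act 2 n86
theorem D157 : act 2 n86 = n157 := rfl
def n158 : Q := act 6 n86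
theorem D158 : act 6 n86 = n158 := rfl
def n159 : Q := act 1 n87
theorem D159 : act 1 n87 = n159 := rfl
def n160 : Q := act 1 n88
theorem D160 : act 1 n88 = n160 := rfl
theorem F328 : act 5 n160 = n160 := d9_2 D88 D160 (iv D160) (iv D88) F131
def n161 : Q := act 1 n89
theorem D161 : act 1 n89 = n161 := rfl
def n162 : Q := act 5 n89
theorem D162 : act 5 n89 = n162 := rfl
theorem F329 : act 2 n162 = n90 := d13_1 D162 (iv D90) D89
def n163 : Q := act 1 n90
theorem D163 : act 1 n90 = n163 := rfl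
theorem F330 : act 3 n163 = n91 := d7_2 (iv F210) D163 (iv D91)
def n164 : Q := act 0 n91
theorem D164 : act 0 n91 = n164 := rfl
theorem F331 : act 4 n164 = n92 := d3_2 (iv F211) D164 (iv D92)
def n165 : Q := act 2 n91
theorem D165 : act 2 n91 = n165 := rfl
theorem F333 : act 4 n165 = n93 := d12_2 (iv F211) D165 (iv D93)
def n166 : Q := act 6 n91
theorem D166 : act 6 n91 = n166 := rfl
def n167 : Q := act 1 n92
theorem D167 : act 1 n92 = n167 := rfl
def n168 : Q := act 2 n92
theorem D168 : act 2 n92 = n168 := rfl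
theorem F335 : act 0 n168 = n93 := d1_1 D168 (iv D93) D92
def n169 : Q := act 6 n92
theorem D169 : act 6 n92 = n169 := rfl
theorem F336 : act 0 n169 = n94 := d5_1 D169 (iv D94) D92
theorem F337 : act 5 n169 = n158 := d22_2 F325 D169 (iv D158) D156
def n170 : Q := act 3 n93
theorem D170 : act 3 n93 = n170 := rfl
theorem F338 : act 1 n170 = n97 := d7_1 D170 (iv D97) (iv F212)
def n171 : Q := act 6 n93
theorem D171 : act 6 n93 = n171 := rfl
def n172 : Q := act 5 n94
theorem D172 : act 5 n94 = n172 := rfl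
theorem F340 : act 0 n172 = n158 := d4_1 D172 (iv F337) F336
theorem F341 : act 6 n172 = n156 := d20_2 D94 D172 F325 D169 F337 (iv D158) F203
def n173 : Q := act 3 n95
theorem D173 : act 3 n95 = n173 := rfl
def n174 : Q := act 6 n95
theorem D174 : act 6 n95 = n174 := rfl
theorem F346 : act 4 n174 = n98 := d19_1 D174 (iv D98) (iv F214)
def n177 : Q := act 1 n98
theorem D177 : act 1 n98 = n177 := rfl
theorem F355 : act 2 n177 = n109 := d6_2 (iv F225) D177 (iv D109) (iv D62) (iv F143)
def n178 : Q := act 0 n99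
theorem D178 : act 0 n99 = n178 := rfl
theorem F356 : act 2 n178 = n104 := d1_2 (iv F227) D178 (iv D104)
def n179 : Q := act 3 n99
theorem D179 : act 3 n99 = n179 := rfl
theorem F357 : act 1 n179 = n100 := d7_1 D179 (iv D100) D99
def n180 : Q := act 4 n99
theorem D180 : act 4 n99 = n180 := rfl
theorem F358 : act 1 n180 = n101 := d8_1 D180 (iv D101) D99
theorem F359 : act 2 n180 = n105 := d12_1 D180 (iv D105) (iv F227)
def n181 : Q := act 5 n99
theorem D181 : act 5 n99 = n181 := rfl
theorem F360 : act 2 n181 = n106 := d13_1 D181 (iv D106) (iv F227)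
def n182 : Q := act 6 n99
theorem D182 : act 6 n99 = n182 := rfl
def n183 : Q := act 4 n100
theorem D183 : act 4 n100 = n183 := rfl
def n184 : Q := act 5 n100
theorem D184 : act 5 n100 = n184 := rfl
theorem F362 : act 3 n184 = n102 := d16_1 D184 (iv D102) D100
theorem F363 : act 6 n184 = n121 := d22_1 D184 (iv D121) F265 F263
def n185 : Q := act 3 n101
theorem D185 : act 3 n101 = n185 := rfl
def n186 : Q := act 5 n101
theorem D186 : act 5 n101 = n186 := rfl
theorem F364 : act 2 n186 = n103 := d13_1 D186 (iv D103) (iv F228)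
theorem F365 : act 4 n186 = n102 := d18_1 D186 (iv D102) D101
theorem F366 : act 6 n186 = n123 := d22_1 D186 (iv D123) D124 F269
def n187 : Q := act 1 n102
theorem D187 : act 1 n102 = n187 := rfl
theorem F367 : act 2 n187 = n125 := d6_2 (iv F229) D187 (iv D125) F166 (iv F148)
def n188 : Q := act 1 n104
theorem D188 : act 1 n104 = n188 := rfl
theorem F368 : act 3 n188 = n167 := d7_2 (iv F235) D188 (iv D167)
def n189 : Q := act 4 n104
theorem D189 : act 4 n104 = n189 := rfl
theorem F369 : act 0 n189 = n105 := d3_1 D189 (iv D105) D104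
def n190 : Q := act 5 n104
theorem D190 : act 5 n104 = n190 := rfl
theorem F370 : act 0 n190 = n106 := d4_1 D190 (iv D106) D104
theorem F371 : act 3 n190 = n156 := d16_1 D190 F325 (iv F235)
def n191 : Q := act 6 n104
theorem D191 : act 6 n104 = n191 := rfl
theorem F372 : act 0 n191 = n107 := d5_1 D191 (iv D107) D104
theorem F373 : act 3 n191 = n169 := d17_1 D191 (iv D169) (iv F235)
def n192 : Q := act 3 n105
theorem D192 : act 3 n105 = n192 := rfl
theorem F374 : act 1 n192 = n108 := d7_1 D192 (iv D108) (iv F236)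
theorem F375 : act 4 n192 = n163 := d15_2 D105 D192 F330 F211 (iv F151)
def n193 : Q := act 5 n105
theorem D193 : act 5 n105 = n193 := rfl
theorem F376 : act 1 n193 = n135 := d9_1 D193 (iv D135) F184 (iv F154) (iv F236)
theorem F377 : act 4 n193 = n106 := d18_1 D193 (iv D106) D105
def n194 : Q := act 6 n105
theorem D194 : act 6 n105 = n194 := rfl
theorem F378 : act 1 n194 = n166 := d10_1 D194 (iv D166) (iv D91) (iv F155) (iv F236)
theorem F379 : act 4 n194 = n107 := d19_1 D194 (iv D107) D105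
def n195 : Q := act 6 n106
theorem D195 : act 6 n106 = n195 := rfl
theorem F381 : act 5 n195 = n191 := d22_2 D106 D195 (iv D191) (iv D104)
def n196 : Q := act 5 n107
theorem D196 : act 5 n107 = n196 := rfl
theorem F382 : act 0 n196 = n195 := d4_1 D196 F381 F372
theorem F383 : act 3 n196 = n172 := d16_1 D196 (iv D172) (iv F240)
theorem F384 : act 6 n196 = n190 := d20_2 D107 D196 (iv D190) D191 (iv F381) (iv D195) (iv D106)
def n197 : Q := act 2 n108
theorem D197 : act 2 n108 = n197 := rfl
theorem F385 : act 0 n197 = n162 := d1_1 D197 F329 (iv F241)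
theorem F386 : act 4 n197 = n162 := d12_2 (iv F242) D197 F329
theorem F387 : act 5 n197 = n139 := d13_2 (iv F243) D197 (iv D139)
theorem F388 : act 6 n197 = n162 := d14_2 (iv F244) D197 F329
theorem F389 : act 3 n197 = n162 := d21_1 D197 F329 F210 F134 F76 (iv F134) (iv F210) (iv F241)
def n198 : Q := act 0 n109
theorem D198 : act 0 n109 = n198 := rfl
def n203 : Q := act 4 n110
theorem D203 : act 4 n110 = n203 := rfl
theorem F393 : act 0 n203 = n120 := d3_1 D203 (iv D120) (iv F245)
def n205 : Q := act 3 n111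
theorem D205 : act 3 n111 = n205 := rfl
theorem F399 : act 0 n205 = n122 := d2_1 D205 (iv D122) (iv F248)
theorem F400 : act 6 n205 = n185 := d17_2 (iv F250) D205 (iv D185)
def n206 : Q := act 5 n111
theorem D206 : act 5 n111 = n206 := rfl
theorem F401 : act 0 n206 = n123 := d4_1 D206 (iv D123) (iv F248)
def n208 : Q := act 1 n114
theorem D208 : act 1 n114 = n208 := rfl
def n209 : Q := act 3 n114
theorem D209 : act 3 n114 = n209 := rfl
theorem F405 : act 0 n209 = n115 := d2_1 D209 (iv D115) D114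
theorem F406 : act 2 n209 = n115 := d21_2 (iv F257) D209 (iv D115) F164 F123 F72 (iv F123) D74
def n210 : Q := act 4 n114
theorem D210 : act 4 n114 = n210 := rfl
theorem F407 : act 0 n210 = n116 := d3_1 D210 (iv D116) D114
theorem F408 : act 2 n210 = n131 := d12_1 D210 (iv D131) (iv F257)
def n211 : Q := act 5 n114
theorem D211 : act 5 n114 = n211 := rfl
theorem F409 : act 0 n211 = n117 := d4_1 D211 (iv D117) D114
theorem F410 : act 2 n211 = n132 := d13_1 D211 (iv D132) (iv F257)
def n212 : Q := act 6 n114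
theorem D212 : act 6 n114 = n212 := rfl
theorem F411 : act 0 n212 = n118 := d5_1 D212 (iv D118) D114
theorem F412 : act 2 n212 = n133 := d14_1 D212 (iv D133) (iv F257)
def n213 : Q := act 4 n115
theorem D213 : act 4 n115 = n213 := rfl
theorem F413 : act 1 n213 = n120 := d8_1 D213 (iv D120) (iv F258)
def n214 : Q := act 5 n115
theorem D214 : act 5 n115 = n214 := rfl
theorem F414 : act 3 n214 = n117 := d16_1 D214 (iv D117) D115
def n215 : Q := act 6 n115
theorem D215 : act 6 n115 = n215 := rfl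
theorem F415 : act 3 n215 = n118 := d17_1 D215 (iv D118) D115
def n216 : Q := act 3 n116
theorem D216 : act 3 n116 = n216 := rfl
theorem F416 : act 1 n216 = n122 := d7_1 D216 (iv D122) (iv F259)
def n217 : Q := act 5 n116
theorem D217 : act 5 n116 = n217 := rfl
theorem F417 : act 2 n217 = n135 := d13_1 D217 (iv D135) (iv F260)
theorem F418 : act 4 n217 = n117 := d18_1 D217 (iv D117) D116
def n218 : Q := act 6 n116
theorem D218 : act 6 n116 = n218 := rfl
theorem F419 : act 2 n218 = n136 := d14_1 D218 (iv D136) (iv F260)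
theorem F420 : act 4 n218 = n118 := d19_1 D218 (iv D118) D116
def n219 : Q := act 1 n117
theorem D219 : act 1 n117 = n219 := rfl
theorem F421 : act 5 n219 = n125 := d9_2 D117 D219 (iv D125) (iv D68) D65
def n220 : Q := act 6 n117
theorem D220 : act 6 n117 = n220 := rfl
theorem F422 : act 2 n220 = n137 := d14_1 D220 (iv D137) (iv F261)
theorem F423 : act 5 n220 = n212 := d22_2 D117 D220 (iv D212) (iv D114)
def n221 : Q := act 1 n118
theorem D221 : act 1 n118 = n221 := rfl
theorem F424 : act 2 n221 = n221 := d6_2 (iv F262) D221 (iv D221) F262 F186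
theorem F425 : act 6 n221 = n126 := d10_2 D118 D221 (iv D126) (iv D69) D65
def n222 : Q := act 5 n118
theorem D222 : act 5 n118 = n222 := rfl
theorem F426 : act 0 n222 = n220 := d4_1 D222 F423 F411
theorem F427 : act 2 n222 = n138 := d13_1 D222 (iv D138) (iv F262)
theorem F428 : act 6 n222 = n211 := d20_2 D118 D222 (iv D211) D212 (iv F423) (iv D220) (iv D117)
def n223 : Q := act 1 n119
theorem D223 : act 1 n119 = n223 := rfl
theorem F429 : act 3 n223 = n126 := d7_2 (iv F264) D223 (iv D126)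
def n224 : Q := act 4 n119
theorem D224 : act 4 n119 = n224 := rfl
theorem F430 : act 0 n224 = n183 := d3_1 D224 (iv D183) (iv F263)
theorem F431 : act 2 n224 = n120 := d12_1 D224 (iv D120) D119
theorem F432 : act 6 n224 = n120 := d19_2 F265 D224 (iv D120)
def n225 : Q := act 5 n119
theorem D225 : act 5 n119 = n225 := rfl
theorem F434 : act 2 n225 = n121 := d13_1 D225 (iv D121) D119
theorem F435 : act 3 n225 = n127 := d16_1 D225 (iv D127) (iv F264)
def n226 : Q := act 3 n120
theorem D226 : act 3 n120 = n226 := rfl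
theorem F437 : act 4 n226 = n122 := d15_2 D120 D226 (iv D122) (iv D67) D66
def n227 : Q := act 5 n120
theorem D227 : act 5 n120 = n227 := rfl
theorem F438 : act 4 n227 = n121 := d18_1 D227 (iv D121) D120
def n228 : Q := act 1 n121
theorem D228 : act 1 n121 = n228 := rfl
theorem F439 : act 3 n228 = n125 := d7_2 (iv F266) D228 (iv D125)
def n229 : Q := act 2 n122
theorem D229 : act 2 n122 = n229 := rfl
def n230 : Q := act 5 n122
theorem D230 : act 5 n122 = n230 := rfl
theorem F440 : act 3 n230 = n123 := d16_1 D230 (iv D123) D122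
def n231 : Q := act 6 n122
theorem D231 : act 6 n122 = n231 := rfl
theorem F441 : act 0 n231 = n185 := d5_1 D231 (iv F400) F399
theorem F442 : act 3 n231 = n124 := d17_1 D231 (iv D124) D122
def n232 : Q := act 1 n123
theorem D232 : act 1 n123 = n232 := rfl
theorem F443 : act 4 n232 = n125 := d8_2 (iv F268) D232 (iv D125)
def n233 : Q := act 1 n124
theorem D233 : act 1 n124 = n233 := rfl
theorem F445 : act 4 n233 = n126 := d8_2 (iv F271) D233 (iv D126)
def n234 : Q := act 5 n124
theorem D234 : act 5 n124 = n234 := rfl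
theorem F446 : act 0 n234 = n186 := d4_1 D234 (iv D186) (iv F269)
theorem F447 : act 2 n234 = n128 := d13_1 D234 (iv D128) (iv F270)
theorem F448 : act 4 n234 = n127 := d18_1 D234 (iv D127) (iv F271)
theorem F449 : act 6 n234 = n206 := d20_2 D124 D234 (iv D206) F250 D186 F366 (iv D123)
def n235 : Q := act 0 n125
theorem D235 : act 0 n125 = n235 := rfl
def n236 : Q := act 6 n125
theorem D236 : act 6 n125 = n236 := rfl
def n237 : Q := act 0 n126
theorem D237 : act 0 n126 = n237 := rfl
theorem F450 : act 2 n237 = n237 := d1_2 F272 D237 (iv D237)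
def n238 : Q := act 5 n126
theorem D238 : act 5 n126 = n238 := rfl
def n239 : Q := act 1 n127
theorem D239 : act 1 n127 = n239 := rfl
def n240 : Q := act 1 n128
theorem D240 : act 1 n128 = n240 := rfl
theorem F452 : act 0 n240 = n240 := d0_1 D240 (iv D240) F276 F231 (iv F253) F254 F253 (iv F231) (iv F276)
theorem F453 : act 3 n240 = n240 := d7_2 F277 D240 (iv D240)
theorem F454 : act 4 n240 = n129 := d8_2 (iv F278) D240 (iv D129)
theorem F455 : act 5 n240 = n240 := d9_2 D128 D240 (iv D240) (iv D128) F172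
theorem F456 : act 6 n240 = n240 := d10_2 (iv F279) D240 (iv D240) F279 F254
def n241 : Q := act 2 n129
theorem D241 : act 2 n129 = n241 := rfl
theorem F457 : act 0 n241 = n241 := d1_1 D241 (iv D241) F280
theorem F458 : act 5 n241 = n241 := d13_2 F282 D241 (iv D241)
theorem F459 : act 6 n241 = n241 := d14_2 F283 D241 (iv D241)
def n242 : Q := act 0 n130
theorem D242 : act 0 n130 = n242 := rfl
theorem F460 : act 1 n242 = n140 := d0_2 D130 D242 (iv D140) (iv D79) (iv D47) (iv D26) (iv F66) D45 D74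
theorem F461 : act 3 n242 = n140 := d2_2 (iv F284) D242 (iv D140)
def n243 : Q := act 2 n130
theorem D243 : act 2 n130 = n243 := rfl
def n244 : Q := act 4 n130
theorem D244 : act 4 n130 = n244 := rfl
theorem F462 : act 1 n244 = n131 := d8_1 D244 (iv D131) D130
def n245 : Q := act 5 n130
theorem D245 : act 5 n130 = n245 := rfl
theorem F463 : act 3 n245 = n143 := d16_1 D245 (iv D143) (iv F284)
def n246 : Q := act 6 n130
theorem D246 : act 6 n130 = n246 := rfl
theorem F464 : act 3 n246 = n144 := d17_1 D246 (iv D144) (iv F284)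
def n247 : Q := act 3 n131
theorem D247 : act 3 n131 = n247 := rfl
theorem F465 : act 0 n247 = n134 := d2_1 D247 (iv D134) (iv F285)
theorem F466 : act 4 n247 = n145 := d15_2 D131 D247 (iv D145) (iv D80) (iv F183)
def n248 : Q := act 5 n131
theorem D248 : act 5 n131 = n248 := rfl
theorem F467 : act 0 n248 = n135 := d4_1 D248 (iv D135) (iv F285)
theorem F468 : act 4 n248 = n132 := d18_1 D248 (iv D132) D131
def n249 : Q := act 6 n131
theorem D249 : act 6 n131 = n249 := rfl
theorem F469 : act 0 n249 = n136 := d5_1 D249 (iv D136) (iv F285)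
theorem F470 : act 4 n249 = n133 := d19_1 D249 (iv D133) D131
def n250 : Q := act 1 n132
theorem D250 : act 1 n132 = n250 := rfl
theorem F471 : act 3 n250 = n148 := d7_2 (iv F287) D250 (iv D148)
def n251 : Q := act 1 n133
theorem D251 : act 1 n133 = n251 := rfl
theorem F472 : act 3 n251 = n149 := d7_2 (iv F289) D251 (iv D149)
def n252 : Q := act 2 n134
theorem D252 : act 2 n134 = n252 := rfl
theorem F473 : act 4 n252 = n150 := d12_2 (iv F291) D252 (iv D150)
def n253 : Q := act 5 n134
theorem D253 : act 5 n134 = n253 := rfl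
theorem F474 : act 3 n253 = n135 := d16_1 D253 (iv D135) D134
theorem F475 : act 4 n253 = n151 := d18_1 D253 (iv D151) (iv F291)
def n254 : Q := act 6 n134
theorem D254 : act 6 n134 = n254 := rfl
theorem F476 : act 1 n254 = n254 := d10_1 D254 (iv D254) F290 F190 (iv F290)
theorem F477 : act 3 n254 = n136 := d17_1 D254 (iv D136) D134
theorem F478 : act 4 n254 = n152 := d19_1 D254 (iv D152) (iv F291)
def n255 : Q := act 6 n135
theorem D255 : act 6 n135 = n255 := rfl
theorem F479 : act 4 n255 = n137 := d19_1 D255 (iv D137) (iv F292)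
theorem F480 : act 5 n255 = n249 := d22_2 D135 D255 (iv D249) F285
def n256 : Q := act 5 n136
theorem D256 : act 5 n136 = n256 := rfl
theorem F481 : act 0 n256 = n255 := d4_1 D256 F480 F469
theorem F482 : act 4 n256 = n138 := d18_1 D256 (iv D138) (iv F294)
theorem F483 : act 6 n256 = n248 := d20_2 D136 D256 (iv D248) D249 (iv F480) (iv D255) (iv D135)
def n257 : Q := act 1 n137
theorem D257 : act 1 n137 = n257 := rfl
theorem F484 : act 3 n257 = n159 := d7_2 (iv F295) D257 (iv D159)
def n258 : Q := act 1 n138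
theorem D258 : act 1 n138 = n258 := rfl
theorem F485 : act 3 n258 = n160 := d7_2 (iv F298) D258 (iv D160)
theorem F486 : act 5 n258 = n258 := d9_2 D138 D258 (iv D258) (iv D138) F186
def n259 : Q := act 1 n139
theorem D259 : act 1 n139 = n259 := rfl
theorem F487 : act 3 n259 = n161 := d7_2 (iv F303) D259 (iv D161)
theorem F488 : act 4 n259 = n161 := d8_2 (iv F301) D259 (iv D161)
def n260 : Q := act 2 n140
theorem D260 : act 2 n140 = n260 := rfl
theorem F489 : act 0 n260 = n141 := d1_1 D260 (iv D141) D140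
def n261 : Q := act 4 n140
theorem D261 : act 4 n140 = n261 := rfl
theorem F490 : act 0 n261 = n142 := d3_1 D261 (iv D142) D140
def n262 : Q := act 5 n140
theorem D262 : act 5 n140 = n262 := rfl
theorem F491 : act 0 n262 = n143 := d4_1 D262 (iv D143) D140
def n263 : Q := act 6 n140
theorem D263 : act 6 n140 = n263 := rfl
theorem F492 : act 0 n263 = n144 := d5_1 D263 (iv D144) D140
def n267 : Q := act 6 n141
theorem D267 : act 6 n141 = n267 := rfl
theorem F497 : act 2 n267 = n144 := d14_1 D267 (iv D144) D141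
def n268 : Q := act 3 n142
theorem D268 : act 3 n142 = n268 := rfl
theorem F498 : act 1 n268 = n145 := d7_1 D268 (iv D145) (iv F305)
def n269 : Q := act 5 n142
theorem D269 : act 5 n142 = n269 := rfl
theorem F499 : act 4 n269 = n143 := d18_1 D269 (iv D143) D142
def n270 : Q := act 6 n142
theorem D270 : act 6 n142 = n270 := rfl
theorem F500 : act 4 n270 = n144 := d19_1 D270 (iv D144) D142
def n271 : Q := act 1 n143
theorem D271 : act 1 n143 = n271 := rfl
theorem F501 : act 5 n271 = n148 := d9_2 D143 D271 (iv D148) (iv D81) D79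
def n272 : Q := act 6 n143
theorem D272 : act 6 n143 = n272 := rfl
theorem F502 : act 5 n272 = n263 := d22_2 D143 D272 (iv D263) (iv D140)
def n273 : Q := act 1 n144
theorem D273 : act 1 n144 = n273 := rfl
theorem F503 : act 6 n273 = n149 := d10_2 D144 D273 (iv D149) (iv D82) D79
def n274 : Q := act 5 n144
theorem D274 : act 5 n144 = n274 := rfl
theorem F504 : act 0 n274 = n272 := d4_1 D274 F502 F492
theorem F505 : act 6 n274 = n262 := d20_2 D144 D274 (iv D262) D263 (iv F502) (iv D272) (iv D143)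
def n275 : Q := act 2 n145
theorem D275 : act 2 n145 = n275 := rfl
theorem F506 : act 0 n275 = n150 := d1_1 D275 (iv D150) (iv F306)
def n276 : Q := act 5 n145
theorem D276 : act 5 n145 = n276 := rfl
theorem F507 : act 0 n276 = n151 := d4_1 D276 (iv D151) (iv F306)
theorem F508 : act 3 n276 = n146 := d16_1 D276 (iv D146) D145
def n277 : Q := act 6 n145
theorem D277 : act 6 n145 = n277 := rfl
theorem F509 : act 0 n277 = n152 := d5_1 D277 (iv D152) (iv F306)
theorem F510 : act 3 n277 = n147 := d17_1 D277 (iv D147) D145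
def n278 : Q := act 1 n146
theorem D278 : act 1 n146 = n278 := rfl
theorem F511 : act 4 n278 = n148 := d8_2 (iv F309) D278 (iv D148)
def n279 : Q := act 1 n147
theorem D279 : act 1 n147 = n279 := rfl
theorem F512 : act 4 n279 = n149 := d8_2 (iv F312) D279 (iv D149)
def n280 : Q := act 0 n148
theorem D280 : act 0 n148 = n280 := rfl
def n281 : Q := act 2 n148
theorem D281 : act 2 n148 = n281 := rfl
theorem F513 : act 1 n281 = n281 := d6_1 D281 (iv D281) (iv D148) F194 D148
def n282 : Q := act 6 n148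
theorem D282 : act 6 n148 = n282 := rfl
def n283 : Q := act 0 n149
theorem D283 : act 0 n149 = n283 := rfl
def n284 : Q := act 2 n149
theorem D284 : act 2 n149 = n284 := rfl
theorem F514 : act 1 n284 = n284 := d6_1 D284 (iv D284) (iv D149) F196 D149
def n285 : Q := act 5 n149
theorem D285 : act 5 n149 = n285 := rfl
def n286 : Q := act 1 n150
theorem D286 : act 1 n150 = n286 := rfl
theorem F515 : act 2 n286 = n161 := d6_2 D150 D286 (iv D161) (iv D89) (iv F197)
def n287 : Q := act 3 n150
theorem D287 : act 3 n150 = n287 := rfl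
def n288 : Q := act 5 n150
theorem D288 : act 5 n150 = n288 := rfl
theorem F516 : act 2 n288 = n151 := d13_1 D288 (iv D151) D150
def n289 : Q := act 6 n150
theorem D289 : act 6 n150 = n289 := rfl
theorem F517 : act 2 n289 = n152 := d14_1 D289 (iv D152) D150
def n290 : Q := act 1 n151
theorem D290 : act 1 n151 = n290 := rfl
theorem F518 : act 3 n290 = n153 := d7_2 (iv F313) D290 (iv D153)
theorem F519 : act 5 n290 = n163 := d9_2 D151 D290 (iv D163) (iv D90) (iv F197)
def n291 : Q := act 6 n151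
theorem D291 : act 6 n151 = n291 := rfl
theorem F520 : act 3 n291 = n154 := d17_1 D291 (iv D154) (iv F313)
theorem F521 : act 5 n291 = n277 := d22_2 D151 D291 (iv D277) F306
def n292 : Q := act 5 n152
theorem D292 : act 5 n152 = n292 := rfl
theorem F522 : act 0 n292 = n291 := d4_1 D292 F521 F509
theorem F523 : act 3 n292 = n155 := d16_1 D292 (iv D155) (iv F315)
theorem F524 : act 6 n292 = n276 := d20_2 D152 D292 (iv D276) D277 (iv F521) (iv D291) (iv D151)
def n293 : Q := act 0 n153
theorem D293 : act 0 n153 = n293 := rfl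
theorem F525 : act 4 n293 = n156 := d3_2 (iv F316) D293 (iv D156)
theorem F526 : act 5 n293 = n164 := d4_2 (iv F317) D293 (iv D164)
def n294 : Q := act 2 n153
theorem D294 : act 2 n153 = n294 := rfl
def n295 : Q := act 6 n153
theorem D295 : act 6 n153 = n295 := rfl
def n296 : Q := act 1 n154
theorem D296 : act 1 n154 = n296 := rfl
theorem F531 : act 4 n296 = n159 := d8_2 (iv F319) D296 (iv D159)
def n297 : Q := act 1 n155
theorem D297 : act 1 n155 = n297 := rfl
theorem F532 : act 4 n297 = n160 := d8_2 (iv F323) D297 (iv D160)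
theorem F533 : act 5 n297 = n297 := d9_2 D155 D297 (iv D297) (iv D155) F200
def n298 : Q := act 1 n156
theorem D298 : act 1 n156 = n298 := rfl
def n299 : Q := act 2 n156
theorem D299 : act 2 n156 = n299 := rfl
theorem F534 : act 0 n299 = n157 := d1_1 D299 (iv D157) D156
theorem F535 : act 5 n299 = n168 := d13_2 (iv F325) D299 (iv D168)
def n301 : Q := act 6 n157
theorem D301 : act 6 n157 = n301 := rfl
def n302 : Q := act 1 n158
theorem D302 : act 1 n158 = n302 := rfl
theorem F539 : act 6 n302 = n159 := d10_2 D158 D302 (iv D159) (iv D87) D86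
def n303 : Q := act 0 n159
theorem D303 : act 0 n159 = n303 := rfl
def n304 : Q := act 2 n159
theorem D304 : act 2 n159 = n304 := rfl
theorem F540 : act 1 n304 = n304 := d6_1 D304 (iv D304) (iv D159) F204 D159
def n305 : Q := act 5 n159
theorem D305 : act 5 n159 = n305 := rfl
theorem F541 : act 1 n305 = n285 := d9_1 D305 (iv D285) (iv D149) (iv F205) D159
def n306 : Q := act 0 n160
theorem D306 : act 0 n160 = n306 := rfl
theorem F542 : act 5 n306 = n306 := d4_2 F328 D306 (iv D306)
def n307 : Q := act 2 n160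
theorem D307 : act 2 n160 = n307 := rfl
theorem F543 : act 1 n307 = n307 := d6_1 D307 (iv D307) (iv D160) F207 D160
theorem F544 : act 5 n307 = n307 := d13_2 F328 D307 (iv D307)
def n308 : Q := act 6 n160
theorem D308 : act 6 n160 = n308 := rfl
theorem F545 : act 1 n308 = n282 := d10_1 D308 (iv D282) (iv D148) (iv F208) D160
def n309 : Q := act 0 n161
theorem D309 : act 0 n161 = n309 := rfl
def n310 : Q := act 5 n161
theorem D310 : act 5 n161 = n310 := rfl
def n311 : Q := act 6 n161
theorem D311 : act 6 n161 = n311 := rfl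
theorem F546 : act 1 n311 = n311 := d10_1 D311 (iv D311) (iv D161) F209 D161
def n312 : Q := act 1 n162
theorem D312 : act 1 n162 = n312 := rfl
def n313 : Q := act 0 n163
theorem D313 : act 0 n163 = n313 := rfl
theorem F547 : act 3 n313 = n164 := d2_2 (iv F330) D313 (iv D164)
def n314 : Q := act 2 n163
theorem D314 : act 2 n163 = n314 := rfl
def n316 : Q := act 1 n164
theorem D316 : act 1 n164 = n316 := rfl
theorem F549 : act 4 n316 = n167 := d8_2 (iv F331) D316 (iv D167)
def n317 : Q := act 2 n164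
theorem D317 : act 2 n164 = n317 := rfl
def n318 : Q := act 6 n164
theorem D318 : act 6 n164 = n318 := rfl
theorem F553 : act 4 n318 = n169 := d19_1 D318 (iv D169) (iv F331)
theorem F554 : act 5 n318 = n295 := d22_2 F526 D318 (iv D295) D293
def n321 : Q := act 5 n166
theorem D321 : act 5 n166 = n321 := rfl
def n322 : Q := act 0 n167
theorem D322 : act 0 n167 = n322 := rfl
def n323 : Q := act 2 n167
theorem D323 : act 2 n167 = n323 := rfl
def n324 : Q := act 5 n167
theorem D324 : act 5 n167 = n324 := rfl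
def n325 : Q := act 6 n167
theorem D325 : act 6 n167 = n325 := rfl
def n326 : Q := act 1 n168
theorem D326 : act 1 n168 = n326 := rfl
def n327 : Q := act 3 n168
theorem D327 : act 3 n168 = n327 := rfl
theorem F561 : act 0 n327 = n170 := d2_1 D327 (iv D170) (iv F335)
def n328 : Q := act 6 n168
theorem D328 : act 6 n168 = n328 := rfl
theorem F562 : act 0 n328 = n171 := d5_1 D328 (iv D171) (iv F335)
theorem F563 : act 2 n328 = n169 := d14_1 D328 (iv D169) D168
theorem F564 : act 5 n328 = n301 := d22_2 F535 D328 (iv D301) (iv F534)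
def n329 : Q := act 1 n169
theorem D329 : act 1 n169 = n329 := rfl
def n330 : Q := act 2 n170
theorem D330 : act 2 n170 = n330 := rfl
theorem F565 : act 1 n330 = n330 := d6_1 D330 (iv D330) F338 F223 (iv F338)
def n333 : Q := act 1 n171
theorem D333 : act 1 n171 = n333 := rfl
theorem F569 : act 6 n333 = n177 := d10_2 D171 D333 (iv D177) (iv D98) (iv F212)
def n335 : Q := act 1 n172
theorem D335 : act 1 n172 = n335 := rfl
def n342 : Q := act 0 n177
theorem D342 : act 0 n177 = n342 := rfl
theorem F589 : act 2 n342 = n198 := d1_2 (iv F355) D342 (iv D198)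
def n344 : Q := act 1 n178
theorem D344 : act 1 n178 = n344 := rfl
def n345 : Q := act 3 n178
theorem D345 : act 3 n178 = n345 := rfl
theorem F592 : act 0 n345 = n179 := d2_1 D345 (iv D179) D178
def n346 : Q := act 4 n178
theorem D346 : act 4 n178 = n346 := rfl
theorem F593 : act 0 n346 = n180 := d3_1 D346 (iv D180) D178
theorem F594 : act 2 n346 = n189 := d12_1 D346 (iv D189) (iv F356)
def n347 : Q := act 5 n178
theorem D347 : act 5 n178 = n347 := rfl
theorem F595 : act 0 n347 = n181 := d4_1 D347 (iv D181) D178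
theorem F596 : act 2 n347 = n190 := d13_1 D347 (iv D190) (iv F356)
def n348 : Q := act 6 n178
theorem D348 : act 6 n178 = n348 := rfl
theorem F597 : act 0 n348 = n182 := d5_1 D348 (iv D182) D178
theorem F598 : act 2 n348 = n191 := d14_1 D348 (iv D191) (iv F356)
def n349 : Q := act 2 n179
theorem D349 : act 2 n179 = n349 := rfl
def n350 : Q := act 4 n179
theorem D350 : act 4 n179 = n350 := rfl
def n351 : Q := act 5 n179
theorem D351 : act 5 n179 = n351 := rfl
theorem F600 : act 3 n351 = n181 := d16_1 D351 (iv D181) D179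
def n353 : Q := act 3 n180
theorem D353 : act 3 n180 = n353 := rfl
theorem F602 : act 1 n353 = n185 := d7_1 D353 (iv D185) (iv F358)
def n354 : Q := act 5 n180
theorem D354 : act 5 n180 = n354 := rfl
theorem F603 : act 2 n354 = n193 := d13_1 D354 (iv D193) (iv F359)
theorem F604 : act 4 n354 = n181 := d18_1 D354 (iv D181) D180
def n355 : Q := act 6 n180
theorem D355 : act 6 n180 = n355 := rfl
theorem F606 : act 4 n355 = n182 := d19_1 D355 (iv D182) D180
def n356 : Q := act 1 n181
theorem D356 : act 1 n181 = n356 := rfl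
theorem F607 : act 2 n356 = n219 := d6_2 (iv F360) D356 (iv D219) F261 (iv F237)
theorem F608 : act 5 n356 = n187 := d9_2 D181 D356 (iv D187) (iv D102) D99
def n357 : Q := act 6 n181
theorem D357 : act 6 n181 = n357 := rfl
theorem F609 : act 2 n357 = n195 := d14_1 D357 (iv D195) (iv F360)
theorem F610 : act 5 n357 = n348 := d22_2 D181 D357 (iv D348) (iv D178)
def n359 : Q := act 3 n183
theorem D359 : act 3 n183 = n359 := rfl
theorem F614 : act 4 n359 = n185 := d15_2 D183 D359 (iv D185) (iv D101) D100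
def n360 : Q := act 5 n183
theorem D360 : act 5 n183 = n360 := rfl
theorem F616 : act 6 n360 = n227 := d22_1 D360 (iv D227) (iv F432) F430
def n361 : Q := act 1 n184
theorem D361 : act 1 n184 = n361 := rfl
theorem F617 : act 3 n361 = n187 := d7_2 (iv F362) D361 (iv D187)
def n362 : Q := act 2 n185
theorem D362 : act 2 n185 = n362 := rfl
def n363 : Q := act 5 n185
theorem D363 : act 5 n185 = n363 := rfl
theorem F618 : act 3 n363 = n186 := d16_1 D363 (iv D186) D185
theorem F619 : act 6 n363 = n230 := d22_1 D363 (iv D230) D231 F441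
def n364 : Q := act 1 n186
theorem D364 : act 1 n186 = n364 := rfl
theorem F620 : act 2 n364 = n232 := d6_2 (iv F364) D364 (iv D232) F267 (iv F231)
theorem F621 : act 4 n364 = n187 := d8_2 (iv F365) D364 (iv D187)
def n365 : Q := act 0 n187
theorem D365 : act 0 n187 = n365 := rfl
theorem F622 : act 2 n365 = n235 := d1_2 (iv F367) D365 (iv D235)
def n366 : Q := act 6 n187
theorem D366 : act 6 n187 = n366 := rfl
theorem F623 : act 1 n366 = n236 := d10_1 D366 (iv D236) (iv D125) (iv F230) D187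
theorem F624 : act 2 n366 = n236 := d14_1 D366 (iv D236) (iv F367)
def n367 : Q := act 0 n188
theorem D367 : act 0 n188 = n367 := rfl
theorem F625 : act 1 n367 = n322 := d0_2 D188 D367 (iv D322) (iv D167) (iv D92) (iv D53) (iv F100) D60 D104
theorem F626 : act 3 n367 = n322 := d2_2 (iv F368) D367 (iv D322)
def n368 : Q := act 2 n188
theorem D368 : act 2 n188 = n368 := rfl
def n369 : Q := act 4 n188
theorem D369 : act 4 n188 = n369 := rfl
def n370 : Q := act 5 n188
theorem D370 : act 5 n188 = n370 := rfl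
def n371 : Q := act 6 n188
theorem D371 : act 6 n188 = n371 := rfl
theorem F629 : act 3 n371 = n325 := d17_1 D371 (iv D325) (iv F368)
def n372 : Q := act 3 n189
theorem D372 : act 3 n189 = n372 := rfl
theorem F630 : act 0 n372 = n192 := d2_1 D372 (iv D192) (iv F369)
def n373 : Q := act 5 n189
theorem D373 : act 5 n189 = n373 := rfl
theorem F632 : act 0 n373 = n193 := d4_1 D373 (iv D193) (iv F369)
def n374 : Q := act 6 n189
theorem D374 : act 6 n189 = n374 := rfl
theorem F634 : act 0 n374 = n194 := d5_1 D374 (iv D194) (iv F369)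
theorem F635 : act 4 n374 = n191 := d19_1 D374 (iv D191) D189
def n375 : Q := act 1 n190
theorem D375 : act 1 n190 = n375 := rfl
theorem F636 : act 3 n375 = n298 := d7_2 (iv F371) D375 (iv D298)
def n376 : Q := act 1 n191
theorem D376 : act 1 n191 = n376 := rfl
theorem F637 : act 3 n376 = n329 := d7_2 (iv F373) D376 (iv D329)
def n377 : Q := act 2 n192
theorem D377 : act 2 n192 = n377 := rfl
theorem F638 : act 4 n377 = n314 := d12_2 (iv F375) D377 (iv D314)
def n378 : Q := act 5 n192
theorem D378 : act 5 n192 = n378 := rfl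
theorem F639 : act 1 n378 = n253 := d9_1 D378 (iv D253) F290 (iv F243) (iv F374)
theorem F640 : act 3 n378 = n193 := d16_1 D378 (iv D193) D192
theorem F641 : act 4 n378 = n290 := d18_1 D378 F519 (iv F375)
def n379 : Q := act 6 n192
theorem D379 : act 6 n192 = n379 := rfl
theorem F643 : act 3 n379 = n194 := d17_1 D379 (iv D194) D192
def n380 : Q := act 6 n193
theorem D380 : act 6 n193 = n380 := rfl
theorem F645 : act 4 n380 = n195 := d19_1 D380 (iv D195) (iv F377)
theorem F646 : act 5 n380 = n374 := d22_2 D193 D380 (iv D374) F369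
def n381 : Q := act 5 n194
theorem D381 : act 5 n194 = n381 := rfl
theorem F647 : act 0 n381 = n380 := d4_1 D381 F646 F634
theorem F648 : act 4 n381 = n196 := d18_1 D381 (iv D196) (iv F379)
def n382 : Q := act 1 n195
theorem D382 : act 1 n195 = n382 := rfl
theorem F651 : act 6 n382 = n257 := d10_2 D195 D382 (iv D257) (iv D137) (iv F237)
def n383 : Q := act 1 n196
theorem D383 : act 1 n196 = n383 := rfl
theorem F652 : act 3 n383 = n335 := d7_2 (iv F383) D383 (iv D335)
theorem F653 : act 5 n383 = n335 := d9_2 D196 D383 (iv D335) (iv D172) (iv F239)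
def n384 : Q := act 1 n197
theorem D384 : act 1 n197 = n384 := rfl
theorem F654 : act 3 n384 = n312 := d7_2 (iv F389) D384 (iv D312)
theorem F655 : act 4 n384 = n312 := d8_2 (iv F386) D384 (iv D312)
def n385 : Q := act 1 n198
theorem D385 : act 1 n198 = n385 := rfl
def n389 : Q := act 6 n198
theorem D389 : act 6 n198 = n389 := rfl
def n400 : Q := act 3 n203
theorem D400 : act 3 n203 = n400 := rfl
theorem F675 : act 4 n400 = n205 := d15_2 D203 D400 (iv D205) (iv D111) D110
def n403 : Q := act 2 n205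
theorem D403 : act 2 n205 = n403 := rfl
theorem F681 : act 0 n403 = n229 := d1_1 D403 (iv D229) (iv F399)
theorem F682 : act 6 n403 = n362 := d14_2 (iv F400) D403 (iv D362)
theorem F683 : act 3 n403 = n229 := d21_1 D403 (iv D229) (iv D122) F165 F114 (iv F165) D122 (iv F399)
def n404 : Q := act 5 n205
theorem D404 : act 5 n205 = n404 := rfl
theorem F684 : act 0 n404 = n230 := d4_1 D404 (iv D230) (iv F399)
def n408 : Q := act 0 n208
theorem D408 : act 0 n208 = n408 := rfl
def n409 : Q := act 2 n208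
theorem D409 : act 2 n208 = n409 := rfl
theorem F690 : act 1 n409 = n243 := d6_1 D409 (iv D243) (iv D130) (iv F257) D208
def n410 : Q := act 3 n208
theorem D410 : act 3 n208 = n410 := rfl
theorem F691 : act 1 n410 = n209 := d7_1 D410 (iv D209) D208
theorem F692 : act 2 n223 = n410 := d6_0 F691 F406 F258 D119 D223
theorem E4 : n409 = n408 := ((c21_9 (iv D409) D410 (iv F692) F429 F272 (iv F429) F692 (iv D410) D408)).symm
theorem F693 : act 1 n408 = n243 := (sb E4 F690)
theorem F694 : act 2 n408 = n208 := (sb E4 (iv D409))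
theorem F695 : act 0 n243 = n385 := d0_1 F693 (iv D385) (iv D198) (iv D109) F156 D65 D114 D208 D408
theorem F696 : act 2 n385 = n242 := d1_2 D243 F695 (iv D242)
theorem F697 : act 1 n260 = n342 := d6_3 F696 F460 D260 F589 D385
def n411 : Q := act 4 n208
theorem D411 : act 4 n208 = n411 := rfl
theorem F698 : act 1 n411 = n210 := d8_1 D411 (iv D210) D208
def n412 : Q := act 5 n208
theorem D412 : act 5 n208 = n412 := rfl
def n413 : Q := act 6 n208
theorem D413 : act 6 n208 = n413 := rfl
def n414 : Q := act 4 n209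
theorem D414 : act 4 n209 = n414 := rfl
theorem F699 : act 0 n414 = n213 := d3_1 D414 (iv D213) (iv F405)
theorem F700 : act 2 n414 = n213 := d12_1 D414 (iv D213) (iv F406)
def n415 : Q := act 5 n209
theorem D415 : act 5 n209 = n415 := rfl
theorem F701 : act 0 n415 = n214 := d4_1 D415 (iv D214) (iv F405)
theorem F702 : act 2 n415 = n214 := d13_1 D415 (iv D214) (iv F406)
theorem F703 : act 3 n415 = n211 := d16_1 D415 (iv D211) D209
def n416 : Q := act 6 n209
theorem D416 : act 6 n209 = n416 := rfl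
theorem F704 : act 0 n416 = n215 := d5_1 D416 (iv D215) (iv F405)
theorem F705 : act 2 n416 = n215 := d14_1 D416 (iv D215) (iv F406)
theorem F706 : act 3 n416 = n212 := d17_1 D416 (iv D212) D209
def n417 : Q := act 3 n210
theorem D417 : act 3 n210 = n417 := rfl
theorem F707 : act 0 n417 = n216 := d2_1 D417 (iv D216) (iv F407)
def n418 : Q := act 5 n210
theorem D418 : act 5 n210 = n418 := rfl
theorem F708 : act 0 n418 = n217 := d4_1 D418 (iv D217) (iv F407)
theorem F709 : act 2 n418 = n248 := d13_1 D418 (iv D248) (iv F408)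
theorem F710 : act 4 n418 = n211 := d18_1 D418 (iv D211) D210
def n419 : Q := act 6 n210
theorem D419 : act 6 n210 = n419 := rfl
theorem F711 : act 0 n419 = n218 := d5_1 D419 (iv D218) (iv F407)
theorem F712 : act 2 n419 = n249 := d14_1 D419 (iv D249) (iv F408)
theorem F713 : act 4 n419 = n212 := d19_1 D419 (iv D212) D210
def n420 : Q := act 1 n211
theorem D420 : act 1 n211 = n420 := rfl
def n421 : Q := act 1 n212
theorem D421 : act 1 n212 = n421 := rfl
def n422 : Q := act 3 n213
theorem D422 : act 3 n213 = n422 := rfl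
theorem F714 : act 1 n422 = n226 := d7_1 D422 (iv D226) (iv F413)
theorem F715 : act 4 n422 = n216 := d15_2 D213 D422 (iv D216) (iv D116) D115
def n423 : Q := act 5 n213
theorem D423 : act 5 n213 = n423 := rfl
theorem F716 : act 4 n423 = n214 := d18_1 D423 (iv D214) D213
def n424 : Q := act 6 n213
theorem D424 : act 6 n213 = n424 := rfl
theorem F717 : act 4 n424 = n215 := d19_1 D424 (iv D215) D213
def n425 : Q := act 1 n214
theorem D425 : act 1 n214 = n425 := rfl
theorem F718 : act 3 n425 = n219 := d7_2 (iv F414) D425 (iv D219)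
theorem F719 : act 5 n425 = n228 := d9_2 D214 D425 (iv D228) (iv D121) (iv F258)
def n426 : Q := act 6 n214
theorem D426 : act 6 n214 = n426 := rfl
theorem F720 : act 3 n426 = n220 := d17_1 D426 (iv D220) (iv F414)
theorem F721 : act 5 n426 = n416 := d22_2 D214 D426 (iv D416) F405
def n427 : Q := act 1 n215
theorem D427 : act 1 n215 = n427 := rfl
theorem F722 : act 3 n427 = n221 := d7_2 (iv F415) D427 (iv D221)
theorem F723 : act 6 n427 = n223 := d10_2 D215 D427 (iv D223) (iv F265) (iv F258)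
def n428 : Q := act 5 n215
theorem D428 : act 5 n215 = n428 := rfl
theorem F724 : act 0 n428 = n426 := d4_1 D428 F721 F704
theorem F725 : act 2 n428 = n426 := d13_1 D428 F721 F705
theorem F726 : act 3 n428 = n222 := d16_1 D428 (iv D222) (iv F415)
theorem F727 : act 6 n428 = n415 := d20_2 D215 D428 (iv D415) D416 (iv F721) (iv D426) (iv D214)
def n429 : Q := act 2 n216
theorem D429 : act 2 n216 = n429 := rfl
def n430 : Q := act 5 n216
theorem D430 : act 5 n216 = n430 := rfl
theorem F728 : act 3 n430 = n217 := d16_1 D430 (iv D217) D216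
def n431 : Q := act 6 n216
theorem D431 : act 6 n216 = n431 := rfl
theorem F729 : act 3 n431 = n218 := d17_1 D431 (iv D218) D216
def n432 : Q := act 1 n217
theorem D432 : act 1 n217 = n432 := rfl
theorem F730 : act 4 n432 = n219 := d8_2 (iv F418) D432 (iv D219)
theorem F731 : act 5 n432 = n232 := d9_2 D217 D432 (iv D232) (iv D123) (iv F259)
def n433 : Q := act 6 n217
theorem D433 : act 6 n217 = n433 := rfl
theorem F732 : act 2 n433 = n255 := d14_1 D433 (iv D255) (iv F417)
theorem F733 : act 4 n433 = n220 := d19_1 D433 (iv D220) (iv F418)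
theorem F734 : act 5 n433 = n419 := d22_2 D217 D433 (iv D419) F407
def n434 : Q := act 1 n218
theorem D434 : act 1 n218 = n434 := rfl
theorem F736 : act 4 n434 = n221 := d8_2 (iv F420) D434 (iv D221)
theorem F737 : act 6 n434 = n233 := d10_2 D218 D434 (iv D233) (iv D124) (iv F259)
def n435 : Q := act 5 n218
theorem D435 : act 5 n218 = n435 := rfl
theorem F738 : act 0 n435 = n433 := d4_1 D435 F734 F711
theorem F739 : act 2 n435 = n256 := d13_1 D435 (iv D256) (iv F419)
theorem F740 : act 4 n435 = n222 := d18_1 D435 (iv D222) (iv F420)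
theorem F741 : act 6 n435 = n418 := d20_2 D218 D435 (iv D418) D419 (iv F734) (iv D433) (iv D217)
def n436 : Q := act 0 n219
theorem D436 : act 0 n219 = n436 := rfl
theorem F742 : act 5 n436 = n235 := d4_2 (iv F421) D436 (iv D235)
def n437 : Q := act 6 n219
theorem D437 : act 6 n219 = n437 := rfl
def n438 : Q := act 1 n220
theorem D438 : act 1 n220 = n438 := rfl
def n439 : Q := act 0 n221
theorem D439 : act 0 n221 = n439 := rfl
theorem F743 : act 2 n439 = n439 := d1_2 F424 D439 (iv D439)
theorem F744 : act 6 n439 = n237 := d5_2 (iv F425) D439 (iv D237)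
def n440 : Q := act 5 n221
theorem D440 : act 5 n221 = n440 := rfl
def n441 : Q := act 1 n222
theorem D441 : act 1 n222 = n441 := rfl
def n442 : Q := act 0 n223
theorem D442 : act 0 n223 = n442 := rfl
theorem F746 : act 3 n442 = n237 := d2_2 (iv F429) D442 (iv D237)
def n443 : Q := act 4 n223
theorem D443 : act 4 n223 = n443 := rfl
theorem F747 : act 1 n443 = n224 := d8_1 D443 (iv D224) D223
def n444 : Q := act 5 n223
theorem D444 : act 5 n223 = n444 := rfl
theorem F748 : act 3 n444 = n238 := d16_1 D444 (iv D238) (iv F429)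
def n445 : Q := act 3 n224
theorem D445 : act 3 n224 = n445 := rfl
theorem F749 : act 0 n445 = n359 := d2_1 D445 (iv D359) (iv F430)
theorem F750 : act 4 n445 = n231 := d15_2 D224 D445 F442 F271 (iv F264)
theorem F751 : act 6 n445 = n226 := d17_2 (iv F432) D445 (iv D226)
def n446 : Q := act 5 n224
theorem D446 : act 5 n224 = n446 := rfl
theorem F753 : act 2 n446 = n227 := d13_1 D446 (iv D227) (iv F431)
def n447 : Q := act 1 n225
theorem D447 : act 1 n225 = n447 := rfl
theorem F756 : act 3 n447 = n239 := d7_2 (iv F435) D447 (iv D239)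
def n448 : Q := act 2 n226
theorem D448 : act 2 n226 = n448 := rfl
theorem F757 : act 4 n448 = n229 := d12_2 (iv F437) D448 (iv D229)
def n449 : Q := act 5 n226
theorem D449 : act 5 n226 = n449 := rfl
theorem F758 : act 3 n449 = n227 := d16_1 D449 (iv D227) D226
theorem F759 : act 4 n449 = n230 := d18_1 D449 (iv D230) (iv F437)
def n450 : Q := act 1 n227
theorem D450 : act 1 n227 = n450 := rfl
theorem F760 : act 4 n450 = n228 := d8_2 (iv F438) D450 (iv D228)
def n451 : Q := act 0 n228
theorem D451 : act 0 n228 = n451 := rfl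
theorem F761 : act 3 n451 = n235 := d2_2 (iv F439) D451 (iv D235)
def n452 : Q := act 2 n228
theorem D452 : act 2 n228 = n452 := rfl
def n453 : Q := act 6 n228
theorem D453 : act 6 n228 = n453 := rfl
def n454 : Q := act 1 n229
theorem D454 : act 1 n229 = n454 := rfl
def n455 : Q := act 5 n229
theorem D455 : act 5 n229 = n455 := rfl
theorem F763 : act 2 n455 = n230 := d13_1 D455 (iv D230) D229
def n456 : Q := act 6 n229
theorem D456 : act 6 n229 = n456 := rfl
theorem F764 : act 0 n456 = n362 := d5_1 D456 (iv F682) F681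
theorem F765 : act 2 n456 = n231 := d14_1 D456 (iv D231) D229
theorem F766 : act 3 n456 = n362 := d17_1 D456 (iv F682) F683
def n457 : Q := act 1 n230
theorem D457 : act 1 n230 = n457 := rfl
theorem F767 : act 3 n457 = n232 := d7_2 (iv F440) D457 (iv D232)
def n458 : Q := act 1 n231
theorem D458 : act 1 n231 = n458 := rfl
theorem F768 : act 3 n458 = n233 := d7_2 (iv F442) D458 (iv D233)
def n459 : Q := act 5 n231
theorem D459 : act 5 n231 = n459 := rfl
theorem F769 : act 0 n459 = n363 := d4_1 D459 (iv D363) (iv F441)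
theorem F770 : act 3 n459 = n234 := d16_1 D459 (iv D234) (iv F442)
theorem F771 : act 6 n459 = n404 := d20_2 D231 D459 (iv D404) F400 D363 F619 (iv D230)
def n460 : Q := act 0 n232
theorem D460 : act 0 n232 = n460 := rfl
theorem F772 : act 4 n460 = n235 := d3_2 (iv F443) D460 (iv D235)
def n461 : Q := act 6 n232
theorem D461 : act 6 n232 = n461 := rfl
theorem F773 : act 4 n461 = n236 := d19_1 D461 (iv D236) (iv F443)
def n462 : Q := act 0 n233
theorem D462 : act 0 n233 = n462 := rfl
def n463 : Q := act 5 n233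
theorem D463 : act 5 n233 = n463 := rfl
theorem F777 : act 4 n463 = n238 := d18_1 D463 (iv D238) (iv F445)
def n464 : Q := act 1 n234
theorem D464 : act 1 n234 = n464 := rfl
theorem F778 : act 4 n464 = n239 := d8_2 (iv F448) D464 (iv D239)
def n465 : Q := act 1 n235
theorem D465 : act 1 n235 = n465 := rfl
def n466 : Q := act 6 n235
theorem D466 : act 6 n235 = n466 := rfl
theorem F779 : act 0 n466 = n236 := d5_1 D466 (iv D236) D235
theorem F780 : act 5 n466 = n437 := d22_2 F742 D466 (iv D437) D436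
def n467 : Q := act 5 n236
theorem D467 : act 5 n236 = n467 := rfl
theorem F782 : act 6 n467 = n436 := d20_2 D236 D467 F742 D466 F780 (iv D437) F421
def n468 : Q := act 1 n237
theorem D468 : act 1 n237 = n468 := rfl
def n469 : Q := act 5 n237
theorem D469 : act 5 n237 = n469 := rfl
theorem F785 : act 6 n469 = n440 := d22_1 D469 (iv D440) F425 D237
def n470 : Q := act 1 n238
theorem D470 : act 1 n238 = n470 := rfl
theorem F786 : act 5 n470 = n239 := d9_2 D238 D470 (iv D239) (iv D127) D126
def n471 : Q := act 6 n238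
theorem D471 : act 6 n238 = n471 := rfl
theorem F789 : act 5 n471 = n439 := d20_1 D471 F744 D469 F785 (iv D440) F425 D238
def n472 : Q := act 0 n239
theorem D472 : act 0 n239 = n472 := rfl
def n473 : Q := act 2 n239
theorem D473 : act 2 n239 = n473 := rfl
theorem F790 : act 1 n473 = n241 := d6_1 D473 (iv D241) (iv D129) (iv F274) D239
def n474 : Q := act 6 n239
theorem D474 : act 6 n239 = n474 := rfl
def n475 : Q := act 2 n240
theorem D475 : act 2 n240 = n475 := rfl
theorem F792 : act 0 n475 = n475 := d1_1 D475 (iv D475) F452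
theorem F793 : act 4 n475 = n241 := d12_2 (iv F454) D475 (iv D241)
theorem F794 : act 5 n475 = n475 := d13_2 F455 D475 (iv D475)
theorem F795 : act 6 n475 = n475 := d14_2 F456 D475 (iv D475)
def n476 : Q := act 3 n241
theorem D476 : act 3 n241 = n476 := rfl
theorem F796 : act 0 n476 = n476 := d2_1 D476 (iv D476) F457
theorem F797 : act 5 n476 = n476 := d16_2 F458 D476 (iv D476)
theorem F798 : act 6 n476 = n476 := d17_2 F459 D476 (iv D476)
theorem F799 : act 2 n476 = n476 := d21_2 D241 D476 (iv D476) (iv D241) F281 F179 (iv F281) F280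
def n477 : Q := act 4 n242
theorem D477 : act 4 n242 = n477 := rfl
theorem F800 : act 0 n477 = n244 := d3_1 D477 (iv D244) D242
def n478 : Q := act 5 n242
theorem D478 : act 5 n242 = n478 := rfl
theorem F803 : act 3 n478 = n262 := d16_1 D478 (iv D262) (iv F461)
def n479 : Q := act 6 n242
theorem D479 : act 6 n242 = n479 := rfl
theorem F804 : act 0 n479 = n246 := d5_1 D479 (iv D246) D242
def n480 : Q := act 3 n243
theorem D480 : act 3 n243 = n480 := rfl
def n481 : Q := act 4 n243
theorem D481 : act 4 n243 = n481 := rfl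
theorem F806 : act 2 n481 = n244 := d12_1 D481 (iv D244) D243
def n482 : Q := act 5 n243
theorem D482 : act 5 n243 = n482 := rfl
theorem F807 : act 2 n482 = n245 := d13_1 D482 (iv D245) D243
def n483 : Q := act 6 n243
theorem D483 : act 6 n243 = n483 := rfl
theorem F808 : act 2 n483 = n246 := d14_1 D483 (iv D246) D243
def n484 : Q := act 3 n244
theorem D484 : act 3 n244 = n484 := rfl
theorem F809 : act 1 n484 = n247 := d7_1 D484 (iv D247) (iv F462)
theorem F810 : act 4 n484 = n268 := d15_2 D244 D484 (iv D268) (iv D142) (iv F284)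
def n485 : Q := act 5 n244
theorem D485 : act 5 n244 = n485 := rfl
theorem F811 : act 4 n485 = n245 := d18_1 D485 (iv D245) D244
def n486 : Q := act 6 n244
theorem D486 : act 6 n244 = n486 := rfl
theorem F812 : act 4 n486 = n246 := d19_1 D486 (iv D246) D244
def n487 : Q := act 1 n245
theorem D487 : act 1 n245 = n487 := rfl
theorem F813 : act 3 n487 = n271 := d7_2 (iv F463) D487 (iv D271)
theorem F814 : act 5 n487 = n250 := d9_2 D245 D487 (iv D250) (iv D132) D130
def n488 : Q := act 6 n245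
theorem D488 : act 6 n245 = n488 := rfl
theorem F815 : act 3 n488 = n272 := d17_1 D488 (iv D272) (iv F463)
def n489 : Q := act 1 n246
theorem D489 : act 1 n246 = n489 := rfl
theorem F818 : act 6 n489 = n251 := d10_2 D246 D489 (iv D251) (iv D133) D130
def n490 : Q := act 5 n246
theorem D490 : act 5 n246 = n490 := rfl
theorem F820 : act 3 n490 = n274 := d16_1 D490 (iv D274) (iv F464)
def n491 : Q := act 2 n247
theorem D491 : act 2 n247 = n491 := rfl
theorem F822 : act 0 n491 = n252 := d1_1 D491 (iv D252) (iv F465)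
theorem F823 : act 4 n491 = n275 := d12_2 (iv F466) D491 (iv D275)
def n492 : Q := act 5 n247
theorem D492 : act 5 n247 = n492 := rfl
theorem F824 : act 0 n492 = n253 := d4_1 D492 (iv D253) (iv F465)
theorem F825 : act 3 n492 = n248 := d16_1 D492 (iv D248) D247
theorem F826 : act 4 n492 = n276 := d18_1 D492 (iv D276) (iv F466)
def n493 : Q := act 6 n247
theorem D493 : act 6 n247 = n493 := rfl
theorem F827 : act 0 n493 = n254 := d5_1 D493 (iv D254) (iv F465)
theorem F828 : act 3 n493 = n249 := d17_1 D493 (iv D249) D247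
theorem F829 : act 4 n493 = n277 := d19_1 D493 (iv D277) (iv F466)
def n494 : Q := act 1 n248
theorem D494 : act 1 n248 = n494 := rfl
theorem F830 : act 4 n494 = n250 := d8_2 (iv F468) D494 (iv D250)
def n495 : Q := act 1 n249
theorem D495 : act 1 n249 = n495 := rfl
theorem F831 : act 4 n495 = n251 := d8_2 (iv F470) D495 (iv D251)
def n496 : Q := act 0 n250
theorem D496 : act 0 n250 = n496 := rfl
theorem F832 : act 3 n496 = n280 := d2_2 (iv F471) D496 (iv D280)
def n497 : Q := act 2 n250
theorem D497 : act 2 n250 = n497 := rfl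
theorem F833 : act 5 n496 = n497 := d23_0 (iv D497) (iv D250) F286 (iv D76) (iv F164) (iv D65) (iv F156) D112 F252 F162 F161 (iv D42) D40 D65 D114 D211 F410 D250 D496
theorem F834 : act 0 n497 = n487 := d4_1 F833 F814 D496
theorem F835 : act 2 n487 = n496 := d13_3 F833 (iv D497) (iv F814)
def n498 : Q := act 6 n250
theorem D498 : act 6 n250 = n498 := rfl
theorem F836 : act 3 n498 = n282 := d17_1 D498 (iv D282) (iv F471)
def n499 : Q := act 0 n251
theorem D499 : act 0 n251 = n499 := rfl
theorem F837 : act 3 n499 = n283 := d2_2 (iv F472) D499 (iv D283)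
def n500 : Q := act 2 n251
theorem D500 : act 2 n251 = n500 := rfl
def n501 : Q := act 5 n251
theorem D501 : act 5 n251 = n501 := rfl
theorem F838 : act 3 n501 = n285 := d16_1 D501 (iv D285) (iv F472)
def n502 : Q := act 1 n252
theorem D502 : act 1 n252 = n502 := rfl
theorem F839 : act 2 n502 = n259 := d6_2 D252 D502 (iv D259) (iv D139) (iv F290)
theorem F840 : act 4 n502 = n286 := d8_2 (iv F473) D502 (iv D286)
def n503 : Q := act 3 n252
theorem D503 : act 3 n252 = n503 := rfl
def n504 : Q := act 5 n252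
theorem D504 : act 5 n252 = n504 := rfl
theorem F841 : act 2 n504 = n253 := d13_1 D504 (iv D253) D252
theorem F842 : act 4 n504 = n288 := d18_1 D504 (iv D288) (iv F473)
def n505 : Q := act 6 n252
theorem D505 : act 6 n252 = n505 := rfl
theorem F843 : act 2 n505 = n254 := d14_1 D505 (iv D254) D252
theorem F844 : act 4 n505 = n289 := d19_1 D505 (iv D289) (iv F473)
def n506 : Q := act 6 n253
theorem D506 : act 6 n253 = n506 := rfl
theorem F845 : act 3 n506 = n255 := d17_1 D506 (iv D255) (iv F474)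
theorem F846 : act 4 n506 = n291 := d19_1 D506 (iv D291) (iv F475)
theorem F847 : act 5 n506 = n493 := d22_2 D253 D506 (iv D493) F465
def n507 : Q := act 5 n254
theorem D507 : act 5 n254 = n507 := rfl
theorem F848 : act 0 n507 = n506 := d4_1 D507 F847 F827
theorem F849 : act 3 n507 = n256 := d16_1 D507 (iv D256) (iv F477)
theorem F850 : act 4 n507 = n292 := d18_1 D507 (iv D292) (iv F478)
theorem F851 : act 6 n507 = n492 := d20_2 D254 D507 (iv D492) D493 (iv F847) (iv D506) (iv D253)
def n508 : Q := act 1 n255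
theorem D508 : act 1 n255 = n508 := rfl
theorem F852 : act 4 n508 = n257 := d8_2 (iv F479) D508 (iv D257)
def n509 : Q := act 1 n256
theorem D509 : act 1 n256 = n509 := rfl
theorem F853 : act 4 n509 = n258 := d8_2 (iv F482) D509 (iv D258)
theorem F854 : act 5 n509 = n509 := d9_2 D256 D509 (iv D509) (iv D256) F293
def n510 : Q := act 0 n257
theorem D510 : act 0 n257 = n510 := rfl
theorem F855 : act 3 n510 = n303 := d2_2 (iv F484) D510 (iv D303)
def n511 : Q := act 2 n257
theorem D511 : act 2 n257 = n511 := rfl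
def n512 : Q := act 5 n257
theorem D512 : act 5 n257 = n512 := rfl
theorem F856 : act 1 n512 = n501 := d9_1 D512 (iv D501) (iv D251) (iv F296) D257
theorem F857 : act 3 n512 = n305 := d16_1 D512 (iv D305) (iv F484)
def n513 : Q := act 0 n258
theorem D513 : act 0 n258 = n513 := rfl
theorem F858 : act 3 n513 = n306 := d2_2 (iv F485) D513 (iv D306)
theorem F859 : act 5 n513 = n513 := d4_2 F486 D513 (iv D513)
def n514 : Q := act 2 n258
theorem D514 : act 2 n258 = n514 := rfl
theorem F860 : act 5 n514 = n514 := d13_2 F486 D514 (iv D514)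
def n515 : Q := act 6 n258
theorem D515 : act 6 n258 = n515 := rfl
theorem F861 : act 1 n515 = n498 := d10_1 D515 (iv D498) (iv D250) (iv F299) D258
theorem F862 : act 3 n515 = n308 := d17_1 D515 (iv D308) (iv F485)
def n516 : Q := act 0 n259
theorem D516 : act 0 n259 = n516 := rfl
theorem F863 : act 3 n516 = n309 := d2_2 (iv F487) D516 (iv D309)
theorem F864 : act 4 n516 = n309 := d3_2 (iv F488) D516 (iv D309)
def n517 : Q := act 5 n259
theorem D517 : act 5 n259 = n517 := rfl
theorem F865 : act 3 n517 = n310 := d16_1 D517 (iv D310) (iv F487)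
theorem F866 : act 4 n517 = n310 := d18_1 D517 (iv D310) (iv F488)
def n518 : Q := act 6 n259
theorem D518 : act 6 n259 = n518 := rfl
theorem F867 : act 1 n518 = n518 := d10_1 D518 (iv D518) (iv D259) F302 D259
theorem F868 : act 3 n518 = n311 := d17_1 D518 (iv D311) (iv F487)
theorem F869 : act 4 n518 = n311 := d19_1 D518 (iv D311) (iv F488)
def n522 : Q := act 6 n260
theorem D522 : act 6 n260 = n522 := rfl
theorem F875 : act 0 n522 = n267 := d5_1 D522 (iv D267) (iv F489)
theorem F876 : act 2 n522 = n263 := d14_1 D522 (iv D263) D260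
def n525 : Q := act 6 n261
theorem D525 : act 6 n261 = n525 := rfl
theorem F880 : act 0 n525 = n270 := d5_1 D525 (iv D270) (iv F490)
theorem F881 : act 4 n525 = n263 := d19_1 D525 (iv D263) D261
def n526 : Q := act 1 n262
theorem D526 : act 1 n262 = n526 := rfl
def n527 : Q := act 1 n263
theorem D527 : act 1 n263 = n527 := rfl
def n537 : Q := act 1 n267
theorem D537 : act 1 n267 = n537 := rfl
theorem F893 : act 6 n537 = n537 := d10_2 D267 D537 (iv D537) (iv D267) F304
def n538 : Q := act 5 n267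
theorem D538 : act 5 n267 = n538 := rfl
theorem F895 : act 2 n538 = n274 := d13_1 D538 (iv D274) (iv F497)
def n540 : Q := act 5 n268
theorem D540 : act 5 n268 = n540 := rfl
def n541 : Q := act 6 n268
theorem D541 : act 6 n268 = n541 := rfl
theorem F898 : act 3 n541 = n270 := d17_1 D541 (iv D270) D268
def n542 : Q := act 1 n269
theorem D542 : act 1 n269 = n542 := rfl
theorem F899 : act 4 n542 = n271 := d8_2 (iv F499) D542 (iv D271)
theorem F900 : act 5 n542 = n278 := d9_2 D269 D542 (iv D278) (iv D146) (iv F305)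
def n544 : Q := act 1 n270
theorem D544 : act 1 n270 = n544 := rfl
theorem F903 : act 4 n544 = n273 := d8_2 (iv F500) D544 (iv D273)
theorem F904 : act 6 n544 = n279 := d10_2 D270 D544 (iv D279) (iv D147) (iv F305)
def n546 : Q := act 0 n271
theorem D546 : act 0 n271 = n546 := rfl
theorem F908 : act 3 n546 = n497 := d2_2 F813 D546 F834
theorem F909 : act 5 n546 = n280 := d4_2 (iv F501) D546 (iv D280)
def n547 : Q := act 2 n271
theorem D547 : act 2 n271 = n547 := rfl
theorem F910 : act 5 n547 = n281 := d13_2 (iv F501) D547 (iv D281)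
def n548 : Q := act 6 n271
theorem D548 : act 6 n271 = n548 := rfl
def n549 : Q := act 1 n272
theorem D549 : act 1 n272 = n549 := rfl
def n550 : Q := act 0 n273
theorem D550 : act 0 n273 = n550 := rfl
theorem F911 : act 6 n550 = n283 := d5_2 (iv F503) D550 (iv D283)
def n551 : Q := act 2 n273
theorem D551 : act 2 n273 = n551 := rfl
theorem F912 : act 6 n551 = n284 := d14_2 (iv F503) D551 (iv D284)
def n552 : Q := act 5 n273
theorem D552 : act 5 n273 = n552 := rfl
def n553 : Q := act 1 n274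
theorem D553 : act 1 n274 = n553 := rfl
def n554 : Q := act 1 n275
theorem D554 : act 1 n275 = n554 := rfl
def n555 : Q := act 3 n275
theorem D555 : act 3 n275 = n555 := rfl
theorem F913 : act 0 n555 = n287 := d2_1 D555 (iv D287) (iv F506)
theorem F914 : act 2 n555 = n287 := d21_2 D275 D555 (iv D287) (iv D150) (iv D83) F129 D83 (iv F306)
def n556 : Q := act 5 n275
theorem D556 : act 5 n275 = n556 := rfl
theorem F915 : act 0 n556 = n288 := d4_1 D556 (iv D288) (iv F506)
theorem F916 : act 2 n556 = n276 := d13_1 D556 (iv D276) D275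
def n557 : Q := act 6 n275
theorem D557 : act 6 n275 = n557 := rfl
theorem F917 : act 0 n557 = n289 := d5_1 D557 (iv D289) (iv F506)
theorem F918 : act 2 n557 = n277 := d14_1 D557 (iv D277) D275
def n558 : Q := act 1 n276
theorem D558 : act 1 n276 = n558 := rfl
theorem F919 : act 3 n558 = n278 := d7_2 (iv F508) D558 (iv D278)
def n559 : Q := act 1 n277
theorem D559 : act 1 n277 = n559 := rfl
def n560 : Q := act 0 n278
theorem D560 : act 0 n278 = n560 := rfl
theorem F921 : act 4 n560 = n280 := d3_2 (iv F511) D560 (iv D280)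
def n561 : Q := act 2 n278
theorem D561 : act 2 n278 = n561 := rfl
theorem F922 : act 1 n561 = n561 := d6_1 D561 (iv D561) (iv D278) F308 D278
theorem F923 : act 4 n561 = n281 := d12_2 (iv F511) D561 (iv D281)
def n562 : Q := act 6 n278
theorem D562 : act 6 n278 = n562 := rfl
theorem F924 : act 4 n562 = n282 := d19_1 D562 (iv D282) (iv F511)
def n563 : Q := act 0 n279
theorem D563 : act 0 n279 = n563 := rfl
theorem F925 : act 4 n563 = n283 := d3_2 (iv F512) D563 (iv D283)
def n564 : Q := act 2 n279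
theorem D564 : act 2 n279 = n564 := rfl
theorem F927 : act 4 n564 = n284 := d12_2 (iv F512) D564 (iv D284)
def n565 : Q := act 5 n279
theorem D565 : act 5 n279 = n565 := rfl
theorem F928 : act 4 n565 = n285 := d18_1 D565 (iv D285) (iv F512)
def n566 : Q := act 1 n280
theorem D566 : act 1 n280 = n566 := rfl
def n567 : Q := act 2 n280
theorem D567 : act 2 n280 = n567 := rfl
theorem F929 : act 0 n567 = n281 := d1_1 D567 (iv D281) D280
def n568 : Q := act 6 n280
theorem D568 : act 6 n280 = n568 := rfl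
theorem F930 : act 0 n568 = n282 := d5_1 D568 (iv D282) D280
theorem F931 : act 5 n568 = n548 := d22_2 F909 D568 (iv D548) D546
def n569 : Q := act 3 n281
theorem D569 : act 3 n281 = n569 := rfl
theorem F932 : act 1 n569 = n569 := d7_1 D569 (iv D569) F513
def n570 : Q := act 6 n281
theorem D570 : act 6 n281 = n570 := rfl
theorem F933 : act 2 n570 = n282 := d14_1 D570 (iv D282) D281
def n571 : Q := act 5 n282
theorem D571 : act 5 n282 = n571 := rfl
theorem F935 : act 6 n571 = n546 := d20_2 D282 D571 F909 D568 F931 (iv D548) F501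
def n572 : Q := act 1 n283
theorem D572 : act 1 n283 = n572 := rfl
def n573 : Q := act 2 n283
theorem D573 : act 2 n283 = n573 := rfl
theorem F937 : act 0 n573 = n284 := d1_1 D573 (iv D284) D283
def n574 : Q := act 5 n283
theorem D574 : act 5 n283 = n574 := rfl
theorem F938 : act 0 n574 = n285 := d4_1 D574 (iv D285) D283
theorem F939 : act 6 n574 = n552 := d22_1 D574 (iv D552) F503 D283
def n575 : Q := act 3 n284
theorem D575 : act 3 n284 = n575 := rfl
def n576 : Q := act 5 n284
theorem D576 : act 5 n284 = n576 := rfl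
theorem F941 : act 2 n576 = n285 := d13_1 D576 (iv D285) D284
def n577 : Q := act 6 n285
theorem D577 : act 6 n285 = n577 := rfl
theorem F943 : act 5 n577 = n550 := d20_1 D577 F911 D574 F939 (iv D552) F503 D285
def n578 : Q := act 0 n286
theorem D578 : act 0 n286 = n578 := rfl
theorem F944 : act 2 n578 = n309 := d1_2 (iv F515) D578 (iv D309)
def n579 : Q := act 3 n286
theorem D579 : act 3 n286 = n579 := rfl
theorem F945 : act 1 n579 = n287 := d7_1 D579 (iv D287) D286
def n580 : Q := act 5 n286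
theorem D580 : act 5 n286 = n580 := rfl
theorem F946 : act 2 n580 = n310 := d13_1 D580 (iv D310) (iv F515)
def n581 : Q := act 6 n286
theorem D581 : act 6 n286 = n581 := rfl
theorem F947 : act 2 n581 = n311 := d14_1 D581 (iv D311) (iv F515)
def n582 : Q := act 4 n287
theorem D582 : act 4 n287 = n582 := rfl
def n583 : Q := act 5 n287
theorem D583 : act 5 n287 = n583 := rfl
theorem F948 : act 3 n583 = n288 := d16_1 D583 (iv D288) D287
def n584 : Q := act 6 n287
theorem D584 : act 6 n287 = n584 := rfl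
theorem F949 : act 3 n584 = n289 := d17_1 D584 (iv D289) D287
def n585 : Q := act 1 n288
theorem D585 : act 1 n288 = n585 := rfl
def n586 : Q := act 6 n288
theorem D586 : act 6 n288 = n586 := rfl
theorem F950 : act 2 n586 = n291 := d14_1 D586 (iv D291) (iv F516)
theorem F951 : act 5 n586 = n557 := d22_2 D288 D586 (iv D557) F506
def n587 : Q := act 1 n289
theorem D587 : act 1 n289 = n587 := rfl
theorem F952 : act 2 n587 = n587 := d6_2 (iv F517) D587 (iv D587) F517 F314
def n588 : Q := act 5 n289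
theorem D588 : act 5 n289 = n588 := rfl
theorem F953 : act 0 n588 = n586 := d4_1 D588 F951 F917
theorem F954 : act 2 n588 = n292 := d13_1 D588 (iv D292) (iv F517)
theorem F955 : act 6 n588 = n556 := d20_2 D289 D588 (iv D556) D557 (iv F951) (iv D586) (iv D288)
def n589 : Q := act 0 n290
theorem D589 : act 0 n290 = n589 := rfl
theorem F957 : act 5 n589 = n313 := d4_2 (iv F519) D589 (iv D313)
def n590 : Q := act 2 n290
theorem D590 : act 2 n290 = n590 := rfl
theorem F958 : act 5 n590 = n314 := d13_2 (iv F519) D590 (iv D314)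
def n591 : Q := act 6 n290
theorem D591 : act 6 n290 = n591 := rfl
theorem F959 : act 3 n591 = n295 := d17_1 D591 (iv D295) (iv F518)
def n592 : Q := act 1 n291
theorem D592 : act 1 n291 = n592 := rfl
theorem F960 : act 3 n592 = n296 := d7_2 (iv F520) D592 (iv D296)
def n593 : Q := act 1 n292
theorem D593 : act 1 n292 = n593 := rfl
theorem F961 : act 3 n593 = n297 := d7_2 (iv F523) D593 (iv D297)
theorem F962 : act 5 n593 = n593 := d9_2 D292 D593 (iv D593) (iv D292) F314
def n594 : Q := act 1 n293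
theorem D594 : act 1 n293 = n594 := rfl
theorem F963 : act 4 n594 = n298 := d8_2 (iv F525) D594 (iv D298)
def n595 : Q := act 2 n293
theorem D595 : act 2 n293 = n595 := rfl
theorem F964 : act 0 n595 = n294 := d1_1 D595 (iv D294) D293
theorem F966 : act 5 n595 = n317 := d13_2 (iv F526) D595 (iv D317)
def n597 : Q := act 6 n294
theorem D597 : act 6 n294 = n597 := rfl
def n598 : Q := act 1 n295
theorem D598 : act 1 n295 = n598 := rfl
theorem F972 : act 6 n598 = n296 := d10_2 D295 D598 (iv D296) (iv D154) D153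
def n599 : Q := act 0 n296
theorem D599 : act 0 n296 = n599 := rfl
theorem F973 : act 4 n599 = n303 := d3_2 (iv F531) D599 (iv D303)
def n600 : Q := act 2 n296
theorem D600 : act 2 n296 = n600 := rfl
theorem F974 : act 1 n600 = n600 := d6_1 D600 (iv D600) (iv D296) F318 D296
theorem F975 : act 4 n600 = n304 := d12_2 (iv F531) D600 (iv D304)
def n601 : Q := act 5 n296
theorem D601 : act 5 n296 = n601 := rfl
theorem F976 : act 1 n601 = n565 := d9_1 D601 (iv D565) (iv D279) (iv F320) D296
theorem F977 : act 4 n601 = n305 := d18_1 D601 (iv D305) (iv F531)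
def n602 : Q := act 0 n297
theorem D602 : act 0 n297 = n602 := rfl
theorem F978 : act 4 n602 = n306 := d3_2 (iv F532) D602 (iv D306)
def n603 : Q := act 2 n297
theorem D603 : act 2 n297 = n603 := rfl
theorem F980 : act 1 n603 = n603 := d6_1 D603 (iv D603) (iv D297) F322 D297
theorem F981 : act 4 n603 = n307 := d12_2 (iv F532) D603 (iv D307)
theorem F982 : act 5 n603 = n603 := d13_2 F533 D603 (iv D603)
def n604 : Q := act 6 n297
theorem D604 : act 6 n297 = n604 := rfl
theorem F983 : act 1 n604 = n562 := d10_1 D604 (iv D562) (iv D278) (iv F324) D297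
theorem F984 : act 4 n604 = n308 := d19_1 D604 (iv D308) (iv F532)
def n605 : Q := act 0 n298
theorem D605 : act 0 n298 = n605 := rfl
def n606 : Q := act 2 n298
theorem D606 : act 2 n298 = n606 := rfl
def n607 : Q := act 5 n298
theorem D607 : act 5 n298 = n607 := rfl
theorem F985 : act 1 n607 = n324 := d9_1 D607 (iv D324) (iv D167) (iv F325) D298
def n608 : Q := act 6 n298
theorem D608 : act 6 n298 = n608 := rfl
def n615 : Q := act 0 n302
theorem D615 : act 0 n302 = n615 := rfl
theorem F993 : act 6 n615 = n303 := d5_2 (iv F539) D615 (iv D303)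
def n616 : Q := act 2 n302
theorem D616 : act 2 n302 = n616 := rfl
theorem F994 : act 6 n616 = n304 := d14_2 (iv F539) D616 (iv D304)
def n617 : Q := act 5 n302
theorem D617 : act 5 n302 = n617 := rfl
def n618 : Q := act 1 n303
theorem D618 : act 1 n303 = n618 := rfl
def n619 : Q := act 2 n303
theorem D619 : act 2 n303 = n619 := rfl
theorem F995 : act 0 n619 = n304 := d1_1 D619 (iv D304) D303
def n620 : Q := act 5 n303
theorem D620 : act 5 n303 = n620 := rfl
theorem F996 : act 0 n620 = n305 := d4_1 D620 (iv D305) D303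
theorem F997 : act 6 n620 = n617 := d22_1 D620 (iv D617) F539 D303
def n621 : Q := act 3 n304
theorem D621 : act 3 n304 = n621 := rfl
theorem F998 : act 1 n621 = n621 := d7_1 D621 (iv D621) F540
def n622 : Q := act 5 n304
theorem D622 : act 5 n304 = n622 := rfl
theorem F999 : act 2 n622 = n305 := d13_1 D622 (iv D305) D304
def n623 : Q := act 6 n305
theorem D623 : act 6 n305 = n623 := rfl
theorem F1000 : act 0 n623 = n617 := d5_1 D623 (iv F997) F996
theorem F1001 : act 5 n623 = n615 := d20_1 D623 F993 D620 F997 (iv D617) F539 D305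
def n624 : Q := act 1 n306
theorem D624 : act 1 n306 = n624 := rfl
def n625 : Q := act 2 n306
theorem D625 : act 2 n306 = n625 := rfl
def n626 : Q := act 6 n306
theorem D626 : act 6 n306 = n626 := rfl
theorem F1005 : act 5 n626 = n308 := d22_2 F542 D626 (iv D308) D306
def n627 : Q := act 3 n307
theorem D627 : act 3 n307 = n627 := rfl
theorem F1006 : act 1 n627 = n627 := d7_1 D627 (iv D627) F543
theorem F1007 : act 5 n627 = n627 := d16_2 F544 D627 (iv D627)
def n628 : Q := act 6 n307
theorem D628 : act 6 n307 = n628 := rfl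
theorem F1008 : act 2 n628 = n308 := d14_1 D628 (iv D308) D307
def n629 : Q := act 1 n309
theorem D629 : act 1 n309 = n629 := rfl
def n630 : Q := act 5 n309
theorem D630 : act 5 n309 = n630 := rfl
theorem F1009 : act 0 n630 = n310 := d4_1 D630 (iv D310) D309
def n631 : Q := act 6 n309
theorem D631 : act 6 n309 = n631 := rfl
theorem F1010 : act 0 n631 = n311 := d5_1 D631 (iv D311) D309
def n632 : Q := act 1 n310
theorem D632 : act 1 n310 = n632 := rfl
theorem F1011 : act 5 n632 = n312 := d9_2 D310 D632 (iv D312) (iv D162) D161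
def n633 : Q := act 6 n310
theorem D633 : act 6 n310 = n633 := rfl
theorem F1012 : act 5 n633 = n631 := d22_2 D310 D633 (iv D631) (iv D309)
def n634 : Q := act 5 n311
theorem D634 : act 5 n311 = n634 := rfl
theorem F1013 : act 0 n634 = n633 := d4_1 D634 F1012 F1010
theorem F1014 : act 6 n634 = n630 := d20_2 D311 D634 (iv D630) D631 (iv F1012) (iv D633) (iv D310)
def n635 : Q := act 0 n312
theorem D635 : act 0 n312 = n635 := rfl
def n636 : Q := act 2 n312
theorem D636 : act 2 n312 = n636 := rfl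
theorem F1015 : act 1 n636 = n314 := d6_1 D636 (iv D314) (iv D163) (iv F329) D312
def n637 : Q := act 6 n312
theorem D637 : act 6 n312 = n637 := rfl
def n639 : Q := act 2 n313
theorem D639 : act 2 n313 = n639 := rfl
def n640 : Q := act 6 n313
theorem D640 : act 6 n313 = n640 := rfl
theorem F1019 : act 3 n640 = n318 := d17_1 D640 (iv D318) (iv F547)
theorem F1020 : act 5 n640 = n591 := d22_2 F957 D640 (iv D591) D589
def n641 : Q := act 3 n314
theorem D641 : act 3 n314 = n641 := rfl
def n646 : Q := act 5 n316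
theorem D646 : act 5 n316 = n646 := rfl
def n647 : Q := act 6 n316
theorem D647 : act 6 n316 = n647 := rfl
theorem F1028 : act 4 n647 = n325 := d19_1 D647 (iv D325) (iv F549)
def n650 : Q := act 6 n317
theorem D650 : act 6 n317 = n650 := rfl
theorem F1032 : act 2 n650 = n318 := d14_1 D650 (iv D318) D317
theorem F1034 : act 5 n650 = n597 := d22_2 F966 D650 (iv D597) (iv F964)
def n651 : Q := act 1 n318
theorem D651 : act 1 n318 = n651 := rfl
theorem F1035 : act 4 n651 = n329 := d8_2 (iv F553) D651 (iv D329)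
def n657 : Q := act 1 n321
theorem D657 : act 1 n321 = n657 := rfl
def n658 : Q := act 2 n322
theorem D658 : act 2 n322 = n658 := rfl
theorem F1047 : act 0 n658 = n323 := d1_1 D658 (iv D323) D322
def n659 : Q := act 5 n322
theorem D659 : act 5 n322 = n659 := rfl
theorem F1048 : act 0 n659 = n324 := d4_1 D659 (iv D324) D322
def n660 : Q := act 6 n322
theorem D660 : act 6 n322 = n660 := rfl
theorem F1049 : act 0 n660 = n325 := d5_1 D660 (iv D325) D322
def n661 : Q := act 1 n323
theorem D661 : act 1 n323 = n661 := rfl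
theorem F1050 : act 2 n661 = n326 := d6_2 D323 D661 (iv D326) (iv D168) D167
def n663 : Q := act 5 n323
theorem D663 : act 5 n323 = n663 := rfl
theorem F1051 : act 2 n663 = n324 := d13_1 D663 (iv D324) D323
def n665 : Q := act 6 n324
theorem D665 : act 6 n324 = n665 := rfl
theorem F1053 : act 5 n665 = n660 := d22_2 D324 D665 (iv D660) (iv D322)
def n666 : Q := act 1 n325
theorem D666 : act 1 n325 = n666 := rfl
theorem F1054 : act 6 n666 = n329 := d10_2 D325 D666 (iv D329) (iv D169) D167
def n667 : Q := act 5 n325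
theorem D667 : act 5 n325 = n667 := rfl
theorem F1056 : act 6 n667 = n659 := d20_2 D325 D667 (iv D659) D660 (iv F1053) (iv D665) (iv D324)
def n668 : Q := act 0 n326
theorem D668 : act 0 n326 = n668 := rfl
def n670 : Q := act 5 n326
theorem D670 : act 5 n326 = n670 := rfl
def n671 : Q := act 6 n326
theorem D671 : act 6 n326 = n671 := rfl
def n672 : Q := act 2 n327
theorem D672 : act 2 n327 = n672 := rfl
theorem F1060 : act 3 n672 = n349 := d21_1 D672 (iv D349) (iv D179) F227 F151 D93 D170 (iv F561)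
def n675 : Q := act 1 n328
theorem D675 : act 1 n328 = n675 := rfl
def n676 : Q := act 0 n329
theorem D676 : act 0 n329 = n676 := rfl
def n677 : Q := act 2 n329
theorem D677 : act 2 n329 = n677 := rfl
def n678 : Q := act 5 n329
theorem D678 : act 5 n329 = n678 := rfl
theorem F1065 : act 1 n678 = n617 := d9_1 D678 (iv D617) (iv D302) (iv F337) D329
def n679 : Q := act 3 n330
theorem D679 : act 3 n330 = n679 := rfl
theorem F1067 : act 1 n679 = n679 := d7_1 D679 (iv D679) F565
theorem F1068 : act 2 n679 = n345 := d11_1 D679 (iv D345) F356 F235 D168 D327 D672 F1060 (iv D349) (iv D179) F227 F151 D93 D170 D330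
def n685 : Q := act 0 n333
theorem D685 : act 0 n333 = n685 := rfl
theorem F1079 : act 6 n685 = n342 := d5_2 (iv F569) D685 (iv D342)
def n688 : Q := act 0 n335
theorem D688 : act 0 n335 = n688 := rfl
def n690 : Q := act 6 n335
theorem D690 : act 6 n335 = n690 := rfl
theorem F1081 : act 1 n690 = n608 := d10_1 D690 (iv D608) (iv D298) (iv F341) D335
def n704 : Q := act 0 n344
theorem D704 : act 0 n344 = n704 := rfl
def n705 : Q := act 2 n344
theorem D705 : act 2 n344 = n705 := rfl
theorem F1113 : act 1 n705 = n368 := d6_1 D705 (iv D368) (iv D188) (iv F356) D344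
def n706 : Q := act 3 n344
theorem D706 : act 3 n344 = n706 := rfl
theorem F1114 : act 1 n706 = n345 := d7_1 D706 (iv D345) D344
theorem F1115 : act 2 n706 = n706 := d6_0 F1114 (iv F1068) F1067 F1068 (iv F1114)
def n708 : Q := act 5 n344
theorem D708 : act 5 n344 = n708 := rfl
def n709 : Q := act 6 n344
theorem D709 : act 6 n344 = n709 := rfl
def n712 : Q := act 6 n345
theorem D712 : act 6 n345 = n712 := rfl
theorem F1121 : act 3 n712 = n348 := d17_1 D712 (iv D348) D345
def n713 : Q := act 3 n346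
theorem D713 : act 3 n346 = n713 := rfl
theorem F1122 : act 0 n713 = n353 := d2_1 D713 (iv D353) (iv F593)
def n715 : Q := act 6 n346
theorem D715 : act 6 n346 = n715 := rfl
theorem F1126 : act 0 n715 = n355 := d5_1 D715 (iv D355) (iv F593)
theorem F1127 : act 2 n715 = n374 := d14_1 D715 (iv D374) (iv F594)
theorem F1128 : act 4 n715 = n348 := d19_1 D715 (iv D348) D346
def n716 : Q := act 1 n347
theorem D716 : act 1 n347 = n716 := rfl
def n717 : Q := act 1 n348
theorem D717 : act 1 n348 = n717 := rfl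
def n721 : Q := act 3 n350
theorem D721 : act 3 n350 = n721 := rfl
theorem F1133 : act 4 n721 = n353 := d15_2 D350 D721 (iv D353) (iv D180) D179
def n724 : Q := act 1 n351
theorem D724 : act 1 n351 = n724 := rfl
theorem F1136 : act 3 n724 = n356 := d7_2 (iv F600) D724 (iv D356)
def n725 : Q := act 6 n351
theorem D725 : act 6 n351 = n725 := rfl
theorem F1139 : act 5 n725 = n712 := d22_2 D351 D725 (iv D712) F592
def n727 : Q := act 2 n353
theorem D727 : act 2 n353 = n727 := rfl
def n728 : Q := act 5 n353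
theorem D728 : act 5 n353 = n728 := rfl
theorem F1143 : act 3 n728 = n354 := d16_1 D728 (iv D354) D353
def n729 : Q := act 6 n353
theorem D729 : act 6 n353 = n729 := rfl
theorem F1144 : act 3 n729 = n355 := d17_1 D729 (iv D355) D353
def n730 : Q := act 1 n354
theorem D730 : act 1 n354 = n730 := rfl
theorem F1145 : act 2 n730 = n432 := d6_2 (iv F603) D730 (iv D432) F417 (iv F376)
theorem F1146 : act 4 n730 = n356 := d8_2 (iv F604) D730 (iv D356)
theorem F1147 : act 5 n730 = n364 := d9_2 D354 D730 (iv D364) (iv D186) (iv F358)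
def n731 : Q := act 6 n354
theorem D731 : act 6 n354 = n731 := rfl
theorem F1148 : act 2 n731 = n380 := d14_1 D731 (iv D380) (iv F603)
theorem F1150 : act 5 n731 = n715 := d22_2 D354 D731 (iv D715) F593
def n733 : Q := act 0 n356
theorem D733 : act 0 n356 = n733 := rfl
theorem F1155 : act 2 n733 = n436 := d1_2 (iv F607) D733 (iv D436)
theorem F1156 : act 5 n733 = n365 := d4_2 (iv F608) D733 (iv D365)
def n734 : Q := act 6 n356
theorem D734 : act 6 n356 = n734 := rfl
def n735 : Q := act 1 n357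
theorem D735 : act 1 n357 = n735 := rfl
def n737 : Q := act 2 n359
theorem D737 : act 2 n359 = n737 := rfl
theorem F1158 : act 4 n737 = n362 := d12_2 (iv F614) D737 (iv D362)
def n738 : Q := act 5 n359
theorem D738 : act 5 n359 = n738 := rfl
theorem F1159 : act 3 n738 = n360 := d16_1 D738 (iv D360) D359
theorem F1160 : act 4 n738 = n363 := d18_1 D738 (iv D363) (iv F614)
theorem F1161 : act 6 n738 = n449 := d22_1 D738 (iv D449) (iv F751) F749
def n739 : Q := act 1 n360
theorem D739 : act 1 n360 = n739 := rfl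
def n740 : Q := act 0 n361
theorem D740 : act 0 n361 = n740 := rfl
theorem F1163 : act 3 n740 = n365 := d2_2 (iv F617) D740 (iv D365)
def n741 : Q := act 2 n361
theorem D741 : act 2 n361 = n741 := rfl
def n742 : Q := act 6 n361
theorem D742 : act 6 n361 = n742 := rfl
theorem F1165 : act 3 n742 = n366 := d17_1 D742 (iv D366) (iv F617)
def n743 : Q := act 1 n362
theorem D743 : act 1 n362 = n743 := rfl
def n744 : Q := act 5 n362
theorem D744 : act 5 n362 = n744 := rfl
theorem F1166 : act 2 n744 = n363 := d13_1 D744 (iv D363) D362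
theorem F1167 : act 6 n744 = n455 := d22_1 D744 (iv D455) D456 F764
def n745 : Q := act 1 n363
theorem D745 : act 1 n363 = n745 := rfl
theorem F1168 : act 3 n745 = n364 := d7_2 (iv F618) D745 (iv D364)
def n746 : Q := act 0 n364
theorem D746 : act 0 n364 = n746 := rfl
theorem F1169 : act 2 n746 = n460 := d1_2 (iv F620) D746 (iv D460)
theorem F1170 : act 4 n746 = n365 := d3_2 (iv F621) D746 (iv D365)
def n747 : Q := act 6 n364
theorem D747 : act 6 n364 = n747 := rfl
theorem F1171 : act 1 n747 = n461 := d10_1 D747 (iv D461) (iv D232) (iv F366) D364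
theorem F1172 : act 2 n747 = n461 := d14_1 D747 (iv D461) (iv F620)
theorem F1173 : act 4 n747 = n366 := d19_1 D747 (iv D366) (iv F621)
def n748 : Q := act 1 n365
theorem D748 : act 1 n365 = n748 := rfl
def n749 : Q := act 6 n365
theorem D749 : act 6 n365 = n749 := rfl
theorem F1174 : act 0 n749 = n366 := d5_1 D749 (iv D366) D365
def n750 : Q := act 5 n366
theorem D750 : act 5 n366 = n750 := rfl
theorem F1178 : act 2 n750 = n467 := d13_1 D750 (iv D467) (iv F624)
def n751 : Q := act 2 n367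
theorem D751 : act 2 n367 = n751 := rfl
theorem F1180 : act 0 n751 = n368 := d1_1 D751 (iv D368) D367
def n752 : Q := act 4 n367
theorem D752 : act 4 n367 = n752 := rfl
theorem F1181 : act 0 n752 = n369 := d3_1 D752 (iv D369) D367
def n753 : Q := act 5 n367
theorem D753 : act 5 n367 = n753 := rfl
theorem F1183 : act 0 n753 = n370 := d4_1 D753 (iv D370) D367
def n754 : Q := act 6 n367
theorem D754 : act 6 n367 = n754 := rfl
theorem F1185 : act 0 n754 = n371 := d5_1 D754 (iv D371) D367
theorem F1186 : act 3 n754 = n660 := d17_1 D754 (iv D660) (iv F626)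
def n757 : Q := act 5 n368
theorem D757 : act 5 n368 = n757 := rfl
theorem F1188 : act 2 n757 = n370 := d13_1 D757 (iv D370) D368
def n758 : Q := act 6 n368
theorem D758 : act 6 n368 = n758 := rfl
theorem F1189 : act 2 n758 = n371 := d14_1 D758 (iv D371) D368
def n760 : Q := act 5 n369
theorem D760 : act 5 n369 = n760 := rfl
def n761 : Q := act 6 n369
theorem D761 : act 6 n369 = n761 := rfl
theorem F1193 : act 4 n761 = n371 := d19_1 D761 (iv D371) D369
def n762 : Q := act 1 n370
theorem D762 : act 1 n370 = n762 := rfl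
theorem F1195 : act 5 n762 = n375 := d9_2 D370 D762 (iv D375) (iv D190) D188
def n763 : Q := act 6 n370
theorem D763 : act 6 n370 = n763 := rfl
theorem F1197 : act 5 n763 = n754 := d22_2 D370 D763 (iv D754) (iv D367)
def n764 : Q := act 1 n371
theorem D764 : act 1 n371 = n764 := rfl
theorem F1198 : act 3 n764 = n666 := d7_2 (iv F629) D764 (iv D666)
theorem F1199 : act 6 n764 = n376 := d10_2 D371 D764 (iv D376) (iv D191) D188
def n765 : Q := act 5 n371
theorem D765 : act 5 n371 = n765 := rfl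
theorem F1201 : act 3 n765 = n667 := d16_1 D765 (iv D667) (iv F629)
theorem F1202 : act 6 n765 = n753 := d20_2 D371 D765 (iv D753) D754 (iv F1197) (iv D763) (iv D370)
def n766 : Q := act 2 n372
theorem D766 : act 2 n372 = n766 := rfl
theorem F1203 : act 0 n766 = n377 := d1_1 D766 (iv D377) (iv F630)
def n767 : Q := act 5 n372
theorem D767 : act 5 n372 = n767 := rfl
theorem F1205 : act 0 n767 = n378 := d4_1 D767 (iv D378) (iv F630)
def n768 : Q := act 6 n372
theorem D768 : act 6 n372 = n768 := rfl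
theorem F1208 : act 0 n768 = n379 := d5_1 D768 (iv D379) (iv F630)
def n770 : Q := act 1 n374
theorem D770 : act 1 n374 = n770 := rfl
theorem F1212 : act 4 n770 = n376 := d8_2 (iv F635) D770 (iv D376)
def n771 : Q := act 0 n375
theorem D771 : act 0 n375 = n771 := rfl
theorem F1213 : act 3 n771 = n605 := d2_2 (iv F636) D771 (iv D605)
def n772 : Q := act 2 n375
theorem D772 : act 2 n375 = n772 := rfl
def n773 : Q := act 6 n375
theorem D773 : act 6 n375 = n773 := rfl
def n774 : Q := act 0 n376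
theorem D774 : act 0 n376 = n774 := rfl
theorem F1215 : act 3 n774 = n676 := d2_2 (iv F637) D774 (iv D676)
def n775 : Q := act 2 n376
theorem D775 : act 2 n376 = n775 := rfl
def n776 : Q := act 5 n376
theorem D776 : act 5 n376 = n776 := rfl
theorem F1216 : act 3 n776 = n678 := d16_1 D776 (iv D678) (iv F637)
def n777 : Q := act 1 n377
theorem D777 : act 1 n377 = n777 := rfl
theorem F1217 : act 2 n777 = n384 := d6_2 D377 D777 (iv D384) (iv D197) (iv F374)
theorem F1218 : act 4 n777 = n636 := d8_2 (iv F638) D777 F1015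
def n778 : Q := act 3 n377
theorem D778 : act 3 n377 = n778 := rfl
def n779 : Q := act 5 n377
theorem D779 : act 5 n377 = n779 := rfl
theorem F1219 : act 2 n779 = n378 := d13_1 D779 (iv D378) D377
theorem F1220 : act 4 n779 = n590 := d18_1 D779 F958 (iv F638)
def n780 : Q := act 6 n377
theorem D780 : act 6 n377 = n780 := rfl
theorem F1221 : act 2 n780 = n379 := d14_1 D780 (iv D379) D377
def n781 : Q := act 6 n378
theorem D781 : act 6 n378 = n781 := rfl
theorem F1223 : act 3 n781 = n380 := d17_1 D781 (iv D380) (iv F640)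
theorem F1225 : act 5 n781 = n768 := d22_2 D378 D781 (iv D768) F630
def n782 : Q := act 5 n379
theorem D782 : act 5 n379 = n782 := rfl
theorem F1226 : act 0 n782 = n781 := d4_1 D782 F1225 F1208
theorem F1227 : act 3 n782 = n381 := d16_1 D782 (iv D381) (iv F643)
def n783 : Q := act 1 n380
theorem D783 : act 1 n380 = n783 := rfl
theorem F1230 : act 4 n783 = n382 := d8_2 (iv F645) D783 (iv D382)
theorem F1231 : act 6 n783 = n508 := d10_2 D380 D783 (iv D508) (iv D255) (iv F376)
def n784 : Q := act 1 n381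
theorem D784 : act 1 n381 = n784 := rfl
theorem F1232 : act 4 n784 = n383 := d8_2 (iv F648) D784 (iv D383)
theorem F1233 : act 5 n784 = n657 := d9_2 D381 D784 (iv D657) (iv D321) (iv F378)
def n785 : Q := act 0 n382
theorem D785 : act 0 n382 = n785 := rfl
theorem F1235 : act 6 n785 = n510 := d5_2 (iv F651) D785 (iv D510)
def n786 : Q := act 2 n382
theorem D786 : act 2 n382 = n786 := rfl
def n787 : Q := act 5 n382
theorem D787 : act 5 n382 = n787 := rfl
theorem F1237 : act 1 n787 = n776 := d9_1 D787 (iv D776) (iv D376) (iv F381) D382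
def n788 : Q := act 0 n383
theorem D788 : act 0 n383 = n788 := rfl
theorem F1239 : act 3 n788 = n688 := d2_2 (iv F652) D788 (iv D688)
theorem F1240 : act 5 n788 = n688 := d4_2 (iv F653) D788 (iv D688)
def n790 : Q := act 6 n383
theorem D790 : act 6 n383 = n790 := rfl
theorem F1242 : act 1 n790 = n773 := d10_1 D790 (iv D773) (iv D375) (iv F384) D383
def n791 : Q := act 0 n384
theorem D791 : act 0 n384 = n791 := rfl
theorem F1244 : act 3 n791 = n635 := d2_2 (iv F654) D791 (iv D635)
theorem F1245 : act 4 n791 = n635 := d3_2 (iv F655) D791 (iv D635)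
def n792 : Q := act 5 n384
theorem D792 : act 5 n384 = n792 := rfl
theorem F1246 : act 1 n792 = n517 := d9_1 D792 (iv D517) (iv D259) (iv F387) D384
theorem F1247 : act 3 n792 = n632 := d16_1 D792 F1011 (iv F654)
theorem F1248 : act 4 n792 = n632 := d18_1 D792 F1011 (iv F655)
def n793 : Q := act 6 n384
theorem D793 : act 6 n384 = n793 := rfl
theorem F1249 : act 1 n793 = n637 := d10_1 D793 (iv D637) (iv D312) (iv F388) D384
theorem F1250 : act 3 n793 = n637 := d17_1 D793 (iv D637) (iv F654)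
theorem F1251 : act 4 n793 = n637 := d19_1 D793 (iv D637) (iv F655)
def n795 : Q := act 4 n385
theorem D795 : act 4 n385 = n795 := rfl
theorem F1254 : act 0 n795 = n481 := d3_1 D795 (iv D481) F695
def n797 : Q := act 6 n385
theorem D797 : act 6 n385 = n797 := rfl
theorem F1259 : act 0 n797 = n483 := d5_1 D797 (iv D483) F695
theorem F1260 : act 2 n797 = n479 := d14_1 D797 (iv D479) (iv F696)
def n806 : Q := act 1 n389
theorem D806 : act 1 n389 = n806 := rfl
def n827 : Q := act 2 n400
theorem D827 : act 2 n400 = n827 := rfl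
theorem F1305 : act 4 n827 = n403 := d12_2 (iv F675) D827 (iv D403)
def n833 : Q := act 1 n403
theorem D833 : act 1 n403 = n833 := rfl
theorem F1314 : act 3 n833 = n454 := d7_2 (iv F683) D833 (iv D454)
def n834 : Q := act 5 n403
theorem D834 : act 5 n403 = n834 := rfl
theorem F1315 : act 0 n834 = n455 := d4_1 D834 (iv D455) (iv F681)
theorem F1317 : act 3 n834 = n455 := d16_1 D834 (iv D455) (iv F683)
def n841 : Q := act 3 n408
theorem D841 : act 3 n408 = n841 := rfl
theorem F1329 : act 0 n841 = n410 := d2_1 D841 (iv D410) D408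
theorem F1330 : act 1 n841 = n480 := d7_1 D841 (iv D480) (iv F693)
theorem F1331 : act 2 n841 = n442 := d21_4 F692 (iv D410) (iv F694) D841 F746 F450 (iv F746) (iv D442)
def n842 : Q := act 4 n408
theorem D842 : act 4 n408 = n842 := rfl
theorem F1332 : act 0 n842 = n411 := d3_1 D842 (iv D411) D408
theorem F1333 : act 1 n842 = n481 := d8_1 D842 (iv D481) (iv F693)
theorem F1334 : act 2 n842 = n411 := d12_1 D842 (iv D411) (iv F694)
def n843 : Q := act 5 n408
theorem D843 : act 5 n408 = n843 := rfl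
theorem F1336 : act 2 n843 = n412 := d13_1 D843 (iv D412) (iv F694)
def n844 : Q := act 6 n408
theorem D844 : act 6 n408 = n844 := rfl
theorem F1337 : act 0 n844 = n413 := d5_1 D844 (iv D413) D408
theorem F1338 : act 2 n844 = n413 := d14_1 D844 (iv D413) (iv F694)
def n845 : Q := act 4 n410
theorem D845 : act 4 n410 = n845 := rfl
theorem F1339 : act 1 n845 = n414 := d8_1 D845 (iv D414) (iv F691)
def n846 : Q := act 5 n410
theorem D846 : act 5 n410 = n846 := rfl
def n847 : Q := act 6 n410
theorem D847 : act 6 n410 = n847 := rfl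
theorem F1343 : act 2 n847 = n427 := d14_1 D847 F723 F692
theorem F1344 : act 3 n847 = n413 := d17_1 D847 (iv D413) D410
def n848 : Q := act 3 n411
theorem D848 : act 3 n411 = n848 := rfl
theorem F1345 : act 1 n848 = n417 := d7_1 D848 (iv D417) (iv F698)
def n849 : Q := act 5 n411
theorem D849 : act 5 n411 = n849 := rfl
theorem F1346 : act 4 n849 = n412 := d18_1 D849 (iv D412) D411
def n850 : Q := act 6 n411
theorem D850 : act 6 n411 = n850 := rfl
theorem F1347 : act 4 n850 = n413 := d19_1 D850 (iv D413) D411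
def n851 : Q := act 1 n412
theorem D851 : act 1 n412 = n851 := rfl
theorem F1348 : act 5 n851 = n420 := d9_2 D412 D851 (iv D420) (iv D211) D208
def n852 : Q := act 6 n412
theorem D852 : act 6 n412 = n852 := rfl
theorem F1349 : act 5 n852 = n844 := d22_2 D412 D852 (iv D844) (iv D408)
def n853 : Q := act 1 n413
theorem D853 : act 1 n413 = n853 := rfl
theorem F1350 : act 6 n853 = n421 := d10_2 D413 D853 (iv D421) (iv D212) D208
def n854 : Q := act 5 n413
theorem D854 : act 5 n413 = n854 := rfl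
theorem F1351 : act 0 n854 = n852 := d4_1 D854 F1349 F1337
theorem F1352 : act 2 n854 = n852 := d13_1 D854 F1349 F1338
theorem F1353 : act 6 n854 = n843 := d20_2 D413 D854 (iv D843) D844 (iv F1349) (iv D852) (iv D412)
def n855 : Q := act 3 n414
theorem D855 : act 3 n414 = n855 := rfl
theorem F1354 : act 0 n855 = n422 := d2_1 D855 (iv D422) (iv F699)
theorem F1355 : act 4 n855 = n417 := d15_2 D414 D855 (iv D417) (iv D210) D209
def n856 : Q := act 5 n414
theorem D856 : act 5 n414 = n856 := rfl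
theorem F1358 : act 4 n856 = n415 := d18_1 D856 (iv D415) D414
def n857 : Q := act 6 n414
theorem D857 : act 6 n414 = n857 := rfl
theorem F1359 : act 0 n857 = n424 := d5_1 D857 (iv D424) (iv F699)
theorem F1360 : act 2 n857 = n424 := d14_1 D857 (iv D424) (iv F700)
theorem F1361 : act 4 n857 = n416 := d19_1 D857 (iv D416) D414
def n858 : Q := act 1 n415
theorem D858 : act 1 n415 = n858 := rfl
theorem F1362 : act 3 n858 = n420 := d7_2 (iv F703) D858 (iv D420)
def n859 : Q := act 1 n416
theorem D859 : act 1 n416 = n859 := rfl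
theorem F1363 : act 3 n859 = n421 := d7_2 (iv F706) D859 (iv D421)
def n860 : Q := act 2 n417
theorem D860 : act 2 n417 = n860 := rfl
theorem F1364 : act 0 n860 = n429 := d1_1 D860 (iv D429) (iv F707)
def n861 : Q := act 5 n417
theorem D861 : act 5 n417 = n861 := rfl
theorem F1365 : act 0 n861 = n430 := d4_1 D861 (iv D430) (iv F707)
theorem F1366 : act 3 n861 = n418 := d16_1 D861 (iv D418) D417
def n862 : Q := act 6 n417
theorem D862 : act 6 n417 = n862 := rfl
theorem F1367 : act 0 n862 = n431 := d5_1 D862 (iv D431) (iv F707)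
theorem F1368 : act 3 n862 = n419 := d17_1 D862 (iv D419) D417
def n863 : Q := act 1 n418
theorem D863 : act 1 n418 = n863 := rfl
theorem F1369 : act 4 n863 = n420 := d8_2 (iv F710) D863 (iv D420)
def n864 : Q := act 1 n419
theorem D864 : act 1 n419 = n864 := rfl
theorem F1370 : act 4 n864 = n421 := d8_2 (iv F713) D864 (iv D421)
def n865 : Q := act 0 n420
theorem D865 : act 0 n420 = n865 := rfl
theorem F1371 : act 5 n865 = n606 := d23_4 D132 (iv F410) D420 D865 (iv D606) (iv D298) (iv D156) F203 D93 F212 F140 F141 (iv D55) (iv D30) (iv F58) F59 D24 D45 D74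
theorem F1372 : act 0 n851 = n606 := d4_3 (iv F1371) (iv D865) (iv F1348)
theorem F1373 : act 2 n605 = n851 := d1_0 F1372 (iv D606) D605
theorem F1374 : act 2 n607 = n865 := d13_3 F1371 (iv D606) D607
theorem E5 : n658 = n344 := (c23_6 (iv F1371) (iv F1374) F985 (iv F1048) (iv D659) D658 (iv D344) (iv D178) D181 F360 F237 (iv F286) (iv D132) (iv F257) D208 D408 D843 F1336 D851 F1372)
theorem E6 : n704 = n323 := ((D704).symm.trans (sb E5 F1047))
theorem E7 : n705 = n322 := ((D705).symm.trans (sb E5 (iv D658)))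
theorem F1375 : act 0 n323 = n344 := (sb E6 (iv D704))
theorem E8 : n368 = n367 := ((((iv F625)).symm.trans (sb E7 F1113))).symm
theorem F1376 : act 2 n322 = n344 := (sb E7 (iv D705))
theorem E9 : n751 = n188 := ((((iv D367)).symm.trans (sb E8 (iv F1180)))).symm
theorem E12 : n757 = n753 := (((D753).symm.trans (sb E8 D757))).symm
theorem E13 : n758 = n754 := (((D754).symm.trans (sb E8 D758))).symm
theorem F1377 : act 2 n188 = n367 := (sb E9 (iv D751))
theorem F1379 : act 2 n753 = n370 := (sb E12 F1188)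
theorem F1380 : act 2 n754 = n371 := (sb E13 F1189)
theorem F1381 : act 2 n765 = n763 := d13_3 F1197 F1380 D765
theorem F1387 : act 2 n709 = n660 := d14_3 (iv D660) F1376 D709
theorem F1390 : act 0 n468 = n661 := d0_9 (iv D661) F1375 (iv D344) (iv D178) (iv D99) (iv F167) D126 D237 D468
theorem F1391 : act 2 n668 = n468 := d1_0 F1390 F1050 D668
def n866 : Q := act 2 n420
theorem D866 : act 2 n420 = n866 := rfl
theorem F1392 : act 0 n866 = n607 := d1_1 D866 F1374 (iv D865)
theorem F1393 : act 1 n866 = n497 := d6_1 D866 (iv D497) (iv D250) (iv F410) D420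
theorem F1394 : act 5 n866 = n605 := d13_2 F1348 D866 F1373
def n867 : Q := act 6 n420
theorem D867 : act 6 n420 = n867 := rfl
def n868 : Q := act 0 n421
theorem D868 : act 0 n421 = n868 := rfl
def n869 : Q := act 2 n421
theorem D869 : act 2 n421 = n869 := rfl
theorem F1395 : act 1 n869 = n500 := d6_1 D869 (iv D500) (iv D251) (iv F412) D421
def n870 : Q := act 5 n421
theorem D870 : act 5 n421 = n870 := rfl
def n871 : Q := act 2 n422
theorem D871 : act 2 n422 = n871 := rfl
theorem F1396 : act 4 n871 = n429 := d12_2 (iv F715) D871 (iv D429)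
def n872 : Q := act 5 n422
theorem D872 : act 5 n422 = n872 := rfl
theorem F1397 : act 3 n872 = n423 := d16_1 D872 (iv D423) D422
theorem F1398 : act 4 n872 = n430 := d18_1 D872 (iv D430) (iv F715)
def n873 : Q := act 6 n422
theorem D873 : act 6 n422 = n873 := rfl
theorem F1399 : act 3 n873 = n424 := d17_1 D873 (iv D424) D422
theorem F1400 : act 4 n873 = n431 := d19_1 D873 (iv D431) (iv F715)
def n874 : Q := act 1 n423
theorem D874 : act 1 n423 = n874 := rfl
theorem F1401 : act 4 n874 = n425 := d8_2 (iv F716) D874 (iv D425)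
theorem F1402 : act 5 n874 = n450 := d9_2 D423 D874 (iv D450) (iv D227) (iv F413)
def n875 : Q := act 6 n423
theorem D875 : act 6 n423 = n875 := rfl
theorem F1403 : act 4 n875 = n426 := d19_1 D875 (iv D426) (iv F716)
theorem F1404 : act 5 n875 = n857 := d22_2 D423 D875 (iv D857) F699
def n876 : Q := act 1 n424
theorem D876 : act 1 n424 = n876 := rfl
theorem F1405 : act 4 n876 = n427 := d8_2 (iv F717) D876 (iv D427)
theorem F1406 : act 6 n876 = n443 := d10_2 D424 D876 F747 F432 (iv F413)
def n877 : Q := act 5 n424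
theorem D877 : act 5 n424 = n877 := rfl
theorem F1407 : act 0 n877 = n875 := d4_1 D877 F1404 F1359
theorem F1408 : act 2 n877 = n875 := d13_1 D877 F1404 F1360
theorem F1409 : act 4 n877 = n428 := d18_1 D877 (iv D428) (iv F717)
theorem F1410 : act 6 n877 = n856 := d20_2 D424 D877 (iv D856) D857 (iv F1404) (iv D875) (iv D423)
def n878 : Q := act 0 n425
theorem D878 : act 0 n425 = n878 := rfl
theorem F1411 : act 3 n878 = n436 := d2_2 (iv F718) D878 (iv D436)
theorem F1412 : act 5 n878 = n451 := d4_2 (iv F719) D878 (iv D451)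
def n879 : Q := act 2 n425
theorem D879 : act 2 n425 = n879 := rfl
theorem F1413 : act 5 n879 = n452 := d13_2 (iv F719) D879 (iv D452)
def n880 : Q := act 6 n425
theorem D880 : act 6 n425 = n880 := rfl
theorem F1414 : act 3 n880 = n437 := d17_1 D880 (iv D437) (iv F718)
def n881 : Q := act 1 n426
theorem D881 : act 1 n426 = n881 := rfl
theorem F1415 : act 3 n881 = n438 := d7_2 (iv F720) D881 (iv D438)
def n882 : Q := act 0 n427
theorem D882 : act 0 n427 = n882 := rfl
theorem F1416 : act 3 n882 = n439 := d2_2 (iv F722) D882 (iv D439)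
theorem F1417 : act 6 n882 = n442 := d5_2 (iv F723) D882 (iv D442)
def n883 : Q := act 5 n427
theorem D883 : act 5 n427 = n883 := rfl
def n884 : Q := act 1 n428
theorem D884 : act 1 n428 = n884 := rfl
def n885 : Q := act 1 n429
theorem D885 : act 1 n429 = n885 := rfl
theorem F1420 : act 2 n885 = n454 := d6_2 D429 D885 (iv D454) (iv D229) (iv F416)
def n886 : Q := act 3 n429
theorem D886 : act 3 n429 = n886 := rfl
def n887 : Q := act 5 n429
theorem D887 : act 5 n429 = n887 := rfl
theorem F1421 : act 2 n887 = n430 := d13_1 D887 (iv D430) D429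
def n888 : Q := act 6 n429
theorem D888 : act 6 n429 = n888 := rfl
theorem F1422 : act 2 n888 = n431 := d14_1 D888 (iv D431) D429
def n889 : Q := act 1 n430
theorem D889 : act 1 n430 = n889 := rfl
theorem F1423 : act 3 n889 = n432 := d7_2 (iv F728) D889 (iv D432)
theorem F1424 : act 5 n889 = n457 := d9_2 D430 D889 (iv D457) (iv D230) (iv F416)
def n890 : Q := act 6 n430
theorem D890 : act 6 n430 = n890 := rfl
theorem F1425 : act 3 n890 = n433 := d17_1 D890 (iv D433) (iv F728)
theorem F1426 : act 5 n890 = n862 := d22_2 D430 D890 (iv D862) F707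
def n891 : Q := act 1 n431
theorem D891 : act 1 n431 = n891 := rfl
def n892 : Q := act 5 n431
theorem D892 : act 5 n431 = n892 := rfl
theorem F1429 : act 0 n892 = n890 := d4_1 D892 F1426 F1367
theorem F1430 : act 3 n892 = n435 := d16_1 D892 (iv D435) (iv F729)
theorem F1431 : act 6 n892 = n861 := d20_2 D431 D892 (iv D861) D862 (iv F1426) (iv D890) (iv D430)
def n893 : Q := act 0 n432
theorem D893 : act 0 n432 = n893 := rfl
theorem F1432 : act 4 n893 = n436 := d3_2 (iv F730) D893 (iv D436)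
theorem F1433 : act 5 n893 = n460 := d4_2 (iv F731) D893 (iv D460)
def n894 : Q := act 6 n432
theorem D894 : act 6 n432 = n894 := rfl
theorem F1434 : act 4 n894 = n437 := d19_1 D894 (iv D437) (iv F730)
def n895 : Q := act 1 n433
theorem D895 : act 1 n433 = n895 := rfl
theorem F1435 : act 4 n895 = n438 := d8_2 (iv F733) D895 (iv D438)
def n896 : Q := act 0 n434
theorem D896 : act 0 n434 = n896 := rfl
theorem F1437 : act 4 n896 = n439 := d3_2 (iv F736) D896 (iv D439)
theorem F1438 : act 6 n896 = n462 := d5_2 (iv F737) D896 (iv D462)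
def n897 : Q := act 5 n434
theorem D897 : act 5 n434 = n897 := rfl
def n898 : Q := act 1 n435
theorem D898 : act 1 n435 = n898 := rfl
def n901 : Q := act 0 n438
theorem D901 : act 0 n438 = n901 := rfl
def n902 : Q := act 2 n438
theorem D902 : act 2 n438 = n902 := rfl
theorem F1443 : act 1 n902 = n511 := d6_1 D902 (iv D511) (iv D257) (iv F422) D438
def n903 : Q := act 5 n438
theorem D903 : act 5 n438 = n903 := rfl
theorem F1444 : act 1 n903 = n870 := d9_1 D903 (iv D870) (iv D421) (iv F423) D438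
def n904 : Q := act 1 n439
theorem D904 : act 1 n439 = n904 := rfl
def n906 : Q := act 0 n441
theorem D906 : act 0 n441 = n906 := rfl
def n907 : Q := act 2 n441
theorem D907 : act 2 n441 = n907 := rfl
theorem F1446 : act 1 n907 = n514 := d6_1 D907 (iv D514) (iv D258) (iv F427) D441
def n908 : Q := act 6 n441
theorem D908 : act 6 n441 = n908 := rfl
def n910 : Q := act 4 n442
theorem D910 : act 4 n442 = n910 := rfl
theorem F1449 : act 0 n910 = n443 := d3_1 D910 (iv D443) D442
def n911 : Q := act 5 n442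
theorem D911 : act 5 n442 = n911 := rfl
theorem F1452 : act 6 n911 = n883 := d22_1 D911 (iv D883) F723 D442
def n912 : Q := act 3 n443
theorem D912 : act 3 n443 = n912 := rfl
theorem F1453 : act 1 n912 = n445 := d7_1 D912 (iv D445) (iv F747)
theorem F1454 : act 4 n912 = n458 := d15_2 D443 D912 F768 F445 (iv F429)
def n913 : Q := act 5 n443
theorem D913 : act 5 n443 = n913 := rfl
theorem F1455 : act 4 n913 = n444 := d18_1 D913 (iv D444) D443
def n914 : Q := act 1 n444
theorem D914 : act 1 n444 = n914 := rfl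
theorem F1456 : act 3 n914 = n470 := d7_2 (iv F748) D914 (iv D470)
theorem F1457 : act 5 n914 = n447 := d9_2 D444 D914 (iv D447) (iv D225) D223
def n915 : Q := act 6 n444
theorem D915 : act 6 n444 = n915 := rfl
theorem F1460 : act 5 n915 = n882 := d20_1 D915 F1417 D911 F1452 (iv D883) F723 D444
def n916 : Q := act 2 n445
theorem D916 : act 2 n445 = n916 := rfl
theorem F1461 : act 0 n916 = n737 := d1_1 D916 (iv D737) (iv F749)
theorem F1462 : act 4 n916 = n456 := d12_2 (iv F750) D916 F765
theorem F1463 : act 6 n916 = n448 := d14_2 (iv F751) D916 (iv D448)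
def n917 : Q := act 5 n445
theorem D917 : act 5 n445 = n917 := rfl
theorem F1465 : act 3 n917 = n446 := d16_1 D917 (iv D446) D445
theorem F1466 : act 4 n917 = n459 := d18_1 D917 (iv D459) (iv F750)
def n918 : Q := act 1 n446
theorem D918 : act 1 n446 = n918 := rfl
def n919 : Q := act 0 n447
theorem D919 : act 0 n447 = n919 := rfl
theorem F1469 : act 3 n919 = n472 := d2_2 (iv F756) D919 (iv D472)
def n920 : Q := act 2 n447
theorem D920 : act 2 n447 = n920 := rfl
theorem F1470 : act 1 n920 = n452 := d6_1 D920 (iv D452) (iv D228) (iv F434) D447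
def n921 : Q := act 6 n447
theorem D921 : act 6 n447 = n921 := rfl
theorem F1472 : act 3 n921 = n474 := d17_1 D921 (iv D474) (iv F756)
def n922 : Q := act 1 n448
theorem D922 : act 1 n448 = n922 := rfl
theorem F1473 : act 4 n922 = n454 := d8_2 (iv F757) D922 (iv D454)
def n923 : Q := act 3 n448
theorem D923 : act 3 n448 = n923 := rfl
def n924 : Q := act 5 n448
theorem D924 : act 5 n448 = n924 := rfl
theorem F1474 : act 2 n924 = n449 := d13_1 D924 (iv D449) D448
theorem F1475 : act 4 n924 = n455 := d18_1 D924 (iv D455) (iv F757)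
def n925 : Q := act 1 n449
theorem D925 : act 1 n449 = n925 := rfl
theorem F1476 : act 3 n925 = n450 := d7_2 (iv F758) D925 (iv D450)
theorem F1477 : act 4 n925 = n457 := d8_2 (iv F759) D925 (iv D457)
def n926 : Q := act 0 n450
theorem D926 : act 0 n450 = n926 := rfl
theorem F1478 : act 4 n926 = n451 := d3_2 (iv F760) D926 (iv D451)
def n927 : Q := act 2 n450
theorem D927 : act 2 n450 = n927 := rfl
theorem F1479 : act 4 n927 = n452 := d12_2 (iv F760) D927 (iv D452)
def n928 : Q := act 6 n450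
theorem D928 : act 6 n450 = n928 := rfl
def n929 : Q := act 1 n451
theorem D929 : act 1 n451 = n929 := rfl
theorem F1481 : act 3 n929 = n465 := d7_2 (iv F761) D929 (iv D465)
def n930 : Q := act 2 n451
theorem D930 : act 2 n451 = n930 := rfl
theorem F1482 : act 0 n930 = n452 := d1_1 D930 (iv D452) D451
def n932 : Q := act 3 n452
theorem D932 : act 3 n452 = n932 := rfl
def n935 : Q := act 0 n454
theorem D935 : act 0 n454 = n935 := rfl
def n936 : Q := act 5 n454
theorem D936 : act 5 n454 = n936 := rfl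
def n937 : Q := act 6 n454
theorem D937 : act 6 n454 = n937 := rfl
def n938 : Q := act 1 n455
theorem D938 : act 1 n455 = n938 := rfl
def n939 : Q := act 1 n456
theorem D939 : act 1 n456 = n939 := rfl
theorem F1490 : act 3 n939 = n743 := d7_2 (iv F766) D939 (iv D743)
def n940 : Q := act 5 n456
theorem D940 : act 5 n456 = n940 := rfl
theorem F1491 : act 0 n940 = n744 := d4_1 D940 (iv D744) (iv F764)
theorem F1492 : act 2 n940 = n459 := d13_1 D940 (iv D459) (iv F765)
theorem F1493 : act 3 n940 = n744 := d16_1 D940 (iv D744) (iv F766)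
theorem F1494 : act 6 n940 = n834 := d20_2 D456 D940 (iv D834) F682 D744 F1167 (iv D455)
def n941 : Q := act 0 n457
theorem D941 : act 0 n457 = n941 := rfl
theorem F1495 : act 3 n941 = n460 := d2_2 (iv F767) D941 (iv D460)
def n942 : Q := act 2 n457
theorem D942 : act 2 n457 = n942 := rfl
def n943 : Q := act 6 n457
theorem D943 : act 6 n457 = n943 := rfl
theorem F1496 : act 3 n943 = n461 := d17_1 D943 (iv D461) (iv F767)
def n945 : Q := act 2 n458
theorem D945 : act 2 n458 = n945 := rfl
def n947 : Q := act 1 n459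
theorem D947 : act 1 n459 = n947 := rfl
theorem F1499 : act 3 n947 = n464 := d7_2 (iv F770) D947 (iv D464)
def n948 : Q := act 1 n460
theorem D948 : act 1 n460 = n948 := rfl
theorem F1500 : act 4 n948 = n465 := d8_2 (iv F772) D948 (iv D465)
def n949 : Q := act 6 n460
theorem D949 : act 6 n460 = n949 := rfl
theorem F1501 : act 0 n949 = n461 := d5_1 D949 (iv D461) D460
theorem F1503 : act 5 n949 = n894 := d22_2 F1433 D949 (iv D894) D893
def n950 : Q := act 5 n461
theorem D950 : act 5 n461 = n950 := rfl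
theorem F1505 : act 4 n950 = n467 := d18_1 D950 (iv D467) (iv F773)
theorem F1506 : act 6 n950 = n893 := d20_2 D461 D950 F1433 D949 F1503 (iv D894) F731
def n952 : Q := act 5 n462
theorem D952 : act 5 n462 = n952 := rfl
theorem F1511 : act 6 n952 = n897 := d22_1 D952 (iv D897) F737 D462
def n953 : Q := act 1 n463
theorem D953 : act 1 n463 = n953 := rfl
theorem F1512 : act 4 n953 = n470 := d8_2 (iv F777) D953 (iv D470)
theorem F1513 : act 5 n953 = n464 := d9_2 D463 D953 (iv D464) (iv D234) D233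
def n954 : Q := act 6 n463
theorem D954 : act 6 n463 = n954 := rfl
theorem F1517 : act 5 n954 = n896 := d20_1 D954 F1438 D952 F1511 (iv D897) F737 D463
def n955 : Q := act 0 n464
theorem D955 : act 0 n464 = n955 := rfl
theorem F1518 : act 4 n955 = n472 := d3_2 (iv F778) D955 (iv D472)
def n956 : Q := act 2 n464
theorem D956 : act 2 n464 = n956 := rfl
theorem F1519 : act 1 n956 = n475 := d6_1 D956 (iv D475) (iv D240) (iv F447) D464
theorem F1520 : act 4 n956 = n473 := d12_2 (iv F778) D956 (iv D473)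
def n957 : Q := act 6 n464
theorem D957 : act 6 n464 = n957 := rfl
def n958 : Q := act 0 n465
theorem D958 : act 0 n465 = n958 := rfl
def n959 : Q := act 2 n465
theorem D959 : act 2 n465 = n959 := rfl
def n960 : Q := act 5 n465
theorem D960 : act 5 n465 = n960 := rfl
def n961 : Q := act 6 n465
theorem D961 : act 6 n465 = n961 := rfl
def n963 : Q := act 1 n467
theorem D963 : act 1 n467 = n963 := rfl
def n964 : Q := act 5 n468
theorem D964 : act 5 n468 = n964 := rfl
def n965 : Q := act 6 n468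
theorem D965 : act 6 n468 = n965 := rfl
def n967 : Q := act 0 n470
theorem D967 : act 0 n470 = n967 := rfl
theorem F1523 : act 5 n967 = n472 := d4_2 (iv F786) D967 (iv D472)
def n968 : Q := act 2 n470
theorem D968 : act 2 n470 = n968 := rfl
theorem F1525 : act 5 n968 = n473 := d13_2 (iv F786) D968 (iv D473)
def n969 : Q := act 6 n470
theorem D969 : act 6 n470 = n969 := rfl
def n970 : Q := act 1 n471
theorem D970 : act 1 n471 = n970 := rfl
def n971 : Q := act 1 n472
theorem D971 : act 1 n472 = n971 := rfl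
def n972 : Q := act 2 n472
theorem D972 : act 2 n472 = n972 := rfl
theorem F1526 : act 0 n972 = n473 := d1_1 D972 (iv D473) D472
def n973 : Q := act 6 n472
theorem D973 : act 6 n472 = n973 := rfl
theorem F1527 : act 0 n973 = n474 := d5_1 D973 (iv D474) D472
theorem F1528 : act 5 n973 = n969 := d22_2 F1523 D973 (iv D969) D967
def n974 : Q := act 3 n473
theorem D974 : act 3 n473 = n974 := rfl
theorem F1529 : act 1 n974 = n476 := d7_1 D974 (iv D476) (iv F790)
def n975 : Q := act 6 n473
theorem D975 : act 6 n473 = n975 := rfl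
def n976 : Q := act 5 n474
theorem D976 : act 5 n474 = n976 := rfl
theorem F1532 : act 0 n976 = n969 := d4_1 D976 (iv F1528) F1527
def n977 : Q := act 3 n475
theorem D977 : act 3 n475 = n977 := rfl
def n978 : Q := act 4 n476
theorem D978 : act 4 n476 = n978 := rfl
def n981 : Q := act 6 n477
theorem D981 : act 6 n477 = n981 := rfl
theorem F1546 : act 0 n981 = n486 := d5_1 D981 (iv D486) (iv F800)
theorem F1547 : act 4 n981 = n479 := d19_1 D981 (iv D479) D477
def n982 : Q := act 1 n478
theorem D982 : act 1 n478 = n982 := rfl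
theorem F1548 : act 3 n982 = n526 := d7_2 (iv F803) D982 (iv D526)
theorem F1549 : act 5 n982 = n526 := d9_2 D478 D982 (iv D526) (iv D262) (iv F460)
def n983 : Q := act 1 n479
theorem D983 : act 1 n479 = n983 := rfl
theorem F1551 : act 6 n983 = n527 := d10_2 D479 D983 (iv D527) (iv D263) (iv F460)
def n986 : Q := act 5 n480
theorem D986 : act 5 n480 = n986 := rfl
theorem F1552 : act 3 n986 = n482 := d16_1 D986 (iv D482) D480
def n988 : Q := act 3 n481
theorem D988 : act 3 n481 = n988 := rfl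
def n989 : Q := act 5 n481
theorem D989 : act 5 n481 = n989 := rfl
theorem F1555 : act 4 n989 = n482 := d18_1 D989 (iv D482) D481
def n990 : Q := act 6 n481
theorem D990 : act 6 n481 = n990 := rfl
theorem F1557 : act 4 n990 = n483 := d19_1 D990 (iv D483) D481
def n991 : Q := act 1 n482
theorem D991 : act 1 n482 = n991 := rfl
def n992 : Q := act 6 n482
theorem D992 : act 6 n482 = n992 := rfl
theorem F1559 : act 5 n992 = n797 := d22_2 D482 D992 (iv D797) (iv F695)
def n993 : Q := act 1 n483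
theorem D993 : act 1 n483 = n993 := rfl
def n994 : Q := act 5 n483
theorem D994 : act 5 n483 = n994 := rfl
theorem F1560 : act 0 n994 = n992 := d4_1 D994 F1559 F1259
def n995 : Q := act 2 n484
theorem D995 : act 2 n484 = n995 := rfl
def n996 : Q := act 5 n484
theorem D996 : act 5 n484 = n996 := rfl
theorem F1564 : act 3 n996 = n485 := d16_1 D996 (iv D485) D484
def n997 : Q := act 6 n484
theorem D997 : act 6 n484 = n997 := rfl
theorem F1566 : act 3 n997 = n486 := d17_1 D997 (iv D486) D484
theorem F1567 : act 4 n997 = n541 := d19_1 D997 (iv D541) (iv F810)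
def n998 : Q := act 1 n485
theorem D998 : act 1 n485 = n998 := rfl
theorem F1568 : act 4 n998 = n487 := d8_2 (iv F811) D998 (iv D487)
theorem F1569 : act 5 n998 = n494 := d9_2 D485 D998 (iv D494) (iv D248) (iv F462)
def n1000 : Q := act 1 n486
theorem D1000 : act 1 n486 = n1000 := rfl
theorem F1572 : act 4 n1000 = n489 := d8_2 (iv F812) D1000 (iv D489)
theorem F1573 : act 6 n1000 = n495 := d10_2 D486 D1000 (iv D495) (iv D249) (iv F462)
def n1001 : Q := act 5 n486
theorem D1001 : act 5 n486 = n1001 := rfl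
theorem F1575 : act 4 n1001 = n490 := d18_1 D1001 (iv D490) (iv F812)
def n1002 : Q := act 6 n487
theorem D1002 : act 6 n487 = n1002 := rfl
def n1003 : Q := act 1 n488
theorem D1003 : act 1 n488 = n1003 := rfl
theorem F1578 : act 3 n1003 = n549 := d7_2 (iv F815) D1003 (iv D549)
def n1004 : Q := act 0 n489
theorem D1004 : act 0 n489 = n1004 := rfl
theorem F1580 : act 6 n1004 = n499 := d5_2 (iv F818) D1004 (iv D499)
def n1006 : Q := act 5 n489
theorem D1006 : act 5 n489 = n1006 := rfl
def n1007 : Q := act 1 n490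
theorem D1007 : act 1 n490 = n1007 := rfl
theorem F1583 : act 3 n1007 = n553 := d7_2 (iv F820) D1007 (iv D553)
def n1008 : Q := act 1 n491
theorem D1008 : act 1 n491 = n1008 := rfl
theorem F1584 : act 4 n1008 = n554 := d8_2 (iv F823) D1008 (iv D554)
def n1009 : Q := act 3 n491
theorem D1009 : act 3 n491 = n1009 := rfl
theorem F1585 : act 0 n1009 = n503 := d2_1 D1009 (iv D503) (iv F822)
theorem F1586 : act 2 n1009 = n886 := d21_2 D491 D1009 (iv D886) (iv D429) (iv D216) F260 D134 (iv F465)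
def n1010 : Q := act 5 n491
theorem D1010 : act 5 n491 = n1010 := rfl
theorem F1587 : act 0 n1010 = n504 := d4_1 D1010 (iv D504) (iv F822)
theorem F1588 : act 2 n1010 = n492 := d13_1 D1010 (iv D492) D491
theorem F1589 : act 4 n1010 = n556 := d18_1 D1010 (iv D556) (iv F823)
def n1011 : Q := act 6 n491
theorem D1011 : act 6 n491 = n1011 := rfl
theorem F1590 : act 0 n1011 = n505 := d5_1 D1011 (iv D505) (iv F822)
theorem F1591 : act 2 n1011 = n493 := d14_1 D1011 (iv D493) D491
theorem F1592 : act 4 n1011 = n557 := d19_1 D1011 (iv D557) (iv F823)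
def n1012 : Q := act 1 n492
theorem D1012 : act 1 n492 = n1012 := rfl
theorem F1593 : act 3 n1012 = n494 := d7_2 (iv F825) D1012 (iv D494)
theorem F1594 : act 4 n1012 = n558 := d8_2 (iv F826) D1012 (iv D558)
def n1013 : Q := act 1 n493
theorem D1013 : act 1 n493 = n1013 := rfl
theorem F1595 : act 3 n1013 = n495 := d7_2 (iv F828) D1013 (iv D495)
def n1014 : Q := act 0 n494
theorem D1014 : act 0 n494 = n1014 := rfl
theorem F1597 : act 4 n1014 = n496 := d3_2 (iv F830) D1014 (iv D496)
theorem F1598 : act 2 n998 = n1014 := d12_3 F1597 (iv F835) (iv F1568)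
def n1015 : Q := act 2 n494
theorem D1015 : act 2 n494 = n1015 := rfl
theorem F1599 : act 0 n1015 = n998 := d1_1 D1015 F1598 (iv D1014)
theorem F1600 : act 4 n1015 = n497 := d12_2 (iv F830) D1015 (iv D497)
theorem F1601 : act 5 n1015 = n1014 := d13_2 F1569 D1015 (iv F1598)
def n1016 : Q := act 6 n494
theorem D1016 : act 6 n494 = n1016 := rfl
theorem F1602 : act 4 n1016 = n498 := d19_1 D1016 (iv D498) (iv F830)
def n1017 : Q := act 0 n495
theorem D1017 : act 0 n495 = n1017 := rfl
theorem F1603 : act 4 n1017 = n499 := d3_2 (iv F831) D1017 (iv D499)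
def n1019 : Q := act 5 n495
theorem D1019 : act 5 n495 = n1019 := rfl
def n1020 : Q := act 1 n496
theorem D1020 : act 1 n496 = n1020 := rfl
theorem F1606 : act 2 n1020 = n991 := d6_2 F835 D1020 (iv D991) F807 D487
theorem F1607 : act 3 n1020 = n566 := d7_2 (iv F832) D1020 (iv D566)
def n1021 : Q := act 6 n496
theorem D1021 : act 6 n496 = n1021 := rfl
theorem F1608 : act 0 n1021 = n498 := d5_1 D1021 (iv D498) D496
theorem F1610 : act 3 n1021 = n568 := d17_1 D1021 (iv D568) (iv F832)
theorem F1611 : act 5 n1021 = n1002 := d22_2 (iv F833) D1021 (iv D1002) (iv F834)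
def n1022 : Q := act 6 n497
theorem D1022 : act 6 n497 = n1022 := rfl
theorem F1613 : act 2 n1022 = n498 := d14_1 D1022 (iv D498) D497
theorem F1614 : act 3 n1022 = n571 := d17_1 D1022 F935 F908
theorem F1615 : act 5 n1022 = n498 := d20_1 D1022 (iv D498) (iv F814) D1002 (iv F1611) (iv D1021) F833
theorem F1616 : act 6 n1007 = n605 := d24_12 D1022 F1615 (iv F861) (iv D515) F486 (iv D258) F299 (iv D132) D130 D246 D490 D1007 (iv F1394) F1393
theorem F1617 : act 0 n608 = n1007 := d5_3 F1616 (iv D605) D608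
theorem F1618 : act 6 n771 = n553 := d17_2 F1616 (iv F1213) (iv F1583)
theorem F1619 : act 0 n553 = n773 := d5_1 F1618 (iv D773) D771
def n1023 : Q := act 1 n499
theorem D1023 : act 1 n499 = n1023 := rfl
theorem F1620 : act 0 n1023 = n1023 := d0_1 D1023 (iv D1023) (iv D499) (iv D251) F288 F186 (iv F288) D251 D499
def n1024 : Q := act 2 n499
theorem D1024 : act 2 n499 = n1024 := rfl
theorem F1622 : act 0 n1024 = n500 := d1_1 D1024 (iv D500) D499
def n1025 : Q := act 5 n499
theorem D1025 : act 5 n499 = n1025 := rfl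
theorem F1623 : act 0 n1025 = n501 := d4_1 D1025 (iv D501) D499
theorem F1625 : act 6 n1025 = n1006 := d22_1 D1025 (iv D1006) F818 D499
def n1026 : Q := act 3 n500
theorem D1026 : act 3 n500 = n1026 := rfl
def n1027 : Q := act 5 n500
theorem D1027 : act 5 n500 = n1027 := rfl
theorem F1626 : act 2 n1027 = n501 := d13_1 D1027 (iv D501) D500
def n1028 : Q := act 6 n501
theorem D1028 : act 6 n501 = n1028 := rfl
theorem F1627 : act 0 n1028 = n1006 := d5_1 D1028 (iv F1625) F1623
theorem F1628 : act 3 n1028 = n577 := d17_1 D1028 (iv D577) (iv F838)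
theorem F1629 : act 5 n1028 = n1004 := d20_1 D1028 F1580 D1025 F1625 (iv D1006) F818 D501
def n1029 : Q := act 0 n502
theorem D1029 : act 0 n502 = n1029 := rfl
theorem F1630 : act 2 n1029 = n516 := d1_2 (iv F839) D1029 (iv D516)
theorem F1631 : act 4 n1029 = n578 := d3_2 (iv F840) D1029 (iv D578)
def n1030 : Q := act 3 n502
theorem D1030 : act 3 n502 = n1030 := rfl
theorem F1632 : act 1 n1030 = n503 := d7_1 D1030 (iv D503) D502
def n1031 : Q := act 5 n502
theorem D1031 : act 5 n502 = n1031 := rfl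
theorem F1633 : act 2 n1031 = n517 := d13_1 D1031 (iv D517) (iv F839)
theorem F1634 : act 4 n1031 = n580 := d18_1 D1031 (iv D580) (iv F840)
def n1032 : Q := act 6 n502
theorem D1032 : act 6 n502 = n1032 := rfl
theorem F1635 : act 2 n1032 = n518 := d14_1 D1032 (iv D518) (iv F839)
theorem F1636 : act 4 n1032 = n581 := d19_1 D1032 (iv D581) (iv F840)
def n1033 : Q := act 2 n503
theorem D1033 : act 2 n503 = n1033 := rfl
theorem F1637 : act 0 n1033 = n886 := d1_1 D1033 (iv F1586) F1585
theorem F1638 : act 3 n1033 = n860 := d11_2 D503 D1033 (iv D860) (iv D417) F408 D247 D491 D1009 F1586 (iv D886) (iv D429) (iv D216) F260 D134 D252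
def n1034 : Q := act 4 n503
theorem D1034 : act 4 n503 = n1034 := rfl
theorem F1639 : act 3 n1034 = n582 := d15_1 D1034 (iv D582) (iv D287) (iv F473) D503
def n1035 : Q := act 5 n503
theorem D1035 : act 5 n503 = n1035 := rfl
theorem F1640 : act 3 n1035 = n504 := d16_1 D1035 (iv D504) D503
def n1036 : Q := act 6 n503
theorem D1036 : act 6 n503 = n1036 := rfl
theorem F1641 : act 3 n1036 = n505 := d17_1 D1036 (iv D505) D503
def n1037 : Q := act 1 n504
theorem D1037 : act 1 n504 = n1037 := rfl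
theorem F1642 : act 4 n1037 = n585 := d8_2 (iv F842) D1037 (iv D585)
def n1038 : Q := act 6 n504
theorem D1038 : act 6 n504 = n1038 := rfl
theorem F1643 : act 2 n1038 = n506 := d14_1 D1038 (iv D506) (iv F841)
theorem F1644 : act 4 n1038 = n586 := d19_1 D1038 (iv D586) (iv F842)
theorem F1645 : act 5 n1038 = n1011 := d22_2 D504 D1038 (iv D1011) F822
def n1039 : Q := act 1 n505
theorem D1039 : act 1 n505 = n1039 := rfl
theorem F1646 : act 2 n1039 = n1039 := d6_2 (iv F843) D1039 (iv D1039) F843 F476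
theorem F1647 : act 4 n1039 = n587 := d8_2 (iv F844) D1039 (iv D587)
def n1040 : Q := act 5 n505
theorem D1040 : act 5 n505 = n1040 := rfl
theorem F1648 : act 0 n1040 = n1038 := d4_1 D1040 F1645 F1590
theorem F1649 : act 2 n1040 = n507 := d13_1 D1040 (iv D507) (iv F843)
theorem F1650 : act 4 n1040 = n588 := d18_1 D1040 (iv D588) (iv F844)
theorem F1651 : act 6 n1040 = n1010 := d20_2 D505 D1040 (iv D1010) D1011 (iv F1645) (iv D1038) (iv D504)
def n1041 : Q := act 1 n506
theorem D1041 : act 1 n506 = n1041 := rfl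
theorem F1652 : act 3 n1041 = n508 := d7_2 (iv F845) D1041 (iv D508)
theorem F1653 : act 4 n1041 = n592 := d8_2 (iv F846) D1041 (iv D592)
def n1042 : Q := act 1 n507
theorem D1042 : act 1 n507 = n1042 := rfl
theorem F1654 : act 3 n1042 = n509 := d7_2 (iv F849) D1042 (iv D509)
theorem F1655 : act 4 n1042 = n593 := d8_2 (iv F850) D1042 (iv D593)
theorem F1656 : act 5 n1042 = n1042 := d9_2 D507 D1042 (iv D1042) (iv D507) F476
def n1043 : Q := act 0 n508
theorem D1043 : act 0 n508 = n1043 := rfl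
theorem F1657 : act 4 n1043 = n510 := d3_2 (iv F852) D1043 (iv D510)
def n1044 : Q := act 2 n508
theorem D1044 : act 2 n508 = n1044 := rfl
theorem F1658 : act 4 n1044 = n511 := d12_2 (iv F852) D1044 (iv D511)
def n1045 : Q := act 5 n508
theorem D1045 : act 5 n508 = n1045 := rfl
theorem F1660 : act 4 n1045 = n512 := d18_1 D1045 (iv D512) (iv F852)
def n1046 : Q := act 0 n509
theorem D1046 : act 0 n509 = n1046 := rfl
theorem F1661 : act 4 n1046 = n513 := d3_2 (iv F853) D1046 (iv D513)
theorem F1662 : act 5 n1046 = n1046 := d4_2 F854 D1046 (iv D1046)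
def n1047 : Q := act 2 n509
theorem D1047 : act 2 n509 = n1047 := rfl
theorem F1663 : act 4 n1047 = n514 := d12_2 (iv F853) D1047 (iv D514)
theorem F1664 : act 5 n1047 = n1047 := d13_2 F854 D1047 (iv D1047)
def n1048 : Q := act 6 n509
theorem D1048 : act 6 n509 = n1048 := rfl
theorem F1665 : act 1 n1048 = n1016 := d10_1 D1048 (iv D1016) (iv D494) (iv F483) D509
theorem F1666 : act 4 n1048 = n515 := d19_1 D1048 (iv D515) (iv F853)
def n1049 : Q := act 1 n510
theorem D1049 : act 1 n510 = n1049 := rfl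
theorem F1667 : act 3 n1049 = n618 := d7_2 (iv F855) D1049 (iv D618)
def n1050 : Q := act 2 n510
theorem D1050 : act 2 n510 = n1050 := rfl
theorem F1668 : act 0 n1050 = n511 := d1_1 D1050 (iv D511) D510
def n1051 : Q := act 5 n510
theorem D1051 : act 5 n510 = n1051 := rfl
theorem F1669 : act 0 n1051 = n512 := d4_1 D1051 (iv D512) D510
theorem F1670 : act 3 n1051 = n620 := d16_1 D1051 (iv D620) (iv F855)
theorem F1671 : act 6 n1051 = n787 := d22_1 D1051 (iv D787) F651 D510
theorem F1672 : act 1 n626 = n1051 := d24_14 F1671 (iv D787) (iv D382) (iv D195) (iv D106) (iv D60) F102 (iv D28) D26 D50 D88 D160 D308 (iv F1005)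
theorem F1673 : act 6 n624 = n776 := d10_4 (iv F1671) (iv F1672) (iv D626) D624 (iv F1237)
theorem E14 : n1049 = n571 := (c9_4 (iv F1005) F1672 (iv D1051) D1049 (iv D571) (iv F545))
theorem F1674 : act 1 n571 = n510 := (sb E14 (iv D1049))
theorem E15 : n1022 = n618 := (((iv F1614)).symm.trans (sb E14 F1667))
theorem F1676 : act 2 n618 = n498 := (sb E15 F1613)
theorem F1678 : act 5 n618 = n498 := (sb E15 F1615)
theorem F1679 : act 6 n618 = n497 := (sb E15 (iv D1022))
def n1052 : Q := act 3 n511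
theorem D1052 : act 3 n511 = n1052 := rfl
def n1053 : Q := act 5 n511
theorem D1053 : act 5 n511 = n1053 := rfl
theorem F1680 : act 2 n1053 = n512 := d13_1 D1053 (iv D512) D511
def n1054 : Q := act 6 n512
theorem D1054 : act 6 n512 = n1054 := rfl
theorem F1681 : act 0 n1054 = n787 := d5_1 D1054 (iv F1671) F1669
theorem F1683 : act 5 n1054 = n785 := d20_1 D1054 F1235 D1051 F1671 (iv D787) F651 D512
def n1055 : Q := act 1 n513
theorem D1055 : act 1 n513 = n1055 := rfl
theorem F1684 : act 3 n1055 = n624 := d7_2 (iv F858) D1055 (iv D624)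
theorem F1685 : act 6 n678 = n1055 := d17_0 F1684 F1673 F1216
def n1056 : Q := act 2 n513
theorem D1056 : act 2 n513 = n1056 := rfl
theorem F1686 : act 0 n1056 = n514 := d1_1 D1056 (iv D514) D513
theorem F1687 : act 5 n1056 = n1056 := d13_2 F859 D1056 (iv D1056)
def n1057 : Q := act 6 n513
theorem D1057 : act 6 n513 = n1057 := rfl
theorem F1688 : act 0 n1057 = n515 := d5_1 D1057 (iv D515) D513
theorem F1689 : act 1 n1057 = n620 := d10_1 D1057 F997 (iv F1065) F1685 (iv D1055)
theorem F1691 : act 5 n1057 = n515 := d22_2 F859 D1057 (iv D515) D513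
def n1058 : Q := act 3 n514
theorem D1058 : act 3 n514 = n1058 := rfl
theorem F1692 : act 5 n1058 = n1058 := d16_2 F860 D1058 (iv D1058)
def n1059 : Q := act 6 n514
theorem D1059 : act 6 n514 = n1059 := rfl
theorem F1693 : act 2 n1059 = n515 := d14_1 D1059 (iv D515) D514
theorem F1694 : act 1 n619 = n1059 := d6_5 F1693 F861 (iv F1676) (iv D618) D619
def n1060 : Q := act 1 n516
theorem D1060 : act 1 n516 = n1060 := rfl
theorem F1695 : act 3 n1060 = n629 := d7_2 (iv F863) D1060 (iv D629)
theorem F1696 : act 4 n1060 = n629 := d8_2 (iv F864) D1060 (iv D629)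
def n1061 : Q := act 5 n516
theorem D1061 : act 5 n516 = n1061 := rfl
theorem F1697 : act 0 n1061 = n517 := d4_1 D1061 (iv D517) D516
theorem F1698 : act 3 n1061 = n630 := d16_1 D1061 (iv D630) (iv F863)
theorem F1699 : act 4 n1061 = n630 := d18_1 D1061 (iv D630) (iv F864)
def n1062 : Q := act 6 n516
theorem D1062 : act 6 n516 = n1062 := rfl
theorem F1700 : act 0 n1062 = n518 := d5_1 D1062 (iv D518) D516
theorem F1701 : act 3 n1062 = n631 := d17_1 D1062 (iv D631) (iv F863)
theorem F1702 : act 4 n1062 = n631 := d19_1 D1062 (iv D631) (iv F864)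
def n1063 : Q := act 6 n517
theorem D1063 : act 6 n517 = n1063 := rfl
theorem F1703 : act 3 n1063 = n633 := d17_1 D1063 (iv D633) (iv F865)
theorem F1704 : act 4 n1063 = n633 := d19_1 D1063 (iv D633) (iv F866)
theorem F1705 : act 5 n1063 = n1062 := d22_2 D517 D1063 (iv D1062) (iv D516)
def n1064 : Q := act 5 n518
theorem D1064 : act 5 n518 = n1064 := rfl
theorem F1706 : act 0 n1064 = n1063 := d4_1 D1064 F1705 F1700
theorem F1707 : act 3 n1064 = n634 := d16_1 D1064 (iv D634) (iv F868)
theorem F1708 : act 4 n1064 = n634 := d18_1 D1064 (iv D634) (iv F869)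
theorem F1709 : act 6 n1064 = n1061 := d20_2 D518 D1064 (iv D1061) D1062 (iv F1705) (iv D1063) (iv D517)
def n1073 : Q := act 1 n522
theorem D1073 : act 1 n522 = n1073 := rfl
def n1078 : Q := act 1 n525
theorem D1078 : act 1 n525 = n1078 := rfl
theorem F1730 : act 4 n1078 = n527 := d8_2 (iv F881) D1078 (iv D527)
def n1079 : Q := act 0 n526
theorem D1079 : act 0 n526 = n1079 := rfl
def n1080 : Q := act 2 n526
theorem D1080 : act 2 n526 = n1080 := rfl
def n1081 : Q := act 6 n526
theorem D1081 : act 6 n526 = n1081 := rfl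
theorem F1731 : act 1 n1081 = n771 := d10_1 D1081 F1618 (iv D553) F505 D526
theorem F1732 : act 0 n1020 = n1081 := d0_9 F1731 (iv D771) (iv D375) F370 F237 (iv F286) D250 D496 D1020
theorem F1733 : act 6 n1079 = n1020 := d5_0 F1732 (iv D1081) D1079
def n1082 : Q := act 0 n527
theorem D1082 : act 0 n527 = n1082 := rfl
def n1083 : Q := act 2 n527
theorem D1083 : act 2 n527 = n1083 := rfl
def n1084 : Q := act 5 n527
theorem D1084 : act 5 n527 = n1084 := rfl
def n1108 : Q := act 0 n537
theorem D1108 : act 0 n537 = n1108 := rfl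
theorem F1769 : act 6 n1108 = n1108 := d5_2 F893 D1108 (iv D1108)
def n1109 : Q := act 2 n537
theorem D1109 : act 2 n537 = n1109 := rfl
theorem F1770 : act 1 n1109 = n551 := d6_1 D1109 (iv D551) (iv D273) (iv F497) D537
theorem F1771 : act 6 n1109 = n1109 := d14_2 F893 D1109 (iv D1109)
def n1110 : Q := act 5 n537
theorem D1110 : act 5 n537 = n1110 := rfl
def n1111 : Q := act 1 n538
theorem D1111 : act 1 n538 = n1111 := rfl
def n1116 : Q := act 1 n540
theorem D1116 : act 1 n540 = n1116 := rfl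
theorem F1776 : act 5 n1116 = n558 := d9_2 D540 D1116 (iv D558) (iv D276) (iv F498)
def n1118 : Q := act 1 n541
theorem D1118 : act 1 n541 = n1118 := rfl
theorem F1779 : act 3 n1118 = n544 := d7_2 (iv F898) D1118 (iv D544)
theorem F1780 : act 6 n1118 = n559 := d10_2 D541 D1118 (iv D559) (iv D277) (iv F498)
def n1120 : Q := act 0 n542
theorem D1120 : act 0 n542 = n1120 := rfl
theorem F1785 : act 5 n1120 = n560 := d4_2 (iv F900) D1120 (iv D560)
def n1121 : Q := act 2 n542
theorem D1121 : act 2 n542 = n1121 := rfl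
theorem F1786 : act 4 n1121 = n547 := d12_2 (iv F899) D1121 (iv D547)
theorem F1787 : act 5 n1121 = n561 := d13_2 (iv F900) D1121 (iv D561)
def n1122 : Q := act 6 n542
theorem D1122 : act 6 n542 = n1122 := rfl
def n1124 : Q := act 0 n544
theorem D1124 : act 0 n544 = n1124 := rfl
theorem F1790 : act 4 n1124 = n550 := d3_2 (iv F903) D1124 (iv D550)
theorem F1791 : act 6 n1124 = n563 := d5_2 (iv F904) D1124 (iv D563)
def n1125 : Q := act 2 n544
theorem D1125 : act 2 n544 = n1125 := rfl
theorem F1793 : act 6 n1125 = n564 := d14_2 (iv F904) D1125 (iv D564)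
def n1126 : Q := act 5 n544
theorem D1126 : act 5 n544 = n1126 := rfl
def n1128 : Q := act 1 n546
theorem D1128 : act 1 n546 = n1128 := rfl
theorem F1797 : act 5 n771 = n1128 := d24_1 (iv F1618) (iv D1128) (iv F935) (iv D571) (iv F545) (iv D308) F328 (iv D160) F208 (iv D81) D79 D144 D274 D553
theorem F1798 : act 0 n1128 = n762 := d4_1 F1797 F1195 D771
theorem F1799 : act 5 n566 = n1081 := d9_4 F1797 (iv D1128) F909 D566 F1731
theorem F1800 : act 1 n753 = n1079 := d0_4 D1128 F1798 (iv D762) (iv F1183) (iv D1079) (iv D526) F491 D271 D546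
theorem F1801 : act 1 n1021 = n765 := d10_5 F1202 F1800 F1733 (iv D1020) D1021
theorem F1803 : act 1 n667 = n568 := d7_3 (iv F1610) F1801 F1201
theorem F1804 : act 1 n665 = n1025 := d24_8 D1002 (iv F1611) F1801 F1202 (iv D753) F625 D660 (iv F1053) F1625 (iv D1006) (iv D489) (iv D246) D245 D487
theorem E16 : n764 = n573 := ((c23_18 (iv F1197) (iv F1381) (iv F1801) F1608 (iv F1678) F1676 (iv F861) (iv F1688) F1691 (iv F1693) (iv F1694) F995 D622 F999 F541 (iv F938) (iv D574) D573 (iv D764) (iv F1185))).symm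
theorem F1805 : act 1 n573 = n371 := (sb E16 (iv D764))
theorem F1806 : act 3 n573 = n666 := (sb E16 F1198)
theorem F1807 : act 6 n573 = n376 := (sb E16 F1199)
theorem E17 : n774 = n551 := (c5_2 F1807 D774 F912 (iv F937))
theorem F1808 : act 0 n551 = n376 := (sb E17 (iv D774))
theorem F1809 : act 3 n551 = n676 := (sb E17 F1215)
theorem E18 : n775 = n550 := (c14_2 F1807 D775 F911 D573)
theorem F1810 : act 2 n550 = n376 := (sb E18 (iv D775))
theorem E19 : n624 = n576 := ((c22_1 D576 F1673 (iv D776) (iv F1807) F937)).symm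
theorem F1811 : act 1 n576 = n306 := (sb E19 (iv D624))
theorem F1812 : act 3 n576 = n1055 := (sb E19 (iv F1684))
theorem F1813 : act 6 n576 = n776 := (sb E19 F1673)
theorem F1815 : act 5 n551 = n1003 := d24_4 (iv F1813) (iv D576) F514 (iv F912) (iv D1003) (iv D488) (iv D245) (iv D130) D133 (iv F296) D257 (iv F651) D787 F1237
theorem F1819 : act 5 n549 = n676 := d16_2 F1815 F1578 (iv F1809)
theorem F1821 : act 1 n676 = n1084 := d9_1 F1819 (iv D1084) (iv D527) (iv F502) D549
theorem F1822 : act 0 n1084 = n1109 := d0_1 F1821 F1770 F1808 (iv D376) F372 F239 (iv F336) D329 D676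
theorem F1823 : act 3 n1084 = n1109 := d7_2 F1809 F1821 F1770
theorem F1824 : act 6 n1084 = n1084 := d17_0 F1823 F1771 (iv F1823)
theorem E20 : n1082 = n983 := ((c22_4 D1084 F1824 (iv D1084) (iv F1551) (iv D1082))).symm
theorem F1825 : act 0 n983 = n527 := (sb E20 (iv D1082))
theorem F1826 : act 1 n550 = n1004 := d0_6 D983 F1825 (iv D527) F492 D273 D550 (iv D1004) (iv D489) (iv F804)
theorem F1827 : act 2 n1004 = n717 := d6_2 (iv F1810) F1826 (iv D717) F598 D376
theorem F1828 : act 6 n1023 = n572 := d10_4 (iv F911) F1826 F1580 D1023 (iv D572)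
theorem F1830 : act 6 n717 = n1024 := d14_2 (iv F1580) F1827 (iv D1024)
theorem F1831 : act 1 n1024 = n709 := d10_1 F1830 (iv D709) (iv D344) D348 D717
theorem F1832 : act 2 n1108 = n1084 := d1_0 F1822 (iv D1109) D1108
theorem F1833 : act 5 n1083 = n1108 := d13_0 F1832 (iv D1084) D1083
theorem F1834 : act 0 n1110 = n1083 := d4_3 F1833 (iv D1108) D1110
theorem F1835 : act 6 n1083 = n1110 := d22_3 F1833 F1769 (iv F1833) F1834
theorem F1836 : act 2 n1110 = n983 := d14_1 F1835 F1551 D1083
theorem F1837 : act 5 n1055 = n575 := d16_2 D576 F1812 (iv D575)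
theorem F1838 : act 6 n575 = n676 := d22_3 D678 F1685 F1837 (iv D676)
theorem F1840 : act 1 n625 = n622 := d6_3 (iv F941) F1811 D625 F999 F541
theorem F1841 : act 2 n770 = n1124 := d12_3 F1790 F1810 (iv F1212)
theorem F1842 : act 0 n1125 = n770 := d1_3 F1841 (iv D1124) D1125
def n1129 : Q := act 2 n546
theorem D1129 : act 2 n546 = n1129 := rfl
theorem F1844 : act 5 n1129 = n567 := d13_2 (iv F909) D1129 (iv D567)
def n1130 : Q := act 3 n547
theorem D1130 : act 3 n547 = n1130 := rfl
theorem F1845 : act 5 n1130 = n569 := d16_2 (iv F910) D1130 (iv D569)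
theorem F1846 : act 2 n1130 = n569 := d21_2 D547 D1130 (iv D569) (iv D281) (iv F471) D497 (iv F908) (iv D546)
def n1133 : Q := act 2 n549
theorem D1133 : act 2 n549 = n1133 := rfl
def n1134 : Q := act 1 n552
theorem D1134 : act 1 n552 = n1134 := rfl
theorem F1851 : act 5 n1134 = n553 := d9_2 D552 D1134 (iv D553) (iv D274) D273
def n1136 : Q := act 0 n554
theorem D1136 : act 0 n554 = n1136 := rfl
def n1137 : Q := act 3 n554
theorem D1137 : act 3 n554 = n1137 := rfl
theorem F1853 : act 1 n1137 = n555 := d7_1 D1137 (iv D555) D554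
def n1138 : Q := act 5 n554
theorem D1138 : act 5 n554 = n1138 := rfl
def n1139 : Q := act 6 n554
theorem D1139 : act 6 n554 = n1139 := rfl
def n1140 : Q := act 4 n555
theorem D1140 : act 4 n555 = n1140 := rfl
theorem F1854 : act 0 n1140 = n582 := d3_1 D1140 (iv D582) (iv F913)
theorem F1855 : act 2 n1140 = n582 := d12_1 D1140 (iv D582) (iv F914)
def n1141 : Q := act 5 n555
theorem D1141 : act 5 n555 = n1141 := rfl
theorem F1856 : act 0 n1141 = n583 := d4_1 D1141 (iv D583) (iv F913)
theorem F1857 : act 2 n1141 = n583 := d13_1 D1141 (iv D583) (iv F914)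
theorem F1858 : act 3 n1141 = n556 := d16_1 D1141 (iv D556) D555
def n1142 : Q := act 6 n555
theorem D1142 : act 6 n555 = n1142 := rfl
theorem F1859 : act 0 n1142 = n584 := d5_1 D1142 (iv D584) (iv F913)
theorem F1860 : act 2 n1142 = n584 := d14_1 D1142 (iv D584) (iv F914)
theorem F1861 : act 3 n1142 = n557 := d17_1 D1142 (iv D557) D555
def n1143 : Q := act 1 n556
theorem D1143 : act 1 n556 = n1143 := rfl
def n1144 : Q := act 1 n557
theorem D1144 : act 1 n557 = n1144 := rfl
def n1145 : Q := act 0 n558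
theorem D1145 : act 0 n558 = n1145 := rfl
theorem F1862 : act 3 n1145 = n560 := d2_2 (iv F919) D1145 (iv D560)
def n1146 : Q := act 2 n558
theorem D1146 : act 2 n558 = n1146 := rfl
def n1147 : Q := act 6 n558
theorem D1147 : act 6 n558 = n1147 := rfl
theorem F1863 : act 3 n1147 = n562 := d17_1 D1147 (iv D562) (iv F919)
def n1151 : Q := act 1 n560
theorem D1151 : act 1 n560 = n1151 := rfl
theorem F1866 : act 4 n1151 = n566 := d8_2 (iv F921) D1151 (iv D566)
def n1152 : Q := act 2 n560
theorem D1152 : act 2 n560 = n1152 := rfl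
theorem F1867 : act 0 n1152 = n561 := d1_1 D1152 (iv D561) D560
theorem F1868 : act 4 n1152 = n567 := d12_2 (iv F921) D1152 (iv D567)
def n1153 : Q := act 6 n560
theorem D1153 : act 6 n560 = n1153 := rfl
theorem F1869 : act 0 n1153 = n562 := d5_1 D1153 (iv D562) D560
theorem F1870 : act 4 n1153 = n568 := d19_1 D1153 (iv D568) (iv F921)
theorem F1871 : act 5 n1153 = n1122 := d22_2 F1785 D1153 (iv D1122) D1120
def n1154 : Q := act 3 n561
theorem D1154 : act 3 n561 = n1154 := rfl
def n1155 : Q := act 6 n561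
theorem D1155 : act 6 n561 = n1155 := rfl
theorem F1873 : act 2 n1155 = n562 := d14_1 D1155 (iv D562) D561
theorem F1874 : act 4 n1155 = n570 := d19_1 D1155 (iv D570) (iv F923)
def n1156 : Q := act 5 n562
theorem D1156 : act 5 n562 = n1156 := rfl
theorem F1876 : act 4 n1156 = n571 := d18_1 D1156 (iv D571) (iv F924)
theorem F1877 : act 6 n1156 = n1120 := d20_2 D562 D1156 F1785 D1153 F1871 (iv D1122) F900
theorem F1878 : act 1 n1043 = n1156 := d8_3 F1876 F1674 (iv F1657)
def n1159 : Q := act 5 n563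
theorem D1159 : act 5 n563 = n1159 := rfl
theorem F1887 : act 6 n1159 = n1126 := d22_1 D1159 (iv D1126) F904 D563
def n1161 : Q := act 5 n564
theorem D1161 : act 5 n564 = n1161 := rfl
theorem F1889 : act 2 n1161 = n565 := d13_1 D1161 (iv D565) D564
theorem F1890 : act 4 n1161 = n576 := d18_1 D1161 (iv D576) (iv F927)
theorem F1891 : act 1 n602 = n1161 := d8_3 F1890 F1811 (iv F978)
def n1162 : Q := act 6 n565
theorem D1162 : act 6 n565 = n1162 := rfl
theorem F1893 : act 4 n1162 = n577 := d19_1 D1162 (iv D577) (iv F928)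
theorem F1894 : act 5 n1162 = n1124 := d20_1 D1162 F1791 D1159 F1887 (iv D1126) F904 D565
def n1163 : Q := act 0 n566
theorem D1163 : act 0 n566 = n1163 := rfl
theorem F1895 : act 1 n1163 = n605 := d0_2 D566 D1163 (iv D605) (iv D298) (iv D156) (iv D86) (iv F193) D148 D280
theorem F1897 : act 5 n1163 = n1020 := d4_2 (iv F1799) D1163 F1732
theorem F1899 : act 6 n982 = n1163 := d22_3 F1799 (iv D1081) (iv F1549) (iv D1163)
def n1164 : Q := act 2 n566
theorem D1164 : act 2 n566 = n1164 := rfl
def n1165 : Q := act 6 n566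
theorem D1165 : act 6 n566 = n1165 := rfl
theorem F1906 : act 1 n1165 = n659 := d10_1 D1165 (iv F1056) F1803 (iv D568) D566
theorem F1907 : act 3 n1165 = n1079 := d17_1 D1165 F1733 F1607
def n1166 : Q := act 1 n567
theorem D1166 : act 1 n567 = n1166 := rfl
def n1167 : Q := act 3 n567
theorem D1167 : act 3 n567 = n1167 := rfl
theorem F1909 : act 0 n1167 = n569 := d2_1 D1167 (iv D569) (iv F929)
def n1168 : Q := act 6 n567
theorem D1168 : act 6 n567 = n1168 := rfl
theorem F1911 : act 2 n1168 = n568 := d14_1 D1168 (iv D568) D567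
def n1169 : Q := act 4 n569
theorem D1169 : act 4 n569 = n1169 := rfl
def n1170 : Q := act 6 n569
theorem D1170 : act 6 n569 = n1170 := rfl
theorem F1914 : act 3 n1170 = n570 := d17_1 D1170 (iv D570) D569
def n1171 : Q := act 1 n570
theorem D1171 : act 1 n570 = n1171 := rfl
theorem F1915 : act 6 n1171 = n1171 := d10_2 D570 D1171 (iv D1171) (iv D570) F513
def n1172 : Q := act 5 n570
theorem D1172 : act 5 n570 = n1172 := rfl
def n1173 : Q := act 2 n572
theorem D1173 : act 2 n572 = n1173 := rfl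
theorem F1920 : act 1 n1173 = n754 := d6_1 D1173 F1380 (iv F1805) (iv D573) D572
def n1175 : Q := act 2 n575
theorem D1175 : act 2 n575 = n1175 := rfl
def n1176 : Q := act 4 n575
theorem D1176 : act 4 n575 = n1176 := rfl
def n1177 : Q := act 1 n577
theorem D1177 : act 1 n577 = n1177 := rfl
def n1178 : Q := act 1 n578
theorem D1178 : act 1 n578 = n1178 := rfl
def n1179 : Q := act 3 n578
theorem D1179 : act 3 n578 = n1179 := rfl
theorem F1928 : act 0 n1179 = n579 := d2_1 D1179 (iv D579) D578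
def n1180 : Q := act 5 n578
theorem D1180 : act 5 n578 = n1180 := rfl
theorem F1929 : act 0 n1180 = n580 := d4_1 D1180 (iv D580) D578
theorem F1930 : act 2 n1180 = n630 := d13_1 D1180 (iv D630) (iv F944)
def n1181 : Q := act 6 n578
theorem D1181 : act 6 n578 = n1181 := rfl
theorem F1931 : act 0 n1181 = n581 := d5_1 D1181 (iv D581) D578
theorem F1932 : act 2 n1181 = n631 := d14_1 D1181 (iv D631) (iv F944)
def n1182 : Q := act 2 n579
theorem D1182 : act 2 n579 = n1182 := rfl
def n1183 : Q := act 4 n579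
theorem D1183 : act 4 n579 = n1183 := rfl
theorem F1933 : act 1 n1183 = n582 := d8_1 D1183 (iv D582) (iv F945)
def n1184 : Q := act 5 n579
theorem D1184 : act 5 n579 = n1184 := rfl
theorem F1934 : act 3 n1184 = n580 := d16_1 D1184 (iv D580) D579
def n1185 : Q := act 6 n579
theorem D1185 : act 6 n579 = n1185 := rfl
theorem F1935 : act 3 n1185 = n581 := d17_1 D1185 (iv D581) D579
def n1186 : Q := act 1 n580
theorem D1186 : act 1 n580 = n1186 := rfl
theorem F1936 : act 5 n1186 = n585 := d9_2 D580 D1186 (iv D585) (iv D288) D286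
def n1187 : Q := act 6 n580
theorem D1187 : act 6 n580 = n1187 := rfl
theorem F1937 : act 2 n1187 = n633 := d14_1 D1187 (iv D633) (iv F946)
theorem F1938 : act 5 n1187 = n1181 := d22_2 D580 D1187 (iv D1181) (iv D578)
def n1188 : Q := act 1 n581
theorem D1188 : act 1 n581 = n1188 := rfl
theorem F1939 : act 2 n1188 = n1188 := d6_2 (iv F947) D1188 (iv D1188) F947 F546
theorem F1940 : act 6 n1188 = n587 := d10_2 D581 D1188 (iv D587) (iv D289) D286
def n1189 : Q := act 5 n581
theorem D1189 : act 5 n581 = n1189 := rfl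
theorem F1941 : act 0 n1189 = n1187 := d4_1 D1189 F1938 F1931
theorem F1942 : act 2 n1189 = n634 := d13_1 D1189 (iv D634) (iv F947)
theorem F1943 : act 6 n1189 = n1180 := d20_2 D581 D1189 (iv D1180) D1181 (iv F1938) (iv D1187) (iv D580)
def n1190 : Q := act 5 n582
theorem D1190 : act 5 n582 = n1190 := rfl
theorem F1944 : act 4 n1190 = n583 := d18_1 D1190 (iv D583) D582
def n1191 : Q := act 6 n582
theorem D1191 : act 6 n582 = n1191 := rfl
theorem F1945 : act 4 n1191 = n584 := d19_1 D1191 (iv D584) D582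
def n1192 : Q := act 1 n583
theorem D1192 : act 1 n583 = n1192 := rfl
theorem F1946 : act 3 n1192 = n585 := d7_2 (iv F948) D1192 (iv D585)
def n1193 : Q := act 6 n583
theorem D1193 : act 6 n583 = n1193 := rfl
theorem F1947 : act 3 n1193 = n586 := d17_1 D1193 (iv D586) (iv F948)
theorem F1948 : act 5 n1193 = n1142 := d22_2 D583 D1193 (iv D1142) F913
def n1194 : Q := act 1 n584
theorem D1194 : act 1 n584 = n1194 := rfl
theorem F1949 : act 3 n1194 = n587 := d7_2 (iv F949) D1194 (iv D587)
def n1195 : Q := act 5 n584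
theorem D1195 : act 5 n584 = n1195 := rfl
theorem F1950 : act 0 n1195 = n1193 := d4_1 D1195 F1948 F1859
theorem F1951 : act 2 n1195 = n1193 := d13_1 D1195 F1948 F1860
theorem F1952 : act 3 n1195 = n588 := d16_1 D1195 (iv D588) (iv F949)
theorem F1953 : act 6 n1195 = n1141 := d20_2 D584 D1195 (iv D1141) D1142 (iv F1948) (iv D1193) (iv D583)
def n1196 : Q := act 0 n585
theorem D1196 : act 0 n585 = n1196 := rfl
def n1197 : Q := act 2 n585
theorem D1197 : act 2 n585 = n1197 := rfl
theorem F1954 : act 1 n1197 = n590 := d6_1 D1197 (iv D590) (iv D290) (iv F516) D585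
def n1198 : Q := act 6 n585
theorem D1198 : act 6 n585 = n1198 := rfl
def n1199 : Q := act 1 n586
theorem D1199 : act 1 n586 = n1199 := rfl
def n1200 : Q := act 0 n587
theorem D1200 : act 0 n587 = n1200 := rfl
def n1201 : Q := act 5 n587
theorem D1201 : act 5 n587 = n1201 := rfl
def n1202 : Q := act 1 n588
theorem D1202 : act 1 n588 = n1202 := rfl
def n1204 : Q := act 2 n589
theorem D1204 : act 2 n589 = n1204 := rfl
theorem F1958 : act 0 n1204 = n590 := d1_1 D1204 (iv D590) D589
theorem F1959 : act 5 n1204 = n639 := d13_2 (iv F957) D1204 (iv D639)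
def n1205 : Q := act 3 n590
theorem D1205 : act 3 n590 = n1205 := rfl
def n1206 : Q := act 6 n590
theorem D1206 : act 6 n590 = n1206 := rfl
def n1207 : Q := act 1 n591
theorem D1207 : act 1 n591 = n1207 := rfl
theorem F1962 : act 3 n1207 = n598 := d7_2 (iv F959) D1207 (iv D598)
theorem F1963 : act 6 n1207 = n592 := d10_2 D591 D1207 (iv D592) (iv D291) D290
def n1208 : Q := act 0 n592
theorem D1208 : act 0 n592 = n1208 := rfl
theorem F1964 : act 3 n1208 = n599 := d2_2 (iv F960) D1208 (iv D599)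
def n1209 : Q := act 2 n592
theorem D1209 : act 2 n592 = n1209 := rfl
def n1210 : Q := act 5 n592
theorem D1210 : act 5 n592 = n1210 := rfl
theorem F1966 : act 3 n1210 = n601 := d16_1 D1210 (iv D601) (iv F960)
def n1212 : Q := act 2 n593
theorem D1212 : act 2 n593 = n1212 := rfl
theorem F1969 : act 5 n1212 = n1212 := d13_2 F962 D1212 (iv D1212)
def n1213 : Q := act 6 n593
theorem D1213 : act 6 n593 = n1213 := rfl
theorem F1970 : act 1 n1213 = n1147 := d10_1 D1213 (iv D1147) (iv D558) (iv F524) D593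
theorem F1971 : act 3 n1213 = n604 := d17_1 D1213 (iv D604) (iv F961)
def n1214 : Q := act 0 n594
theorem D1214 : act 0 n594 = n1214 := rfl
theorem F1972 : act 4 n1214 = n605 := d3_2 (iv F963) D1214 (iv D605)
def n1215 : Q := act 2 n594
theorem D1215 : act 2 n594 = n1215 := rfl
theorem F1973 : act 4 n1215 = n606 := d12_2 (iv F963) D1215 (iv D606)
def n1216 : Q := act 5 n594
theorem D1216 : act 5 n594 = n1216 := rfl
theorem F1974 : act 1 n1216 = n646 := d9_1 D1216 (iv D646) (iv D316) (iv F526) D594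
def n1225 : Q := act 2 n598
theorem D1225 : act 2 n598 = n1225 := rfl
theorem F1990 : act 6 n1225 = n600 := d14_2 (iv F972) D1225 (iv D600)
def n1226 : Q := act 5 n598
theorem D1226 : act 5 n598 = n1226 := rfl
def n1227 : Q := act 1 n599
theorem D1227 : act 1 n599 = n1227 := rfl
theorem F1992 : act 4 n1227 = n618 := d8_2 (iv F973) D1227 (iv D618)
theorem F1994 : act 5 n1016 = n1227 := d18_0 F1992 F1678 (iv F1602)
theorem F1995 : act 6 n1015 = n1227 := d19_0 F1992 F1679 (iv F1600)
def n1228 : Q := act 2 n599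
theorem D1228 : act 2 n599 = n1228 := rfl
theorem F1996 : act 0 n1228 = n600 := d1_1 D1228 (iv D600) D599
theorem F1997 : act 4 n1228 = n619 := d12_2 (iv F973) D1228 (iv D619)
def n1229 : Q := act 5 n599
theorem D1229 : act 5 n599 = n1229 := rfl
theorem F1998 : act 0 n1229 = n601 := d4_1 D1229 (iv D601) D599
theorem F2000 : act 6 n1229 = n1226 := d22_1 D1229 (iv D1226) F972 D599
def n1230 : Q := act 3 n600
theorem D1230 : act 3 n600 = n1230 := rfl
def n1231 : Q := act 5 n600
theorem D1231 : act 5 n600 = n1231 := rfl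
theorem F2002 : act 2 n1231 = n601 := d13_1 D1231 (iv D601) D600
theorem F2003 : act 4 n1231 = n622 := d18_1 D1231 (iv D622) (iv F975)
def n1232 : Q := act 6 n601
theorem D1232 : act 6 n601 = n1232 := rfl
theorem F2004 : act 0 n1232 = n1226 := d5_1 D1232 (iv F2000) F1998
def n1233 : Q := act 2 n602
theorem D1233 : act 2 n602 = n1233 := rfl
theorem F2008 : act 1 n1233 = n1231 := d6_1 D1233 F2002 F976 (iv F1889) (iv F1891)
def n1235 : Q := act 3 n603
theorem D1235 : act 3 n603 = n1235 := rfl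
def n1236 : Q := act 6 n603
theorem D1236 : act 6 n603 = n1236 := rfl
theorem F2016 : act 2 n1236 = n604 := d14_1 D1236 (iv D604) D603
theorem F2017 : act 4 n1236 = n628 := d19_1 D1236 (iv D628) (iv F981)
def n1239 : Q := act 6 n606
theorem D1239 : act 6 n606 = n1239 := rfl
theorem F2019 : act 2 n1239 = n608 := d14_1 D1239 (iv D608) D606
theorem F2020 : act 5 n1239 = n867 := d22_2 F1371 D1239 (iv D867) D865
def n1240 : Q := act 6 n607
theorem D1240 : act 6 n607 = n1240 := rfl
theorem F2021 : act 1 n1240 = n1006 := d10_1 D1240 (iv F1625) (iv F1804) (iv D665) (iv F985)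
theorem F2023 : act 5 n1240 = n1007 := d22_2 D607 D1240 F1616 (iv D605)
def n1241 : Q := act 5 n608
theorem D1241 : act 5 n608 = n1241 := rfl
theorem F2024 : act 0 n1241 = n1240 := d4_1 D1241 F2023 (iv F1617)
theorem F2025 : act 2 n1241 = n867 := d13_1 D1241 (iv F2020) F2019
theorem F2026 : act 6 n1241 = n866 := d20_2 D608 D1241 F1394 (iv F1616) (iv F2023) (iv D1240) (iv D607)
theorem F2027 : act 1 n1241 = n615 := d24_2 D608 D1241 F993 D620 (iv F1689) (iv D1057) F859 D1055 (iv F1685) (iv D678) (iv D329) (iv D169) (iv F325) D298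
theorem F2028 : act 1 n688 = n1028 := d0_6 F2027 (iv D615) (iv D302) (iv F340) D335 D688 F1627 (iv F2021) (iv F2024)
theorem E22 : n1177 = n788 := (c7_4 F1239 F2028 F1628 D1177)
theorem F2029 : act 1 n788 = n577 := (sb E22 (iv D1177))
def n1257 : Q := act 2 n615
theorem D1257 : act 2 n615 = n1257 := rfl
theorem F2052 : act 6 n1257 = n619 := d14_2 (iv F993) D1257 (iv D619)
def n1258 : Q := act 3 n616
theorem D1258 : act 3 n616 = n1258 := rfl
theorem F2053 : act 6 n1258 = n621 := d17_2 (iv F994) D1258 (iv D621)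
def n1259 : Q := act 5 n616
theorem D1259 : act 5 n616 = n1259 := rfl
theorem F2054 : act 2 n1259 = n617 := d13_1 D1259 (iv D617) D616
def n1260 : Q := act 3 n619
theorem D1260 : act 3 n619 = n1260 := rfl
theorem F2055 : act 0 n1260 = n621 := d2_1 D1260 (iv D621) (iv F995)
def n1261 : Q := act 5 n619
theorem D1261 : act 5 n619 = n1261 := rfl
theorem F2056 : act 0 n1261 = n622 := d4_1 D1261 (iv D622) (iv F995)
theorem F2057 : act 2 n1261 = n620 := d13_1 D1261 (iv D620) D619
theorem F2058 : act 6 n1261 = n1259 := d22_1 D1261 (iv D1259) F994 (iv F995)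
def n1262 : Q := act 2 n621
theorem D1262 : act 2 n621 = n1262 := rfl
def n1263 : Q := act 4 n621
theorem D1263 : act 4 n621 = n1263 := rfl
def n1264 : Q := act 5 n621
theorem D1264 : act 5 n621 = n1264 := rfl
theorem F2060 : act 3 n1264 = n622 := d16_1 D1264 (iv D622) D621
def n1265 : Q := act 6 n622
theorem D1265 : act 6 n622 = n1265 := rfl
theorem F2061 : act 0 n1265 = n1259 := d5_1 D1265 (iv F2058) F2056
theorem F2063 : act 5 n1265 = n1257 := d20_1 D1265 F2052 D1261 F2058 (iv D1259) F994 D622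
def n1266 : Q := act 1 n623
theorem D1266 : act 1 n623 = n1266 := rfl
theorem F2065 : act 5 n1266 = n690 := d9_2 (iv F1001) D1266 F1081 D1241 F2027
theorem F2066 : act 6 n1266 = n788 := d10_2 D623 D1266 F2029 (iv D577) (iv F541)
def n1267 : Q := act 3 n625
theorem D1267 : act 3 n625 = n1267 := rfl
theorem F2068 : act 1 n1267 = n1264 := d7_1 D1267 F2060 (iv F1840)
def n1269 : Q := act 2 n627
theorem D1269 : act 2 n627 = n1269 := rfl
theorem F2073 : act 5 n1269 = n1269 := d13_2 F1007 D1269 (iv D1269)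
def n1270 : Q := act 4 n627
theorem D1270 : act 4 n627 = n1270 := rfl
def n1271 : Q := act 6 n627
theorem D1271 : act 6 n627 = n1271 := rfl
theorem F2076 : act 3 n1271 = n628 := d17_1 D1271 (iv D628) D627
def n1272 : Q := act 1 n628
theorem D1272 : act 1 n628 = n1272 := rfl
theorem F2077 : act 2 n1272 = n1171 := d6_2 (iv F1008) D1272 (iv D1171) F933 (iv F545)
theorem F2078 : act 6 n1272 = n1272 := d10_2 D628 D1272 (iv D1272) (iv D628) F543
def n1273 : Q := act 0 n629
theorem D1273 : act 0 n629 = n1273 := rfl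
def n1274 : Q := act 2 n629
theorem D1274 : act 2 n629 = n1274 := rfl
def n1275 : Q := act 5 n629
theorem D1275 : act 5 n629 = n1275 := rfl
def n1276 : Q := act 6 n629
theorem D1276 : act 6 n629 = n1276 := rfl
def n1277 : Q := act 1 n630
theorem D1277 : act 1 n630 = n1277 := rfl
def n1278 : Q := act 1 n631
theorem D1278 : act 1 n631 = n1278 := rfl
def n1279 : Q := act 0 n632
theorem D1279 : act 0 n632 = n1279 := rfl
theorem F2079 : act 5 n1279 = n635 := d4_2 (iv F1011) D1279 (iv D635)
def n1280 : Q := act 2 n632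
theorem D1280 : act 2 n632 = n1280 := rfl
theorem F2080 : act 5 n1280 = n636 := d13_2 (iv F1011) D1280 (iv D636)
def n1281 : Q := act 6 n632
theorem D1281 : act 6 n632 = n1281 := rfl
def n1282 : Q := act 1 n633
theorem D1282 : act 1 n633 = n1282 := rfl
def n1283 : Q := act 1 n634
theorem D1283 : act 1 n634 = n1283 := rfl
theorem F2081 : act 5 n1283 = n1283 := d9_2 D634 D1283 (iv D1283) (iv D634) F546
def n1284 : Q := act 1 n635
theorem D1284 : act 1 n635 = n1284 := rfl
def n1285 : Q := act 2 n635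
theorem D1285 : act 2 n635 = n1285 := rfl
theorem F2082 : act 0 n1285 = n636 := d1_1 D1285 (iv D636) D635
def n1286 : Q := act 6 n635
theorem D1286 : act 6 n635 = n1286 := rfl
theorem F2083 : act 0 n1286 = n637 := d5_1 D1286 (iv D637) D635
theorem F2084 : act 5 n1286 = n1281 := d22_2 F2079 D1286 (iv D1281) D1279
def n1287 : Q := act 3 n636
theorem D1287 : act 3 n636 = n1287 := rfl
def n1288 : Q := act 6 n636
theorem D1288 : act 6 n636 = n1288 := rfl
theorem F2086 : act 2 n1288 = n637 := d14_1 D1288 (iv D637) D636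
def n1289 : Q := act 5 n637
theorem D1289 : act 5 n637 = n1289 := rfl
theorem F2087 : act 0 n1289 = n1281 := d4_1 D1289 (iv F2084) F2083
theorem F2088 : act 6 n1289 = n1279 := d20_2 D637 D1289 F2079 D1286 F2084 (iv D1281) F1011
def n1296 : Q := act 6 n639
theorem D1296 : act 6 n639 = n1296 := rfl
theorem F2094 : act 2 n1296 = n640 := d14_1 D1296 (iv D640) D639
theorem F2095 : act 5 n1296 = n1206 := d22_2 F1959 D1296 (iv D1206) (iv F1958)
def n1311 : Q := act 1 n647
theorem D1311 : act 1 n647 = n1311 := rfl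
theorem F2115 : act 4 n1311 = n666 := d8_2 (iv F1028) D1311 (iv D666)
theorem F2116 : act 6 n1311 = n651 := d10_2 D647 D1311 (iv D651) (iv D318) D316
def n1312 : Q := act 5 n647
theorem D1312 : act 5 n647 = n1312 := rfl
theorem F2119 : act 4 n1312 = n667 := d18_1 D1312 (iv D667) (iv F1028)
theorem F2121 : act 1 n1153 = n1312 := d8_3 F2119 F1803 (iv F1870)
def n1323 : Q := act 5 n651
theorem D1323 : act 5 n651 = n1323 := rfl
theorem F2141 : act 1 n1323 = n1226 := d9_1 D1323 (iv D1226) (iv D598) (iv F554) D651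
theorem F2142 : act 4 n1323 = n678 := d18_1 D1323 (iv D678) (iv F1035)
def n1334 : Q := act 0 n657
theorem D1334 : act 0 n657 = n1334 := rfl
def n1337 : Q := act 1 n660
theorem D1337 : act 1 n660 = n1337 := rfl
theorem F2166 : act 2 n1337 = n1023 := d6_2 F1387 D1337 (iv D1023) D1024 F1831
theorem F2167 : act 3 n1337 = n1173 := d7_2 F1186 D1337 F1920
theorem F2168 : act 5 n1337 = n1023 := d9_2 F1053 D1337 (iv D1023) D1025 (iv F1804)
theorem F2169 : act 6 n1337 = n1173 := d10_2 D660 D1337 F1920 (iv D754) F625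
def n1339 : Q := act 5 n661
theorem D1339 : act 5 n661 = n1339 := rfl
def n1340 : Q := act 6 n661
theorem D1340 : act 6 n661 = n1340 := rfl
theorem F2174 : act 0 n1340 = n965 := d5_1 D1340 (iv D965) F1390
theorem F2175 : act 2 n1340 = n671 := d14_1 D1340 (iv D671) (iv F1050)
def n1345 : Q := act 6 n663
theorem D1345 : act 6 n663 = n1345 := rfl
theorem F2181 : act 2 n1345 = n665 := d14_1 D1345 (iv D665) (iv F1051)
theorem F2182 : act 5 n1345 = n709 := d22_2 D663 D1345 (iv D709) (iv F1375)
def n1348 : Q := act 2 n666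
theorem D1348 : act 2 n666 = n1348 := rfl
theorem F2187 : act 6 n1348 = n677 := d14_2 (iv F1054) D1348 (iv D677)
def n1350 : Q := act 5 n668
theorem D1350 : act 5 n668 = n1350 := rfl
theorem F2191 : act 2 n1350 = n964 := d13_1 D1350 (iv D964) (iv F1391)
def n1351 : Q := act 6 n668
theorem D1351 : act 6 n668 = n1351 := rfl
theorem F2192 : act 0 n1351 = n671 := d5_1 D1351 (iv D671) D668
theorem F2193 : act 2 n1351 = n965 := d14_1 D1351 (iv D965) (iv F1391)
def n1356 : Q := act 6 n670
theorem D1356 : act 6 n670 = n1356 := rfl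
theorem F2197 : act 5 n1356 = n1351 := d22_2 D670 D1356 (iv D1351) (iv D668)
def n1357 : Q := act 1 n671
theorem D1357 : act 1 n671 = n1357 := rfl
theorem F2198 : act 6 n1357 = n675 := d10_2 D671 D1357 (iv D675) (iv D328) D326
def n1358 : Q := act 5 n671
theorem D1358 : act 5 n671 = n1358 := rfl
theorem F2200 : act 6 n1358 = n1350 := d20_2 D671 D1358 (iv D1350) D1351 (iv F2197) (iv D1356) (iv D670)
def n1363 : Q := act 0 n675
theorem D1363 : act 0 n675 = n1363 := rfl
def n1364 : Q := act 2 n675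
theorem D1364 : act 2 n675 = n1364 := rfl
theorem F2211 : act 1 n1364 = n677 := d6_1 D1364 (iv D677) (iv D329) (iv F563) D675
def n1365 : Q := act 5 n675
theorem D1365 : act 5 n675 = n1365 := rfl
def n1366 : Q := act 2 n676
theorem D1366 : act 2 n676 = n1366 := rfl
theorem F2213 : act 0 n1366 = n677 := d1_1 D1366 (iv D677) D676
theorem F2214 : act 5 n1366 = n1133 := d13_2 F1819 D1366 (iv D1133)
theorem F2215 : act 6 n1366 = n1175 := d14_2 F1838 D1366 (iv D1175)
theorem F2216 : act 0 n1111 = n1365 := d23_15 F2214 (iv D1133) (iv D549) (iv F504) (iv D274) (iv F497) D537 D1108 (iv F1833) (iv D1083) (iv D527) F492 D274 (iv F895) D1111 (iv D1365) D1364 F2211 (iv F2213)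
theorem F2217 : act 5 n1363 = n1111 := d4_0 F2216 (iv D1365) D1363
theorem F2218 : act 1 n1110 = n1363 := d9_5 F2217 (iv D1111) (iv D538) D537 D1110
def n1381 : Q := act 1 n685
theorem D1381 : act 1 n685 = n1381 := rfl
theorem F2244 : act 6 n1381 = n1073 := d10_2 (iv F1079) D1381 (iv D1073) (iv D522) F697
def n1387 : Q := act 6 n688
theorem D1387 : act 6 n688 = n1387 := rfl
theorem F2249 : act 0 n1387 = n690 := d5_1 D1387 (iv D690) D688
theorem F2250 : act 1 n1387 = n1054 := d10_1 D1387 (iv D1054) F856 D1028 (iv F2028)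
theorem F2251 : act 3 n1387 = n1266 := d17_1 D1387 F2066 F1239
theorem F2252 : act 5 n1387 = n790 := d20_1 D1387 (iv D790) F653 D690 (iv F2065) F2066 F1240
def n1415 : Q := act 6 n706
theorem D1415 : act 6 n706 = n1415 := rfl
theorem F2306 : act 2 n1415 = n1415 := d14_1 D1415 (iv D1415) F1115
theorem F2307 : act 3 n1415 = n709 := d17_1 D1415 (iv D709) D706
def n1419 : Q := act 1 n708
theorem D1419 : act 1 n708 = n1419 := rfl
theorem F2316 : act 5 n1419 = n716 := d9_2 D708 D1419 (iv D716) (iv D347) D344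
def n1424 : Q := act 1 n712
theorem D1424 : act 1 n712 = n1424 := rfl
theorem F2324 : act 3 n1424 = n717 := d7_2 (iv F1121) D1424 (iv D717)
def n1425 : Q := act 2 n713
theorem D1425 : act 2 n713 = n1425 := rfl
def n1427 : Q := act 6 n713
theorem D1427 : act 6 n713 = n1427 := rfl
theorem F2328 : act 0 n1427 = n729 := d5_1 D1427 (iv D729) (iv F1122)
theorem F2329 : act 3 n1427 = n715 := d17_1 D1427 (iv D715) D713
def n1429 : Q := act 1 n715
theorem D1429 : act 1 n715 = n1429 := rfl
theorem F2331 : act 4 n1429 = n717 := d8_2 (iv F1128) D1429 (iv D717)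
def n1430 : Q := act 0 n716
theorem D1430 : act 0 n716 = n1430 := rfl
def n1431 : Q := act 2 n716
theorem D1431 : act 2 n716 = n1431 := rfl
theorem F2332 : act 1 n1431 = n772 := d6_1 D1431 (iv D772) (iv D375) (iv F596) D716
theorem F2333 : act 5 n1430 = n1431 := d23_0 (iv D1431) (iv D716) F595 (iv D181) F227 (iv D60) F100 (iv D28) (iv D14) F36 (iv F45) (iv F59) D36 D60 D104 D190 (iv F596) D716 D1430
theorem F2334 : act 0 n1431 = n1419 := d4_1 F2333 F2316 D1430
def n1433 : Q := act 5 n717
theorem D1433 : act 5 n717 = n1433 := rfl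
def n1441 : Q := act 2 n721
theorem D1441 : act 2 n721 = n1441 := rfl
theorem F2349 : act 4 n1441 = n727 := d12_2 (iv F1133) D1441 (iv D727)
def n1442 : Q := act 5 n721
theorem D1442 : act 5 n721 = n1442 := rfl
theorem F2351 : act 4 n1442 = n728 := d18_1 D1442 (iv D728) (iv F1133)
def n1452 : Q := act 1 n727
theorem D1452 : act 1 n727 = n1452 := rfl
theorem F2367 : act 2 n1452 = n743 := d6_2 D727 D1452 (iv D743) (iv D362) (iv F602)
def n1453 : Q := act 3 n727
theorem D1453 : act 3 n727 = n1453 := rfl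
def n1454 : Q := act 5 n727
theorem D1454 : act 5 n727 = n1454 := rfl
theorem F2368 : act 2 n1454 = n728 := d13_1 D1454 (iv D728) D727
def n1456 : Q := act 1 n728
theorem D1456 : act 1 n728 = n1456 := rfl
theorem F2370 : act 3 n1456 = n730 := d7_2 (iv F1143) D1456 (iv D730)
theorem F2371 : act 5 n1456 = n745 := d9_2 D728 D1456 (iv D745) (iv D363) (iv F602)
def n1459 : Q := act 0 n730
theorem D1459 : act 0 n730 = n1459 := rfl
theorem F2377 : act 2 n1459 = n893 := d1_2 (iv F1145) D1459 (iv D893)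
theorem F2379 : act 5 n1459 = n746 := d4_2 (iv F1147) D1459 (iv D746)
def n1460 : Q := act 6 n730
theorem D1460 : act 6 n730 = n1460 := rfl
theorem F2381 : act 4 n1460 = n734 := d19_1 D1460 (iv D734) (iv F1146)
def n1464 : Q := act 1 n734
theorem D1464 : act 1 n734 = n1464 := rfl
theorem F2384 : act 6 n1464 = n735 := d10_2 D734 D1464 (iv D735) (iv D357) D356
def n1465 : Q := act 0 n735
theorem D1465 : act 0 n735 = n1465 := rfl
def n1467 : Q := act 5 n735
theorem D1467 : act 5 n735 = n1467 := rfl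
theorem F2386 : act 1 n1467 = n1433 := d9_1 D1467 (iv D1433) (iv D717) (iv F610) D735
def n1471 : Q := act 1 n737
theorem D1471 : act 1 n737 = n1471 := rfl
theorem F2389 : act 4 n1471 = n743 := d8_2 (iv F1158) D1471 (iv D743)
def n1472 : Q := act 3 n737
theorem D1472 : act 3 n737 = n1472 := rfl
def n1473 : Q := act 5 n737
theorem D1473 : act 5 n737 = n1473 := rfl
theorem F2391 : act 2 n1473 = n738 := d13_1 D1473 (iv D738) D737
theorem F2392 : act 4 n1473 = n744 := d18_1 D1473 (iv D744) (iv F1158)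
theorem F2393 : act 6 n1473 = n924 := d22_1 D1473 (iv D924) (iv F1463) F1461
def n1474 : Q := act 1 n738
theorem D1474 : act 1 n738 = n1474 := rfl
theorem F2394 : act 3 n1474 = n739 := d7_2 (iv F1159) D1474 (iv D739)
theorem F2395 : act 4 n1474 = n745 := d8_2 (iv F1160) D1474 (iv D745)
def n1482 : Q := act 6 n741
theorem D1482 : act 6 n741 = n1482 := rfl
theorem F2405 : act 2 n1482 = n742 := d14_1 D1482 (iv D742) D741
def n1484 : Q := act 0 n743
theorem D1484 : act 0 n743 = n1484 := rfl
def n1485 : Q := act 5 n743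
theorem D1485 : act 5 n743 = n1485 := rfl
def n1486 : Q := act 6 n743
theorem D1486 : act 6 n743 = n1486 := rfl
def n1487 : Q := act 1 n744
theorem D1487 : act 1 n744 = n1487 := rfl
def n1488 : Q := act 0 n745
theorem D1488 : act 0 n745 = n1488 := rfl
theorem F2409 : act 3 n1488 = n746 := d2_2 (iv F1168) D1488 (iv D746)
def n1489 : Q := act 2 n745
theorem D1489 : act 2 n745 = n1489 := rfl
def n1490 : Q := act 6 n745
theorem D1490 : act 6 n745 = n1490 := rfl
theorem F2410 : act 1 n1490 = n943 := d10_1 D1490 (iv D943) (iv D457) (iv F619) D745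
theorem F2411 : act 3 n1490 = n747 := d17_1 D1490 (iv D747) (iv F1168)
def n1491 : Q := act 1 n746
theorem D1491 : act 1 n746 = n1491 := rfl
def n1492 : Q := act 6 n746
theorem D1492 : act 6 n746 = n1492 := rfl
theorem F2413 : act 0 n1492 = n747 := d5_1 D1492 (iv D747) D746
theorem F2415 : act 4 n1492 = n749 := d19_1 D1492 (iv D749) (iv F1170)
theorem F2416 : act 5 n1492 = n1460 := d22_2 F2379 D1492 (iv D1460) D1459
def n1493 : Q := act 5 n747
theorem D1493 : act 5 n747 = n1493 := rfl
theorem F2418 : act 2 n1493 = n950 := d13_1 D1493 (iv D950) (iv F1172)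
theorem F2420 : act 6 n1493 = n1459 := d20_2 D747 D1493 F2379 D1492 F2416 (iv D1460) F1147
def n1498 : Q := act 1 n749
theorem D1498 : act 1 n749 = n1498 := rfl
def n1501 : Q := act 5 n752
theorem D1501 : act 5 n752 = n1501 := rfl
theorem F2428 : act 4 n1501 = n753 := d18_1 D1501 (iv D753) D752
def n1502 : Q := act 6 n752
theorem D1502 : act 6 n752 = n1502 := rfl
def n1507 : Q := act 6 n760
theorem D1507 : act 6 n760 = n1507 := rfl
theorem F2440 : act 5 n1507 = n1502 := d22_2 D760 D1507 (iv D1502) F1181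
def n1508 : Q := act 5 n761
theorem D1508 : act 5 n761 = n1508 := rfl
theorem F2444 : act 4 n1508 = n765 := d18_1 D1508 (iv D765) (iv F1193)
theorem F2445 : act 6 n1508 = n1501 := d20_2 D761 D1508 (iv D1501) D1502 (iv F2440) (iv D1507) (iv D760)
def n1509 : Q := act 2 n762
theorem D1509 : act 2 n762 = n1509 := rfl
theorem F2446 : act 5 n1509 = n772 := d13_2 (iv F1195) D1509 (iv D772)
def n1511 : Q := act 3 n766
theorem D1511 : act 3 n766 = n1511 := rfl
theorem F2448 : act 0 n1511 = n778 := d2_1 D1511 (iv D778) (iv F1203)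
theorem F2449 : act 2 n1511 = n1453 := d21_2 D766 D1511 (iv D1453) (iv D727) (iv D353) F359 D192 (iv F630)
def n1512 : Q := act 5 n766
theorem D1512 : act 5 n766 = n1512 := rfl
theorem F2450 : act 0 n1512 = n779 := d4_1 D1512 (iv D779) (iv F1203)
def n1513 : Q := act 6 n766
theorem D1513 : act 6 n766 = n1513 := rfl
theorem F2453 : act 0 n1513 = n780 := d5_1 D1513 (iv D780) (iv F1203)
def n1519 : Q := act 5 n770
theorem D1519 : act 5 n770 = n1519 := rfl
theorem F2467 : act 6 n1519 = n1161 := d22_1 D1519 (iv D1161) (iv F1793) F1842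
def n1520 : Q := act 2 n771
theorem D1520 : act 2 n771 = n1520 := rfl
theorem F2468 : act 0 n1520 = n772 := d1_1 D1520 (iv D772) D771
def n1523 : Q := act 5 n773
theorem D1523 : act 5 n773 = n1523 := rfl
theorem F2472 : act 0 n1523 = n1134 := d4_1 D1523 F1851 F1619
theorem F2473 : act 1 n1523 = n785 := d9_1 D1523 (iv F1683) (iv F2250) F2252 F1242
def n1524 : Q := act 0 n777
theorem D1524 : act 0 n777 = n1524 := rfl
theorem F2476 : act 2 n1524 = n791 := d1_2 (iv F1217) D1524 (iv D791)
theorem F2477 : act 4 n1524 = n1285 := d3_2 (iv F1218) D1524 F2082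
def n1525 : Q := act 3 n777
theorem D1525 : act 3 n777 = n1525 := rfl
theorem F2478 : act 1 n1525 = n778 := d7_1 D1525 (iv D778) D777
def n1526 : Q := act 5 n777
theorem D1526 : act 5 n777 = n1526 := rfl
theorem F2479 : act 2 n1526 = n792 := d13_1 D1526 (iv D792) (iv F1217)
theorem F2480 : act 4 n1526 = n1280 := d18_1 D1526 F2080 (iv F1218)
def n1527 : Q := act 6 n777
theorem D1527 : act 6 n777 = n1527 := rfl
theorem F2481 : act 2 n1527 = n793 := d14_1 D1527 (iv D793) (iv F1217)
theorem F2482 : act 4 n1527 = n1288 := d19_1 D1527 (iv D1288) (iv F1218)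
def n1528 : Q := act 2 n778
theorem D1528 : act 2 n778 = n1528 := rfl
theorem F2483 : act 0 n1528 = n1453 := d1_1 D1528 (iv F2449) F2448
theorem F2484 : act 3 n1528 = n1425 := d11_2 D778 D1528 (iv D1425) (iv D713) F594 D372 D766 D1511 F2449 (iv D1453) (iv D727) (iv D353) F359 D192 D377
def n1529 : Q := act 4 n778
theorem D1529 : act 4 n778 = n1529 := rfl
def n1530 : Q := act 5 n778
theorem D1530 : act 5 n778 = n1530 := rfl
theorem F2486 : act 3 n1530 = n779 := d16_1 D1530 (iv D779) D778
def n1531 : Q := act 6 n778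
theorem D1531 : act 6 n778 = n1531 := rfl
theorem F2487 : act 3 n1531 = n780 := d17_1 D1531 (iv D780) D778
def n1532 : Q := act 1 n779
theorem D1532 : act 1 n779 = n1532 := rfl
theorem F2488 : act 2 n1532 = n1037 := d6_2 (iv F1219) D1532 (iv D1037) F841 (iv F639)
theorem F2489 : act 4 n1532 = n1197 := d8_2 (iv F1220) D1532 F1954
def n1533 : Q := act 6 n779
theorem D1533 : act 6 n779 = n1533 := rfl
theorem F2490 : act 2 n1533 = n781 := d14_1 D1533 (iv D781) (iv F1219)
theorem F2492 : act 5 n1533 = n1513 := d22_2 D779 D1533 (iv D1513) F1203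
def n1535 : Q := act 5 n780
theorem D1535 : act 5 n780 = n1535 := rfl
theorem F2495 : act 0 n1535 = n1533 := d4_1 D1535 F2492 F2453
theorem F2496 : act 2 n1535 = n782 := d13_1 D1535 (iv D782) (iv F1221)
def n1536 : Q := act 1 n781
theorem D1536 : act 1 n781 = n1536 := rfl
theorem F2499 : act 3 n1536 = n783 := d7_2 (iv F1223) D1536 (iv D783)
theorem F2501 : act 6 n1536 = n1041 := d10_2 D781 D1536 (iv D1041) (iv D506) (iv F639)
def n1538 : Q := act 0 n783
theorem D1538 : act 0 n783 = n1538 := rfl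
def n1539 : Q := act 2 n783
theorem D1539 : act 2 n783 = n1539 := rfl
def n1540 : Q := act 5 n783
theorem D1540 : act 5 n783 = n1540 := rfl
theorem F2509 : act 1 n1540 = n1519 := d9_1 D1540 (iv D1519) (iv D770) (iv F646) D783
def n1541 : Q := act 0 n784
theorem D1541 : act 0 n784 = n1541 := rfl
theorem F2511 : act 4 n1541 = n788 := d3_2 (iv F1232) D1541 (iv D788)
theorem F2512 : act 5 n1541 = n1334 := d4_2 (iv F1233) D1541 (iv D1334)
theorem F2513 : act 1 n1162 = n1541 := d8_3 F2511 F2029 (iv F1893)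
def n1550 : Q := act 1 n791
theorem D1550 : act 1 n791 = n1550 := rfl
theorem F2527 : act 3 n1550 = n1284 := d7_2 (iv F1244) D1550 (iv D1284)
theorem F2528 : act 4 n1550 = n1284 := d8_2 (iv F1245) D1550 (iv D1284)
def n1551 : Q := act 5 n791
theorem D1551 : act 5 n791 = n1551 := rfl
theorem F2529 : act 0 n1551 = n792 := d4_1 D1551 (iv D792) D791
theorem F2530 : act 3 n1551 = n1279 := d16_1 D1551 F2079 (iv F1244)
theorem F2531 : act 4 n1551 = n1279 := d18_1 D1551 F2079 (iv F1245)
def n1552 : Q := act 6 n791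
theorem D1552 : act 6 n791 = n1552 := rfl
theorem F2532 : act 0 n1552 = n793 := d5_1 D1552 (iv D793) D791
theorem F2533 : act 3 n1552 = n1286 := d17_1 D1552 (iv D1286) (iv F1244)
theorem F2534 : act 4 n1552 = n1286 := d19_1 D1552 (iv D1286) (iv F1245)
def n1553 : Q := act 6 n792
theorem D1553 : act 6 n792 = n1553 := rfl
theorem F2535 : act 3 n1553 = n1281 := d17_1 D1553 (iv D1281) (iv F1247)
theorem F2536 : act 4 n1553 = n1281 := d19_1 D1553 (iv D1281) (iv F1248)
theorem F2537 : act 5 n1553 = n1552 := d22_2 D792 D1553 (iv D1552) (iv D791)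
def n1554 : Q := act 5 n793
theorem D1554 : act 5 n793 = n1554 := rfl
theorem F2538 : act 0 n1554 = n1553 := d4_1 D1554 F2537 F2532
theorem F2539 : act 3 n1554 = n1289 := d16_1 D1554 (iv D1289) (iv F1250)
theorem F2540 : act 4 n1554 = n1289 := d18_1 D1554 (iv D1289) (iv F1251)
theorem F2541 : act 6 n1554 = n1551 := d20_2 D793 D1554 (iv D1551) D1552 (iv F2537) (iv D1553) (iv D792)
def n1558 : Q := act 3 n795
theorem D1558 : act 3 n795 = n1558 := rfl
theorem F2548 : act 0 n1558 = n988 := d2_1 D1558 (iv D988) (iv F1254)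
def n1560 : Q := act 6 n795
theorem D1560 : act 6 n795 = n1560 := rfl
theorem F2553 : act 0 n1560 = n990 := d5_1 D1560 (iv D990) (iv F1254)
def n1562 : Q := act 1 n797
theorem D1562 : act 1 n797 = n1562 := rfl
theorem F2557 : act 2 n1562 = n1363 := d6_2 (iv F1260) D1562 (iv F2218) F1836 (iv D983)
theorem F2558 : act 6 n1562 = n806 := d10_2 D797 D1562 (iv D806) (iv D389) D385
theorem F2559 : act 0 n1364 = n1562 := d1_3 F2557 (iv D1363) D1364
def n1581 : Q := act 0 n806
theorem D1581 : act 0 n806 = n1581 := rfl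
theorem F2584 : act 6 n1581 = n1364 := d5_2 F2558 D1581 F2559
theorem F2585 : act 2 n1357 = n1581 := d14_3 F2584 (iv D1364) (iv F2198)
def n1582 : Q := act 2 n806
theorem D1582 : act 2 n806 = n1582 := rfl
theorem F2586 : act 0 n1582 = n1357 := d1_1 D1582 F2585 (iv D1581)
theorem F2587 : act 6 n1582 = n1363 := d14_2 F2558 D1582 (iv F2557)
def n1625 : Q := act 1 n827
theorem D1625 : act 1 n827 = n1625 := rfl
theorem F2650 : act 4 n1625 = n833 := d8_2 (iv F1305) D1625 (iv D833)
def n1626 : Q := act 3 n827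
theorem D1626 : act 3 n827 = n1626 := rfl
theorem F2652 : act 4 n1626 = n923 := d15_2 (iv F1305) D1626 (iv D923) F757 (iv F683)
def n1638 : Q := act 0 n833
theorem D1638 : act 0 n833 = n1638 := rfl
theorem F2673 : act 3 n1638 = n935 := d2_2 (iv F1314) D1638 (iv D935)
def n1639 : Q := act 5 n833
theorem D1639 : act 5 n833 = n1639 := rfl
theorem F2674 : act 3 n1639 = n936 := d16_1 D1639 (iv D936) (iv F1314)
def n1640 : Q := act 6 n833
theorem D1640 : act 6 n833 = n1640 := rfl
theorem F2675 : act 1 n1640 = n1486 := d10_1 D1640 (iv D1486) (iv D743) (iv F682) D833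
theorem F2676 : act 3 n1640 = n937 := d17_1 D1640 (iv D937) (iv F1314)
def n1641 : Q := act 1 n834
theorem D1641 : act 1 n834 = n1641 := rfl
theorem F2677 : act 3 n1641 = n938 := d7_2 (iv F1317) D1641 (iv D938)
def n1654 : Q := act 4 n841
theorem D1654 : act 4 n841 = n1654 := rfl
theorem F2693 : act 2 n1654 = n910 := d12_1 D1654 (iv D910) (iv F1331)
def n1655 : Q := act 5 n841
theorem D1655 : act 5 n841 = n1655 := rfl
theorem F2696 : act 3 n1655 = n843 := d16_1 D1655 (iv D843) D841
def n1656 : Q := act 6 n841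
theorem D1656 : act 6 n841 = n1656 := rfl
theorem F2698 : act 2 n1656 = n882 := d14_1 D1656 F1417 (iv F1331)
theorem F2699 : act 3 n1656 = n844 := d17_1 D1656 (iv D844) D841
def n1657 : Q := act 3 n842
theorem D1657 : act 3 n842 = n1657 := rfl
theorem F2701 : act 1 n1657 = n988 := d7_1 D1657 (iv D988) (iv F1333)
def n1658 : Q := act 5 n842
theorem D1658 : act 5 n842 = n1658 := rfl
theorem F2702 : act 0 n1658 = n849 := d4_1 D1658 (iv D849) (iv F1332)
theorem F2703 : act 2 n1658 = n849 := d13_1 D1658 (iv D849) (iv F1334)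
theorem F2704 : act 4 n1658 = n843 := d18_1 D1658 (iv D843) D842
def n1659 : Q := act 6 n842
theorem D1659 : act 6 n842 = n1659 := rfl
theorem F2705 : act 0 n1659 = n850 := d5_1 D1659 (iv D850) (iv F1332)
theorem F2706 : act 2 n1659 = n850 := d14_1 D1659 (iv D850) (iv F1334)
theorem F2707 : act 4 n1659 = n844 := d19_1 D1659 (iv D844) D842
def n1660 : Q := act 1 n843
theorem D1660 : act 1 n843 = n1660 := rfl
theorem F2708 : act 2 n1660 = n1163 := d6_2 (iv F1336) D1660 F1895 F1373 (iv D851)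
theorem F2709 : act 5 n1660 = n991 := d9_2 D843 D1660 (iv D991) (iv D482) (iv F693)
theorem F2710 : act 0 n1164 = n1660 := d1_3 F2708 (iv D1163) D1164
def n1661 : Q := act 1 n844
theorem D1661 : act 1 n844 = n1661 := rfl
theorem F2711 : act 6 n1661 = n993 := d10_2 D844 D1661 (iv D993) (iv D483) (iv F693)
def n1664 : Q := act 6 n845
theorem D1664 : act 6 n845 = n1664 := rfl
theorem F2717 : act 4 n1664 = n847 := d19_1 D1664 (iv D847) D845
def n1666 : Q := act 6 n846
theorem D1666 : act 6 n846 = n1666 := rfl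
theorem F2723 : act 5 n1666 = n1656 := d22_2 D846 D1666 (iv D1656) F1329
def n1667 : Q := act 1 n847
theorem D1667 : act 1 n847 = n1667 := rfl
theorem F2725 : act 3 n1667 = n853 := d7_2 (iv F1344) D1667 (iv D853)
def n1668 : Q := act 5 n847
theorem D1668 : act 5 n847 = n1668 := rfl
theorem F2730 : act 6 n1668 = n1655 := d20_2 D847 D1668 (iv D1655) D1656 (iv F2723) (iv D1666) (iv D846)
def n1669 : Q := act 2 n848
theorem D1669 : act 2 n848 = n1669 := rfl
def n1670 : Q := act 5 n848
theorem D1670 : act 5 n848 = n1670 := rfl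
theorem F2731 : act 3 n1670 = n849 := d16_1 D1670 (iv D849) D848
def n1671 : Q := act 6 n848
theorem D1671 : act 6 n848 = n1671 := rfl
theorem F2732 : act 3 n1671 = n850 := d17_1 D1671 (iv D850) D848
def n1672 : Q := act 1 n849
theorem D1672 : act 1 n849 = n1672 := rfl
theorem F2733 : act 4 n1672 = n851 := d8_2 (iv F1346) D1672 (iv D851)
theorem F2734 : act 5 n1672 = n863 := d9_2 D849 D1672 (iv D863) (iv D418) (iv F698)
theorem F2735 : act 0 n1215 = n1672 := d3_3 F2733 F1372 (iv F1973)
theorem F2736 : act 2 n1214 = n1672 := d12_3 F2733 (iv F1373) (iv F1972)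
def n1673 : Q := act 6 n849
theorem D1673 : act 6 n849 = n1673 := rfl
theorem F2738 : act 5 n1673 = n1659 := d22_2 D849 D1673 (iv D1659) F1332
def n1674 : Q := act 1 n850
theorem D1674 : act 1 n850 = n1674 := rfl
theorem F2739 : act 4 n1674 = n853 := d8_2 (iv F1347) D1674 (iv D853)
theorem F2740 : act 6 n1674 = n864 := d10_2 D850 D1674 (iv D864) (iv D419) (iv F698)
def n1675 : Q := act 5 n850
theorem D1675 : act 5 n850 = n1675 := rfl
theorem F2741 : act 0 n1675 = n1673 := d4_1 D1675 F2738 F2705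
theorem F2743 : act 4 n1675 = n854 := d18_1 D1675 (iv D854) (iv F1347)
def n1676 : Q := act 6 n851
theorem D1676 : act 6 n851 = n1676 := rfl
theorem F2745 : act 0 n1676 = n1239 := d5_1 D1676 (iv D1239) (iv F1372)
theorem F2746 : act 2 n1676 = n1007 := d14_1 D1676 F1616 F1373
def n1678 : Q := act 0 n853
theorem D1678 : act 0 n853 = n1678 := rfl
def n1679 : Q := act 2 n853
theorem D1679 : act 2 n853 = n1679 := rfl
def n1680 : Q := act 5 n853
theorem D1680 : act 5 n853 = n1680 := rfl
def n1681 : Q := act 1 n854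
theorem D1681 : act 1 n854 = n1681 := rfl
def n1682 : Q := act 2 n855
theorem D1682 : act 2 n855 = n1682 := rfl
theorem F2749 : act 0 n1682 = n871 := d1_1 D1682 (iv D871) (iv F1354)
theorem F2750 : act 4 n1682 = n860 := d12_2 (iv F1355) D1682 (iv D860)
def n1683 : Q := act 5 n855
theorem D1683 : act 5 n855 = n1683 := rfl
theorem F2751 : act 0 n1683 = n872 := d4_1 D1683 (iv D872) (iv F1354)
theorem F2752 : act 3 n1683 = n856 := d16_1 D1683 (iv D856) D855
theorem F2753 : act 4 n1683 = n861 := d18_1 D1683 (iv D861) (iv F1355)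
def n1684 : Q := act 6 n855
theorem D1684 : act 6 n855 = n1684 := rfl
theorem F2754 : act 0 n1684 = n873 := d5_1 D1684 (iv D873) (iv F1354)
theorem F2756 : act 4 n1684 = n862 := d19_1 D1684 (iv D862) (iv F1355)
def n1685 : Q := act 1 n856
theorem D1685 : act 1 n856 = n1685 := rfl
theorem F2757 : act 4 n1685 = n858 := d8_2 (iv F1358) D1685 (iv D858)
def n1689 : Q := act 6 n858
theorem D1689 : act 6 n858 = n1689 := rfl
theorem F2762 : act 3 n1689 = n867 := d17_1 D1689 (iv D867) (iv F1362)
def n1691 : Q := act 5 n859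
theorem D1691 : act 5 n859 = n1691 := rfl
theorem F2764 : act 3 n1691 = n870 := d16_1 D1691 (iv D870) (iv F1363)
def n1692 : Q := act 1 n860
theorem D1692 : act 1 n860 = n1692 := rfl
def n1693 : Q := act 5 n860
theorem D1693 : act 5 n860 = n1693 := rfl
theorem F2765 : act 0 n1693 = n887 := d4_1 D1693 (iv D887) (iv F1364)
theorem F2766 : act 2 n1693 = n861 := d13_1 D1693 (iv D861) D860
def n1694 : Q := act 6 n860
theorem D1694 : act 6 n860 = n1694 := rfl
theorem F2767 : act 0 n1694 = n888 := d5_1 D1694 (iv D888) (iv F1364)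
theorem F2768 : act 2 n1694 = n862 := d14_1 D1694 (iv D862) D860
def n1695 : Q := act 1 n861
theorem D1695 : act 1 n861 = n1695 := rfl
theorem F2769 : act 3 n1695 = n863 := d7_2 (iv F1366) D1695 (iv D863)
def n1696 : Q := act 1 n862
theorem D1696 : act 1 n862 = n1696 := rfl
theorem F2770 : act 3 n1696 = n864 := d7_2 (iv F1368) D1696 (iv D864)
def n1697 : Q := act 0 n863
theorem D1697 : act 0 n863 = n1697 := rfl
theorem F2772 : act 5 n1697 = n1215 := d4_2 F2734 D1697 F2735
theorem F2773 : act 2 n1216 = n1697 := d13_3 F2772 (iv D1215) D1216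
def n1698 : Q := act 2 n863
theorem D1698 : act 2 n863 = n1698 := rfl
theorem F2774 : act 0 n1698 = n1216 := d1_1 D1698 F2773 (iv D1697)
theorem F2775 : act 1 n1698 = n1015 := d6_1 D1698 (iv D1015) (iv D494) (iv F709) D863
theorem F2777 : act 5 n1698 = n1214 := d13_2 F2734 D1698 F2736
def n1699 : Q := act 6 n863
theorem D1699 : act 6 n863 = n1699 := rfl
theorem F2778 : act 4 n1699 = n867 := d19_1 D1699 (iv D867) (iv F1369)
def n1700 : Q := act 0 n864
theorem D1700 : act 0 n864 = n1700 := rfl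
theorem F2779 : act 4 n1700 = n868 := d3_2 (iv F1370) D1700 (iv D868)
def n1701 : Q := act 2 n864
theorem D1701 : act 2 n864 = n1701 := rfl
theorem F2781 : act 4 n1701 = n869 := d12_2 (iv F1370) D1701 (iv D869)
def n1702 : Q := act 5 n864
theorem D1702 : act 5 n864 = n1702 := rfl
theorem F2782 : act 4 n1702 = n870 := d18_1 D1702 (iv D870) (iv F1370)
def n1704 : Q := act 6 n865
theorem D1704 : act 6 n865 = n1704 := rfl
theorem F2785 : act 2 n1704 = n1240 := d14_1 D1704 (iv D1240) F1374
theorem F2786 : act 5 n1704 = n1676 := d20_1 D1704 (iv D1676) F1348 D867 (iv F2020) (iv D1239) (iv F1371)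
def n1706 : Q := act 2 n868
theorem D1706 : act 2 n868 = n1706 := rfl
theorem F2787 : act 0 n1706 = n869 := d1_1 D1706 (iv D869) D868
def n1708 : Q := act 3 n869
theorem D1708 : act 3 n869 = n1708 := rfl
theorem F2790 : act 1 n1708 = n1026 := d7_1 D1708 (iv D1026) (iv F1395)
def n1709 : Q := act 5 n869
theorem D1709 : act 5 n869 = n1709 := rfl
theorem F2791 : act 2 n1709 = n870 := d13_1 D1709 (iv D870) D869
def n1711 : Q := act 1 n871
theorem D1711 : act 1 n871 = n1711 := rfl
theorem F2794 : act 2 n1711 = n922 := d6_2 D871 D1711 (iv D922) (iv D448) (iv F714)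
theorem F2795 : act 4 n1711 = n885 := d8_2 (iv F1396) D1711 (iv D885)
def n1712 : Q := act 3 n871
theorem D1712 : act 3 n871 = n1712 := rfl
theorem F2796 : act 2 n1712 = n1712 := d21_2 D871 D1712 (iv D1712) (iv D871) (iv D422) (iv F700) D855 F1354
def n1713 : Q := act 5 n871
theorem D1713 : act 5 n871 = n1713 := rfl
theorem F2797 : act 2 n1713 = n872 := d13_1 D1713 (iv D872) D871
theorem F2798 : act 4 n1713 = n887 := d18_1 D1713 (iv D887) (iv F1396)
def n1714 : Q := act 6 n871
theorem D1714 : act 6 n871 = n1714 := rfl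
theorem F2799 : act 2 n1714 = n873 := d14_1 D1714 (iv D873) D871
theorem F2800 : act 4 n1714 = n888 := d19_1 D1714 (iv D888) (iv F1396)
def n1715 : Q := act 1 n872
theorem D1715 : act 1 n872 = n1715 := rfl
theorem F2801 : act 3 n1715 = n874 := d7_2 (iv F1397) D1715 (iv D874)
theorem F2802 : act 4 n1715 = n889 := d8_2 (iv F1398) D1715 (iv D889)
theorem F2803 : act 5 n1715 = n925 := d9_2 D872 D1715 (iv D925) (iv D449) (iv F714)
def n1716 : Q := act 6 n872
theorem D1716 : act 6 n872 = n1716 := rfl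
theorem F2804 : act 3 n1716 = n875 := d17_1 D1716 (iv D875) (iv F1397)
theorem F2805 : act 4 n1716 = n890 := d19_1 D1716 (iv D890) (iv F1398)
theorem F2806 : act 5 n1716 = n1684 := d22_2 D872 D1716 (iv D1684) F1354
def n1717 : Q := act 1 n873
theorem D1717 : act 1 n873 = n1717 := rfl
def n1718 : Q := act 5 n873
theorem D1718 : act 5 n873 = n1718 := rfl
theorem F2810 : act 0 n1718 = n1716 := d4_1 D1718 F2806 F2754
theorem F2811 : act 3 n1718 = n877 := d16_1 D1718 (iv D877) (iv F1399)
theorem F2812 : act 4 n1718 = n892 := d18_1 D1718 (iv D892) (iv F1400)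
theorem F2813 : act 6 n1718 = n1683 := d20_2 D873 D1718 (iv D1683) D1684 (iv F2806) (iv D1716) (iv D872)
def n1719 : Q := act 0 n874
theorem D1719 : act 0 n874 = n1719 := rfl
theorem F2814 : act 4 n1719 = n878 := d3_2 (iv F1401) D1719 (iv D878)
def n1721 : Q := act 6 n874
theorem D1721 : act 6 n874 = n1721 := rfl
theorem F2818 : act 4 n1721 = n880 := d19_1 D1721 (iv D880) (iv F1401)
def n1723 : Q := act 0 n876
theorem D1723 : act 0 n876 = n1723 := rfl
theorem F2820 : act 4 n1723 = n882 := d3_2 (iv F1405) D1723 (iv D882)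
theorem F2821 : act 6 n1723 = n910 := d5_2 (iv F1406) D1723 F1449
def n1724 : Q := act 5 n876
theorem D1724 : act 5 n876 = n1724 := rfl
def n1725 : Q := act 1 n877
theorem D1725 : act 1 n877 = n1725 := rfl
theorem F2823 : act 4 n1725 = n884 := d8_2 (iv F1409) D1725 (iv D884)
def n1728 : Q := act 3 n879
theorem D1728 : act 3 n879 = n1728 := rfl
theorem F2827 : act 5 n1728 = n932 := d16_2 (iv F1413) D1728 (iv D932)
def n1733 : Q := act 5 n881
theorem D1733 : act 5 n881 = n1733 := rfl
theorem F2833 : act 3 n1733 = n903 := d16_1 D1733 (iv D903) (iv F1415)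
def n1734 : Q := act 1 n882
theorem D1734 : act 1 n882 = n1734 := rfl
theorem F2834 : act 3 n1734 = n904 := d7_2 (iv F1416) D1734 (iv D904)
def n1739 : Q := act 0 n885
theorem D1739 : act 0 n885 = n1739 := rfl
theorem F2841 : act 2 n1739 = n935 := d1_2 (iv F1420) D1739 (iv D935)
def n1740 : Q := act 3 n885
theorem D1740 : act 3 n885 = n1740 := rfl
theorem F2842 : act 1 n1740 = n886 := d7_1 D1740 (iv D886) D885
def n1741 : Q := act 5 n885
theorem D1741 : act 5 n885 = n1741 := rfl
theorem F2843 : act 2 n1741 = n936 := d13_1 D1741 (iv D936) (iv F1420)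
def n1742 : Q := act 6 n885
theorem D1742 : act 6 n885 = n1742 := rfl
theorem F2844 : act 2 n1742 = n937 := d14_1 D1742 (iv D937) (iv F1420)
def n1743 : Q := act 4 n886
theorem D1743 : act 4 n886 = n1743 := rfl
def n1744 : Q := act 5 n886
theorem D1744 : act 5 n886 = n1744 := rfl
theorem F2845 : act 3 n1744 = n887 := d16_1 D1744 (iv D887) D886
def n1745 : Q := act 6 n886
theorem D1745 : act 6 n886 = n1745 := rfl
theorem F2846 : act 3 n1745 = n888 := d17_1 D1745 (iv D888) D886
def n1746 : Q := act 1 n887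
theorem D1746 : act 1 n887 = n1746 := rfl
def n1747 : Q := act 6 n887
theorem D1747 : act 6 n887 = n1747 := rfl
theorem F2847 : act 2 n1747 = n890 := d14_1 D1747 (iv D890) (iv F1421)
theorem F2848 : act 5 n1747 = n1694 := d22_2 D887 D1747 (iv D1694) F1364
def n1748 : Q := act 1 n888
theorem D1748 : act 1 n888 = n1748 := rfl
def n1749 : Q := act 5 n888
theorem D1749 : act 5 n888 = n1749 := rfl
theorem F2849 : act 0 n1749 = n1747 := d4_1 D1749 F2848 F2767
theorem F2850 : act 2 n1749 = n892 := d13_1 D1749 (iv D892) (iv F1422)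
theorem F2851 : act 6 n1749 = n1693 := d20_2 D888 D1749 (iv D1693) D1694 (iv F2848) (iv D1747) (iv D887)
def n1750 : Q := act 0 n889
theorem D1750 : act 0 n889 = n1750 := rfl
theorem F2852 : act 3 n1750 = n893 := d2_2 (iv F1423) D1750 (iv D893)
theorem F2853 : act 5 n1750 = n941 := d4_2 (iv F1424) D1750 (iv D941)
def n1751 : Q := act 2 n889
theorem D1751 : act 2 n889 = n1751 := rfl
theorem F2854 : act 5 n1751 = n942 := d13_2 (iv F1424) D1751 (iv D942)
def n1752 : Q := act 6 n889
theorem D1752 : act 6 n889 = n1752 := rfl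
theorem F2855 : act 3 n1752 = n894 := d17_1 D1752 (iv D894) (iv F1423)
def n1753 : Q := act 1 n890
theorem D1753 : act 1 n890 = n1753 := rfl
theorem F2856 : act 3 n1753 = n895 := d7_2 (iv F1425) D1753 (iv D895)
def n1757 : Q := act 1 n892
theorem D1757 : act 1 n892 = n1757 := rfl
theorem F2861 : act 3 n1757 = n898 := d7_2 (iv F1430) D1757 (iv D898)
def n1758 : Q := act 1 n893
theorem D1758 : act 1 n893 = n1758 := rfl
def n1760 : Q := act 0 n895
theorem D1760 : act 0 n895 = n1760 := rfl
theorem F2865 : act 4 n1760 = n901 := d3_2 (iv F1435) D1760 (iv D901)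
def n1762 : Q := act 5 n895
theorem D1762 : act 5 n895 = n1762 := rfl
theorem F2869 : act 4 n1762 = n903 := d18_1 D1762 (iv D903) (iv F1435)
def n1765 : Q := act 0 n898
theorem D1765 : act 0 n898 = n1765 := rfl
def n1766 : Q := act 2 n898
theorem D1766 : act 2 n898 = n1766 := rfl
theorem F2874 : act 1 n1766 = n1047 := d6_1 D1766 (iv D1047) (iv D509) (iv F739) D898
def n1767 : Q := act 6 n898
theorem D1767 : act 6 n898 = n1767 := rfl
def n1782 : Q := act 2 n904
theorem D1782 : act 2 n904 = n1782 := rfl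
def n1784 : Q := act 6 n904
theorem D1784 : act 6 n904 = n1784 := rfl
theorem F2892 : act 1 n1784 = n965 := d10_1 D1784 (iv D965) (iv D468) (iv F744) D904
def n1789 : Q := act 2 n906
theorem D1789 : act 2 n906 = n1789 := rfl
theorem F2896 : act 0 n1789 = n907 := d1_1 D1789 (iv D907) D906
def n1792 : Q := act 6 n907
theorem D1792 : act 6 n907 = n1792 := rfl
def n1799 : Q := act 5 n910
theorem D1799 : act 5 n910 = n1799 := rfl
theorem F2912 : act 6 n1799 = n1724 := d22_1 D1799 (iv D1724) F1406 (iv F1449)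
def n1801 : Q := act 2 n912
theorem D1801 : act 2 n912 = n1801 := rfl
theorem F2914 : act 4 n1801 = n945 := d12_2 (iv F1454) D1801 (iv D945)
def n1803 : Q := act 1 n913
theorem D1803 : act 1 n913 = n1803 := rfl
theorem F2917 : act 4 n1803 = n914 := d8_2 (iv F1455) D1803 (iv D914)
def n1804 : Q := act 6 n913
theorem D1804 : act 6 n913 = n1804 := rfl
theorem F2921 : act 5 n1804 = n1723 := d20_1 D1804 F2821 D1799 F2912 (iv D1724) F1406 D913
def n1805 : Q := act 0 n914
theorem D1805 : act 0 n914 = n1805 := rfl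
theorem F2922 : act 3 n1805 = n967 := d2_2 (iv F1456) D1805 (iv D967)
theorem F2923 : act 5 n1805 = n919 := d4_2 (iv F1457) D1805 (iv D919)
def n1807 : Q := act 6 n914
theorem D1807 : act 6 n914 = n1807 := rfl
theorem F2925 : act 3 n1807 = n969 := d17_1 D1807 (iv D969) (iv F1456)
def n1809 : Q := act 1 n916
theorem D1809 : act 1 n916 = n1809 := rfl
theorem F2927 : act 4 n1809 = n939 := d8_2 (iv F1462) D1809 (iv D939)
def n1810 : Q := act 3 n916
theorem D1810 : act 3 n916 = n1810 := rfl
theorem F2930 : act 4 n1810 = n1472 := d15_2 (iv F1462) D1810 (iv D1472) F1158 (iv F766)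
theorem F2931 : act 6 n1810 = n923 := d17_2 (iv F1463) D1810 (iv D923)
def n1811 : Q := act 5 n916
theorem D1811 : act 5 n916 = n1811 := rfl
theorem F2933 : act 2 n1811 = n917 := d13_1 D1811 (iv D917) D916
theorem F2934 : act 4 n1811 = n940 := d18_1 D1811 (iv D940) (iv F1462)
def n1812 : Q := act 1 n917
theorem D1812 : act 1 n917 = n1812 := rfl
theorem F2936 : act 3 n1812 = n918 := d7_2 (iv F1465) D1812 (iv D918)
theorem F2937 : act 4 n1812 = n947 := d8_2 (iv F1466) D1812 (iv D947)
def n1814 : Q := act 2 n918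
theorem D1814 : act 2 n918 = n1814 := rfl
theorem F2939 : act 1 n1814 = n927 := d6_1 D1814 (iv D927) (iv D450) (iv F753) D918
def n1816 : Q := act 1 n919
theorem D1816 : act 1 n919 = n1816 := rfl
def n1818 : Q := act 6 n919
theorem D1818 : act 6 n919 = n1818 := rfl
theorem F2945 : act 0 n1818 = n921 := d5_1 D1818 (iv D921) D919
theorem F2947 : act 5 n1818 = n1807 := d22_2 F2923 D1818 (iv D1807) D1805
def n1821 : Q := act 5 n921
theorem D1821 : act 5 n921 = n1821 := rfl
theorem F2950 : act 0 n1821 = n1807 := d4_1 D1821 (iv F2947) F2945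
theorem F2951 : act 3 n1821 = n976 := d16_1 D1821 (iv D976) (iv F1472)
theorem F2952 : act 6 n1821 = n1805 := d20_2 D921 D1821 F2923 D1818 F2947 (iv D1807) F1457
def n1822 : Q := act 0 n922
theorem D1822 : act 0 n922 = n1822 := rfl
theorem F2953 : act 4 n1822 = n935 := d3_2 (iv F1473) D1822 (iv D935)
def n1823 : Q := act 3 n922
theorem D1823 : act 3 n922 = n1823 := rfl
theorem F2954 : act 1 n1823 = n923 := d7_1 D1823 (iv D923) D922
def n1824 : Q := act 5 n922
theorem D1824 : act 5 n922 = n1824 := rfl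
theorem F2955 : act 4 n1824 = n936 := d18_1 D1824 (iv D936) (iv F1473)
def n1825 : Q := act 6 n922
theorem D1825 : act 6 n922 = n1825 := rfl
theorem F2956 : act 4 n1825 = n937 := d19_1 D1825 (iv D937) (iv F1473)
def n1826 : Q := act 5 n923
theorem D1826 : act 5 n923 = n1826 := rfl
theorem F2957 : act 3 n1826 = n924 := d16_1 D1826 (iv D924) D923
def n1827 : Q := act 1 n924
theorem D1827 : act 1 n924 = n1827 := rfl
theorem F2958 : act 4 n1827 = n938 := d8_2 (iv F1475) D1827 (iv D938)
def n1828 : Q := act 0 n925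
theorem D1828 : act 0 n925 = n1828 := rfl
theorem F2959 : act 3 n1828 = n926 := d2_2 (iv F1476) D1828 (iv D926)
theorem F2960 : act 4 n1828 = n941 := d3_2 (iv F1477) D1828 (iv D941)
def n1829 : Q := act 2 n925
theorem D1829 : act 2 n925 = n1829 := rfl
theorem F2961 : act 4 n1829 = n942 := d12_2 (iv F1477) D1829 (iv D942)
def n1830 : Q := act 6 n925
theorem D1830 : act 6 n925 = n1830 := rfl
theorem F2962 : act 3 n1830 = n928 := d17_1 D1830 (iv D928) (iv F1476)
def n1834 : Q := act 3 n927
theorem D1834 : act 3 n927 = n1834 := rfl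
def n1845 : Q := act 2 n932
theorem D1845 : act 2 n932 = n1845 := rfl
def n1851 : Q := act 1 n935
theorem D1851 : act 1 n935 = n1851 := rfl
def n1852 : Q := act 5 n935
theorem D1852 : act 5 n935 = n1852 := rfl
theorem F2991 : act 0 n1852 = n936 := d4_1 D1852 (iv D936) D935
def n1853 : Q := act 6 n935
theorem D1853 : act 6 n935 = n1853 := rfl
theorem F2992 : act 0 n1853 = n937 := d5_1 D1853 (iv D937) D935
def n1854 : Q := act 1 n936
theorem D1854 : act 1 n936 = n1854 := rfl
theorem F2993 : act 5 n1854 = n938 := d9_2 D936 D1854 (iv D938) (iv D455) D454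
def n1855 : Q := act 6 n936
theorem D1855 : act 6 n936 = n1855 := rfl
theorem F2994 : act 5 n1855 = n1853 := d22_2 D936 D1855 (iv D1853) (iv D935)
def n1856 : Q := act 1 n937
theorem D1856 : act 1 n937 = n1856 := rfl
theorem F2995 : act 3 n1856 = n1486 := d7_2 F2676 D1856 (iv F2675)
theorem F2996 : act 6 n1856 = n939 := d10_2 D937 D1856 (iv D939) (iv D456) D454
def n1857 : Q := act 5 n937
theorem D1857 : act 5 n937 = n1857 := rfl
theorem F2997 : act 0 n1857 = n1855 := d4_1 D1857 F2994 F2992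
theorem F2998 : act 6 n1857 = n1852 := d20_2 D937 D1857 (iv D1852) D1853 (iv F2994) (iv D1855) (iv D936)
def n1858 : Q := act 0 n938
theorem D1858 : act 0 n938 = n1858 := rfl
def n1859 : Q := act 2 n938
theorem D1859 : act 2 n938 = n1859 := rfl
theorem F2999 : act 1 n1859 = n942 := d6_1 D1859 (iv D942) (iv D457) (iv F763) D938
def n1860 : Q := act 6 n938
theorem D1860 : act 6 n938 = n1860 := rfl
def n1861 : Q := act 0 n939
theorem D1861 : act 0 n939 = n1861 := rfl
theorem F3000 : act 3 n1861 = n1484 := d2_2 (iv F1490) D1861 (iv D1484)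
def n1862 : Q := act 2 n939
theorem D1862 : act 2 n939 = n1862 := rfl
theorem F3001 : act 1 n1862 = n945 := d6_1 D1862 (iv D945) (iv D458) (iv F765) D939
def n1863 : Q := act 5 n939
theorem D1863 : act 5 n939 = n1863 := rfl
theorem F3002 : act 3 n1863 = n1485 := d16_1 D1863 (iv D1485) (iv F1490)
def n1864 : Q := act 1 n940
theorem D1864 : act 1 n940 = n1864 := rfl
theorem F3003 : act 3 n1864 = n1487 := d7_2 (iv F1493) D1864 (iv D1487)
def n1865 : Q := act 1 n941
theorem D1865 : act 1 n941 = n1865 := rfl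
theorem F3004 : act 3 n1865 = n948 := d7_2 (iv F1495) D1865 (iv D948)
def n1866 : Q := act 2 n941
theorem D1866 : act 2 n941 = n1866 := rfl
theorem F3005 : act 0 n1866 = n942 := d1_1 D1866 (iv D942) D941
def n1867 : Q := act 6 n941
theorem D1867 : act 6 n941 = n1867 := rfl
theorem F3006 : act 0 n1867 = n943 := d5_1 D1867 (iv D943) D941
theorem F3008 : act 5 n1867 = n1752 := d22_2 F2853 D1867 (iv D1752) D1750
def n1868 : Q := act 3 n942
theorem D1868 : act 3 n942 = n1868 := rfl
def n1869 : Q := act 6 n942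
theorem D1869 : act 6 n942 = n1869 := rfl
theorem F3009 : act 2 n1869 = n943 := d14_1 D1869 (iv D943) D942
def n1870 : Q := act 5 n943
theorem D1870 : act 5 n943 = n1870 := rfl
theorem F3010 : act 0 n1870 = n1752 := d4_1 D1870 (iv F3008) F3006
theorem F3011 : act 3 n1870 = n950 := d16_1 D1870 (iv D950) (iv F1496)
theorem F3012 : act 6 n1870 = n1750 := d20_2 D943 D1870 F2853 D1867 F3008 (iv D1752) F1424
def n1878 : Q := act 0 n947
theorem D1878 : act 0 n947 = n1878 := rfl
theorem F3024 : act 3 n1878 = n955 := d2_2 (iv F1499) D1878 (iv D955)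
def n1879 : Q := act 2 n947
theorem D1879 : act 2 n947 = n1879 := rfl
def n1880 : Q := act 6 n947
theorem D1880 : act 6 n947 = n1880 := rfl
def n1881 : Q := act 0 n948
theorem D1881 : act 0 n948 = n1881 := rfl
theorem F3027 : act 4 n1881 = n958 := d3_2 (iv F1500) D1881 (iv D958)
def n1882 : Q := act 2 n948
theorem D1882 : act 2 n948 = n1882 := rfl
theorem F3028 : act 4 n1882 = n959 := d12_2 (iv F1500) D1882 (iv D959)
def n1883 : Q := act 5 n948
theorem D1883 : act 5 n948 = n1883 := rfl
theorem F3029 : act 4 n1883 = n960 := d18_1 D1883 (iv D960) (iv F1500)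
def n1884 : Q := act 6 n948
theorem D1884 : act 6 n948 = n1884 := rfl
def n1886 : Q := act 1 n950
theorem D1886 : act 1 n950 = n1886 := rfl
theorem F3032 : act 4 n1886 = n963 := d8_2 (iv F1505) D1886 (iv D963)
def n1890 : Q := act 0 n953
theorem D1890 : act 0 n953 = n1890 := rfl
theorem F3036 : act 4 n1890 = n967 := d3_2 (iv F1512) D1890 (iv D967)
theorem F3037 : act 5 n1890 = n955 := d4_2 (iv F1513) D1890 (iv D955)
def n1892 : Q := act 6 n953
theorem D1892 : act 6 n953 = n1892 := rfl
def n1895 : Q := act 2 n955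
theorem D1895 : act 2 n955 = n1895 := rfl
theorem F3044 : act 0 n1895 = n956 := d1_1 D1895 (iv D956) D955
theorem F3045 : act 4 n1895 = n972 := d12_2 (iv F1518) D1895 (iv D972)
def n1896 : Q := act 6 n955
theorem D1896 : act 6 n955 = n1896 := rfl
theorem F3046 : act 0 n1896 = n957 := d5_1 D1896 (iv D957) D955
theorem F3048 : act 5 n1896 = n1892 := d22_2 F3037 D1896 (iv D1892) D1890
def n1897 : Q := act 3 n956
theorem D1897 : act 3 n956 = n1897 := rfl
theorem F3049 : act 1 n1897 = n977 := d7_1 D1897 (iv D977) (iv F1519)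
def n1898 : Q := act 6 n956
theorem D1898 : act 6 n956 = n1898 := rfl
def n1899 : Q := act 5 n957
theorem D1899 : act 5 n957 = n1899 := rfl
theorem F3053 : act 0 n1899 = n1892 := d4_1 D1899 (iv F3048) F3046
theorem F3055 : act 6 n1899 = n1890 := d20_2 D957 D1899 F3037 D1896 F3048 (iv D1892) F1513
def n1901 : Q := act 5 n958
theorem D1901 : act 5 n958 = n1901 := rfl
theorem F3057 : act 0 n1901 = n960 := d4_1 D1901 (iv D960) D958
def n1916 : Q := act 6 n964
theorem D1916 : act 6 n964 = n1916 := rfl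
theorem F3068 : act 2 n1916 = n1358 := d14_1 D1916 F2200 F2191
theorem F3069 : act 5 n1916 = n1340 := d22_2 D964 D1916 (iv D1340) (iv F1390)
def n1917 : Q := act 5 n965
theorem D1917 : act 5 n965 = n1917 := rfl
theorem F3070 : act 0 n1917 = n1916 := d4_1 D1917 F3069 F2174
def n1921 : Q := act 1 n967
theorem D1921 : act 1 n967 = n1921 := rfl
theorem F3075 : act 2 n1128 = n1921 := d23_1 F1797 (iv D1921) (iv D967) F786 D473 F790 F457 F458 (iv D241) (iv D129) F175 (iv D59) D57 D99 D178 D347 F596 D375 D771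
theorem F3077 : act 5 n1921 = n1520 := d13_2 F1797 F3075 (iv D1520)
def n1922 : Q := act 2 n967
theorem D1922 : act 2 n967 = n1922 := rfl
theorem F3078 : act 0 n1922 = n968 := d1_1 D1922 (iv D968) D967
theorem F3079 : act 1 n1922 = n1129 := d6_1 D1922 (iv D1129) D1128 F3075 (iv D1921)
theorem F3080 : act 5 n1922 = n972 := d13_2 (iv F1523) D1922 (iv D972)
def n1924 : Q := act 6 n968
theorem D1924 : act 6 n968 = n1924 := rfl
theorem F3083 : act 2 n1924 = n969 := d14_1 D1924 (iv D969) D968
def n1925 : Q := act 1 n969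
theorem D1925 : act 1 n969 = n1925 := rfl
theorem F3084 : act 6 n1925 = n970 := d10_2 D969 D1925 (iv D970) (iv D471) D470
def n1931 : Q := act 5 n971
theorem D1931 : act 5 n971 = n1931 := rfl
theorem F3088 : act 1 n1931 = n1520 := d9_1 D1931 (iv F3077) (iv D1921) F1523 D971
theorem F3089 : act 2 n1901 = n1931 := d23_1 D1901 F3088 F2468 (iv F2446) (iv D1509) (iv D762) (iv F1183) (iv D753) (iv F1377) (iv D188) (iv D104) D106 (iv F360) D356 D733 F1156 F622 D465 D958
def n1933 : Q := act 1 n972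
theorem D1933 : act 1 n972 = n1933 := rfl
def n1934 : Q := act 3 n972
theorem D1934 : act 3 n972 = n1934 := rfl
theorem F3103 : act 0 n1934 = n974 := d2_1 D1934 (iv D974) (iv F1526)
def n1937 : Q := act 2 n974
theorem D1937 : act 2 n974 = n1937 := rfl
def n1938 : Q := act 4 n974
theorem D1938 : act 4 n974 = n1938 := rfl
theorem F3108 : act 1 n1938 = n978 := d8_1 D1938 (iv D978) (iv F1529)
def n1939 : Q := act 6 n974
theorem D1939 : act 6 n974 = n1939 := rfl
def n1941 : Q := act 1 n976
theorem D1941 : act 1 n976 = n1941 := rfl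
def n1948 : Q := act 1 n981
theorem D1948 : act 1 n981 = n1948 := rfl
theorem F3133 : act 4 n1948 = n983 := d8_2 (iv F1547) D1948 (iv D983)
theorem F3135 : act 0 n1078 = n1948 := d3_3 F3133 F1825 (iv F1730)
def n1949 : Q := act 2 n982
theorem D1949 : act 2 n982 = n1949 := rfl
theorem F3136 : act 5 n1949 = n1080 := d13_2 (iv F1549) D1949 (iv D1080)
theorem F3137 : act 6 n1949 = n1660 := d14_2 (iv F1899) D1949 F2708
def n1957 : Q := act 6 n986
theorem D1957 : act 6 n986 = n1957 := rfl
theorem F3145 : act 3 n1957 = n992 := d17_1 D1957 (iv D992) (iv F1552)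
def n1962 : Q := act 6 n988
theorem D1962 : act 6 n988 = n1962 := rfl
theorem F3152 : act 3 n1962 = n990 := d17_1 D1962 (iv D990) D988
def n1964 : Q := act 6 n989
theorem D1964 : act 6 n989 = n1964 := rfl
theorem F3155 : act 4 n1964 = n992 := d19_1 D1964 (iv D992) (iv F1555)
theorem F3156 : act 5 n1964 = n1560 := d22_2 D989 D1964 (iv D1560) F1254
def n1965 : Q := act 1 n990
theorem D1965 : act 1 n990 = n1965 := rfl
theorem F3157 : act 4 n1965 = n993 := d8_2 (iv F1557) D1965 (iv D993)
def n1966 : Q := act 5 n990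
theorem D1966 : act 5 n990 = n1966 := rfl
theorem F3158 : act 0 n1966 = n1964 := d4_1 D1966 F3156 F2553
theorem F3160 : act 4 n1966 = n994 := d18_1 D1966 (iv D994) (iv F1557)
def n1967 : Q := act 0 n991
theorem D1967 : act 0 n991 = n1967 := rfl
theorem F3162 : act 2 n1967 = n1081 := d1_2 F1606 D1967 (iv F1732)
theorem F3163 : act 5 n1967 = n1164 := d4_2 F2709 D1967 F2710
theorem F3164 : act 6 n1080 = n1967 := d22_3 (iv F2709) (iv F3137) F3136 (iv D1967)
theorem F3165 : act 1 n1901 = n1967 := d6_5 F3162 F1731 D1520 (iv F3088) (iv F3089)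
def n1968 : Q := act 6 n991
theorem D1968 : act 6 n991 = n1968 := rfl
theorem F3166 : act 0 n1968 = n1080 := d5_1 D1968 F3164 (iv D1967)
theorem F3167 : act 2 n1968 = n1079 := d14_1 D1968 F1733 F1606
theorem F3168 : act 1 n1509 = n1968 := d6_5 F3167 (iv F1800) F1379 D762 D1509
def n1969 : Q := act 1 n992
theorem D1969 : act 1 n992 = n1969 := rfl
theorem F3177 : act 6 n1969 = n1509 := d10_2 D992 D1969 F3168 (iv D1968) (iv D991)
def n1974 : Q := act 1 n995
theorem D1974 : act 1 n995 = n1974 := rfl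
theorem F3180 : act 2 n1974 = n1008 := d6_2 D995 D1974 (iv D1008) (iv D491) (iv F809)
def n1978 : Q := act 1 n996
theorem D1978 : act 1 n996 = n1978 := rfl
theorem F3186 : act 3 n1978 = n998 := d7_2 (iv F1564) D1978 (iv D998)
theorem F3188 : act 5 n1978 = n1012 := d9_2 D996 D1978 (iv D1012) (iv D492) (iv F809)
def n1980 : Q := act 1 n997
theorem D1980 : act 1 n997 = n1980 := rfl
theorem F3192 : act 3 n1980 = n1000 := d7_2 (iv F1566) D1980 (iv D1000)
theorem F3193 : act 4 n1980 = n1118 := d8_2 (iv F1567) D1980 (iv D1118)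
theorem F3194 : act 6 n1980 = n1013 := d10_2 D997 D1980 (iv D1013) (iv D493) (iv F809)
def n1984 : Q := act 0 n1000
theorem D1984 : act 0 n1000 = n1984 := rfl
theorem F3205 : act 1 n1984 = n1124 := d0_2 D1000 D1984 (iv D1124) (iv D544) (iv F880) D1078 F3135 (iv D1948) F1546
theorem F3206 : act 4 n1984 = n1004 := d3_2 (iv F1572) D1984 (iv D1004)
theorem F3207 : act 6 n1984 = n1017 := d5_2 (iv F1573) D1984 (iv D1017)
theorem F3208 : act 2 n1429 = n1984 := d12_3 F3206 F1827 (iv F2331)
def n1986 : Q := act 5 n1000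
theorem D1986 : act 5 n1000 = n1986 := rfl
def n1987 : Q := act 1 n1001
theorem D1987 : act 1 n1001 = n1987 := rfl
theorem F3213 : act 4 n1987 = n1007 := d8_2 (iv F1575) D1987 (iv D1007)
theorem F3214 : act 6 n1987 = n1214 := d24_3 D486 D1001 D1987 (iv F2777) F2775 F1995 (iv F1994) (iv F1665) (iv D1048) F854 (iv D509) F483 (iv D248) (iv F462)
def n1990 : Q := act 0 n1008
theorem D1990 : act 0 n1008 = n1990 := rfl
theorem F3221 : act 4 n1990 = n1136 := d3_2 (iv F1584) D1990 (iv D1136)
def n1991 : Q := act 3 n1008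
theorem D1991 : act 3 n1008 = n1991 := rfl
theorem F3222 : act 1 n1991 = n1009 := d7_1 D1991 (iv D1009) D1008
def n1992 : Q := act 5 n1008
theorem D1992 : act 5 n1008 = n1992 := rfl
theorem F3223 : act 4 n1992 = n1138 := d18_1 D1992 (iv D1138) (iv F1584)
def n1993 : Q := act 6 n1008
theorem D1993 : act 6 n1008 = n1993 := rfl
theorem F3224 : act 4 n1993 = n1139 := d19_1 D1993 (iv D1139) (iv F1584)
def n1994 : Q := act 4 n1009
theorem D1994 : act 4 n1009 = n1994 := rfl
theorem F3225 : act 0 n1994 = n1034 := d3_1 D1994 (iv D1034) (iv F1585)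
theorem F3226 : act 2 n1994 = n1743 := d12_1 D1994 (iv D1743) (iv F1586)
theorem F3227 : act 3 n1994 = n1140 := d15_1 D1994 (iv D1140) (iv D555) (iv F823) D1009
def n1995 : Q := act 5 n1009
theorem D1995 : act 5 n1009 = n1995 := rfl
theorem F3228 : act 0 n1995 = n1035 := d4_1 D1995 (iv D1035) (iv F1585)
theorem F3229 : act 2 n1995 = n1744 := d13_1 D1995 (iv D1744) (iv F1586)
theorem F3230 : act 3 n1995 = n1010 := d16_1 D1995 (iv D1010) D1009
def n1996 : Q := act 6 n1009
theorem D1996 : act 6 n1009 = n1996 := rfl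
theorem F3231 : act 0 n1996 = n1036 := d5_1 D1996 (iv D1036) (iv F1585)
theorem F3232 : act 2 n1996 = n1745 := d14_1 D1996 (iv D1745) (iv F1586)
theorem F3233 : act 3 n1996 = n1011 := d17_1 D1996 (iv D1011) D1009
def n1997 : Q := act 1 n1010
theorem D1997 : act 1 n1010 = n1997 := rfl
theorem F3234 : act 4 n1997 = n1143 := d8_2 (iv F1589) D1997 (iv D1143)
def n1998 : Q := act 1 n1011
theorem D1998 : act 1 n1011 = n1998 := rfl
theorem F3235 : act 4 n1998 = n1144 := d8_2 (iv F1592) D1998 (iv D1144)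
def n1999 : Q := act 0 n1012
theorem D1999 : act 0 n1012 = n1999 := rfl
theorem F3236 : act 3 n1999 = n1014 := d2_2 (iv F1593) D1999 (iv D1014)
theorem F3237 : act 4 n1999 = n1145 := d3_2 (iv F1594) D1999 (iv D1145)
def n2000 : Q := act 2 n1012
theorem D2000 : act 2 n1012 = n2000 := rfl
theorem F3238 : act 4 n2000 = n1146 := d12_2 (iv F1594) D2000 (iv D1146)
def n2001 : Q := act 6 n1012
theorem D2001 : act 6 n1012 = n2001 := rfl
theorem F3239 : act 3 n2001 = n1016 := d17_1 D2001 (iv D1016) (iv F1593)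
theorem F3240 : act 4 n2001 = n1147 := d19_1 D2001 (iv D1147) (iv F1594)
def n2002 : Q := act 0 n1013
theorem D2002 : act 0 n1013 = n2002 := rfl
theorem F3241 : act 3 n2002 = n1017 := d2_2 (iv F1595) D2002 (iv D1017)
def n2004 : Q := act 5 n1013
theorem D2004 : act 5 n1013 = n2004 := rfl
def n2006 : Q := act 6 n1014
theorem D2006 : act 6 n1014 = n2006 := rfl
theorem F3248 : act 0 n2006 = n1016 := d5_1 D2006 (iv D1016) D1014
theorem F3250 : act 4 n2006 = n1021 := d19_1 D2006 (iv D1021) (iv F1597)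
theorem F3252 : act 1 n1508 = n2006 := d8_3 F3250 F1801 (iv F2444)
def n2007 : Q := act 3 n1015
theorem D2007 : act 3 n1015 = n2007 := rfl
theorem F3253 : act 0 n2007 = n1978 := d2_1 D2007 F3186 (iv F1599)
theorem F3254 : act 5 n2007 = n1999 := d16_2 (iv F1601) D2007 F3236
def n2008 : Q := act 1 n1017
theorem D2008 : act 1 n1017 = n2008 := rfl
theorem F3255 : act 0 n2008 = n2008 := d0_1 D2008 (iv D2008) (iv D1017) (iv D495) F469 F293 (iv F469) D495 D1017
theorem F3256 : act 4 n2008 = n1023 := d8_2 (iv F1603) D2008 (iv D1023)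
def n2009 : Q := act 2 n1017
theorem D2009 : act 2 n1017 = n2009 := rfl
theorem F3259 : act 4 n2009 = n1024 := d12_2 (iv F1603) D2009 (iv D1024)
theorem F3260 : act 6 n2009 = n1429 := d14_2 F3207 D2009 F3208
def n2010 : Q := act 5 n1017
theorem D2010 : act 5 n1017 = n2010 := rfl
theorem F3264 : act 6 n2010 = n1986 := d22_1 D2010 (iv D1986) F1573 D1017
def n2013 : Q := act 6 n1019
theorem D2013 : act 6 n1019 = n2013 := rfl
theorem F3270 : act 5 n2013 = n1984 := d20_1 D2013 F3207 D2010 F3264 (iv D1986) F1573 D1019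
theorem F3271 : act 1 n1334 = n2013 := d9_5 F3270 F3205 (iv F1894) F2513 F2512
def n2014 : Q := act 3 n1024
theorem D2014 : act 3 n1024 = n2014 := rfl
theorem F3272 : act 0 n2014 = n1026 := d2_1 D2014 (iv D1026) (iv F1622)
theorem F3273 : act 1 n2014 = n1415 := d7_1 D2014 F2307 (iv F1831)
theorem F3274 : act 6 n2014 = n1424 := d17_2 F1830 D2014 F2324
def n2016 : Q := act 2 n1026
theorem D2016 : act 2 n1026 = n2016 := rfl
theorem F3279 : act 3 n2016 = n1348 := d21_1 D2016 (iv D1348) (iv F1806) (iv D573) (iv F837) D1024 D2014 F3272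
def n2019 : Q := act 1 n1027
theorem D2019 : act 1 n1027 = n2019 := rfl
def n2020 : Q := act 1 n1029
theorem D2020 : act 1 n1029 = n2020 := rfl
theorem F3281 : act 4 n2020 = n1178 := d8_2 (iv F1631) D2020 (iv D1178)
def n2021 : Q := act 3 n1029
theorem D2021 : act 3 n1029 = n2021 := rfl
theorem F3282 : act 0 n2021 = n1030 := d2_1 D2021 (iv D1030) D1029
def n2022 : Q := act 5 n1029
theorem D2022 : act 5 n1029 = n2022 := rfl
theorem F3283 : act 0 n2022 = n1031 := d4_1 D2022 (iv D1031) D1029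
theorem F3284 : act 2 n2022 = n1061 := d13_1 D2022 (iv D1061) (iv F1630)
theorem F3285 : act 4 n2022 = n1180 := d18_1 D2022 (iv D1180) (iv F1631)
def n2023 : Q := act 6 n1029
theorem D2023 : act 6 n1029 = n2023 := rfl
theorem F3286 : act 0 n2023 = n1032 := d5_1 D2023 (iv D1032) D1029
theorem F3287 : act 2 n2023 = n1062 := d14_1 D2023 (iv D1062) (iv F1630)
theorem F3288 : act 4 n2023 = n1181 := d19_1 D2023 (iv D1181) (iv F1631)
def n2024 : Q := act 2 n1030
theorem D2024 : act 2 n1030 = n2024 := rfl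
def n2025 : Q := act 4 n1030
theorem D2025 : act 4 n1030 = n2025 := rfl
theorem F3289 : act 1 n2025 = n1034 := d8_1 D2025 (iv D1034) (iv F1632)
theorem F3290 : act 3 n2025 = n1183 := d15_1 D2025 (iv D1183) (iv D579) (iv F840) D1030
def n2026 : Q := act 5 n1030
theorem D2026 : act 5 n1030 = n2026 := rfl
theorem F3291 : act 3 n2026 = n1031 := d16_1 D2026 (iv D1031) D1030
def n2027 : Q := act 6 n1030
theorem D2027 : act 6 n1030 = n2027 := rfl
theorem F3292 : act 3 n2027 = n1032 := d17_1 D2027 (iv D1032) D1030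
def n2028 : Q := act 1 n1031
theorem D2028 : act 1 n1031 = n2028 := rfl
theorem F3293 : act 4 n2028 = n1186 := d8_2 (iv F1634) D2028 (iv D1186)
theorem F3294 : act 5 n2028 = n1037 := d9_2 D1031 D2028 (iv D1037) (iv D504) D502
def n2029 : Q := act 6 n1031
theorem D2029 : act 6 n1031 = n2029 := rfl
theorem F3295 : act 2 n2029 = n1063 := d14_1 D2029 (iv D1063) (iv F1633)
theorem F3296 : act 4 n2029 = n1187 := d19_1 D2029 (iv D1187) (iv F1634)
theorem F3297 : act 5 n2029 = n2023 := d22_2 D1031 D2029 (iv D2023) (iv D1029)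
def n2030 : Q := act 1 n1032
theorem D2030 : act 1 n1032 = n2030 := rfl
theorem F3298 : act 2 n2030 = n2030 := d6_2 (iv F1635) D2030 (iv D2030) F1635 F867
theorem F3299 : act 4 n2030 = n1188 := d8_2 (iv F1636) D2030 (iv D1188)
theorem F3300 : act 6 n2030 = n1039 := d10_2 D1032 D2030 (iv D1039) (iv D505) D502
def n2031 : Q := act 5 n1032
theorem D2031 : act 5 n1032 = n2031 := rfl
theorem F3301 : act 0 n2031 = n2029 := d4_1 D2031 F3297 F3286
theorem F3302 : act 2 n2031 = n1064 := d13_1 D2031 (iv D1064) (iv F1635)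
theorem F3303 : act 4 n2031 = n1189 := d18_1 D2031 (iv D1189) (iv F1636)
theorem F3304 : act 6 n2031 = n2022 := d20_2 D1032 D2031 (iv D2022) D2023 (iv F3297) (iv D2029) (iv D1031)
def n2032 : Q := act 1 n1033
theorem D2032 : act 1 n1033 = n2032 := rfl
theorem F3305 : act 3 n2032 = n1692 := d7_2 (iv F1638) D2032 (iv D1692)
def n2033 : Q := act 4 n1033
theorem D2033 : act 4 n1033 = n2033 := rfl
theorem F3306 : act 0 n2033 = n1743 := d3_1 D2033 (iv D1743) (iv F1637)
theorem F3307 : act 2 n2033 = n1034 := d12_1 D2033 (iv D1034) D1033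
def n2034 : Q := act 5 n1033
theorem D2034 : act 5 n1033 = n2034 := rfl
theorem F3308 : act 0 n2034 = n1744 := d4_1 D2034 (iv D1744) (iv F1637)
theorem F3309 : act 2 n2034 = n1035 := d13_1 D2034 (iv D1035) D1033
theorem F3310 : act 3 n2034 = n1693 := d16_1 D2034 (iv D1693) (iv F1638)
def n2035 : Q := act 6 n1033
theorem D2035 : act 6 n1033 = n2035 := rfl
theorem F3311 : act 0 n2035 = n1745 := d5_1 D2035 (iv D1745) (iv F1637)
theorem F3312 : act 2 n2035 = n1036 := d14_1 D2035 (iv D1036) D1033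
theorem F3313 : act 3 n2035 = n1694 := d17_1 D2035 (iv D1694) (iv F1638)
def n2036 : Q := act 5 n1034
theorem D2036 : act 5 n1034 = n2036 := rfl
theorem F3314 : act 3 n2036 = n1190 := d16_1 D2036 (iv D1190) (iv F1639)
theorem F3315 : act 4 n2036 = n1035 := d18_1 D2036 (iv D1035) D1034
def n2037 : Q := act 6 n1034
theorem D2037 : act 6 n1034 = n2037 := rfl
theorem F3316 : act 3 n2037 = n1191 := d17_1 D2037 (iv D1191) (iv F1639)
theorem F3317 : act 4 n2037 = n1036 := d19_1 D2037 (iv D1036) D1034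
def n2038 : Q := act 1 n1035
theorem D2038 : act 1 n1035 = n2038 := rfl
theorem F3318 : act 3 n2038 = n1037 := d7_2 (iv F1640) D2038 (iv D1037)
def n2039 : Q := act 6 n1035
theorem D2039 : act 6 n1035 = n2039 := rfl
theorem F3319 : act 3 n2039 = n1038 := d17_1 D2039 (iv D1038) (iv F1640)
theorem F3320 : act 5 n2039 = n1996 := d22_2 D1035 D2039 (iv D1996) F1585
def n2040 : Q := act 1 n1036
theorem D2040 : act 1 n1036 = n2040 := rfl
theorem F3321 : act 3 n2040 = n1039 := d7_2 (iv F1641) D2040 (iv D1039)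
def n2041 : Q := act 5 n1036
theorem D2041 : act 5 n1036 = n2041 := rfl
theorem F3322 : act 0 n2041 = n2039 := d4_1 D2041 F3320 F3231
theorem F3323 : act 3 n2041 = n1040 := d16_1 D2041 (iv D1040) (iv F1641)
theorem F3324 : act 6 n2041 = n1995 := d20_2 D1036 D2041 (iv D1995) D1996 (iv F3320) (iv D2039) (iv D1035)
def n2042 : Q := act 0 n1037
theorem D2042 : act 0 n1037 = n2042 := rfl
theorem F3325 : act 4 n2042 = n1196 := d3_2 (iv F1642) D2042 (iv D1196)
def n2043 : Q := act 6 n1037
theorem D2043 : act 6 n1037 = n2043 := rfl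
theorem F3326 : act 4 n2043 = n1198 := d19_1 D2043 (iv D1198) (iv F1642)
def n2044 : Q := act 1 n1038
theorem D2044 : act 1 n1038 = n2044 := rfl
theorem F3327 : act 4 n2044 = n1199 := d8_2 (iv F1644) D2044 (iv D1199)
def n2045 : Q := act 0 n1039
theorem D2045 : act 0 n1039 = n2045 := rfl
theorem F3329 : act 4 n2045 = n1200 := d3_2 (iv F1647) D2045 (iv D1200)
def n2046 : Q := act 5 n1039
theorem D2046 : act 5 n1039 = n2046 := rfl
theorem F3331 : act 4 n2046 = n1201 := d18_1 D2046 (iv D1201) (iv F1647)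
def n2047 : Q := act 1 n1040
theorem D2047 : act 1 n1040 = n2047 := rfl
theorem F3332 : act 4 n2047 = n1202 := d8_2 (iv F1650) D2047 (iv D1202)
def n2048 : Q := act 0 n1041
theorem D2048 : act 0 n1041 = n2048 := rfl
theorem F3333 : act 3 n2048 = n1043 := d2_2 (iv F1652) D2048 (iv D1043)
theorem F3334 : act 4 n2048 = n1208 := d3_2 (iv F1653) D2048 (iv D1208)
def n2049 : Q := act 2 n1041
theorem D2049 : act 2 n1041 = n2049 := rfl
theorem F3335 : act 4 n2049 = n1209 := d12_2 (iv F1653) D2049 (iv D1209)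
def n2050 : Q := act 5 n1041
theorem D2050 : act 5 n1041 = n2050 := rfl
theorem F3336 : act 1 n2050 = n2004 := d9_1 D2050 (iv D2004) (iv D1013) (iv F847) D1041
theorem F3337 : act 3 n2050 = n1045 := d16_1 D2050 (iv D1045) (iv F1652)
theorem F3338 : act 4 n2050 = n1210 := d18_1 D2050 (iv D1210) (iv F1653)
def n2051 : Q := act 0 n1042
theorem D2051 : act 0 n1042 = n2051 := rfl
theorem F3339 : act 3 n2051 = n1046 := d2_2 (iv F1654) D2051 (iv D1046)
def n2052 : Q := act 2 n1042
theorem D2052 : act 2 n1042 = n2052 := rfl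
theorem F3342 : act 4 n2052 = n1212 := d12_2 (iv F1655) D2052 (iv D1212)
theorem F3343 : act 5 n2052 = n2052 := d13_2 F1656 D2052 (iv D2052)
def n2053 : Q := act 6 n1042
theorem D2053 : act 6 n1042 = n2053 := rfl
theorem F3344 : act 1 n2053 = n2001 := d10_1 D2053 (iv D2001) (iv D1012) (iv F851) D1042
theorem F3345 : act 3 n2053 = n1048 := d17_1 D2053 (iv D1048) (iv F1654)
theorem F3346 : act 4 n2053 = n1213 := d19_1 D2053 (iv D1213) (iv F1655)
def n2054 : Q := act 2 n1043
theorem D2054 : act 2 n1043 = n2054 := rfl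
theorem F3347 : act 0 n2054 = n1044 := d1_1 D2054 (iv D1044) D1043
def n2055 : Q := act 5 n1043
theorem D2055 : act 5 n1043 = n2055 := rfl
theorem F3352 : act 6 n2055 = n1540 := d22_1 D2055 (iv D1540) F1231 D1043
def n2056 : Q := act 3 n1044
theorem D2056 : act 3 n1044 = n2056 := rfl
def n2059 : Q := act 1 n1046
theorem D2059 : act 1 n1046 = n2059 := rfl
theorem F3358 : act 4 n2059 = n1055 := d8_2 (iv F1661) D2059 (iv D1055)
theorem F3359 : act 5 n1176 = n2059 := d18_0 F3358 F1837 D1176
theorem F3360 : act 6 n1323 = n2059 := d19_0 F3358 (iv F1685) (iv F2142)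
def n2060 : Q := act 2 n1046
theorem D2060 : act 2 n1046 = n2060 := rfl
theorem F3361 : act 0 n2060 = n1047 := d1_1 D2060 (iv D1047) D1046
def n2061 : Q := act 6 n1046
theorem D2061 : act 6 n1046 = n2061 := rfl
theorem F3364 : act 0 n2061 = n1048 := d5_1 D2061 (iv D1048) D1046
theorem F3365 : act 1 n2061 = n1229 := d10_1 D2061 F2000 (iv F2141) F3360 (iv D2059)
theorem F3367 : act 5 n2061 = n1048 := d22_2 F1662 D2061 (iv D1048) D1046
def n2062 : Q := act 3 n1047
theorem D2062 : act 3 n1047 = n2062 := rfl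
theorem F3368 : act 5 n2062 = n2062 := d16_2 F1664 D2062 (iv D2062)
def n2063 : Q := act 6 n1047
theorem D2063 : act 6 n1047 = n2063 := rfl
theorem F3369 : act 2 n2063 = n1048 := d14_1 D2063 (iv D1048) D1047
theorem F3370 : act 4 n2063 = n1059 := d19_1 D2063 (iv D1059) (iv F1663)
theorem F3371 : act 1 n1228 = n2063 := d8_3 F3370 (iv F1694) (iv F1997)
def n2066 : Q := act 5 n1050
theorem D2066 : act 5 n1050 = n2066 := rfl
theorem F3373 : act 0 n2066 = n1053 := d4_1 D2066 (iv D1053) (iv F1668)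
theorem F3374 : act 2 n2066 = n1051 := d13_1 D2066 (iv D1051) D1050
def n2070 : Q := act 1 n1053
theorem D2070 : act 1 n1053 = n2070 := rfl
theorem F3377 : act 2 n2070 = n2019 := d6_2 (iv F1680) D2070 (iv D2019) F1626 (iv F856)
def n2074 : Q := act 3 n1056
theorem D2074 : act 3 n1056 = n2074 := rfl
theorem F3383 : act 0 n2074 = n1058 := d2_1 D2074 (iv D1058) (iv F1686)
def n2075 : Q := act 6 n1056
theorem D2075 : act 6 n1056 = n2075 := rfl
theorem F3385 : act 0 n2075 = n1059 := d5_1 D2075 (iv D1059) (iv F1686)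
theorem F3386 : act 2 n2075 = n1057 := d14_1 D2075 (iv D1057) D1056
theorem F3387 : act 5 n2075 = n1059 := d22_2 F1687 D2075 (iv D1059) (iv F1686)
def n2076 : Q := act 2 n1058
theorem D2076 : act 2 n1058 = n2076 := rfl
theorem F3388 : act 5 n2076 = n2076 := d13_2 F1692 D2076 (iv D2076)
def n2077 : Q := act 4 n1058
theorem D2077 : act 4 n1058 = n2077 := rfl
theorem F3389 : act 5 n2077 = n2077 := d18_2 F1692 D2077 (iv D2077)
def n2078 : Q := act 6 n1058
theorem D2078 : act 6 n1058 = n2078 := rfl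
theorem F3390 : act 3 n2078 = n1059 := d17_1 D2078 (iv D1059) D1058
theorem F3391 : act 1 n1260 = n2078 := d7_3 F3390 (iv F1694) D1260
def n2079 : Q := act 0 n1060
theorem D2079 : act 0 n1060 = n2079 := rfl
theorem F3392 : act 1 n2079 = n1273 := d0_2 D1060 D2079 (iv D1273) (iv D629) (iv D309) (iv D161) (iv F300) D259 D516
theorem F3393 : act 3 n2079 = n1273 := d2_2 (iv F1695) D2079 (iv D1273)
theorem F3394 : act 4 n2079 = n1273 := d3_2 (iv F1696) D2079 (iv D1273)
def n2080 : Q := act 2 n1060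
theorem D2080 : act 2 n1060 = n2080 := rfl
theorem F3395 : act 4 n2080 = n1274 := d12_2 (iv F1696) D2080 (iv D1274)
def n2081 : Q := act 5 n1060
theorem D2081 : act 5 n1060 = n2081 := rfl
theorem F3396 : act 3 n2081 = n1275 := d16_1 D2081 (iv D1275) (iv F1695)
def n2082 : Q := act 6 n1060
theorem D2082 : act 6 n1060 = n2082 := rfl
theorem F3398 : act 3 n2082 = n1276 := d17_1 D2082 (iv D1276) (iv F1695)
theorem F3399 : act 4 n2082 = n1276 := d19_1 D2082 (iv D1276) (iv F1696)
def n2083 : Q := act 1 n1061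
theorem D2083 : act 1 n1061 = n2083 := rfl
theorem F3400 : act 3 n2083 = n1277 := d7_2 (iv F1698) D2083 (iv D1277)
theorem F3401 : act 4 n2083 = n1277 := d8_2 (iv F1699) D2083 (iv D1277)
def n2084 : Q := act 1 n1062
theorem D2084 : act 1 n1062 = n2084 := rfl
theorem F3402 : act 3 n2084 = n1278 := d7_2 (iv F1701) D2084 (iv D1278)
theorem F3403 : act 4 n2084 = n1278 := d8_2 (iv F1702) D2084 (iv D1278)
def n2085 : Q := act 1 n1063
theorem D2085 : act 1 n1063 = n2085 := rfl
theorem F3404 : act 3 n2085 = n1282 := d7_2 (iv F1703) D2085 (iv D1282)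
theorem F3405 : act 4 n2085 = n1282 := d8_2 (iv F1704) D2085 (iv D1282)
def n2086 : Q := act 1 n1064
theorem D2086 : act 1 n1064 = n2086 := rfl
theorem F3407 : act 4 n2086 = n1283 := d8_2 (iv F1708) D2086 (iv D1283)
theorem F3408 : act 5 n2086 = n2086 := d9_2 D1064 D2086 (iv D2086) (iv D1064) F867
def n2102 : Q := act 0 n1073
theorem D2102 : act 0 n1073 = n2102 := rfl
def n2103 : Q := act 2 n1073
theorem D2103 : act 2 n1073 = n2103 := rfl
theorem F3433 : act 1 n2103 = n1083 := d6_1 D2103 (iv D1083) (iv D527) (iv F876) D1073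
theorem F3434 : act 0 n1381 = n2103 := d0_9 F3433 (iv F1834) F2218 (iv D1363) (iv D675) F562 D333 D685 D1381
theorem F3436 : act 6 n2103 = n2102 := d5_2 (iv F2244) F3434 (iv D2102)
theorem F3437 : act 1 n2102 = n1582 := d10_1 F3436 F2587 (iv F2218) (iv F1835) (iv F3433)
theorem F3438 : act 1 n1351 = n1108 := d0_4 F3437 F2586 (iv D1357) (iv F2192) (iv D1108) (iv D537) (iv F875) D1073 D2102
theorem E27 : n1784 = n1366 := ((c6_5 (iv F2193) F3438 F1832 (iv F1821) D1366 F2892)).symm
theorem F3439 : act 1 n1366 = n965 := (sb E27 F2892)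
theorem E28 : n1175 = n904 := ((F2215).symm.trans (sb E27 (iv D1784)))
theorem E30 : n1782 = n575 := ((D1782).symm.trans (sb E28 (iv D1175)))
theorem F3440 : act 6 n904 = n1366 := (sb E28 (iv F2215))
theorem F3442 : act 2 n575 = n904 := (sb E30 (iv D1782))
theorem F3447 : act 2 n1734 = n2014 := d11_3 D575 F3442 (iv F2834) (iv D2014) (iv D1024) F837 D573 F1806 D1348 (iv F3279) (iv D2016) (iv D1026) (iv D500) F472 D284
theorem F3449 : act 0 n1734 = n2016 := d21_8 (iv D2016) (iv D1026) (iv D500) F472 D284 D575 F3442 (iv F2834)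
theorem E32 : n1734 = n882 := ((c6_6 F3447 F3273 F2306 (iv F3273) (iv F3447) (iv D1734))).symm
theorem E33 : n2016 = n427 := ((((iv D882)).symm.trans (sb E32 F3449))).symm
theorem E34 : n2014 = n1656 := ((((iv F2698)).symm.trans (sb E32 F3447))).symm
theorem E35 : n904 = n439 := (((F1416).symm.trans (sb E32 F2834))).symm
theorem E36 : n1026 = n847 := ((((iv F1343)).symm.trans (sb E33 (iv D2016)))).symm
theorem E37 : n1348 = n221 := (((F722).symm.trans (sb E33 F3279))).symm
theorem E39 : n1024 = n844 := (((F2699).symm.trans (sb E34 (iv D2014)))).symm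
theorem E40 : n1424 = n841 := ((((iv D1656)).symm.trans (sb E34 F3274))).symm
theorem E41 : n575 = n439 := (((F743).symm.trans (sb E35 (iv F3442)))).symm
theorem E44 : n1366 = n237 := (((F744).symm.trans (sb E35 F3440))).symm
theorem E45 : n1708 = n1667 := (((D1667).symm.trans (sb E36 (iv F2790)))).symm
theorem E46 : n500 = n413 := (((F1344).symm.trans (sb E36 (iv D1026)))).symm
theorem E50 : n666 = n221 := (((F424).symm.trans (sb E37 (iv D1348)))).symm
theorem E51 : n677 = n126 := (((F425).symm.trans (sb E37 F2187))).symm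
theorem E52 : n1661 = n709 := ((D1661).symm.trans (sb E39 F1831))
theorem E53 : n499 = n413 := (((F1338).symm.trans (sb E39 (iv D1024)))).symm
theorem E54 : n2009 = n1659 := ((((iv F2707)).symm.trans (sb E39 (iv F3259)))).symm
theorem E56 : n717 = n408 := ((((iv D844)).symm.trans (sb E39 (iv F1830)))).symm
theorem E57 : n712 = n480 := (((F1330).symm.trans (sb E40 (iv D1424)))).symm
theorem E58 : n882 = n284 := (((iv F1416)).symm.trans (sb E41 (iv D575)))
theorem E59 : n1176 = n896 := ((((iv F1437)).symm.trans (sb E41 D1176))).symm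
theorem E60 : n1055 = n471 := ((((iv F789)).symm.trans (sb E41 (iv F1837)))).symm
theorem E61 : n676 = n237 := (((F744).symm.trans (sb E41 F1838))).symm
theorem E64 : n965 = n468 := (((D468).symm.trans (sb E44 F3439))).symm
theorem E66 : n869 = n853 := (((F2725).symm.trans (sb E45 (iv D1708)))).symm
theorem E67 : n844 = n251 := (((iv F1338)).symm.trans (sb E46 (iv D500)))
theorem E69 : n1027 = n854 := (((D854).symm.trans (sb E46 D1027))).symm
theorem E71 : n325 = n118 := ((((iv D221)).symm.trans (sb E50 (iv D666)))).symm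
theorem E72 : n573 = n427 := ((((iv F722)).symm.trans (sb E50 (iv F1806)))).symm
theorem E73 : n1311 = n434 := ((((iv F736)).symm.trans (sb E50 (iv F2115)))).symm
theorem E75 : n329 = n126 := (((F425).symm.trans (sb E50 F1054))).symm
theorem E76 : n1364 = n69 := ((((iv D126)).symm.trans (sb E51 (iv F2211)))).symm
theorem E78 : n709 = n133 := ((((iv D251)).symm.trans (iv (sb E52 (tr (iv D1661) E67))))).symm
theorem E79 : n1661 = n133 := (E52).trans E78
theorem E80 : n993 = n74 := ((((iv D133)).symm.trans (sb E79 F2711))).symm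
theorem E81 : n1023 = n853 := (((D853).symm.trans (sb E53 D1023))).symm
theorem E82 : n847 = n283 := (((iv F1344)).symm.trans (sb E53 F837))
theorem E83 : n1017 = n850 := ((((iv F1347)).symm.trans (sb E53 (iv F1603)))).symm
theorem E84 : n1025 = n854 := (((D854).symm.trans (sb E53 D1025))).symm
theorem E85 : n1004 = n208 := ((((iv D413)).symm.trans (sb E53 (iv F1580)))).symm
theorem E86 : n1429 = n842 := ((((iv D1659)).symm.trans (sb E54 F3260))).symm
theorem E88 : n348 = n243 := (((F693).symm.trans (sb E56 (iv D717)))).symm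
theorem E89 : n1433 = n843 := (((D843).symm.trans (sb E56 D1433))).symm
theorem E93 : n986 = n725 := ((D986).symm.trans (sb E57 (iv F1139)))
theorem E95 : n1656 = n149 := ((((iv D284)).symm.trans (sb E58 (iv F2698)))).symm
theorem E96 : n1723 = n564 := ((((iv F927)).symm.trans (sb E58 (iv F2820)))).symm
theorem E97 : n915 = n576 := (((D576).symm.trans (sb E58 (iv F1460)))).symm
theorem E99 : n2059 = n954 := ((((iv F1517)).symm.trans (sb E59 F3359))).symm
theorem E101 : n970 = n513 := ((D970).symm.trans (sb E60 (iv D1055)))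
theorem E102 : n678 = n238 := ((((iv D471)).symm.trans (sb E60 (iv F1685)))).symm
theorem E103 : n1084 = n468 := (((D468).symm.trans (sb E61 F1821))).symm
theorem E107 : n1340 = n661 := (((F1390).symm.trans (sb E64 (iv F2174)))).symm
theorem E111 : n1917 = n964 := (((D964).symm.trans (sb E64 D1917))).symm
theorem E112 : n1706 = n1678 := (((D1678).symm.trans (sb E66 (iv F2787)))).symm
theorem E113 : n1679 = n421 := ((D1679).symm.trans (sb E66 (iv D869)))
theorem E114 : n1701 = n1674 := ((((iv F2739)).symm.trans (sb E66 (iv F2781)))).symm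
theorem E115 : n1709 = n1680 := (((D1680).symm.trans (sb E66 D1709))).symm
theorem F3457 : act 0 n251 = n413 := (sb E67 F1337)
theorem F3458 : act 2 n251 = n413 := (sb E67 F1338)
theorem E116 : n1659 = n495 := ((((iv F831)).symm.trans (sb E67 (iv F2707)))).symm
theorem E117 : n852 = n501 := (((D501).symm.trans (sb E67 (iv F1349)))).symm
theorem E118 : n489 = n408 := (((iv F818)).symm.trans (sb E67 (iv D844)))
theorem E122 : n2019 = n1681 := (((D1681).symm.trans (sb E69 D2019))).symm
theorem E124 : n660 = n212 := ((((iv F411)).symm.trans (sb E71 (iv F1049)))).symm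
theorem E126 : n371 = n215 := ((((iv F415)).symm.trans (sb E71 (iv F629)))).symm
theorem E127 : n647 = n218 := ((((iv F420)).symm.trans (sb E71 (iv F1028)))).symm
theorem E128 : n667 = n222 := (((D222).symm.trans (sb E71 D667))).symm
theorem E129 : n167 = n65 := ((((iv D118)).symm.trans (sb E71 (iv D325)))).symm
theorem E132 : n376 = n223 := (((F723).symm.trans (sb E72 F1807))).symm
theorem E133 : n651 = n233 := (((F737).symm.trans (sb E73 F2116))).symm
theorem E135 : n169 = n69 := ((((iv D126)).symm.trans (sb E75 (iv D329)))).symm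
theorem E136 : n1562 = n57 := (((F167).symm.trans (sb E76 F2559))).symm
theorem E141 : n1345 = n137 := ((((iv F296)).symm.trans (sb E78 (iv F2182)))).symm
theorem E142 : n344 = n74 := ((((iv D133)).symm.trans (sb E78 (iv D709)))).symm
theorem E144 : n483 = n130 := (((D130).symm.trans (sb E80 (iv D993)))).symm
theorem E146 : n1965 = n131 := (((D131).symm.trans (sb E80 (iv F3157)))).symm
theorem E148 : n1678 = n853 := ((D1678).symm.trans (sb E81 (tr F1620 E81)))
theorem E149 : n1337 = n421 := (((E113).symm.trans ((D1679).symm.trans (sb E81 (iv F2166))))).symm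
theorem E151 : n2008 = n1674 := ((((iv F2739)).symm.trans (sb E81 (iv F3256)))).symm
theorem E152 : n1680 = n421 := ((D1680).symm.trans (sb E81 (tr (iv F2168) E149)))
theorem E153 : n572 = n421 := (((F1350).symm.trans (sb E81 F1828))).symm
theorem E155 : n1664 = n563 := ((((iv F925)).symm.trans (sb E82 (iv F2717)))).symm
theorem E156 : n1668 = n574 := (((D574).symm.trans (sb E82 D1668))).symm
theorem E157 : n550 = n410 := (((iv F911)).symm.trans (sb E82 (iv D847)))
theorem E158 : n2002 = n1671 := ((((iv F2732)).symm.trans (sb E83 (iv F3241)))).symm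
theorem E160 : n1984 = n411 := ((((iv D850)).symm.trans (sb E83 (iv F3207)))).symm
theorem E161 : n1681 = n665 := ((D1681).symm.trans (sb E84 (iv F1804)))
theorem E162 : n1006 = n843 := (((F1353).symm.trans (sb E84 F1625))).symm
theorem E163 : n410 = n114 := ((((iv D208)).symm.trans (sb E85 (tr (iv F1826) E157)))).symm
theorem E164 : n550 = n114 := (E157).trans E163
theorem E165 : n1028 = n412 := (((D412).symm.trans (sb E85 (iv F1629)))).symm
theorem E166 : n715 = n481 := (((F1333).symm.trans (sb E86 (iv D1429)))).symm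
theorem E167 : n385 = n182 := ((F695).symm.trans (sb E88 F597))
theorem E168 : n191 = n130 := ((((iv D243)).symm.trans (sb E88 F598))).symm
theorem E169 : n482 = n357 := ((D482).symm.trans (sb E88 (iv F610)))
theorem E171 : n1660 = n1467 := ((D1660).symm.trans (sb E89 (iv F2386)))
theorem E183 : n1957 = n351 := ((((iv D725)).symm.trans (sb E93 D1957))).symm
theorem E187 : n841 = n273 := ((((iv F503)).symm.trans (sb E95 (iv D1656)))).symm
theorem E188 : n1804 = n1161 := (((D1161).symm.trans (sb E96 (iv F2921)))).symm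
theorem E189 : n1125 = n910 := (((iv F1793)).symm.trans (sb E96 F2821))
theorem E191 : n776 = n444 := ((F1813).symm.trans (sb E97 (iv D915)))
theorem E195 : n1323 = n463 := ((((iv D954)).symm.trans (sb E99 (iv F3360)))).symm
theorem E199 : n1925 = n1057 := (((D1057).symm.trans (sb E101 (iv F3084)))).symm
theorem E200 : n617 = n470 := (((D470).symm.trans (sb E102 F1065))).symm
theorem E204 : n964 = n527 := ((D964).symm.trans (sb E103 (iv D1084)))
theorem E206 : n671 = n326 := (((F1050).symm.trans (sb E107 F2175))).symm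
theorem E207 : n1916 = n1339 := (((D1339).symm.trans (sb E107 (iv F3069)))).symm
theorem E210 : n1917 = n527 := (E111).trans E204
theorem E211 : n1339 = n983 := ((((iv F1825)).symm.trans (sb E210 (tr F3070 E207)))).symm
theorem E213 : n1706 = n853 := (E112).trans E148
theorem E214 : n868 = n421 := (((E113).symm.trans ((D1679).symm.trans (sb E213 (iv D1706))))).symm
theorem F3472 : act 2 n421 = n853 := (sb E113 (iv D1679))
theorem F3473 : act 2 n1674 = n864 := (sb E114 (iv D1701))
theorem E215 : n1709 = n421 := (E115).trans E152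
theorem E216 : n870 = n853 := (((F3472).symm.trans (sb E215 F2791))).symm
theorem F3474 : act 0 n495 = n850 := (sb E116 F2705)
theorem F3475 : act 2 n495 = n850 := (sb E116 F2706)
theorem E217 : n1673 = n1019 := (((D1019).symm.trans (sb E116 (iv F2738)))).symm
theorem E218 : n1000 = n842 := (((iv F1573)).symm.trans (sb E116 (iv D1659)))
theorem F3476 : act 0 n501 = n854 := (sb E117 (iv F1351))
theorem F3477 : act 2 n501 = n854 := (sb E117 (iv F1352))
theorem E220 : n246 = n243 := (((F693).symm.trans (sb E118 (iv D489)))).symm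
theorem F3478 : act 6 n408 = n251 := (sb E118 F818)
theorem E221 : n2019 = n665 := (E122).trans E161
theorem E222 : n2070 = n137 := (((E141).symm.trans (((iv F2181)).symm.trans (sb E221 (iv F3377))))).symm
theorem E225 : n665 = n220 := ((((iv F423)).symm.trans (sb E124 (iv F1053)))).symm
theorem E232 : n761 = n424 := ((((iv F717)).symm.trans (sb E126 (iv F1193)))).symm
theorem E233 : n765 = n428 := (((D428).symm.trans (sb E126 D765))).symm
theorem E236 : n1312 = n435 := (((D435).symm.trans (sb E127 D1312))).symm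
theorem E237 : n316 = n116 := ((((iv D218)).symm.trans (sb E127 (iv D647)))).symm
theorem E238 : n568 = n441 := (((D441).symm.trans (sb E128 F1803))).symm
theorem E239 : n659 = n211 := (((F428).symm.trans (sb E128 F1056))).symm
theorem E240 : n92 = n40 := ((((iv D65)).symm.trans (sb E129 (iv D167)))).symm
theorem E241 : n324 = n117 := (((D117).symm.trans (sb E129 D324))).symm
theorem E244 : n130 = n119 := ((((iv D223)).symm.trans (sb E132 (tr (iv D376) E168)))).symm
theorem E245 : n318 = n124 := ((((iv D233)).symm.trans (sb E133 (iv D651)))).symm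
theorem E251 : n94 = n57 := (((F167).symm.trans (sb E135 F336))).symm
theorem E252 : n328 = n43 := (((F168).symm.trans (sb E135 (iv F563)))).symm
theorem E253 : n191 = n119 := (E168).trans E244
theorem E254 : n158 = n127 := (((D127).symm.trans (sb E135 F337))).symm
theorem E255 : n797 = n99 := (((D99).symm.trans (sb E136 (iv D1562)))).symm
theorem E256 : n1363 = n33 := ((((iv D57)).symm.trans (sb E136 F2557))).symm
theorem E257 : n806 = n62 := ((((iv F157)).symm.trans (sb E136 F2558))).symm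
theorem E265 : n708 = n132 := (((D132).symm.trans (sb E142 D708))).symm
theorem E266 : n483 = n119 := (E144).trans E244
theorem E267 : n100 = n99 := ((F263).symm.trans (sb E266 (tr (iv F1259) E255)))
theorem E268 : n243 = n66 := ((((iv D119)).symm.trans (sb E266 (tr F808 E220)))).symm
theorem E269 : n990 = n224 := (((D224).symm.trans (sb E266 (iv F1557)))).symm
theorem E270 : n994 = n225 := (((D225).symm.trans (sb E266 D994))).symm
theorem E271 : n244 = n224 := (((iv F462)).symm.trans (sb E146 (tr (iv D1965) E269)))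
theorem F3482 : act 0 n853 = n853 := (sb E148 (iv D1678))
theorem E273 : n1173 = n859 := ((((iv F1363)).symm.trans (sb E149 F2167))).symm
theorem E274 : n859 = n853 := ((((iv F1350)).symm.trans (sb E149 (tr F2169 E273)))).symm
theorem F3483 : act 0 n1674 = n1674 := (sb E151 (tr F3255 E151))
theorem E277 : n283 = n212 := ((((iv D421)).symm.trans (sb E153 (iv D572)))).symm
theorem E279 : n1124 = n845 := (((iv F1791)).symm.trans (sb E155 (iv D1664)))
theorem E280 : n1655 = n552 := (((F939).symm.trans (sb E156 F2730))).symm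
theorem E281 : n273 = n65 := ((((iv D114)).symm.trans (sb E164 (iv D550)))).symm
theorem E282 : n845 = n210 := (((D210).symm.trans (sb E164 (tr (iv F1790) E279)))).symm
theorem E283 : n577 = n211 := (((D211).symm.trans (sb E164 (iv F943)))).symm
theorem F3487 : act 0 n1671 = n1013 := (sb E158 (iv D2002))
theorem E285 : n1124 = n210 := (E279).trans E282
theorem E286 : n2013 = n849 := (((D849).symm.trans (sb E160 (iv F3270)))).symm
theorem E287 : n1681 = n220 := (E161).trans E225
theorem E288 : n854 = n438 := (((D438).symm.trans (sb E287 (iv D1681)))).symm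
theorem E289 : n1467 = n1240 := ((E171).symm.trans ((D1660).symm.trans (sb E162 (iv F2021))))
theorem E290 : n841 = n65 := (E187).trans E281
theorem E291 : n209 = n208 := (((D208).symm.trans (sb E163 F691))).symm
theorem E292 : n223 = n74 := (((F257).symm.trans (sb E163 (iv F692)))).symm
theorem E294 : n851 = n688 := ((D851).symm.trans (sb E165 (iv F2028)))
theorem F3490 : act 6 n412 = n501 := (sb E165 (iv D1028))
theorem E295 : n795 = n355 := (((iv F1254)).symm.trans (sb E166 F1126))
theorem E296 : n374 = n224 := (((E271).symm.trans ((F806).symm.trans (sb E166 F1127)))).symm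
theorem E297 : n1427 = n988 := (((D988).symm.trans (sb E166 (iv F2329)))).symm
theorem E298 : n989 = n731 := ((D989).symm.trans (sb E166 (iv F1150)))
theorem E300 : n182 = n110 := ((((iv F245)).symm.trans (iv (sb E167 (tr (iv F695) E268))))).symm
theorem E301 : n385 = n110 := (E167).trans E300
theorem E304 : n355 = n203 := (((D203).symm.trans (sb E301 (tr D795 E295)))).symm
theorem E306 : n107 = n99 := (((E267).symm.trans ((F263).symm.trans (sb E253 F372)))).symm
theorem E307 : n225 = n195 := ((D225).symm.trans (sb E253 (iv F381)))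
theorem E308 : n104 = n66 := ((((iv F265)).symm.trans (sb E253 (iv D191)))).symm
theorem E310 : n991 = n735 := (((D735).symm.trans (sb E169 D991))).symm
theorem E311 : n245 = n195 := (((F609).symm.trans (sb E169 F807))).symm
theorem E312 : n357 = n121 := (((D121).symm.trans (iv (sb E169 (tr (iv D482) E268))))).symm
theorem E313 : n482 = n121 := (E169).trans E312
theorem E314 : n992 = n184 := ((((iv F363)).symm.trans (sb E313 D992))).symm
theorem E317 : n1660 = n1240 := (E171).trans E289
theorem E318 : n1241 = n1164 := (((iv F2024)).symm.trans (sb E317 (iv F2710)))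
theorem E319 : n1704 = n1163 := (((iv F2785)).symm.trans (sb E317 F2708))
theorem E320 : n1007 = n735 := ((F2023).symm.trans (sb E317 (tr F2709 E310)))
theorem E321 : n1949 = n607 := ((((iv D1240)).symm.trans (sb E317 (iv F3137)))).symm
theorem E333 : n184 = n181 := (((F600).symm.trans (sb E183 (tr F3145 E314)))).symm
theorem E338 : n994 = n195 := (E270).trans E307
theorem E341 : n408 = n115 := (((D115).symm.trans (sb E290 (iv D841)))).symm
theorem E342 : n1654 = n116 := (((D116).symm.trans (sb E290 D1654))).symm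
theorem E343 : n552 = n117 := (((D117).symm.trans (sb E290 (tr D1655 E280)))).symm
theorem E344 : n1519 = n913 := (((iv F2467)).symm.trans (sb E188 (iv D1804)))
theorem E345 : n544 = n116 := (((E342).symm.trans (((iv F2693)).symm.trans (sb E189 (iv D1125))))).symm
theorem E347 : n914 = n787 := ((D914).symm.trans (sb E191 (iv F1237)))
theorem E350 : n1655 = n117 := (E280).trans E343
theorem E351 : n1226 = n953 := (((D953).symm.trans (sb E195 F2141))).symm
theorem E353 : n969 = n620 := (((F1689).symm.trans (sb E199 (iv D1925)))).symm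
theorem E354 : n967 = n623 := ((D967).symm.trans (sb E200 (iv F1000)))
theorem E355 : n1259 = n968 := (((D968).symm.trans (sb E200 (iv F2054)))).symm
theorem E356 : n302 = n239 := (((F786).symm.trans (sb E200 (iv D617)))).symm
theorem E363 : n1916 = n983 := (E207).trans E211
theorem E370 : n1358 = n670 := (((D670).symm.trans (sb E206 D1358))).symm
theorem E371 : n1110 = n670 := (((iv F1836)).symm.trans (sb E363 (tr F3068 E370)))
theorem F3509 : act 0 n421 = n421 := (sb E214 (iv D868))
theorem E375 : n1700 = n864 := ((((iv F1370)).symm.trans (sb E214 (iv F2779)))).symm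
theorem E376 : n903 = n413 := ((((iv D853)).symm.trans (sb E216 (iv F1444)))).symm
theorem F3510 : act 3 n853 = n1691 := (sb E216 (iv F2764))
theorem E377 : n1702 = n1674 := ((((iv F2739)).symm.trans (sb E216 (iv F2782)))).symm
theorem F3511 : act 5 n853 = n421 := (sb E216 (iv D870))
theorem F3512 : act 0 n1019 = n1675 := (sb E217 (iv F2741))
theorem E378 : n486 = n481 := (((F1333).symm.trans (sb E218 (iv D1000)))).symm
theorem E379 : n1980 = n1657 := (((D1657).symm.trans (sb E218 (iv F3192)))).symm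
theorem F3514 : act 6 n842 = n495 := (sb E218 F1573)
theorem E380 : n246 = n66 := (E220).trans E268
theorem E381 : n479 = n110 := ((((iv F245)).symm.trans (sb E380 (iv F804)))).symm
theorem E383 : n481 = n120 := (((D120).symm.trans (sb E380 (tr (iv F812) E378)))).symm
theorem E385 : n1053 = n257 := (((D257).symm.trans (sb E222 (iv D2070)))).symm
theorem E394 : n1508 = n877 := (((D877).symm.trans (sb E232 D1508))).symm
theorem E397 : n753 = n415 := (((F727).symm.trans (sb E233 F1202))).symm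
theorem E400 : n1153 = n898 := (((D898).symm.trans (sb E236 (iv F2121)))).symm
theorem E402 : n164 = n67 := (((F259).symm.trans (sb E237 (iv D316)))).symm
theorem E403 : n646 = n217 := (((D217).symm.trans (sb E237 D646))).symm
theorem E404 : n906 = n282 := ((D906).symm.trans (sb E238 F930))
theorem E405 : n1168 = n907 := (((D907).symm.trans (sb E238 (iv F1911)))).symm
theorem E406 : n908 = n280 := ((D908).symm.trans (sb E238 (iv D568)))
theorem E407 : n1165 = n420 := (((D420).symm.trans (sb E239 (iv F1906)))).symm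
theorem E408 : n62 = n53 := (((iv F156)).symm.trans (sb E240 (iv D92)))
theorem E410 : n607 = n219 := (((D219).symm.trans (sb E241 (iv F985)))).symm
theorem E413 : n650 = n71 := (((F270).symm.trans (sb E245 (iv F1032)))).symm
theorem E414 : n640 = n231 := ((((iv F442)).symm.trans (sb E245 (iv F1019)))).symm
theorem E415 : n295 = n234 := (((D234).symm.trans (sb E245 F554))).symm
theorem E419 : n172 = n102 := (((D102).symm.trans (sb E251 D172))).symm
theorem E421 : n301 = n72 := (((D72).symm.trans (sb E252 F564))).symm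
theorem E422 : n112 = n86 := ((F275).symm.trans (sb E254 (iv D158)))
theorem E423 : n110 = n60 := (((F227).symm.trans (sb E255 (tr F1260 E381)))).symm
theorem E425 : n992 = n181 := (E314).trans E333
theorem E426 : n670 = n19 := (((F88).symm.trans (sb E256 (tr (iv F2218) E371)))).symm
theorem E428 : n1582 = n38 := ((((iv F109)).symm.trans (sb E256 (iv F2587)))).symm
theorem E429 : n806 = n53 := (E257).trans E408
theorem E431 : n93 = n38 := ((D93).symm.trans (sb E429 (tr D1582 E428)))
theorem E441 : n1419 = n250 := (((D250).symm.trans (sb E265 D1419))).symm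
theorem F3519 : act 0 n99 = n119 := (sb E267 (iv F263))
theorem E442 : n179 = n57 := ((((iv D99)).symm.trans (sb E267 (iv F357)))).symm
theorem E443 : n183 = n180 := (((D180).symm.trans (sb E267 D183))).symm
theorem E444 : n182 = n60 := (E300).trans E423
theorem E445 : n486 = n120 := (E378).trans E383
theorem E446 : n1962 = n445 := (((D445).symm.trans (sb E269 (iv F3152)))).symm
theorem E447 : n1966 = n446 := (((D446).symm.trans (sb E269 D1966))).symm
theorem E448 : n196 = n181 := (((iv F382)).symm.trans (sb E338 (tr F1560 E425)))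
theorem E450 : n446 = n380 := ((((iv F645)).symm.trans (sb E338 (tr (iv F3160) E447)))).symm
theorem E453 : n443 = n131 := (((iv F747)).symm.trans (sb E271 F462))
theorem E454 : n484 = n445 := (((D445).symm.trans (sb E271 D484))).symm
theorem E455 : n485 = n380 := (((E450).symm.trans ((D446).symm.trans (sb E271 D485)))).symm
theorem E456 : n416 = n413 := ((((iv D853)).symm.trans (sb E274 (iv D859)))).symm
theorem E457 : n1691 = n421 := ((F3510).symm.trans (sb E274 F1363))
theorem E460 : n149 = n118 := (((F411).symm.trans (sb E277 (iv D283)))).symm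
theorem E463 : n1162 = n418 := (((D418).symm.trans (sb E285 (iv F1894)))).symm
theorem E465 : n843 = n214 := ((((iv F414)).symm.trans (sb E350 F2696))).symm
theorem E466 : n414 = n411 := ((((iv F698)).symm.trans (sb E282 F1339))).symm
theorem E469 : n788 = n420 := (((D420).symm.trans (sb E283 (iv F2029)))).symm
theorem E470 : n285 = n222 := ((((iv F428)).symm.trans (sb E283 (iv D577)))).symm
theorem E471 : n1672 = n1334 := ((D1672).symm.trans (sb E286 (iv F3271)))
theorem F3520 : act 6 n849 = n1019 := (sb E286 (iv D2013))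
theorem E472 : n901 = n501 := ((D901).symm.trans (sb E288 (iv F3476)))
theorem E473 : n902 = n501 := ((D902).symm.trans (sb E288 (iv F3477)))
theorem E475 : n1675 = n895 := ((((iv F1435)).symm.trans (sb E288 (iv F2743)))).symm
theorem F3521 : act 3 n208 = n114 := (sb E291 (iv D209))
theorem E477 : n415 = n412 := (((D412).symm.trans (sb E291 D415))).symm
theorem F3522 : act 1 n74 = n119 := (sb E292 (iv D223))
theorem E478 : n126 = n47 := (((F183).symm.trans (sb E292 F429))).symm
theorem E479 : n444 = n132 := (((D132).symm.trans (sb E292 D444))).symm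
theorem E481 : n606 = n335 := ((((iv D688)).symm.trans (sb E294 F1372))).symm
theorem F3523 : act 1 n688 = n412 := (sb E294 (iv D851))
theorem E483 : n1676 = n1387 := (((D1387).symm.trans (sb E294 D1676))).symm
theorem E484 : n795 = n203 := (E295).trans E304
theorem E486 : n1558 = n400 := (((D400).symm.trans (sb E484 D1558))).symm
theorem E488 : n194 = n180 := (((E443).symm.trans ((F430).symm.trans (sb E296 F634)))).symm
theorem E490 : n189 = n120 := (((F432).symm.trans (sb E296 (iv D374)))).symm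
theorem E491 : n729 = n400 := (((E486).symm.trans (((iv F2548)).symm.trans (sb E297 F2328)))).symm
theorem E493 : n713 = n445 := (((E446).symm.trans ((D1962).symm.trans (sb E297 (iv D1427))))).symm
theorem E496 : n731 = n227 := (((D227).symm.trans (iv (sb E298 (tr (iv D989) E383))))).symm
theorem E497 : n989 = n227 := (E298).trans E496
theorem E498 : n1964 = n360 := ((((iv F616)).symm.trans (sb E497 D1964))).symm
theorem E502 : n203 = n105 := (((D105).symm.trans (sb E444 (tr (iv F606) E304)))).symm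
theorem E513 : n355 = n105 := (E304).trans E502
theorem E515 : n400 = n192 := (((D192).symm.trans (sb E513 (tr (iv F1144) E491)))).symm
theorem F3524 : act 6 n99 = n60 := (sb E306 (iv D107))
theorem E520 : n447 = n382 := (((D382).symm.trans (sb E307 D447))).symm
theorem F3525 : act 3 n195 = n127 := (sb E307 F435)
theorem F3526 : act 5 n195 = n119 := (sb E307 (iv D225))
theorem E521 : n190 = n121 := (((D121).symm.trans (sb E308 D190))).symm
theorem E525 : n1967 = n1465 := (((D1465).symm.trans (sb E310 D1967))).symm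
theorem E527 : n1968 = n1464 := ((((iv F2384)).symm.trans (sb E310 D1968))).symm
theorem E528 : n487 = n382 := (((D382).symm.trans (sb E311 D487))).symm
theorem E531 : n735 = n228 := (((D228).symm.trans (sb E312 D735))).symm
theorem F3527 : act 2 n121 = n195 := (sb E312 F609)
theorem E533 : n1969 = n356 := (((D356).symm.trans (sb E425 D1969))).symm
theorem E534 : n360 = n354 := ((((iv F604)).symm.trans (sb E425 (tr (iv F3155) E498)))).symm
theorem E539 : n867 = n566 := ((((iv D1164)).symm.trans (sb E318 F2025))).symm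
theorem E540 : n1465 = n608 := ((E525).symm.trans (((iv F3163)).symm.trans (sb E318 (iv D1241))))
theorem F3531 : act 6 n1164 = n866 := (sb E318 F2026)
theorem E541 : n1387 = n1020 := (((F1897).symm.trans (sb E319 (tr F2786 E483)))).symm
theorem E542 : n982 = n865 := (((iv F1899)).symm.trans (sb E319 (iv D1704)))
theorem E543 : n1007 = n228 := (E320).trans E531
theorem E544 : n608 = n451 := (((D451).symm.trans (sb E543 (iv F1617)))).symm
theorem E545 : n1676 = n1020 := (E483).trans E541
theorem E546 : n1020 = n452 := (((D452).symm.trans (sb E543 (tr (iv F2746) E545)))).symm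
theorem E547 : n553 = n125 := (((F439).symm.trans (sb E543 F1583))).symm
theorem E548 : n1987 = n450 := ((((iv F760)).symm.trans (sb E543 (iv F3213)))).symm
theorem E549 : n1240 = n425 := ((((iv F719)).symm.trans (sb E543 (iv F2023)))).symm
theorem E550 : n605 = n453 := (((D453).symm.trans (sb E543 F1616))).symm
theorem E551 : n1949 = n219 := (E321).trans E410
theorem E552 : n865 = n356 := ((((iv F607)).symm.trans (sb E551 (tr (iv D1949) E542)))).symm
theorem E553 : n1080 = n125 := (((F421).symm.trans (sb E551 F3136))).symm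
theorem E579 : n361 = n356 := (((D356).symm.trans (sb E333 D361))).symm
theorem E580 : n351 = n102 := (((iv F600)).symm.trans (sb E333 F362))
theorem F3538 : act 6 n181 = n121 := (sb E333 F363)
theorem F3539 : act 0 n115 = n208 := (sb E341 (iv D408))
theorem F3540 : act 2 n115 = n208 := (sb E341 F694)
theorem E590 : n842 = n213 := (((D213).symm.trans (sb E341 D842))).symm
theorem E591 : n251 = n215 := (((D215).symm.trans (sb E341 F3478))).symm
theorem E592 : n1134 = n219 := (((D219).symm.trans (sb E343 D1134))).symm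
theorem E594 : n1803 = n1540 := ((D1803).symm.trans (sb E344 (iv F2509)))
theorem E596 : n1118 = n216 := (((D216).symm.trans (sb E345 (iv F1779)))).symm
theorem E597 : n279 = n218 := (((D218).symm.trans (sb E345 F904))).symm
theorem E599 : n1805 = n1054 := ((((iv F1681)).symm.trans (sb E347 D1805))).symm
theorem E600 : n787 = n250 := (((D250).symm.trans (iv (sb E347 (tr (iv D914) E479))))).symm
theorem E601 : n914 = n250 := (E347).trans E600
theorem E603 : n470 = n148 := (((F471).symm.trans (sb E601 F1456))).symm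
theorem E604 : n1540 = n494 := ((((iv F830)).symm.trans (sb E601 (tr (iv F2917) E594)))).symm
theorem E605 : n1807 = n498 := (((D498).symm.trans (sb E601 D1807))).symm
theorem E609 : n1110 = n19 := (E371).trans E426
theorem E611 : n1890 = n1232 := ((D1890).symm.trans (sb E351 (iv F2004)))
theorem E612 : n598 = n464 := (((F1513).symm.trans (sb E351 (iv D1226)))).symm
theorem E613 : n1892 = n1229 := ((D1892).symm.trans (sb E351 (iv F2000)))
theorem E614 : n976 = n305 := (((F996).symm.trans (sb E353 (iv F1532)))).symm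
theorem E615 : n1924 = n1261 := ((((iv F2057)).symm.trans (sb E353 (iv F3083)))).symm
theorem E616 : n1051 = n498 := (((iv F1670)).symm.trans (sb E353 (tr (iv F2925) E605)))
theorem E618 : n620 = n282 := (((D282).symm.trans (iv (sb E353 (tr (iv D969) E603))))).symm
theorem E619 : n623 = n280 := (((D280).symm.trans (iv (sb E354 (tr (iv D967) E603))))).symm
theorem E620 : n967 = n280 := (E354).trans E619
theorem E621 : n1921 = n566 := (((D566).symm.trans (sb E620 D1921))).symm
theorem E622 : n1922 = n567 := (((D567).symm.trans (sb E620 D1922))).symm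
theorem E623 : n1054 = n496 := ((((iv F832)).symm.trans (sb E620 (tr (iv F2922) E599)))).symm
theorem E624 : n1232 = n560 := ((((iv F921)).symm.trans (sb E620 (tr (iv F3036) E611)))).symm
theorem E625 : n546 = n472 := (((iv F909)).symm.trans (sb E620 F1523))
theorem E626 : n1265 = n567 := (((E622).symm.trans (((iv F3078)).symm.trans (sb E355 (iv F2061))))).symm
theorem E627 : n616 = n473 := (((F1525).symm.trans (sb E355 (iv D1259)))).symm
theorem E628 : n615 = n472 := (((D472).symm.trans (sb E356 D615))).symm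
theorem E629 : n474 = n159 := ((D474).symm.trans (sb E356 F539))
theorem E637 : n1083 = n16 := (((F58).symm.trans (sb E609 F1834))).symm
theorem F3547 : act 0 n864 = n864 := (sb E375 (iv D1700))
theorem F3548 : act 3 n413 = n1733 := (sb E376 (iv F2833))
theorem E641 : n1762 = n850 := ((((iv F1347)).symm.trans (sb E376 (iv F2869)))).symm
theorem F3549 : act 5 n413 = n438 := (sb E376 (iv D903))
theorem F3550 : act 5 n1674 = n864 := (sb E377 (iv D1702))
theorem E644 : n997 = n226 := (((D226).symm.trans (sb E445 (iv F1566)))).symm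
theorem E646 : n988 = n226 := ((F2701).symm.trans (sb E379 (tr (iv D1980) E644)))
theorem E647 : n1657 = n422 := ((((iv F715)).symm.trans (iv (sb E379 (tr F3193 E596))))).symm
theorem E648 : n1980 = n422 := (E379).trans E647
theorem E649 : n1013 = n873 := (((D873).symm.trans (sb E648 F3194))).symm
theorem E652 : n2066 = n510 := (((D510).symm.trans (sb E385 (iv F3373)))).symm
theorem E653 : n512 = n511 := (((D511).symm.trans (sb E385 F1680))).symm
theorem E659 : n753 = n412 := (E397).trans E477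
theorem E664 : n2006 = n1725 := (((D1725).symm.trans (sb E394 F3252))).symm
theorem E665 : n1501 = n856 := (((F1410).symm.trans (sb E394 F2445))).symm
theorem E670 : n1079 = n688 := ((((iv F3523)).symm.trans (sb E659 F1800))).symm
theorem E671 : n856 = n849 := ((((iv F1346)).symm.trans (sb E659 (tr (iv F2428) E665)))).symm
theorem E676 : n1765 = n562 := ((D1765).symm.trans (sb E400 F1869))
theorem E677 : n1767 = n560 := ((D1767).symm.trans (sb E400 (iv D1153)))
theorem E678 : n111 = n91 := (((iv F248)).symm.trans (sb E402 (iv D164)))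
theorem E680 : n1216 = n432 := (((D432).symm.trans (sb E403 (iv F1974)))).symm
theorem F3553 : act 0 n282 = n441 := (sb E404 (iv D906))
theorem E682 : n1789 = n570 := ((((iv F933)).symm.trans (sb E404 D1789))).symm
theorem E683 : n1792 = n567 := ((D1792).symm.trans (sb E405 (iv D1168)))
theorem F3555 : act 6 n280 = n441 := (sb E406 (iv D908))
theorem E685 : n982 = n356 := (E542).trans E552
theorem E686 : n858 = n688 := (((iv F1362)).symm.trans (sb E407 (tr F1907 E670)))
theorem F3556 : act 0 n53 = n40 := (sb E408 F156)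
theorem F3557 : act 6 n53 = n57 := (sb E408 F157)
theorem E688 : n866 = n436 := (((D436).symm.trans (sb E410 (iv F1392)))).symm
theorem E689 : n437 = n425 := ((D437).symm.trans (sb E410 (tr D1240 E549)))
theorem E694 : n597 = n128 := (((D128).symm.trans (sb E413 F1034))).symm
theorem E695 : n1296 = n456 := ((((iv F765)).symm.trans (sb E414 (iv F2094)))).symm
theorem E696 : n591 = n459 := (((D459).symm.trans (sb E414 F1020))).symm
theorem E697 : n206 = n153 := ((F449).symm.trans (sb E415 (iv D295)))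
theorem E700 : n335 = n187 := (((D187).symm.trans (sb E419 D335))).symm
theorem E704 : n157 = n64 := (((F177).symm.trans (sb E421 (iv D301)))).symm
theorem F3558 : act 0 n86 = n68 := (sb E422 F251)
theorem F3559 : act 6 n86 = n127 := (sb E422 (iv F275))
theorem F3560 : act 0 n60 = n66 := (sb E423 F245)
theorem E706 : n1964 = n354 := (E498).trans E534
theorem E711 : n2102 = n56 := ((((iv F143)).symm.trans (sb E428 (iv F3437)))).symm
theorem E715 : n56 = n55 := (((iv F143)).symm.trans (sb E431 F212))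
theorem F3561 : act 2 n38 = n53 := (sb E431 (iv D93))
theorem E717 : n165 = n63 := (((D63).symm.trans (sb E431 (iv F333)))).symm
theorem E720 : n1431 = n496 := (((D496).symm.trans (sb E441 (iv F2334)))).symm
theorem F3562 : act 3 n57 = n99 := (sb E442 (iv D179))
theorem E723 : n350 = n101 := (((D101).symm.trans (sb E442 D350))).symm
theorem F3563 : act 0 n180 = n224 := (sb E443 (iv F430))
theorem E724 : n359 = n353 := (((D353).symm.trans (sb E443 D359))).symm
theorem E725 : n1966 = n380 := (E447).trans E450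
theorem E726 : n381 = n354 := (((iv F647)).symm.trans (sb E725 (tr F3158 E706)))
theorem F3564 : act 0 n181 = n195 := (sb E448 F382)
theorem E728 : n918 = n783 := (((D783).symm.trans (sb E450 D918))).symm
theorem E729 : n917 = n781 := ((((iv F1223)).symm.trans (sb E450 (iv F1465)))).symm
theorem F3565 : act 5 n380 = n224 := (sb E450 (iv D446))
theorem F3566 : act 1 n131 = n224 := (sb E453 F747)
theorem E734 : n912 = n247 := (((D247).symm.trans (sb E453 D912))).symm
theorem E737 : n995 = n916 := (((D916).symm.trans (sb E454 D995))).symm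
theorem E738 : n268 = n231 := (((F750).symm.trans (sb E454 F810))).symm
theorem E739 : n996 = n781 := (((E729).symm.trans ((D917).symm.trans (sb E454 D996)))).symm
theorem E740 : n998 = n783 := (((D783).symm.trans (sb E455 D998))).symm
theorem E742 : n1733 = n212 := ((F3548).symm.trans (sb E456 F706))
theorem E743 : n857 = n850 := ((((iv F1347)).symm.trans (sb E456 (iv F1361)))).symm
theorem E744 : n438 = n426 := ((F3549).symm.trans (sb E456 (iv F721)))
theorem F3567 : act 3 n421 = n853 := (sb E457 (iv F3510))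
theorem E747 : n221 = n82 := ((D221).symm.trans (sb E460 (iv D149)))
theorem E749 : n1541 = n863 := (((D863).symm.trans (sb E463 F2513))).symm
theorem E752 : n1658 = n423 := ((((iv F716)).symm.trans (sb E465 (iv F2704)))).symm
theorem E753 : n855 = n848 := (((D848).symm.trans (sb E466 D855))).symm
theorem E755 : n1266 = n566 := (((E539).symm.trans ((D867).symm.trans (sb E469 (iv F2066))))).symm
theorem E756 : n441 = n305 := ((D441).symm.trans (sb E470 (iv F541)))
theorem E758 : n501 = n428 := ((((iv F726)).symm.trans (sb E470 (iv F838)))).symm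
theorem F3569 : act 1 n1334 = n849 := (sb E471 (iv D1672))
theorem E760 : n901 = n428 := (E472).trans E758
theorem E764 : n1760 = n877 := ((((iv F1409)).symm.trans (sb E760 (iv F2865)))).symm
theorem E766 : n902 = n428 := (E473).trans E758
theorem E767 : n884 = n511 := ((D884).symm.trans (sb E766 F1443))
theorem E774 : n1019 = n877 := (((E764).symm.trans ((D1760).symm.trans (sb E475 (iv F3512))))).symm
theorem F3571 : act 0 n412 = n214 := (sb E477 F701)
theorem F3572 : act 2 n412 = n214 := (sb E477 F702)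
theorem F3573 : act 3 n412 = n211 := (sb E477 F703)
theorem F3574 : act 1 n47 = n69 := (sb E478 (iv D126))
theorem E777 : n233 = n80 := (((D80).symm.trans (sb E478 (iv F445)))).symm
theorem E780 : n606 = n187 := (E481).trans E700
theorem E783 : n1239 = n366 := (((D366).symm.trans (sb E780 D1239))).symm
theorem E788 : n1676 = n452 := (E545).trans E546
theorem E789 : n930 = n366 := (((iv F1482)).symm.trans (sb E788 (tr F2745 E783)))
theorem E794 : n1558 = n192 := (E486).trans E515
theorem E795 : n372 = n226 := (((iv F630)).symm.trans (sb E794 (tr F2548 E646)))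
theorem E797 : n379 = n353 := (((D353).symm.trans (sb E488 (iv F643)))).symm
theorem F3575 : act 6 n180 = n105 := (sb E488 (iv D194))
theorem E799 : n373 = n227 := (((D227).symm.trans (sb E490 D373))).symm
theorem E806 : n1425 = n916 := (((D916).symm.trans (sb E493 D1425))).symm
theorem F3577 : act 2 n227 = n380 := (sb E496 F1148)
theorem F3578 : act 0 n105 = n120 := (sb E502 F393)
theorem E828 : n827 = n377 := (((D377).symm.trans (sb E515 D827))).symm
theorem E829 : n205 = n163 := (((F375).symm.trans (sb E515 F675))).symm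
theorem E833 : n919 = n785 := (((D785).symm.trans (sb E520 D919))).symm
theorem E834 : n920 = n786 := (((D786).symm.trans (sb E520 D920))).symm
theorem F3579 : act 3 n382 = n239 := (sb E520 F756)
theorem F3580 : act 0 n121 = n106 := (sb E521 F370)
theorem E844 : n1465 = n451 := (E540).trans E544
theorem E845 : n1967 = n451 := (E525).trans E844
theorem E846 : n1901 = n929 := (((D929).symm.trans (sb E845 (iv F3165)))).symm
theorem E847 : n1081 = n366 := (((E789).symm.trans ((D930).symm.trans (sb E845 F3162)))).symm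
theorem E848 : n1164 = n878 := ((((iv F1412)).symm.trans (sb E845 F3163))).symm
theorem E851 : n1464 = n235 := (((D235).symm.trans (iv (sb E527 (tr F3166 E553))))).symm
theorem E852 : n1968 = n235 := (E527).trans E851
theorem E853 : n1509 = n465 := (((D465).symm.trans (sb E852 (iv F3168)))).symm
theorem E854 : n688 = n365 := ((((iv F622)).symm.trans (sb E852 (tr F3167 E670)))).symm
theorem E855 : n785 = n497 := ((D785).symm.trans (sb E528 (iv F834)))
theorem E856 : n786 = n496 := ((D786).symm.trans (sb E528 F835))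
theorem E857 : n271 = n239 := (((F3579).symm.trans (sb E528 F813))).symm
theorem E863 : n453 = n235 := ((D453).symm.trans (sb E531 (tr (iv F2384) E851)))
theorem E867 : n734 = n465 := ((D734).symm.trans (sb E533 (tr F3177 E853)))
theorem E868 : n739 = n730 := (((D730).symm.trans (sb E534 D739))).symm
theorem E869 : n738 = n728 := ((((iv F1143)).symm.trans (sb E534 (iv F1159)))).symm
theorem F3581 : act 6 n354 = n227 := (sb E534 F616)
theorem E876 : n1689 = n452 := (((E546).symm.trans (((iv F1607)).symm.trans (sb E539 (iv F2762))))).symm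
theorem E877 : n1699 = n1151 := ((((iv F1866)).symm.trans (sb E539 (iv F2778)))).symm
theorem F3582 : act 6 n566 = n420 := (sb E539 (iv D867))
theorem E878 : n1387 = n452 := (E541).trans E546
theorem E879 : n690 = n366 := (((E789).symm.trans (((iv F1482)).symm.trans (sb E878 F2249)))).symm
theorem E880 : n920 = n496 := (E834).trans E856
theorem E881 : n932 = n566 := ((D932).symm.trans (sb E878 (tr F2251 E755)))
theorem E882 : n879 = n790 := (((iv F1413)).symm.trans (sb E878 F2252))
theorem E884 : n724 = n526 := (((iv F1136)).symm.trans (sb E685 F1548))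
theorem E886 : n526 = n187 := (((F608).symm.trans (sb E685 F1549))).symm
theorem E887 : n1163 = n465 := (((E867).symm.trans ((D734).symm.trans (sb E685 F1899)))).symm
theorem E888 : n929 = n366 := ((D929).symm.trans (sb E544 (tr (iv F1081) E879)))
theorem E893 : n790 = n465 := ((E882).symm.trans (((iv F1413)).symm.trans (sb E546 (tr (iv F1897) E887))))
theorem E896 : n771 = n236 := (((D236).symm.trans (sb E547 (iv F1618)))).symm
theorem E897 : n1214 = n928 := (((D928).symm.trans (sb E548 F3214))).symm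
theorem E898 : n879 = n465 := (E882).trans E893
theorem E899 : n605 = n235 := (E550).trans E863
theorem E900 : n451 = n236 := (((iv F761)).symm.trans (sb E899 (tr (iv F1213) E896)))
theorem E901 : n928 = n460 := ((((iv F772)).symm.trans (sb E899 (tr (iv F1972) E897)))).symm
theorem E902 : n733 = n420 := ((D733).symm.trans (sb E552 (iv D865)))
theorem E903 : n724 = n187 := (E884).trans E886
theorem E945 : n740 = n420 := (((E902).symm.trans ((D733).symm.trans (sb E579 D740)))).symm
theorem E946 : n741 = n219 := (((F607).symm.trans (sb E579 D741))).symm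
theorem E947 : n742 = n465 := (((E867).symm.trans ((D734).symm.trans (sb E579 D742)))).symm
theorem F3588 : act 3 n102 = n181 := (sb E580 F600)
theorem F3589 : act 0 n213 = n411 := (sb E590 F1332)
theorem F3590 : act 2 n213 = n411 := (sb E590 F1334)
theorem E960 : n495 = n424 := (((D424).symm.trans (sb E590 F3514))).symm
theorem F3591 : act 0 n215 = n413 := (sb E591 F3457)
theorem F3592 : act 1 n215 = n133 := (sb E591 (iv D251))
theorem F3593 : act 2 n215 = n413 := (sb E591 F3458)
theorem E961 : n1523 = n436 := (((D436).symm.trans (sb E592 (iv F2472)))).symm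
theorem E967 : n559 = n431 := (((D431).symm.trans (sb E596 F1780))).symm
theorem E968 : n434 = n147 := ((D434).symm.trans (sb E597 (iv D279)))
theorem E970 : n1805 = n496 := (E599).trans E623
theorem E971 : n919 = n497 := (E833).trans E855
theorem F3594 : act 6 n496 = n1821 := (sb E970 (iv F2952))
theorem F3595 : act 5 n250 = n382 := (sb E600 (iv D787))
theorem E973 : n968 = n281 := (((D281).symm.trans (sb E603 D968))).symm
theorem E974 : n953 = n278 := ((((iv F511)).symm.trans (sb E603 (iv F1512)))).symm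
theorem E976 : n2055 = n1016 := (((D1016).symm.trans (sb E604 (iv F3352)))).symm
theorem F3596 : act 0 n498 = n1821 := (sb E605 (iv F2950))
theorem E978 : n1890 = n560 := (E611).trans E624
theorem E979 : n1120 = n955 := (((iv F1785)).symm.trans (sb E978 F3037))
theorem F3597 : act 6 n560 = n1899 := (sb E978 (iv F3055))
theorem E981 : n1225 = n956 := (((D956).symm.trans (sb E612 D1225))).symm
theorem E982 : n1207 = n947 := ((((iv F1499)).symm.trans (sb E612 (iv F1962)))).symm
theorem E983 : n957 = n296 := ((D957).symm.trans (sb E612 F972))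
theorem E984 : n1899 = n601 := (((F1998).symm.trans (sb E613 (iv F3053)))).symm
theorem E985 : n1896 = n599 := ((((iv D1229)).symm.trans (sb E613 (iv F3048)))).symm
theorem E986 : n1229 = n562 := (((D562).symm.trans (iv (sb E613 (tr (iv D1892) E974))))).symm
theorem F3598 : act 1 n305 = n1941 := (sb E614 D1941)
theorem E988 : n1821 = n511 := (((E653).symm.trans (((iv F857)).symm.trans (sb E614 (iv F2951))))).symm
theorem E990 : n1261 = n570 := (((D570).symm.trans (iv (sb E615 (tr (iv D1924) E973))))).symm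
theorem E992 : n618 = n510 := (((iv F1676)).symm.trans (sb E616 (tr (iv F3374) E652)))
theorem E995 : n1057 = n308 := ((((iv F545)).symm.trans (sb E618 (iv F1689)))).symm
theorem E996 : n571 = n303 := ((D571).symm.trans (sb E618 (iv D620)))
theorem E997 : n1128 = n878 := (((E848).symm.trans ((D1164).symm.trans (sb E621 (iv F3075))))).symm
theorem E999 : n1166 = n1129 := ((D1166).symm.trans (sb E622 F3079))
theorem E1000 : n1129 = n972 := (((iv F1844)).symm.trans (sb E622 F3080))
theorem E1001 : n971 = n878 := ((D971).symm.trans (sb E625 (tr D1128 E997)))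
theorem F3599 : act 5 n472 = n280 := (sb E625 F909)
theorem E1002 : n1257 = n972 := (((E1000).symm.trans (((iv F1844)).symm.trans (sb E626 F2063)))).symm
theorem F3600 : act 6 n567 = n622 := (sb E626 (iv D1265))
theorem E1004 : n1258 = n974 := (((D974).symm.trans (sb E627 D1258))).symm
theorem E1005 : n975 = n304 := ((D975).symm.trans (sb E627 F994))
theorem F3601 : act 6 n472 = n303 := (sb E628 F993)
theorem F3602 : act 6 n159 = n239 := (sb E629 (iv D474))
theorem E1019 : n2103 = n30 := (((D30).symm.trans (sb E637 (iv F3433)))).symm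
theorem F3604 : act 5 n850 = n895 := (sb E641 (iv D1762))
theorem E1025 : n1684 = n1671 := (((iv F2754)).symm.trans (sb E649 (iv F3487)))
theorem E1026 : n1717 = n493 := ((D1717).symm.trans (sb E649 (iv D1013)))
theorem E1028 : n2004 = n1718 := (((D1718).symm.trans (sb E649 D2004))).symm
theorem F3605 : act 5 n510 = n1050 := (sb E652 (iv D2066))
theorem E1029 : n1052 = n305 := ((D1052).symm.trans (sb E653 F857))
theorem E1030 : n1045 = n1044 := ((((iv F1658)).symm.trans (sb E653 (iv F1660)))).symm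
theorem F3606 : act 5 n511 = n257 := (sb E653 (iv D512))
theorem F3607 : act 0 n1725 = n1016 := (sb E664 F3248)
theorem F3610 : act 6 n1725 = n1014 := (sb E664 (iv D2006))
theorem E1038 : n1685 = n1334 := ((((iv F3569)).symm.trans (sb E671 D1685))).symm
theorem E1039 : n1683 = n1670 := ((((iv F2731)).symm.trans (sb E671 (iv F2752)))).symm
theorem F3611 : act 0 n562 = n898 := (sb E676 (iv D1765))
theorem E1042 : n898 = n601 := (((E984).symm.trans ((F3597).symm.trans (sb E677 (iv D1767))))).symm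
theorem F3612 : act 0 n91 = n67 := (sb E678 F248)
theorem F3613 : act 6 n91 = n101 := (sb E678 F250)
theorem E1044 : n1698 = n893 := (((D893).symm.trans (sb E680 (iv F2774)))).symm
theorem F3614 : act 0 n570 = n907 := (sb E682 F2896)
theorem E1045 : n1166 = n972 := (E999).trans E1000
theorem E1046 : n907 = n622 := (((F3600).symm.trans (sb E683 (iv D1792)))).symm
theorem E1047 : n858 = n365 := (E686).trans E854
theorem E1049 : n1334 = n746 := ((((iv F1170)).symm.trans (sb E1047 (tr (iv F2757) E1038)))).symm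
theorem E1050 : n749 = n452 := ((D749).symm.trans (sb E1047 (tr D1689 E876)))
theorem E1052 : n878 = n467 := ((((iv F782)).symm.trans (sb E688 (tr (iv F3531) E848)))).symm
theorem E1053 : n880 = n219 := (((F718).symm.trans (sb E689 (iv F1414)))).symm
theorem E1054 : n894 = n874 := ((((iv F1401)).symm.trans (sb E689 (iv F1434)))).symm
theorem E1055 : n466 = n228 := (((F719).symm.trans (sb E689 (iv F780)))).symm
theorem E1062 : n294 = n113 := (((F279).symm.trans (sb E694 (iv D597)))).symm
theorem E1063 : n1206 = n940 := (((D940).symm.trans (sb E695 F2095))).symm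
theorem E1064 : n404 = n290 := ((F771).symm.trans (sb E696 (iv D591)))
theorem F3615 : act 0 n153 = n123 := (sb E697 F401)
theorem F3616 : act 6 n153 = n234 := (sb E697 (iv F449))
theorem F3617 : act 2 n64 = n86 := (sb E704 (iv D157))
theorem E1078 : n2102 = n55 := (E711).trans E715
theorem E1081 : n98 = n30 := ((D98).symm.trans (sb E1078 (tr (iv F3436) E1019)))
theorem F3618 : act 1 n55 = n38 := (sb E715 F143)
theorem E1087 : n97 = n31 := ((D97).symm.trans (sb E715 F144))
theorem E1088 : n96 = n95 := ((((iv F214)).symm.trans (sb E715 (iv F219)))).symm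
theorem F3619 : act 2 n63 = n91 := (sb E717 (iv D165))
theorem F3620 : act 1 n496 = n772 := (sb E720 F2332)
theorem E1092 : n721 = n185 := (((D185).symm.trans (sb E723 D721))).symm
theorem F3621 : act 0 n353 = n445 := (sb E724 (iv F749))
theorem E1093 : n737 = n727 := (((D727).symm.trans (sb E724 D737))).symm
theorem F3622 : act 0 n354 = n380 := (sb E726 F647)
theorem E1095 : n782 = n728 := ((((iv F1143)).symm.trans (sb E726 (iv F1227)))).symm
theorem E1098 : n1814 = n1539 := (((D1539).symm.trans (sb E728 D1814))).symm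
theorem E1099 : n1812 = n1536 := ((((iv F2499)).symm.trans (sb E728 (iv F2936)))).symm
theorem E1101 : n1811 = n1533 := ((((iv F2490)).symm.trans (sb E729 (iv F2933)))).symm
theorem F3623 : act 4 n781 = n459 := (sb E729 F1466)
theorem F3624 : act 5 n781 = n445 := (sb E729 (iv D917))
theorem F3625 : act 1 n247 = n445 := (sb E734 F1453)
theorem E1109 : n1801 = n491 := (((D491).symm.trans (sb E734 D1801))).symm
theorem E1110 : n458 = n145 := (((F466).symm.trans (sb E734 F1454))).symm
theorem E1113 : n1974 = n1809 := (((D1809).symm.trans (sb E737 D1974))).symm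
theorem E1117 : n540 = n459 := (((D459).symm.trans (sb E738 D540))).symm
theorem E1118 : n1978 = n1536 := (((D1536).symm.trans (sb E739 D1978))).symm
theorem E1120 : n1538 = n1015 := ((D1538).symm.trans (sb E740 (iv F1599)))
theorem E1121 : n1539 = n1014 := ((D1539).symm.trans (sb E740 F1598))
theorem F3626 : act 5 n783 = n494 := (sb E740 F1569)
theorem F3627 : act 3 n212 = n413 := (sb E742 (iv F3548))
theorem E1123 : n895 = n875 := ((F3604).symm.trans (sb E743 (iv F1404)))
theorem F3628 : act 1 n426 = n220 := (sb E744 (iv D438))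
theorem F3629 : act 5 n426 = n413 := (sb E744 (iv F3549))
theorem F3630 : act 1 n82 = n118 := (sb E747 (iv D221))
theorem E1125 : n1459 = n863 := (((iv F2379)).symm.trans (iv (sb E749 (tr F2512 E1049))))
theorem F3631 : act 0 n423 = n849 := (sb E752 F2702)
theorem F3632 : act 2 n423 = n849 := (sb E752 F2703)
theorem F3633 : act 0 n848 = n422 := (sb E753 F1354)
theorem E1128 : n1682 = n1669 := (((D1669).symm.trans (sb E753 D1682))).symm
theorem F3634 : act 4 n848 = n417 := (sb E753 F1355)
theorem F3635 : act 0 n305 = n282 := (sb E756 (iv F3553))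
theorem E1129 : n1941 = n222 := ((F3598).symm.trans (sb E756 (iv D441)))
theorem F3636 : act 6 n305 = n280 := (sb E756 (iv F3555))
theorem F3637 : act 6 n428 = n412 := (sb E758 (iv F3490))
theorem F3638 : act 1 n511 = n428 := (sb E767 (iv D884))
theorem E1135 : n1725 = n1044 := ((((iv F1658)).symm.trans (sb E767 (iv F2823)))).symm
theorem F3639 : act 6 n877 = n849 := (sb E774 (iv F3520))
theorem F3640 : act 1 n80 = n124 := (sb E777 (iv D233))
theorem F3641 : act 0 n226 = n192 := (sb E795 F630)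
theorem E1161 : n766 = n448 := (((D448).symm.trans (sb E795 D766))).symm
theorem E1162 : n767 = n449 := (((D449).symm.trans (sb E795 D767))).symm
theorem E1165 : n780 = n727 := (((D727).symm.trans (sb E797 (iv F1221)))).symm
theorem F3642 : act 6 n353 = n192 := (sb E797 (iv D379))
theorem F3643 : act 0 n227 = n193 := (sb E799 F632)
theorem E1169 : n1810 = n1528 := ((D1810).symm.trans (sb E806 (iv F2484)))
theorem E1190 : n1625 = n777 := (((D777).symm.trans (sb E828 D1625))).symm
theorem E1191 : n1626 = n778 := (((D778).symm.trans (sb E828 D1626))).symm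
theorem E1192 : n403 = n314 := (((F638).symm.trans (sb E828 F1305))).symm
theorem F3644 : act 0 n163 = n122 := (sb E829 F399)
theorem F3645 : act 6 n163 = n185 := (sb E829 F400)
theorem F3646 : act 1 n497 = n1816 := (sb E971 D1816)
theorem F3647 : act 3 n497 = n472 := (sb E971 F1469)
theorem E1203 : n772 = n452 := ((F3620).symm.trans (sb E880 F1470))
theorem E1205 : n1814 = n1014 := (E1098).trans E1121
theorem E1210 : n1901 = n366 := (E846).trans E888
theorem E1211 : n960 = n452 := (((E1050).symm.trans (((iv F1174)).symm.trans (sb E1210 F3057)))).symm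
theorem E1213 : n958 = n750 := (((D750).symm.trans (sb E1210 (iv D1901)))).symm
theorem E1215 : n750 = n566 := ((D750).symm.trans (sb E847 (iv F1799)))
theorem E1220 : n748 = n412 := ((D748).symm.trans (sb E854 F3523))
theorem F3648 : act 0 n497 = n382 := (sb E855 (iv D785))
theorem E1221 : n1816 = n436 := ((F3646).symm.trans (sb E855 (tr (iv F2473) E961)))
theorem F3649 : act 2 n496 = n382 := (sb E856 (iv D786))
theorem E1223 : n547 = n473 := (((D473).symm.trans (sb E857 D547))).symm
theorem E1224 : n542 = n464 := ((((iv F778)).symm.trans (sb E857 (iv F899)))).symm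
theorem F3650 : act 5 n239 = n148 := (sb E857 F501)
theorem E1229 : n958 = n566 := (E1213).trans E1215
theorem E1231 : n1460 = n948 := ((((iv F1500)).symm.trans (sb E867 (iv F2381)))).symm
theorem E1232 : n961 = n356 := ((D961).symm.trans (sb E867 (iv D734)))
theorem E1235 : n1474 = n1456 := ((((iv F2370)).symm.trans (sb E868 (iv F2394)))).symm
theorem E1238 : n1473 = n1454 := ((((iv F2368)).symm.trans (sb E869 (iv F2391)))).symm
theorem E1239 : n1442 = n363 := (((iv F2351)).symm.trans (sb E869 F1160))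
theorem F3651 : act 6 n728 = n449 := (sb E869 F1161)
theorem F3652 : act 6 n1151 = n863 := (sb E877 (iv D1699))
theorem F3653 : act 2 n566 = n1845 := (sb E881 D1845)
theorem F3654 : act 3 n566 = n452 := (sb E881 (iv D932))
theorem F3655 : act 5 n566 = n1728 := (sb E881 (iv F2827))
theorem E1243 : n959 = n425 := ((D959).symm.trans (sb E898 (iv D879)))
theorem E1244 : n1728 = n366 := (((E888).symm.trans (((iv F1481)).symm.trans (sb E898 D1728)))).symm
theorem F3656 : act 3 n187 = n356 := (sb E903 F1136)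
theorem F3657 : act 3 n236 = n235 := (sb E900 F761)
theorem E1261 : n926 = n461 := ((((iv F773)).symm.trans (sb E900 (iv F1478)))).symm
theorem E1262 : n1830 = n941 := ((((iv F1495)).symm.trans (sb E901 (iv F2962)))).symm
theorem E1263 : n949 = n450 := ((D949).symm.trans (sb E901 (iv D928)))
theorem F3658 : act 0 n420 = n356 := (sb E902 (iv D733))
theorem F3659 : act 2 n420 = n436 := (sb E902 F1155)
theorem F3660 : act 5 n420 = n365 := (sb E902 F1156)
theorem F3661 : act 3 n420 = n365 := (sb E945 F1163)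
theorem F3662 : act 6 n219 = n1482 := (sb E946 D1482)
theorem E1298 : n1482 = n425 := (((E1243).symm.trans ((D959).symm.trans (sb E947 (iv F2405))))).symm
theorem F3663 : act 3 n465 = n366 := (sb E947 F1165)
theorem F3664 : act 0 n424 = n850 := (sb E960 F3474)
theorem F3665 : act 1 n424 = n249 := (sb E960 (iv D495))
theorem F3666 : act 2 n424 = n850 := (sb E960 F3475)
theorem E1314 : n891 = n277 := ((D891).symm.trans (sb E967 (iv D559)))
theorem F3667 : act 1 n147 = n218 := (sb E968 (iv D434))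
theorem E1321 : n1227 = n1043 := ((F1994).symm.trans (sb E976 (iv D2055)))
theorem F3668 : act 5 n955 = n560 := (sb E979 F1785)
theorem E1322 : n1156 = n599 := (((E985).symm.trans ((D1896).symm.trans (sb E979 (iv F1877))))).symm
theorem E1323 : n1898 = n600 := ((D1898).symm.trans (sb E981 F1990))
theorem E1324 : n1880 = n592 := ((D1880).symm.trans (sb E982 F1963))
theorem F3669 : act 6 n296 = n464 := (sb E983 (iv D957))
theorem F3670 : act 6 n601 = n560 := (sb E984 (iv F3597))
theorem F3671 : act 6 n599 = n955 := (sb E985 (iv D1896))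
theorem E1326 : n2061 = n604 := ((((iv F983)).symm.trans (sb E986 (iv F3365)))).symm
theorem E1327 : n1050 = n498 := (((iv F1668)).symm.trans (sb E988 (iv F3596)))
theorem F3672 : act 6 n511 = n496 := (sb E988 (iv F3594))
theorem E1328 : n1172 = n619 := ((D1172).symm.trans (sb E990 (iv D1261)))
theorem F3673 : act 6 n510 = n497 := (sb E992 F1679)
theorem F3674 : act 0 n308 = n515 := (sb E995 F1688)
theorem E1330 : n2075 = n628 := ((((iv F1008)).symm.trans (sb E995 (iv F3386)))).symm
theorem F3675 : act 5 n308 = n515 := (sb E995 F1691)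
theorem E1331 : n513 = n160 := ((((iv D308)).symm.trans (sb E995 (iv D1057)))).symm
theorem F3676 : act 1 n303 = n510 := (sb E996 F1674)
theorem F3677 : act 5 n303 = n282 := (sb E996 (iv D571))
theorem E1332 : n1933 = n567 := ((D1933).symm.trans (sb E1045 (iv D1166)))
theorem F3678 : act 5 n972 = n567 := (sb E1000 F1844)
theorem E1333 : n971 = n467 := (E1001).trans E1052
theorem E1334 : n963 = n472 := ((D963).symm.trans (sb E1333 (iv D971)))
theorem F3679 : act 6 n972 = n619 := (sb E1002 F2052)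
theorem E1337 : n1939 = n621 := ((D1939).symm.trans (sb E1004 F2053))
theorem F3680 : act 6 n304 = n473 := (sb E1005 (iv D975))
theorem F3681 : act 0 n1671 = n873 := (sb E1025 F2754)
theorem F3682 : act 4 n1671 = n862 := (sb E1025 F2756)
theorem F3683 : act 5 n1671 = n1716 := (sb E1025 (iv F2806))
theorem F3684 : act 1 n493 = n873 := (sb E1026 (iv D1717))
theorem F3685 : act 1 n1718 = n2050 := (sb E1028 (iv F3336))
theorem F3686 : act 3 n305 = n511 := (sb E1029 (iv D1052))
theorem E1354 : n2056 = n2050 := ((D2056).symm.trans (sb E1030 (iv F3337)))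
theorem F3687 : act 5 n1044 = n508 := (sb E1030 (iv D1045))
theorem F3688 : act 0 n1670 = n872 := (sb E1039 F2751)
theorem F3689 : act 4 n1670 = n861 := (sb E1039 F2753)
theorem F3690 : act 6 n1670 = n1718 := (sb E1039 (iv F2813))
theorem F3691 : act 0 n601 = n562 := (sb E1042 (iv F3611))
theorem F3692 : act 1 n601 = n435 := (sb E1042 (iv D898))
theorem E1359 : n1766 = n1231 := ((((iv F2002)).symm.trans (sb E1042 D1766))).symm
theorem E1360 : n1757 = n1210 := ((((iv F1966)).symm.trans (sb E1042 (iv F2861)))).symm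
theorem E1362 : n1758 = n1015 := ((D1758).symm.trans (sb E1044 F2775))
theorem F3693 : act 0 n622 = n570 := (sb E1046 (iv F3614))
theorem E1363 : n625 = n514 := (((iv F1840)).symm.trans (sb E1046 F1446))
theorem E1366 : n1491 = n849 := ((D1491).symm.trans (sb E1049 F3569))
theorem F3694 : act 0 n452 = n366 := (sb E1050 F1174)
theorem F3695 : act 1 n452 = n1498 := (sb E1050 D1498)
theorem E1367 : n1492 = n927 := ((((iv F1479)).symm.trans (sb E1050 (iv F2415)))).symm
theorem F3696 : act 6 n452 = n365 := (sb E1050 (iv D749))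
theorem F3697 : act 0 n467 = n425 := (sb E1052 (iv D878))
theorem F3698 : act 3 n467 = n436 := (sb E1052 F1411)
theorem E1373 : n1719 = n950 := ((((iv F1505)).symm.trans (sb E1052 (iv F2814)))).symm
theorem E1374 : n1721 = n432 := ((((iv F730)).symm.trans (sb E1053 (iv F2818)))).symm
theorem E1375 : n1752 = n1715 := ((((iv F2801)).symm.trans (sb E1054 (iv F2855)))).symm
theorem F3699 : act 0 n228 = n236 := (sb E1055 F779)
theorem F3700 : act 6 n228 = n235 := (sb E1055 (iv D466))
theorem F3701 : act 2 n113 = n153 := (sb E1062 (iv D294))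
theorem E1384 : n834 = n590 := ((F1494).symm.trans (sb E1063 (iv D1206)))
theorem F3702 : act 0 n290 = n230 := (sb E1064 F684)
theorem F3703 : act 6 n290 = n459 := (sb E1064 (iv F771))
theorem E1396 : n174 = n54 := ((((iv F137)).symm.trans (sb E1081 (iv F346)))).symm
theorem F3704 : act 6 n30 = n55 := (sb E1081 (iv D98))
theorem F3705 : act 3 n31 = n55 := (sb E1087 (iv D97))
theorem F3706 : act 1 n95 = n63 := (sb E1088 F217)
theorem E1404 : n173 = n95 := ((D173).symm.trans (sb E1088 (tr F218 E1088)))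
theorem E1407 : n1441 = n362 := (((D362).symm.trans (sb E1092 D1441))).symm
theorem F3707 : act 4 n185 = n353 := (sb E1092 F1133)
theorem F3708 : act 0 n727 = n916 := (sb E1093 (iv F1461))
theorem E1408 : n1471 = n1452 := (((D1452).symm.trans (sb E1093 D1471))).symm
theorem E1409 : n1472 = n1453 := (((D1453).symm.trans (sb E1093 D1472))).symm
theorem F3709 : act 0 n728 = n781 := (sb E1095 F1226)
theorem E1412 : n1535 = n1454 := ((((iv F2368)).symm.trans (sb E1095 (iv F2496)))).symm
theorem F3710 : act 1 n1014 = n927 := (sb E1205 F2939)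
theorem F3711 : act 4 n1536 = n947 := (sb E1099 F2937)
theorem F3712 : act 4 n1533 = n940 := (sb E1101 F2934)
theorem F3713 : act 5 n1533 = n916 := (sb E1101 (iv D1811))
theorem E1422 : n945 = n275 := (((F823).symm.trans (sb E1109 F2914))).symm
theorem F3714 : act 1 n145 = n231 := (sb E1110 (iv D458))
theorem F3715 : act 2 n1809 = n1008 := (sb E1113 F3180)
theorem E1428 : n1116 = n947 := (((D947).symm.trans (sb E1117 D1116))).symm
theorem F3716 : act 0 n1536 = n2007 := (sb E1118 (iv F3253))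
theorem F3717 : act 5 n1536 = n1012 := (sb E1118 F3188)
theorem F3718 : act 0 n1015 = n783 := (sb E1120 (iv D1538))
theorem F3719 : act 2 n1014 = n783 := (sb E1121 (iv D1539))
theorem F3720 : act 1 n875 = n433 := (sb E1123 (iv D895))
theorem E1430 : n1753 = n1716 := ((((iv F2804)).symm.trans (sb E1123 (iv F2856)))).symm
theorem F3721 : act 5 n875 = n850 := (sb E1123 (iv F3604))
theorem F3722 : act 0 n863 = n730 := (sb E1125 (iv D1459))
theorem F3723 : act 2 n863 = n893 := (sb E1125 F2377)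
theorem F3724 : act 5 n863 = n746 := (sb E1125 F2379)
theorem E1431 : n1493 = n1151 := ((((iv F3652)).symm.trans (sb E1125 (iv F2420)))).symm
theorem F3725 : act 0 n1669 = n871 := (sb E1128 F2749)
theorem F3726 : act 4 n1669 = n860 := (sb E1128 F2750)
theorem F3727 : act 1 n222 = n305 := (sb E1129 (iv F3598))
theorem E1435 : n2054 = n1016 := (((iv F3347)).symm.trans (sb E1135 F3607))
theorem F3728 : act 1 n1044 = n877 := (sb E1135 (iv D1725))
theorem F3729 : act 6 n1044 = n1014 := (sb E1135 F3610)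
theorem F3730 : act 0 n448 = n377 := (sb E1161 F1203)
theorem E1439 : n1511 = n923 := (((D923).symm.trans (sb E1161 D1511))).symm
theorem E1440 : n1512 = n924 := (((D924).symm.trans (sb E1161 D1512))).symm
theorem F3731 : act 0 n449 = n378 := (sb E1162 F1205)
theorem E1443 : n1531 = n1453 := (((D1453).symm.trans (sb E1165 (iv F2487)))).symm
theorem F3732 : act 6 n727 = n377 := (sb E1165 (iv D780))
theorem F3733 : act 3 n1528 = n916 := (sb E1169 (iv D1810))
theorem F3734 : act 4 n1528 = n1453 := (sb E1169 (tr F2930 E1409))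
theorem F3735 : act 6 n1528 = n923 := (sb E1169 F2931)
theorem E1447 : n833 = n636 := (((F1218).symm.trans (sb E1190 F2650))).symm
theorem E1448 : n1529 = n923 := ((D1529).symm.trans (sb E1191 F2652))
theorem F3736 : act 0 n314 = n229 := (sb E1192 F681)
theorem E1449 : n641 = n229 := ((D641).symm.trans (sb E1192 F683))
theorem F3737 : act 6 n314 = n362 := (sb E1192 F682)
theorem E1450 : n1498 = n496 := ((F3695).symm.trans (sb E1203 (iv F3620)))
theorem E1453 : n1883 = n927 := ((((iv F1479)).symm.trans (sb E1211 (iv F3029)))).symm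
theorem F3738 : act 5 n452 = n465 := (sb E1211 (iv D960))
theorem F3739 : act 0 n566 = n465 := (sb E1229 (iv D958))
theorem E1456 : n1881 = n1151 := ((((iv F1866)).symm.trans (sb E1229 (iv F3027)))).symm
theorem E1459 : n1845 = n467 := ((F3653).symm.trans (sb E1215 F1178))
theorem F3740 : act 1 n412 = n365 := (sb E1220 (iv D748))
theorem F3741 : act 1 n436 = n497 := (sb E1221 (iv F3646))
theorem E1465 : n1130 = n974 := (((D974).symm.trans (sb E1223 D1130))).symm
theorem E1466 : n1121 = n956 := ((((iv F1520)).symm.trans (sb E1223 (iv F1786)))).symm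
theorem F3742 : act 5 n473 = n281 := (sb E1223 F910)
theorem F3743 : act 5 n464 = n278 := (sb E1224 F900)
theorem E1470 : n1884 = n730 := ((D1884).symm.trans (sb E1231 (iv D1460)))
theorem F3744 : act 6 n356 = n465 := (sb E1232 (iv D961))
theorem F3745 : act 4 n1456 = n745 := (sb E1235 F2395)
theorem F3746 : act 4 n1454 = n744 := (sb E1238 F2392)
theorem F3747 : act 6 n1454 = n924 := (sb E1238 F2393)
theorem F3748 : act 4 n363 = n728 := (sb E1239 F2351)
theorem F3749 : act 2 n425 = n465 := (sb E1243 (iv D959))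
theorem E1474 : n1882 = n874 := ((((iv F1401)).symm.trans (sb E1243 (iv F3028)))).symm
theorem F3750 : act 5 n366 = n566 := (sb E1244 (iv F3655))
theorem E1475 : n1828 = n943 := ((((iv F1496)).symm.trans (sb E1261 (iv F2959)))).symm
theorem E1476 : n1867 = n925 := ((D1867).symm.trans (sb E1262 (iv D1830)))
theorem F3751 : act 0 n450 = n461 := (sb E1263 F1501)
theorem F3752 : act 6 n450 = n460 := (sb E1263 (iv D949))
theorem F3753 : act 6 n425 = n219 := (sb E1298 (iv F3662))
theorem F3754 : act 1 n277 = n431 := (sb E1314 (iv D891))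
theorem F3755 : act 5 n1043 = n1016 := (sb E1321 (iv F1994))
theorem F3756 : act 6 n1043 = n1015 := (sb E1321 (iv F1995))
theorem F3757 : act 1 n599 = n1043 := (sb E1322 (iv F1878))
theorem F3758 : act 5 n599 = n562 := (sb E1322 (iv D1156))
theorem F3759 : act 6 n600 = n956 := (sb E1323 (iv D1898))
theorem F3760 : act 6 n592 = n947 := (sb E1324 (iv D1880))
theorem F3761 : act 0 n604 = n1048 := (sb E1326 F3364)
theorem F3762 : act 5 n604 = n1048 := (sb E1326 F3367)
theorem E1497 : n1046 = n297 := ((((iv D604)).symm.trans (sb E1326 (iv D2061)))).symm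
theorem F3763 : act 0 n498 = n511 := (sb E1327 F1668)
theorem F3764 : act 2 n498 = n510 := (sb E1327 (iv D1050))
theorem F3765 : act 5 n498 = n510 := (sb E1327 (iv F3605))
theorem F3766 : act 5 n619 = n570 := (sb E1328 (iv D1172))
theorem F3767 : act 0 n628 = n1059 := (sb E1330 F3385)
theorem F3768 : act 5 n628 = n1059 := (sb E1330 F3387)
theorem E1499 : n1056 = n307 := ((((iv D628)).symm.trans (sb E1330 (iv D2075)))).symm
theorem F3769 : act 0 n160 = n258 := (sb E1331 (iv D513))
theorem F3770 : act 1 n567 = n972 := (sb E1332 (iv D1933))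
theorem F3771 : act 1 n472 = n467 := (sb E1334 (iv D963))
theorem E1503 : n1886 = n955 := ((((iv F1518)).symm.trans (sb E1334 (iv F3032)))).symm
theorem F3772 : act 6 n621 = n974 := (sb E1337 (iv D1939))
theorem F3773 : act 3 n2050 = n1044 := (sb E1354 (iv D2056))
theorem E1508 : n1233 = n1047 := (((iv F2008)).symm.trans (sb E1359 F2874))
theorem F3774 : act 1 n1210 = n892 := (sb E1360 (iv D1757))
theorem F3775 : act 1 n1015 = n893 := (sb E1362 (iv D1758))
theorem F3776 : act 1 n514 = n622 := (sb E1363 F1840)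
theorem E1509 : n1267 = n1058 := (((D1058).symm.trans (sb E1363 D1267))).symm
theorem F3777 : act 1 n849 = n746 := (sb E1366 (iv D1491))
theorem F3778 : act 0 n927 = n747 := (sb E1367 F2413)
theorem F3779 : act 6 n927 = n746 := (sb E1367 (iv D1492))
theorem F3780 : act 0 n950 = n874 := (sb E1373 (iv D1719))
theorem F3781 : act 6 n432 = n874 := (sb E1374 (iv D1721))
theorem F3782 : act 0 n1715 = n1870 := (sb E1375 (iv F3010))
theorem F3783 : act 6 n1715 = n889 := (sb E1375 (iv D1752))
theorem F3784 : act 0 n590 = n455 := (sb E1384 F1315)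
theorem E1513 : n1641 = n1197 := ((((iv F1954)).symm.trans (sb E1384 D1641))).symm
theorem E1514 : n1205 = n455 := ((D1205).symm.trans (sb E1384 F1317))
theorem F3785 : act 6 n590 = n940 := (sb E1384 (iv F1494))
theorem F3786 : act 6 n54 = n95 := (sb E1396 (iv D174))
theorem F3787 : act 3 n95 = n95 := (sb E1404 (iv D173))
theorem F3788 : act 4 n362 = n727 := (sb E1407 F2349)
theorem F3789 : act 4 n1452 = n743 := (sb E1408 F2389)
theorem F3790 : act 0 n1454 = n1533 := (sb E1412 F2495)
theorem E1527 : n1862 = n554 := (((D554).symm.trans (sb E1422 (iv F3001)))).symm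
theorem F3791 : act 5 n947 = n558 := (sb E1428 F1776)
theorem F3792 : act 1 n1716 = n890 := (sb E1430 (iv D1753))
theorem F3793 : act 2 n1151 = n950 := (sb E1431 F2418)
theorem F3794 : act 5 n1151 = n747 := (sb E1431 (iv D1493))
theorem F3795 : act 0 n1016 = n1044 := (sb E1435 F3347)
theorem F3796 : act 2 n1016 = n1043 := (sb E1435 (iv D2054))
theorem F3797 : act 0 n923 = n778 := (sb E1439 F2448)
theorem F3798 : act 2 n923 = n1453 := (sb E1439 F2449)
theorem F3799 : act 0 n924 = n779 := (sb E1440 F2450)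
theorem F3800 : act 6 n1453 = n778 := (sb E1443 (iv D1531))
theorem E1537 : n1638 = n1285 := ((((iv F2082)).symm.trans (sb E1447 D1638))).symm
theorem E1538 : n1287 = n454 := ((D1287).symm.trans (sb E1447 F1314))
theorem E1539 : n1639 = n1280 := ((((iv F2080)).symm.trans (sb E1447 D1639))).symm
theorem E1540 : n1640 = n1288 := (((D1288).symm.trans (sb E1447 D1640))).symm
theorem F3801 : act 4 n923 = n778 := (sb E1448 (iv D1529))
theorem F3802 : act 3 n229 = n314 := (sb E1449 (iv D641))
theorem F3803 : act 1 n496 = n452 := (sb E1450 (iv F3695))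
theorem F3804 : act 5 n927 = n948 := (sb E1453 (iv D1883))
theorem F3805 : act 0 n1151 = n948 := (sb E1456 (iv D1881))
theorem F3806 : act 2 n467 = n566 := (sb E1459 (iv F3653))
theorem E1542 : n1937 = n569 := ((D1937).symm.trans (sb E1465 F1846))
theorem F3807 : act 5 n974 = n569 := (sb E1465 F1845)
theorem F3808 : act 5 n956 = n561 := (sb E1466 F1787)
theorem F3809 : act 6 n730 = n948 := (sb E1470 (iv D1884))
theorem F3810 : act 2 n874 = n948 := (sb E1474 (iv D1882))
theorem F3811 : act 4 n943 = n941 := (sb E1475 F2960)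
theorem F3812 : act 0 n925 = n943 := (sb E1476 F3006)
theorem F3813 : act 6 n925 = n941 := (sb E1476 (iv D1867))
theorem F3814 : act 0 n297 = n509 := (sb E1497 (iv D1046))
theorem E1545 : n2060 = n603 := (((D603).symm.trans (sb E1497 D2060))).symm
theorem E1546 : n2051 = n593 := ((((iv F961)).symm.trans (sb E1497 (iv F3339)))).symm
theorem F3815 : act 0 n307 = n514 := (sb E1499 F1686)
theorem E1547 : n2074 = n627 := (((D627).symm.trans (sb E1499 D2074))).symm
theorem F3816 : act 1 n955 = n950 := (sb E1503 (iv D1886))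
theorem F3817 : act 1 n1047 = n1231 := (sb E1508 F2008)
theorem F3818 : act 1 n1058 = n1264 := (sb E1509 F2068)
theorem F3819 : act 3 n1197 = n938 := (sb E1513 F2677)
theorem F3820 : act 3 n455 = n590 := (sb E1514 (iv D1205))
theorem F3821 : act 2 n554 = n939 := (sb E1527 (iv D1862))
theorem F3822 : act 3 n1285 = n935 := (sb E1537 F2673)
theorem F3823 : act 3 n454 = n636 := (sb E1538 (iv D1287))
theorem F3824 : act 3 n1280 = n936 := (sb E1539 F2674)
theorem F3825 : act 1 n1288 = n1486 := (sb E1540 F2675)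
theorem F3826 : act 3 n1288 = n937 := (sb E1540 F2676)
theorem F3827 : act 2 n569 = n974 := (sb E1542 (iv D1937))
theorem F3828 : act 0 n603 = n1047 := (sb E1545 F3361)
theorem F3829 : act 0 n593 = n1042 := (sb E1546 (iv D2051))
theorem F3830 : act 0 n627 = n1058 := (sb E1547 F3383)
theorem F3831 : act 0 n2076 = n1269 := d1_3 (iv D1269) F3830 D2076
theorem F3832 : act 0 n2077 = n1270 := d3_3 (iv D1270) F3830 D2077
theorem F3833 : act 0 n2078 = n1271 := d5_3 (iv D1271) F3830 D2078
theorem F3834 : act 3 n2076 = n2076 := d21_1 D2076 (iv D2076) (iv D1058) (iv D514) F485 D307 D627 F3830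
theorem F3835 : act 5 n2078 = n1271 := d22_2 F1692 D2078 (iv D1271) F3830
theorem F3836 : act 3 n1269 = n1269 := d21_1 D1269 (iv D1269) (iv D627) (iv D307) (iv F485) D514 D1058 (iv F3830)
theorem F3837 : act 1 n2048 = n1208 := d0_6 D593 F3829 (iv D1042) F848 D1041 D2048 (iv D1208) (iv D592) (iv F522)
theorem F3838 : act 0 n2052 = n1212 := d1_3 (iv D1212) F3829 D2052
theorem F3839 : act 0 n2053 = n1213 := d5_3 (iv D1213) F3829 D2053
theorem F3840 : act 5 n2053 = n1213 := d22_2 F1656 D2053 (iv D1213) F3829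
theorem F3841 : act 0 n2062 = n1235 := d2_3 (iv D1235) F3828 D2062
theorem F3842 : act 0 n2063 = n1236 := d5_3 (iv D1236) F3828 D2063
theorem F3843 : act 5 n2063 = n1236 := d22_2 F1664 D2063 (iv D1236) F3828
theorem F3844 : act 2 n1934 = n1167 := d1_2 F3827 (iv F3103) F1909
theorem F3845 : act 2 n1938 = n1169 := d12_3 (iv D1169) F3827 D1938
theorem E1557 : n1262 = n1170 := (c14_4 (iv D1170) F3827 (iv F3772) D1262)
theorem F3846 : act 2 n1170 = n621 := (sb E1557 (iv D1262))
theorem F3847 : act 2 n1264 = n1260 := d11_9 (iv F1914) F3846 (iv D621) (iv D304) (iv F484) D511 (iv F3686) (iv F999) (iv F2060) (iv D1260) (iv D619) (iv F855) (iv F3764) F836 (iv F933)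
theorem F3848 : act 5 n1260 = n1170 := d13_0 F3846 D1264 F3847
theorem F3849 : act 0 n1264 = n1170 := d21_8 F3846 (iv D621) (iv D304) (iv F484) D511 (iv F3686) (iv F999) (iv F2060)
theorem F3850 : act 6 n1167 = n1264 := d5_0 F3849 (iv D1170) (iv F1909)
theorem F3851 : act 6 n1260 = n1934 := d14_2 F3850 F3847 F3844
theorem F3852 : act 5 n1934 = n1167 := d20_7 F3850 (iv D1264) F3772 F3807 D1170 (iv F3848) F3851
theorem F3853 : act 1 n1934 = n1167 := d24_14 F3850 (iv D1264) F998 F3772 F3807 F932 D1170 (iv F3848) F3391 (iv D2078) F1692 F3818 (iv F3850) (iv F3852)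
theorem F3854 : act 4 n1525 = n1823 := d15_4 F1473 F3823 (iv F1218) D1525 (iv D1823)
theorem F3855 : act 2 n1861 = n1136 := d1_2 F3821 D1861 (iv D1136)
theorem F3856 : act 2 n1863 = n1138 := d13_3 (iv D1138) F3821 D1863
theorem F3857 : act 2 n1856 = n1139 := d14_3 (iv D1139) F3821 (iv F2996)
theorem F3858 : act 4 n1530 = n1826 := d15_4 F1475 F3820 (iv F1220) (iv F2486) F2957
theorem F3859 : act 1 n1152 = n1895 := d6_5 (iv D1895) F3816 (iv F3793) (iv D1151) D1152
theorem F3860 : act 1 n1870 = n1878 := d7_3 F3024 F3816 (iv F3011)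
theorem F3861 : act 5 n1152 = n1895 := d23_0 (iv D1895) F3816 F3780 F1402 D927 (iv F3710) (iv D1014) (iv F3626) (iv F3719) F3710 F3778 (iv F3794) F3793 (iv F3816) (iv D955) F3743 D561 F922 (iv F1867)
theorem F3862 : act 6 n1152 = n1231 := d22_1 (iv F3861) (iv D1231) F3759 (iv F3044)
theorem F3863 : act 0 n1231 = n1155 := d5_1 F3862 (iv D1155) (iv F1867)
theorem F3864 : act 6 n1228 = n1895 := d10_4 F3862 (iv F3817) D2063 (iv F3371) (iv F3859)
theorem F3865 : act 5 n1155 = n1228 := d20_5 F3862 (iv D1231) F3759 F3808 D1155 F3864 (iv F3861)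
theorem F3866 : act 1 n1488 = n1670 := d0_6 F3860 (iv D1878) (iv D947) F769 D745 D1488 F3688 D1715 F3782
theorem F3867 : act 4 n1695 = n1488 := d8_0 F3866 F3689 D1695
theorem F3868 : act 5 n1695 = n1488 := d9_0 F3866 (iv D1670) F1345 D861 D1695
theorem F3869 : act 0 n1456 = n1695 := d4_3 F3868 (iv D1488) (iv F2371)
theorem F3870 : act 1 n1750 = n2007 := d0_6 D1456 F3869 (iv D1695) F1365 D889 D1750 (iv F3716) (iv D1536) (iv F3709)
theorem F3871 : act 6 n2050 = n1999 := d24_0 (iv F3254) (iv F3870) (iv F3012) (iv D1870) (iv F2410) (iv D1490) (iv F2371) (iv D1456) F3651 (iv D449) (iv F714) D873 D1718 F3685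
theorem F3872 : act 0 n2001 = n2050 := d5_3 F3871 (iv D1999) D2001
theorem F3873 : act 6 n1145 = n1210 := d19_2 F3871 F3237 (iv F3338)
theorem F3874 : act 6 n2007 = n2048 := d22_3 D2050 F3871 (iv F3254) (iv D2048)
theorem F3875 : act 5 n2001 = n2048 := d20_5 (iv F3871) (iv D2050) (iv F2501) F3717 D2001 (iv F3874) F3254
theorem F3876 : act 5 n1208 = n1147 := d9_2 F3875 F3837 (iv F1970) (iv F3840) F3344
theorem F3877 : act 0 n1147 = n1210 := d4_1 F3876 (iv D1210) D1208
theorem F3878 : act 6 n1878 = n1208 := d24_0 F3876 (iv F1970) (iv D1213) F962 (iv D593) F524 (iv D276) F3714 (iv D231) D230 D457 D943 D1870 F3860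
theorem F3879 : act 5 n1878 = n1145 := d20_3 D1147 (iv F3876) (iv F3878) F3873 (iv D1210) F3760 F3791
theorem F3880 : act 4 n2007 = n1878 := d18_3 F3879 (iv F3237) (iv F3254)
theorem F3881 : act 6 n1865 = n1456 := d24_6 (iv F3873) (iv F3879) (iv F3860) F3012 F2853 D1865 F2371 (iv D745) F619 (iv D230) (iv F416) D431 D892 (iv F3774)
theorem F3882 : act 4 n1490 = n1865 := d19_3 F3881 F3745 D1490
theorem F3883 : act 4 n1870 = n1750 := d8_2 F3880 (iv F3860) F3870
theorem F3884 : act 0 n1171 = n1171 := d0_5 F543 F3815 F3776 F3693 D1171 (iv D1171) (iv F3693) (iv F3776) (iv F3815)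
theorem F3885 : act 0 n1272 = n1272 := d1_3 F2077 F3884 (iv F2077)
theorem F3886 : act 5 n1171 = n1272 := d23_4 F3677 (iv F933) D1171 F3884 F2077 (iv D1171) (iv F3693) (iv D622) (iv D304) (iv D159) (iv F206) (iv D88) F132 F131 (iv F195) (iv F205) F204 D159 D303
theorem F3887 : act 6 n1866 = n1829 := d14_2 F3813 D1866 (iv D1829)
theorem F3888 : act 0 n1829 = n1869 := d5_1 F3887 (iv D1869) (iv F3005)
theorem F3889 : act 4 n1869 = n1866 := d19_3 F3887 F2961 D1869
theorem F3890 : act 5 n1154 = n1897 := d16_2 F3808 D1154 (iv D1897)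
theorem F3891 : act 5 n1169 = n1938 := d18_2 F3807 D1169 (iv D1938)
theorem F3892 : act 5 n1865 = n1834 := d16_2 F3804 (iv F3004) (iv D1834)
theorem F3893 : act 1 n1834 = n1999 := d9_1 F3892 (iv F3254) (iv F3870) F2853 D1865
theorem F3894 : act 6 n1834 = n1488 := d22_3 (iv F2371) (iv F3881) F3892 (iv D1488)
theorem F3895 : act 0 n1490 = n1834 := d22_4 (iv F3892) F3881 F2371 D1490
theorem F3896 : act 0 n1530 = n1826 := d2_3 F2957 F3799 (iv F2486)
theorem F3897 : act 5 n1146 = n1879 := d13_2 F3791 D1146 (iv D1879)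
theorem F3898 : act 6 n1938 = n1263 := d19_2 F3772 D1938 (iv D1263)
theorem F3899 : act 6 n1879 = n1209 := d14_2 F3760 D1879 (iv D1209)
theorem F3900 : act 6 n1897 = n1230 := d17_2 F3759 D1897 (iv D1230)
theorem F3901 : act 0 n1696 = n1696 := d0_3 F3754 (iv F1367) D1696 (iv D1696) F1367 (iv F3754) F509 F314 (iv F509)
theorem F3902 : act 2 n1748 = n1144 := d6_4 F918 F3754 (iv F1422) D1748 (iv D1144)
def n2104 : Q := act 1 n1136
theorem D2104 : act 1 n1136 = n2104 := rfl
def n2105 : Q := act 3 n1136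
theorem D2105 : act 3 n1136 = n2105 := rfl
theorem F3903 : act 0 n2105 = n1137 := d2_1 D2105 (iv D1137) D1136
def n2106 : Q := act 5 n1136
theorem D2106 : act 5 n1136 = n2106 := rfl
theorem F3904 : act 0 n2106 = n1138 := d4_1 D2106 (iv D1138) D1136
def n2107 : Q := act 6 n1136
theorem D2107 : act 6 n1136 = n2107 := rfl
theorem F3905 : act 0 n2107 = n1139 := d5_1 D2107 (iv D1139) D1136
def n2108 : Q := act 2 n1137
theorem D2108 : act 2 n1137 = n2108 := rfl
theorem F3906 : act 1 n2108 = n1182 := d6_1 D2108 (iv D1182) F945 (iv F914) (iv F1853)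
def n2109 : Q := act 4 n1137
theorem D2109 : act 4 n1137 = n2109 := rfl
theorem F3907 : act 1 n2109 = n1140 := d8_1 D2109 (iv D1140) (iv F1853)
def n2110 : Q := act 5 n1137
theorem D2110 : act 5 n1137 = n2110 := rfl
theorem F3908 : act 3 n2110 = n1138 := d16_1 D2110 (iv D1138) D1137
def n2111 : Q := act 6 n1137
theorem D2111 : act 6 n1137 = n2111 := rfl
theorem F3909 : act 3 n2111 = n1139 := d17_1 D2111 (iv D1139) D1137
def n2112 : Q := act 1 n1138
theorem D2112 : act 1 n1138 = n2112 := rfl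
theorem F3910 : act 5 n2112 = n1143 := d9_2 D1138 D2112 (iv D1143) (iv D556) D554
def n2113 : Q := act 6 n1138
theorem D2113 : act 6 n1138 = n2113 := rfl
theorem F3911 : act 5 n2113 = n2107 := d22_2 D1138 D2113 (iv D2107) (iv D1136)
def n2114 : Q := act 1 n1139
theorem D2114 : act 1 n1139 = n2114 := rfl
theorem F3912 : act 6 n2114 = n1144 := d10_2 D1139 D2114 (iv D1144) (iv D557) D554
def n2115 : Q := act 5 n1139
theorem D2115 : act 5 n1139 = n2115 := rfl
theorem F3913 : act 0 n2115 = n2113 := d4_1 D2115 F3911 F3905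
theorem F3914 : act 6 n2115 = n2106 := d20_2 D1139 D2115 (iv D2106) D2107 (iv F3911) (iv D2113) (iv D1138)
def n2116 : Q := act 5 n1140
theorem D2116 : act 5 n1140 = n2116 := rfl
theorem F3915 : act 0 n2116 = n1190 := d4_1 D2116 (iv D1190) (iv F1854)
theorem F3916 : act 2 n2116 = n1190 := d13_1 D2116 (iv D1190) (iv F1855)
theorem F3917 : act 4 n2116 = n1141 := d18_1 D2116 (iv D1141) D1140
def n2117 : Q := act 6 n1140
theorem D2117 : act 6 n1140 = n2117 := rfl
theorem F3918 : act 0 n2117 = n1191 := d5_1 D2117 (iv D1191) (iv F1854)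
theorem F3919 : act 2 n2117 = n1191 := d14_1 D2117 (iv D1191) (iv F1855)
theorem F3920 : act 4 n2117 = n1142 := d19_1 D2117 (iv D1142) D1140
def n2118 : Q := act 1 n1141
theorem D2118 : act 1 n1141 = n2118 := rfl
theorem F3921 : act 3 n2118 = n1143 := d7_2 (iv F1858) D2118 (iv D1143)
def n2119 : Q := act 1 n1142
theorem D2119 : act 1 n1142 = n2119 := rfl
theorem F3922 : act 3 n2119 = n1144 := d7_2 (iv F1861) D2119 (iv D1144)
def n2120 : Q := act 0 n1143
theorem D2120 : act 0 n1143 = n2120 := rfl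
def n2121 : Q := act 2 n1143
theorem D2121 : act 2 n1143 = n2121 := rfl
theorem F3923 : act 1 n2121 = n1146 := d6_1 D2121 (iv D1146) (iv D558) (iv F916) D1143
def n2122 : Q := act 6 n1143
theorem D2122 : act 6 n1143 = n2122 := rfl
def n2123 : Q := act 0 n1144
theorem D2123 : act 0 n1144 = n2123 := rfl
def n2124 : Q := act 5 n1144
theorem D2124 : act 5 n1144 = n2124 := rfl
def n2125 : Q := act 1 n1145
theorem D2125 : act 1 n1145 = n2125 := rfl
theorem F3924 : act 0 n2125 = n1865 := d0_1 D2125 (iv D1865) (iv D941) (iv D457) (iv F3702) (iv D290) (iv F507) D558 D1145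
theorem F3925 : act 3 n2125 = n1151 := d7_2 (iv F1862) D2125 (iv D1151)
theorem F3926 : act 4 n2125 = n1834 := d8_2 F3237 D2125 F3893
theorem F3927 : act 5 n2125 = n1490 := d9_2 F3879 D2125 F2410 D1870 F3860
theorem F3928 : act 6 n2125 = n1695 := d10_2 (iv F3873) D2125 (iv D1695) (iv F1431) (iv F3774)
def n2126 : Q := act 2 n1145
theorem D2126 : act 2 n1145 = n2126 := rfl
theorem F3929 : act 0 n2126 = n1146 := d1_1 D2126 (iv D1146) D1145
def n2127 : Q := act 3 n1146
theorem D2127 : act 3 n1146 = n2127 := rfl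
def n2128 : Q := act 6 n1146
theorem D2128 : act 6 n1146 = n2128 := rfl
theorem F3930 : act 2 n2128 = n1147 := d14_1 D2128 (iv D1147) D1146
def n2129 : Q := act 3 n1152
theorem D2129 : act 3 n1152 = n2129 := rfl
theorem F3931 : act 0 n2129 = n1154 := d2_1 D2129 (iv D1154) (iv F1867)
def n2130 : Q := act 2 n1154
theorem D2130 : act 2 n1154 = n2130 := rfl
def n2131 : Q := act 4 n1154
theorem D2131 : act 4 n1154 = n2131 := rfl
theorem F3933 : act 3 n2131 = n1169 := d15_1 D2131 (iv D1169) (iv D569) (iv F923) D1154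
def n2132 : Q := act 6 n1154
theorem D2132 : act 6 n1154 = n2132 := rfl
theorem F3934 : act 3 n2132 = n1155 := d17_1 D2132 (iv D1155) D1154
def n2133 : Q := act 1 n1155
theorem D2133 : act 1 n1155 = n2133 := rfl
theorem F3935 : act 0 n2133 = n2133 := d0_1 D2133 (iv D2133) (iv F3863) (iv F3817) (iv F3828) F980 F3828 F3817 F3863
theorem F3936 : act 4 n2133 = n1171 := d8_2 (iv F1874) D2133 (iv D1171)
theorem F3937 : act 6 n2133 = n2133 := d10_2 D1155 D2133 (iv D2133) (iv D1155) F922
def n2134 : Q := act 4 n1167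
theorem D2134 : act 4 n1167 = n2134 := rfl
theorem F3938 : act 0 n2134 = n1169 := d3_1 D2134 (iv D1169) (iv F1909)
def n2135 : Q := act 6 n1169
theorem D2135 : act 6 n1169 = n2135 := rfl
theorem F3940 : act 4 n2135 = n1170 := d19_1 D2135 (iv D1170) D1169
def n2136 : Q := act 1 n1170
theorem D2136 : act 1 n1170 = n2136 := rfl
theorem F3941 : act 0 n2136 = n2136 := d0_1 D2136 (iv D2136) (iv F3849) (iv F3818) (iv F3830) F1006 F3830 F3818 F3849
theorem F3942 : act 2 n2136 = n2136 := d6_2 (iv F3846) D2136 (iv D2136) F3846 F998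
theorem F3943 : act 3 n2136 = n1171 := d7_2 (iv F1914) D2136 (iv D1171)
theorem F3944 : act 6 n2136 = n2136 := d10_2 D1170 D2136 (iv D2136) (iv D1170) F932
def n2137 : Q := act 0 n1178
theorem D2137 : act 0 n1178 = n2137 := rfl
def n2138 : Q := act 2 n1178
theorem D2138 : act 2 n1178 = n2138 := rfl
theorem F3945 : act 1 n2138 = n1274 := d6_1 D2138 (iv D1274) (iv D629) (iv F944) D1178
def n2139 : Q := act 3 n1178
theorem D2139 : act 3 n1178 = n2139 := rfl
theorem F3946 : act 1 n2139 = n1179 := d7_1 D2139 (iv D1179) D1178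
def n2140 : Q := act 5 n1178
theorem D2140 : act 5 n1178 = n2140 := rfl
def n2141 : Q := act 6 n1178
theorem D2141 : act 6 n1178 = n2141 := rfl
def n2142 : Q := act 2 n1179
theorem D2142 : act 2 n1179 = n2142 := rfl
theorem F3947 : act 0 n2142 = n1182 := d1_1 D2142 (iv D1182) (iv F1928)
theorem F3948 : act 3 n2142 = n2024 := d21_1 D2142 (iv D2024) (iv D1030) F839 F487 (iv F515) D579 (iv F1928)
def n2143 : Q := act 4 n1179
theorem D2143 : act 4 n1179 = n2143 := rfl
theorem F3949 : act 0 n2143 = n1183 := d3_1 D2143 (iv D1183) (iv F1928)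
def n2144 : Q := act 5 n1179
theorem D2144 : act 5 n1179 = n2144 := rfl
theorem F3950 : act 0 n2144 = n1184 := d4_1 D2144 (iv D1184) (iv F1928)
theorem F3951 : act 3 n2144 = n1180 := d16_1 D2144 (iv D1180) D1179
def n2145 : Q := act 6 n1179
theorem D2145 : act 6 n1179 = n2145 := rfl
theorem F3952 : act 0 n2145 = n1185 := d5_1 D2145 (iv D1185) (iv F1928)
theorem F3953 : act 3 n2145 = n1181 := d17_1 D2145 (iv D1181) D1179
def n2146 : Q := act 1 n1180
theorem D2146 : act 1 n1180 = n2146 := rfl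
def n2147 : Q := act 1 n1181
theorem D2147 : act 1 n1181 = n2147 := rfl
def n2148 : Q := act 3 n1182
theorem D2148 : act 3 n1182 = n2148 := rfl
theorem F3954 : act 0 n2148 = n2024 := d2_1 D2148 (iv F3948) F3947
theorem F3955 : act 2 n2148 = n2021 := d11_1 D2148 (iv D2021) F1630 F863 (iv F944) D1179 D2142 F3948 (iv D2024) (iv D1030) F839 F487 (iv F515) D579 D1182
def n2149 : Q := act 4 n1182
theorem D2149 : act 4 n1182 = n2149 := rfl
theorem F3956 : act 2 n2149 = n1183 := d12_1 D2149 (iv D1183) D1182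
def n2150 : Q := act 5 n1182
theorem D2150 : act 5 n1182 = n2150 := rfl
theorem F3957 : act 2 n2150 = n1184 := d13_1 D2150 (iv D1184) D1182
def n2151 : Q := act 6 n1182
theorem D2151 : act 6 n1182 = n2151 := rfl
theorem F3958 : act 2 n2151 = n1185 := d14_1 D2151 (iv D1185) D1182
def n2152 : Q := act 5 n1183
theorem D2152 : act 5 n1183 = n2152 := rfl
theorem F3959 : act 4 n2152 = n1184 := d18_1 D2152 (iv D1184) D1183
def n2153 : Q := act 6 n1183
theorem D2153 : act 6 n1183 = n2153 := rfl
theorem F3960 : act 4 n2153 = n1185 := d19_1 D2153 (iv D1185) D1183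
def n2154 : Q := act 1 n1184
theorem D2154 : act 1 n1184 = n2154 := rfl
theorem F3961 : act 3 n2154 = n1186 := d7_2 (iv F1934) D2154 (iv D1186)
theorem F3962 : act 5 n2154 = n1192 := d9_2 D1184 D2154 (iv D1192) (iv D583) (iv F945)
def n2155 : Q := act 6 n1184
theorem D2155 : act 6 n1184 = n2155 := rfl
theorem F3963 : act 3 n2155 = n1187 := d17_1 D2155 (iv D1187) (iv F1934)
theorem F3964 : act 5 n2155 = n2145 := d22_2 D1184 D2155 (iv D2145) F1928
def n2156 : Q := act 1 n1185
theorem D2156 : act 1 n1185 = n2156 := rfl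
theorem F3965 : act 3 n2156 = n1188 := d7_2 (iv F1935) D2156 (iv D1188)
theorem F3966 : act 6 n2156 = n1194 := d10_2 D1185 D2156 (iv D1194) (iv D584) (iv F945)
def n2157 : Q := act 5 n1185
theorem D2157 : act 5 n1185 = n2157 := rfl
theorem F3967 : act 0 n2157 = n2155 := d4_1 D2157 F3964 F3952
theorem F3968 : act 3 n2157 = n1189 := d16_1 D2157 (iv D1189) (iv F1935)
theorem F3969 : act 6 n2157 = n2144 := d20_2 D1185 D2157 (iv D2144) D2145 (iv F3964) (iv D2155) (iv D1184)
def n2158 : Q := act 0 n1186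
theorem D2158 : act 0 n1186 = n2158 := rfl
theorem F3970 : act 5 n2158 = n1196 := d4_2 (iv F1936) D2158 (iv D1196)
def n2159 : Q := act 2 n1186
theorem D2159 : act 2 n1186 = n2159 := rfl
theorem F3971 : act 1 n2159 = n1280 := d6_1 D2159 (iv D1280) (iv D632) (iv F946) D1186
theorem F3972 : act 5 n2159 = n1197 := d13_2 (iv F1936) D2159 (iv D1197)
theorem F3973 : act 3 n1854 = n2159 := d16_3 F3972 F3819 (iv F2993)
def n2160 : Q := act 6 n1186
theorem D2160 : act 6 n1186 = n2160 := rfl
def n2161 : Q := act 1 n1187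
theorem D2161 : act 1 n1187 = n2161 := rfl
def n2162 : Q := act 0 n1188
theorem D2162 : act 0 n1188 = n2162 := rfl
theorem F3975 : act 6 n2162 = n1200 := d5_2 (iv F1940) D2162 (iv D1200)
def n2163 : Q := act 5 n1188
theorem D2163 : act 5 n1188 = n2163 := rfl
def n2164 : Q := act 1 n1189
theorem D2164 : act 1 n1189 = n2164 := rfl
def n2165 : Q := act 1 n1190
theorem D2165 : act 1 n1190 = n2165 := rfl
theorem F3977 : act 4 n2165 = n1192 := d8_2 (iv F1944) D2165 (iv D1192)
def n2166 : Q := act 6 n1190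
theorem D2166 : act 6 n1190 = n2166 := rfl
theorem F3978 : act 4 n2166 = n1193 := d19_1 D2166 (iv D1193) (iv F1944)
theorem F3979 : act 5 n2166 = n2117 := d22_2 D1190 D2166 (iv D2117) F1854
def n2167 : Q := act 1 n1191
theorem D2167 : act 1 n1191 = n2167 := rfl
theorem F3980 : act 4 n2167 = n1194 := d8_2 (iv F1945) D2167 (iv D1194)
def n2168 : Q := act 5 n1191
theorem D2168 : act 5 n1191 = n2168 := rfl
theorem F3981 : act 0 n2168 = n2166 := d4_1 D2168 F3979 F3918
theorem F3982 : act 2 n2168 = n2166 := d13_1 D2168 F3979 F3919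
theorem F3983 : act 4 n2168 = n1195 := d18_1 D2168 (iv D1195) (iv F1945)
theorem F3984 : act 6 n2168 = n2116 := d20_2 D1191 D2168 (iv D2116) D2117 (iv F3979) (iv D2166) (iv D1190)
def n2169 : Q := act 0 n1192
theorem D2169 : act 0 n1192 = n2169 := rfl
theorem F3985 : act 3 n2169 = n1196 := d2_2 (iv F1946) D2169 (iv D1196)
def n2170 : Q := act 2 n1192
theorem D2170 : act 2 n1192 = n2170 := rfl
def n2171 : Q := act 6 n1192
theorem D2171 : act 6 n1192 = n2171 := rfl
theorem F3986 : act 3 n2171 = n1198 := d17_1 D2171 (iv D1198) (iv F1946)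
def n2172 : Q := act 1 n1193
theorem D2172 : act 1 n1193 = n2172 := rfl
theorem F3987 : act 3 n2172 = n1199 := d7_2 (iv F1947) D2172 (iv D1199)
def n2173 : Q := act 0 n1194
theorem D2173 : act 0 n1194 = n2173 := rfl
theorem F3988 : act 3 n2173 = n1200 := d2_2 (iv F1949) D2173 (iv D1200)
def n2174 : Q := act 2 n1194
theorem D2174 : act 2 n1194 = n2174 := rfl
def n2175 : Q := act 5 n1194
theorem D2175 : act 5 n1194 = n2175 := rfl
theorem F3989 : act 3 n2175 = n1201 := d16_1 D2175 (iv D1201) (iv F1949)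
def n2176 : Q := act 1 n1195
theorem D2176 : act 1 n1195 = n2176 := rfl
theorem F3990 : act 3 n2176 = n1202 := d7_2 (iv F1952) D2176 (iv D1202)
def n2177 : Q := act 1 n1196
theorem D2177 : act 1 n1196 = n2177 := rfl
def n2178 : Q := act 2 n1196
theorem D2178 : act 2 n1196 = n2178 := rfl
theorem F3991 : act 0 n2178 = n1197 := d1_1 D2178 (iv D1197) D1196
theorem F3992 : act 3 n1858 = n2178 := d2_0 F3991 F3819 D1858
def n2179 : Q := act 6 n1196
theorem D2179 : act 6 n1196 = n2179 := rfl
theorem F3993 : act 0 n2179 = n1198 := d5_1 D2179 (iv D1198) D1196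
theorem F3994 : act 5 n2179 = n2160 := d22_2 F3970 D2179 (iv D2160) D2158
def n2180 : Q := act 6 n1197
theorem D2180 : act 6 n1197 = n2180 := rfl
theorem F3995 : act 2 n2180 = n1198 := d14_1 D2180 (iv D1198) D1197
theorem F3996 : act 3 n2180 = n1860 := d17_1 D2180 (iv D1860) (iv F3819)
def n2181 : Q := act 1 n1198
theorem D2181 : act 1 n1198 = n2181 := rfl
theorem F3997 : act 6 n2181 = n1199 := d10_2 D1198 D2181 (iv D1199) (iv D586) D585
def n2182 : Q := act 5 n1198
theorem D2182 : act 5 n1198 = n2182 := rfl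
theorem F3998 : act 0 n2182 = n2160 := d4_1 D2182 (iv F3994) F3993
theorem F3999 : act 6 n2182 = n2158 := d20_2 D1198 D2182 F3970 D2179 F3994 (iv D2160) F1936
def n2183 : Q := act 0 n1199
theorem D2183 : act 0 n1199 = n2183 := rfl
def n2184 : Q := act 2 n1199
theorem D2184 : act 2 n1199 = n2184 := rfl
theorem F4000 : act 1 n2184 = n1209 := d6_1 D2184 (iv D1209) (iv D592) (iv F950) D1199
def n2185 : Q := act 5 n1199
theorem D2185 : act 5 n1199 = n2185 := rfl
theorem F4001 : act 1 n2185 = n2124 := d9_1 D2185 (iv D2124) (iv D1144) (iv F951) D1199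
def n2186 : Q := act 1 n1200
theorem D2186 : act 1 n1200 = n2186 := rfl
def n2187 : Q := act 5 n1200
theorem D2187 : act 5 n1200 = n2187 := rfl
theorem F4002 : act 0 n2187 = n1201 := d4_1 D2187 (iv D1201) D1200
theorem F4004 : act 6 n2187 = n2163 := d22_1 D2187 (iv D2163) F1940 D1200
def n2188 : Q := act 1 n1201
theorem D2188 : act 1 n1201 = n2188 := rfl
theorem F4005 : act 5 n2188 = n1202 := d9_2 D1201 D2188 (iv D1202) (iv D588) D587
def n2189 : Q := act 6 n1201
theorem D2189 : act 6 n1201 = n2189 := rfl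
theorem F4006 : act 0 n2189 = n2163 := d5_1 D2189 (iv F4004) F4002
theorem F4008 : act 5 n2189 = n2162 := d20_1 D2189 F3975 D2187 F4004 (iv D2163) F1940 D1201
def n2190 : Q := act 0 n1202
theorem D2190 : act 0 n1202 = n2190 := rfl
def n2191 : Q := act 2 n1202
theorem D2191 : act 2 n1202 = n2191 := rfl
theorem F4009 : act 1 n2191 = n1212 := d6_1 D2191 (iv D1212) (iv D593) (iv F954) D1202
def n2192 : Q := act 6 n1202
theorem D2192 : act 6 n1202 = n2192 := rfl
theorem F4010 : act 1 n2192 = n2122 := d10_1 D2192 (iv D2122) (iv D1143) (iv F955) D1202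
def n2193 : Q := act 2 n1208
theorem D2193 : act 2 n1208 = n2193 := rfl
theorem F4011 : act 0 n2193 = n1209 := d1_1 D2193 (iv D1209) D1208
theorem F4012 : act 5 n2193 = n2128 := d13_2 (iv F3876) D2193 F3930
def n2194 : Q := act 3 n1209
theorem D2194 : act 3 n1209 = n2194 := rfl
def n2195 : Q := act 5 n1209
theorem D2195 : act 5 n1209 = n2195 := rfl
theorem F4013 : act 0 n2195 = n2128 := d4_1 D2195 (iv F4012) F4011
theorem F4014 : act 2 n2195 = n1210 := d13_1 D2195 (iv D1210) D1209
theorem F4015 : act 6 n2195 = n2126 := d22_3 F3897 F3899 D2195 F3929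
def n2196 : Q := act 3 n1212
theorem D2196 : act 3 n1212 = n2196 := rfl
def n2197 : Q := act 6 n1212
theorem D2197 : act 6 n1212 = n2197 := rfl
theorem F4017 : act 2 n2197 = n1213 := d14_1 D2197 (iv D1213) D1212
def n2198 : Q := act 3 n1228
theorem D2198 : act 3 n1228 = n2198 := rfl
theorem F4019 : act 5 n2198 = n2132 := d16_2 F3865 D2198 F3934
def n2201 : Q := act 5 n1230
theorem D2201 : act 5 n1230 = n2201 := rfl
theorem F4023 : act 3 n2201 = n1231 := d16_1 D2201 (iv D1231) D1230
theorem F4024 : act 6 n2201 = n2129 := d22_3 F3890 F3900 D2201 F3931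
theorem F4025 : act 1 n2062 = n2201 := d7_3 F4023 (iv F3817) D2062
def n2202 : Q := act 2 n1235
theorem D2202 : act 2 n1235 = n2202 := rfl
def n2204 : Q := act 6 n1235
theorem D2204 : act 6 n1235 = n2204 := rfl
theorem F4030 : act 3 n2204 = n1236 := d17_1 D2204 (iv D1236) D1235
def n2205 : Q := act 1 n1236
theorem D2205 : act 1 n1236 = n2205 := rfl
theorem F4031 : act 0 n2205 = n2205 := d0_1 D2205 (iv D2205) (iv F3842) (iv F3371) F1996 F974 (iv F1996) F3371 F3842
theorem F4032 : act 2 n2205 = n2133 := d6_2 (iv F2016) D2205 (iv D2133) F1873 (iv F983)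
theorem F4033 : act 4 n2205 = n1272 := d8_2 (iv F2017) D2205 (iv D1272)
theorem F4034 : act 5 n2205 = n2133 := d9_2 F3843 D2205 (iv D2133) F3865 F3371
theorem F4035 : act 6 n2205 = n2205 := d10_2 D1236 D2205 (iv D2205) (iv D1236) F980
def n2206 : Q := act 4 n1260
theorem D2206 : act 4 n1260 = n2206 := rfl
theorem F4037 : act 5 n2206 = n2135 := d18_2 (iv F3848) D2206 F3940
def n2207 : Q := act 5 n1263
theorem D2207 : act 5 n1263 = n2207 := rfl
theorem F4040 : act 4 n2207 = n1264 := d18_1 D2207 (iv D1264) D1263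
theorem F4041 : act 6 n2207 = n2134 := d22_3 F3891 F3898 D2207 F3938
theorem F4042 : act 1 n2077 = n2207 := d8_3 F4040 (iv F3818) D2077
def n2208 : Q := act 1 n1269
theorem D2208 : act 1 n1269 = n2208 := rfl
theorem F4043 : act 2 n2208 = n2208 := d6_2 D1269 D2208 (iv D2208) (iv D1269) F1006
theorem F4044 : act 3 n2208 = n2208 := d7_2 F3836 D2208 (iv D2208)
theorem F4045 : act 0 n2208 = n2208 := d21_8 F4043 F4044 F4043 F4044 F4043 F4044 F4043 F4044
def n2209 : Q := act 4 n1269
theorem D2209 : act 4 n1269 = n2209 := rfl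
theorem F4046 : act 2 n2209 = n1270 := d12_1 D2209 (iv D1270) D1269
def n2210 : Q := act 6 n1269
theorem D2210 : act 6 n1269 = n2210 := rfl
theorem F4048 : act 2 n2210 = n1271 := d14_1 D2210 (iv D1271) D1269
theorem F4049 : act 3 n2210 = n2210 := d17_1 D2210 (iv D2210) F3836
def n2211 : Q := act 6 n1270
theorem D2211 : act 6 n1270 = n2211 := rfl
theorem F4050 : act 4 n2211 = n1271 := d19_1 D2211 (iv D1271) D1270
def n2212 : Q := act 1 n1271
theorem D2212 : act 1 n1271 = n2212 := rfl
theorem F4051 : act 0 n2212 = n2212 := d0_1 D2212 (iv D2212) (iv F3833) (iv F3391) F2055 F998 (iv F2055) F3391 F3833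
theorem F4052 : act 3 n2212 = n1272 := d7_2 (iv F2076) D2212 (iv D1272)
theorem F4053 : act 5 n2212 = n2136 := d9_2 F3835 D2212 (iv D2136) (iv F3848) F3391
theorem F4054 : act 6 n2212 = n2212 := d10_2 D1271 D2212 (iv D2212) (iv D1271) F1006
theorem F4055 : act 2 n2212 = n2212 := d13_3 F4053 F3942 (iv F4053)
theorem F4056 : act 1 n2210 = n2210 := d6_3 F4055 (iv D2212) (iv F4048) F4048 D2212
theorem F4057 : act 6 n2208 = n2208 := d10_4 D2210 F4056 (iv D2210) D2208 (iv D2208)
def n2213 : Q := act 2 n1273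
theorem D2213 : act 2 n1273 = n2213 := rfl
theorem F4058 : act 0 n2213 = n1274 := d1_1 D2213 (iv D1274) D1273
def n2214 : Q := act 5 n1273
theorem D2214 : act 5 n1273 = n2214 := rfl
theorem F4059 : act 0 n2214 = n1275 := d4_1 D2214 (iv D1275) D1273
def n2215 : Q := act 6 n1273
theorem D2215 : act 6 n1273 = n2215 := rfl
theorem F4060 : act 0 n2215 = n1276 := d5_1 D2215 (iv D1276) D1273
def n2216 : Q := act 3 n1274
theorem D2216 : act 3 n1274 = n2216 := rfl
def n2217 : Q := act 5 n1274
theorem D2217 : act 5 n1274 = n2217 := rfl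
theorem F4061 : act 2 n2217 = n1275 := d13_1 D2217 (iv D1275) D1274
def n2218 : Q := act 6 n1274
theorem D2218 : act 6 n1274 = n2218 := rfl
theorem F4062 : act 2 n2218 = n1276 := d14_1 D2218 (iv D1276) D1274
def n2219 : Q := act 1 n1275
theorem D2219 : act 1 n1275 = n2219 := rfl
theorem F4063 : act 5 n2219 = n1277 := d9_2 D1275 D2219 (iv D1277) (iv D630) D629
def n2220 : Q := act 6 n1275
theorem D2220 : act 6 n1275 = n2220 := rfl
theorem F4064 : act 5 n2220 = n2215 := d22_2 D1275 D2220 (iv D2215) (iv D1273)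
def n2221 : Q := act 1 n1276
theorem D2221 : act 1 n1276 = n2221 := rfl
theorem F4065 : act 6 n2221 = n1278 := d10_2 D1276 D2221 (iv D1278) (iv D631) D629
def n2222 : Q := act 5 n1276
theorem D2222 : act 5 n1276 = n2222 := rfl
def n2223 : Q := act 0 n1277
theorem D2223 : act 0 n1277 = n2223 := rfl
def n2224 : Q := act 2 n1277
theorem D2224 : act 2 n1277 = n2224 := rfl
def n2225 : Q := act 6 n1277
theorem D2225 : act 6 n1277 = n2225 := rfl
def n2226 : Q := act 0 n1278
theorem D2226 : act 0 n1278 = n2226 := rfl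
def n2227 : Q := act 2 n1278
theorem D2227 : act 2 n1278 = n2227 := rfl
def n2228 : Q := act 5 n1278
theorem D2228 : act 5 n1278 = n2228 := rfl
def n2229 : Q := act 1 n1279
theorem D2229 : act 1 n1279 = n2229 := rfl
def n2230 : Q := act 2 n1279
theorem D2230 : act 2 n1279 = n2230 := rfl
theorem F4068 : act 0 n2230 = n1280 := d1_1 D2230 (iv D1280) D1279
theorem F4069 : act 5 n2230 = n1285 := d13_2 (iv F2079) D2230 (iv D1285)
theorem F4070 : act 3 n1852 = n2230 := d16_3 F4069 F3822 D1852
def n2231 : Q := act 6 n1280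
theorem D2231 : act 6 n1280 = n2231 := rfl
theorem F4071 : act 2 n2231 = n1281 := d14_1 D2231 (iv D1281) D1280
theorem F4072 : act 3 n2231 = n1855 := d17_1 D2231 (iv D1855) (iv F3824)
def n2232 : Q := act 1 n1281
theorem D2232 : act 1 n1281 = n2232 := rfl
theorem F4073 : act 6 n2232 = n1282 := d10_2 D1281 D2232 (iv D1282) (iv D633) D632
def n2233 : Q := act 0 n1282
theorem D2233 : act 0 n1282 = n2233 := rfl
def n2234 : Q := act 2 n1282
theorem D2234 : act 2 n1282 = n2234 := rfl
def n2235 : Q := act 5 n1282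
theorem D2235 : act 5 n1282 = n2235 := rfl
theorem F4074 : act 1 n2235 = n2228 := d9_1 D2235 (iv D2228) (iv D1278) (iv F1012) D1282
def n2236 : Q := act 0 n1283
theorem D2236 : act 0 n1283 = n2236 := rfl
theorem F4075 : act 5 n2236 = n2236 := d4_2 F2081 D2236 (iv D2236)
def n2237 : Q := act 2 n1283
theorem D2237 : act 2 n1283 = n2237 := rfl
def n2238 : Q := act 6 n1283
theorem D2238 : act 6 n1283 = n2238 := rfl
theorem F4077 : act 1 n2238 = n2225 := d10_1 D2238 (iv D2225) (iv D1277) (iv F1014) D1283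
def n2239 : Q := act 0 n1284
theorem D2239 : act 0 n1284 = n2239 := rfl
def n2240 : Q := act 2 n1284
theorem D2240 : act 2 n1284 = n2240 := rfl
def n2241 : Q := act 5 n1284
theorem D2241 : act 5 n1284 = n2241 := rfl
def n2242 : Q := act 6 n1284
theorem D2242 : act 6 n1284 = n2242 := rfl
def n2243 : Q := act 1 n1285
theorem D2243 : act 1 n1285 = n2243 := rfl
theorem F4078 : act 3 n2243 = n1851 := d7_2 (iv F3822) D2243 (iv D1851)
def n2244 : Q := act 6 n1285
theorem D2244 : act 6 n1285 = n2244 := rfl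
theorem F4079 : act 0 n2244 = n1288 := d5_1 D2244 (iv D1288) (iv F2082)
theorem F4080 : act 2 n2244 = n1286 := d14_1 D2244 (iv D1286) D1285
theorem F4081 : act 3 n2244 = n1853 := d17_1 D2244 (iv D1853) (iv F3822)
theorem F4082 : act 5 n2244 = n2231 := d22_2 F4069 D2244 (iv D2231) (iv F4068)
def n2245 : Q := act 1 n1286
theorem D2245 : act 1 n1286 = n2245 := rfl
def n2246 : Q := act 5 n1288
theorem D2246 : act 5 n1288 = n2246 := rfl
theorem F4083 : act 0 n2246 = n2231 := d4_1 D2246 (iv F4082) F4079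
theorem F4084 : act 2 n2246 = n1289 := d13_1 D2246 (iv D1289) (iv F2086)
theorem F4085 : act 3 n2246 = n1857 := d16_1 D2246 (iv D1857) (iv F3826)
theorem F4086 : act 6 n2246 = n2230 := d20_2 D1288 D2246 F4069 D2244 F4082 (iv D2231) F2080
def n2247 : Q := act 1 n1289
theorem D2247 : act 1 n1289 = n2247 := rfl
def n2248 : Q := act 0 n1452
theorem D2248 : act 0 n1452 = n2248 := rfl
theorem F4087 : act 2 n2248 = n1484 := d1_2 (iv F2367) D2248 (iv D1484)
theorem F4088 : act 4 n2248 = n1484 := d3_2 (iv F3789) D2248 (iv D1484)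
def n2249 : Q := act 3 n1452
theorem D2249 : act 3 n1452 = n2249 := rfl
theorem F4089 : act 1 n2249 = n1453 := d7_1 D2249 (iv D1453) D1452
def n2250 : Q := act 5 n1452
theorem D2250 : act 5 n1452 = n2250 := rfl
theorem F4090 : act 2 n2250 = n1485 := d13_1 D2250 (iv D1485) (iv F2367)
theorem F4091 : act 4 n2250 = n1485 := d18_1 D2250 (iv D1485) (iv F3789)
def n2251 : Q := act 6 n1452
theorem D2251 : act 6 n1452 = n2251 := rfl
theorem F4092 : act 1 n2251 = n1527 := d10_1 D2251 (iv D1527) (iv D777) (iv F3732) D1452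
theorem F4093 : act 2 n2251 = n1486 := d14_1 D2251 (iv D1486) (iv F2367)
theorem F4094 : act 4 n2251 = n1486 := d19_1 D2251 (iv D1486) (iv F3789)
def n2252 : Q := act 5 n1453
theorem D2252 : act 5 n1453 = n2252 := rfl
theorem F4095 : act 2 n2252 = n1826 := d13_1 D2252 (iv D1826) F3798
theorem F4096 : act 3 n2252 = n1454 := d16_1 D2252 (iv D1454) D1453
theorem F4097 : act 6 n2252 = n1826 := d22_1 D2252 (iv D1826) (iv F3735) F2483
def n2253 : Q := act 1 n1454
theorem D2253 : act 1 n1454 = n2253 := rfl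
theorem F4098 : act 4 n2253 = n1487 := d8_2 (iv F3746) D2253 (iv D1487)
def n2254 : Q := act 2 n1456
theorem D2254 : act 2 n1456 = n2254 := rfl
theorem F4099 : act 4 n2254 = n1489 := d12_2 (iv F3745) D2254 (iv D1489)
theorem F4100 : act 5 n2254 = n1489 := d13_2 (iv F2371) D2254 (iv D1489)
def n2255 : Q := act 1 n1484
theorem D2255 : act 1 n1484 = n2255 := rfl
def n2256 : Q := act 5 n1484
theorem D2256 : act 5 n1484 = n2256 := rfl
theorem F4101 : act 0 n2256 = n1485 := d4_1 D2256 (iv D1485) D1484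
def n2257 : Q := act 6 n1484
theorem D2257 : act 6 n1484 = n2257 := rfl
theorem F4102 : act 0 n2257 = n1486 := d5_1 D2257 (iv D1486) D1484
def n2258 : Q := act 1 n1485
theorem D2258 : act 1 n1485 = n2258 := rfl
theorem F4103 : act 5 n2258 = n1487 := d9_2 D1485 D2258 (iv D1487) (iv D744) D743
def n2259 : Q := act 6 n1485
theorem D2259 : act 6 n1485 = n2259 := rfl
theorem F4104 : act 5 n2259 = n2257 := d22_2 D1485 D2259 (iv D2257) (iv D1484)
def n2260 : Q := act 5 n1486
theorem D2260 : act 5 n1486 = n2260 := rfl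
theorem F4105 : act 0 n2260 = n2259 := d4_1 D2260 F4104 F4102
theorem F4106 : act 6 n2260 = n2256 := d20_2 D1486 D2260 (iv D2256) D2257 (iv F4104) (iv D2259) (iv D1485)
def n2261 : Q := act 0 n1487
theorem D2261 : act 0 n1487 = n2261 := rfl
def n2262 : Q := act 2 n1487
theorem D2262 : act 2 n1487 = n2262 := rfl
theorem F4107 : act 1 n2262 = n1489 := d6_1 D2262 (iv D1489) (iv D745) (iv F1166) D1487
def n2263 : Q := act 6 n1487
theorem D2263 : act 6 n1487 = n2263 := rfl
theorem F4108 : act 1 n2263 = n1860 := d10_1 D2263 (iv D1860) (iv D938) (iv F1167) D1487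
def n2264 : Q := act 2 n1488
theorem D2264 : act 2 n1488 = n2264 := rfl
theorem F4109 : act 0 n2264 = n1489 := d1_1 D2264 (iv D1489) D1488
def n2265 : Q := act 3 n1489
theorem D2265 : act 3 n1489 = n2265 := rfl
def n2266 : Q := act 6 n1489
theorem D2266 : act 6 n1489 = n2266 := rfl
theorem F4110 : act 2 n2266 = n1490 := d14_1 D2266 (iv D1490) D1489
def n2267 : Q := act 1 n1524
theorem D2267 : act 1 n1524 = n2267 := rfl
theorem F4111 : act 4 n2267 = n2243 := d8_2 (iv F2477) D2267 (iv D2243)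
def n2268 : Q := act 3 n1524
theorem D2268 : act 3 n1524 = n2268 := rfl
theorem F4112 : act 0 n2268 = n1525 := d2_1 D2268 (iv D1525) D1524
theorem F4113 : act 2 n2268 = n1740 := d21_2 (iv F2476) D2268 (iv D1740) F1420 F3823 (iv D636) (iv F654) D791
def n2269 : Q := act 5 n1524
theorem D2269 : act 5 n1524 = n2269 := rfl
theorem F4114 : act 0 n2269 = n1526 := d4_1 D2269 (iv D1526) D1524
theorem F4115 : act 2 n2269 = n1551 := d13_1 D2269 (iv D1551) (iv F2476)
theorem F4116 : act 4 n2269 = n2230 := d18_1 D2269 F4069 (iv F2477)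
def n2270 : Q := act 6 n1524
theorem D2270 : act 6 n1524 = n2270 := rfl
theorem F4117 : act 0 n2270 = n1527 := d5_1 D2270 (iv D1527) D1524
theorem F4118 : act 2 n2270 = n1552 := d14_1 D2270 (iv D1552) (iv F2476)
theorem F4119 : act 4 n2270 = n2244 := d19_1 D2270 (iv D2244) (iv F2477)
def n2271 : Q := act 2 n1525
theorem D2271 : act 2 n1525 = n2271 := rfl
theorem F4120 : act 0 n2271 = n1740 := d1_1 D2271 (iv F4113) F4112
theorem F4121 : act 3 n2271 = n1739 := d11_2 D1525 D2271 F2841 (iv F3822) (iv D1285) (iv F1244) (iv F2476) D2268 F4113 (iv D1740) F1420 F3823 (iv D636) (iv F654) (iv F1217)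
def n2272 : Q := act 5 n1525
theorem D2272 : act 5 n1525 = n2272 := rfl
theorem F4122 : act 3 n2272 = n1526 := d16_1 D2272 (iv D1526) D1525
def n2273 : Q := act 6 n1525
theorem D2273 : act 6 n1525 = n2273 := rfl
theorem F4123 : act 3 n2273 = n1527 := d17_1 D2273 (iv D1527) D1525
def n2274 : Q := act 1 n1526
theorem D2274 : act 1 n1526 = n2274 := rfl
theorem F4124 : act 2 n2274 = n2028 := d6_2 (iv F2479) D2274 (iv D2028) F1633 (iv F1246)
theorem F4125 : act 4 n2274 = n2159 := d8_2 (iv F2480) D2274 F3971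
theorem F4126 : act 5 n2274 = n1532 := d9_2 D1526 D2274 (iv D1532) (iv D779) D777
def n2275 : Q := act 6 n1526
theorem D2275 : act 6 n1526 = n2275 := rfl
theorem F4127 : act 2 n2275 = n1553 := d14_1 D2275 (iv D1553) (iv F2479)
theorem F4128 : act 4 n2275 = n2231 := d19_1 D2275 (iv D2231) (iv F2480)
theorem F4129 : act 5 n2275 = n2270 := d22_2 D1526 D2275 (iv D2270) (iv D1524)
def n2276 : Q := act 5 n1527
theorem D2276 : act 5 n1527 = n2276 := rfl
theorem F4130 : act 0 n2276 = n2275 := d4_1 D2276 F4129 F4117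
theorem F4131 : act 2 n2276 = n1554 := d13_1 D2276 (iv D1554) (iv F2481)
theorem F4132 : act 4 n2276 = n2246 := d18_1 D2276 (iv D2246) (iv F2482)
theorem F4133 : act 6 n2276 = n2269 := d20_2 D1527 D2276 (iv D2269) D2270 (iv F4129) (iv D2275) (iv D1526)
def n2277 : Q := act 1 n1528
theorem D2277 : act 1 n1528 = n2277 := rfl
theorem F4134 : act 3 n2277 = n1809 := d7_2 (iv F3733) D2277 (iv D1809)
theorem F4135 : act 4 n2277 = n2249 := d8_2 (iv F3734) D2277 F4089
def n2278 : Q := act 5 n1528
theorem D2278 : act 5 n1528 = n2278 := rfl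
theorem F4136 : act 0 n2278 = n2252 := d4_1 D2278 (iv D2252) (iv F2483)
theorem F4137 : act 2 n2278 = n1530 := d13_1 D2278 (iv D1530) D1528
theorem F4138 : act 3 n2278 = n1533 := d16_1 D2278 F3713 (iv F3733)
theorem F4139 : act 4 n2278 = n2252 := d18_1 D2278 (iv D2252) (iv F3734)
theorem F4140 : act 6 n2278 = n1530 := d20_2 (iv F3735) D2278 (iv D1530) (iv F3800) D2252 F4097 (iv D1826)
def n2279 : Q := act 1 n1530
theorem D2279 : act 1 n1530 = n2279 := rfl
theorem F4141 : act 3 n2279 = n1532 := d7_2 (iv F2486) D2279 (iv D1532)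
def n2280 : Q := act 0 n1532
theorem D2280 : act 0 n1532 = n2280 := rfl
theorem F4142 : act 2 n2280 = n2042 := d1_2 (iv F2488) D2280 (iv D2042)
theorem F4143 : act 4 n2280 = n2178 := d3_2 (iv F2489) D2280 F3991
def n2281 : Q := act 6 n1532
theorem D2281 : act 6 n1532 = n2281 := rfl
theorem F4144 : act 2 n2281 = n2043 := d14_1 D2281 (iv D2043) (iv F2488)
theorem F4145 : act 4 n2281 = n2180 := d19_1 D2281 (iv D2180) (iv F2489)
def n2282 : Q := act 1 n1533
theorem D2282 : act 1 n1533 = n2282 := rfl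
theorem F4146 : act 4 n2282 = n1864 := d8_2 (iv F3712) D2282 (iv D1864)
def n2283 : Q := act 2 n1536
theorem D2283 : act 2 n1536 = n2283 := rfl
theorem F4147 : act 4 n2283 = n1879 := d12_2 (iv F3711) D2283 (iv D1879)
theorem F4148 : act 5 n2283 = n2000 := d13_2 (iv F3717) D2283 (iv D2000)
theorem F4149 : act 6 n2283 = n2049 := d14_2 (iv F2501) D2283 (iv D2049)
def n2284 : Q := act 0 n1550
theorem D2284 : act 0 n1550 = n2284 := rfl
theorem F4150 : act 1 n2284 = n2239 := d0_2 D1550 D2284 (iv D2239) (iv D1284) (iv D635) (iv D312) (iv F385) D384 D791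
theorem F4151 : act 3 n2284 = n2239 := d2_2 (iv F2527) D2284 (iv D2239)
theorem F4152 : act 4 n2284 = n2239 := d3_2 (iv F2528) D2284 (iv D2239)
def n2285 : Q := act 2 n1550
theorem D2285 : act 2 n1550 = n2285 := rfl
theorem F4153 : act 4 n2285 = n2240 := d12_2 (iv F2528) D2285 (iv D2240)
def n2286 : Q := act 5 n1550
theorem D2286 : act 5 n1550 = n2286 := rfl
theorem F4154 : act 3 n2286 = n2241 := d16_1 D2286 (iv D2241) (iv F2527)
theorem F4155 : act 4 n2286 = n2241 := d18_1 D2286 (iv D2241) (iv F2528)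
def n2287 : Q := act 6 n1550
theorem D2287 : act 6 n1550 = n2287 := rfl
theorem F4156 : act 3 n2287 = n2242 := d17_1 D2287 (iv D2242) (iv F2527)
theorem F4157 : act 4 n2287 = n2242 := d19_1 D2287 (iv D2242) (iv F2528)
def n2288 : Q := act 1 n1551
theorem D2288 : act 1 n1551 = n2288 := rfl
theorem F4158 : act 3 n2288 = n2229 := d7_2 (iv F2530) D2288 (iv D2229)
theorem F4159 : act 4 n2288 = n2229 := d8_2 (iv F2531) D2288 (iv D2229)
def n2289 : Q := act 1 n1552
theorem D2289 : act 1 n1552 = n2289 := rfl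
theorem F4160 : act 3 n2289 = n2245 := d7_2 (iv F2533) D2289 (iv D2245)
theorem F4161 : act 4 n2289 = n2245 := d8_2 (iv F2534) D2289 (iv D2245)
def n2290 : Q := act 1 n1553
theorem D2290 : act 1 n1553 = n2290 := rfl
theorem F4162 : act 3 n2290 = n2232 := d7_2 (iv F2535) D2290 (iv D2232)
theorem F4163 : act 4 n2290 = n2232 := d8_2 (iv F2536) D2290 (iv D2232)
theorem F4164 : act 6 n2290 = n2085 := d10_2 D1553 D2290 (iv D2085) (iv D1063) (iv F1246)
def n2291 : Q := act 1 n1554
theorem D2291 : act 1 n1554 = n2291 := rfl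
theorem F4165 : act 3 n2291 = n2247 := d7_2 (iv F2539) D2291 (iv D2247)
theorem F4166 : act 4 n2291 = n2247 := d8_2 (iv F2540) D2291 (iv D2247)
theorem F4167 : act 5 n2291 = n2247 := d9_2 D1554 D2291 (iv D2247) (iv D1289) (iv F1249)
def n2292 : Q := act 1 n1669
theorem D2292 : act 1 n1669 = n2292 := rfl
theorem F4168 : act 2 n2292 = n1692 := d6_2 D1669 D2292 (iv D1692) (iv D860) (iv F1345)
theorem F4169 : act 4 n2292 = n1692 := d8_2 (iv F3726) D2292 (iv D1692)
def n2293 : Q := act 3 n1669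
theorem D2293 : act 3 n1669 = n2293 := rfl
theorem F4170 : act 0 n2293 = n1712 := d2_1 D2293 (iv D1712) (iv F3725)
theorem F4171 : act 2 n2293 = n2293 := d11_1 D2293 (iv D2293) (iv D1669) (iv D848) (iv F3590) D422 D871 D1712 F2796 (iv D1712) (iv D871) (iv D422) F3590 D848 D1669
def n2294 : Q := act 5 n1669
theorem D2294 : act 5 n1669 = n2294 := rfl
theorem F4172 : act 0 n2294 = n1713 := d4_1 D2294 (iv D1713) (iv F3725)
theorem F4173 : act 2 n2294 = n1670 := d13_1 D2294 (iv D1670) D1669
theorem F4174 : act 4 n2294 = n1693 := d18_1 D2294 (iv D1693) (iv F3726)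
def n2295 : Q := act 6 n1669
theorem D2295 : act 6 n1669 = n2295 := rfl
theorem F4175 : act 0 n2295 = n1714 := d5_1 D2295 (iv D1714) (iv F3725)
theorem F4176 : act 2 n2295 = n1671 := d14_1 D2295 (iv D1671) D1669
theorem F4177 : act 4 n2295 = n1694 := d19_1 D2295 (iv D1694) (iv F3726)
def n2296 : Q := act 1 n1671
theorem D2296 : act 1 n1671 = n2296 := rfl
theorem F4178 : act 0 n2296 = n2296 := d0_1 D2296 (iv D2296) F3681 (iv F3684) F827 F476 (iv F827) F3684 (iv F3681)
theorem F4179 : act 3 n2296 = n1674 := d7_2 (iv F2732) D2296 (iv D1674)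
theorem F4180 : act 4 n2296 = n1696 := d8_2 (iv F3682) D2296 (iv D1696)
theorem F4181 : act 5 n2296 = n1696 := d9_2 (iv F3683) D2296 (iv D1696) (iv F1426) (iv F3792)
theorem F4182 : act 6 n2296 = n1696 := d10_2 D1671 D2296 (iv D1696) (iv D862) (iv F1345)
def n2297 : Q := act 0 n1692
theorem D2297 : act 0 n1692 = n2297 := rfl
def n2298 : Q := act 5 n1692
theorem D2298 : act 5 n1692 = n2298 := rfl
def n2299 : Q := act 6 n1692
theorem D2299 : act 6 n1692 = n2299 := rfl
def n2300 : Q := act 1 n1693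
theorem D2300 : act 1 n1693 = n2300 := rfl
def n2301 : Q := act 1 n1694
theorem D2301 : act 1 n1694 = n2301 := rfl
def n2302 : Q := act 2 n1695
theorem D2302 : act 2 n1695 = n2302 := rfl
theorem F4183 : act 0 n2302 = n2254 := d1_1 D2302 (iv D2254) F3869
theorem F4184 : act 4 n2302 = n2264 := d12_2 (iv F3867) D2302 (iv D2264)
theorem F4185 : act 5 n2302 = n2264 := d13_2 (iv F3868) D2302 (iv D2264)
def n2303 : Q := act 2 n1696
theorem D2303 : act 2 n1696 = n2303 := rfl
def n2304 : Q := act 0 n1711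
theorem D2304 : act 0 n1711 = n2304 := rfl
theorem F4187 : act 2 n2304 = n1822 := d1_2 (iv F2794) D2304 (iv D1822)
theorem F4188 : act 4 n2304 = n1739 := d3_2 (iv F2795) D2304 (iv D1739)
def n2305 : Q := act 3 n1711
theorem D2305 : act 3 n1711 = n2305 := rfl
theorem F4189 : act 1 n2305 = n1712 := d7_1 D2305 (iv D1712) D1711
def n2306 : Q := act 5 n1711
theorem D2306 : act 5 n1711 = n2306 := rfl
theorem F4190 : act 2 n2306 = n1824 := d13_1 D2306 (iv D1824) (iv F2794)
theorem F4191 : act 4 n2306 = n1741 := d18_1 D2306 (iv D1741) (iv F2795)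
def n2307 : Q := act 6 n1711
theorem D2307 : act 6 n1711 = n2307 := rfl
theorem F4192 : act 2 n2307 = n1825 := d14_1 D2307 (iv D1825) (iv F2794)
theorem F4193 : act 4 n2307 = n1742 := d19_1 D2307 (iv D1742) (iv F2795)
def n2308 : Q := act 4 n1712
theorem D2308 : act 4 n1712 = n2308 := rfl
theorem F4194 : act 2 n2308 = n2308 := d12_1 D2308 (iv D2308) F2796
theorem F4195 : act 3 n2308 = n1743 := d15_1 D2308 (iv D1743) (iv D886) (iv F1396) D1712
def n2309 : Q := act 5 n1712
theorem D2309 : act 5 n1712 = n2309 := rfl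
theorem F4196 : act 2 n2309 = n2309 := d13_1 D2309 (iv D2309) F2796
theorem F4197 : act 3 n2309 = n1713 := d16_1 D2309 (iv D1713) D1712
def n2310 : Q := act 6 n1712
theorem D2310 : act 6 n1712 = n2310 := rfl
theorem F4198 : act 2 n2310 = n2310 := d14_1 D2310 (iv D2310) F2796
theorem F4199 : act 3 n2310 = n1714 := d17_1 D2310 (iv D1714) D1712
def n2311 : Q := act 1 n1713
theorem D2311 : act 1 n1713 = n2311 := rfl
theorem F4200 : act 4 n2311 = n1746 := d8_2 (iv F2798) D2311 (iv D1746)
def n2312 : Q := act 6 n1713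
theorem D2312 : act 6 n1713 = n2312 := rfl
theorem F4201 : act 2 n2312 = n1716 := d14_1 D2312 (iv D1716) (iv F2797)
theorem F4202 : act 4 n2312 = n1747 := d19_1 D2312 (iv D1747) (iv F2798)
theorem F4203 : act 5 n2312 = n2295 := d22_2 D1713 D2312 (iv D2295) F3725
def n2313 : Q := act 1 n1714
theorem D2313 : act 1 n1714 = n2313 := rfl
theorem F4204 : act 2 n2313 = n1998 := d6_2 (iv F2799) D2313 (iv D1998) F1591 F3684
theorem F4205 : act 4 n2313 = n1748 := d8_2 (iv F2800) D2313 (iv D1748)
def n2314 : Q := act 5 n1714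
theorem D2314 : act 5 n1714 = n2314 := rfl
theorem F4206 : act 0 n2314 = n2312 := d4_1 D2314 F4203 F4175
theorem F4207 : act 2 n2314 = n1718 := d13_1 D2314 (iv D1718) (iv F2799)
theorem F4208 : act 4 n2314 = n1749 := d18_1 D2314 (iv D1749) (iv F2800)
theorem F4209 : act 6 n2314 = n2294 := d20_2 D1714 D2314 (iv D2294) D2295 (iv F4203) (iv D2312) (iv D1713)
def n2315 : Q := act 2 n1715
theorem D2315 : act 2 n1715 = n2315 := rfl
theorem F4210 : act 4 n2315 = n1751 := d12_2 (iv F2802) D2315 (iv D1751)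
theorem F4211 : act 5 n2315 = n1829 := d13_2 (iv F2803) D2315 (iv D1829)
theorem F4212 : act 6 n2315 = n1751 := d14_2 (iv F3783) D2315 (iv D1751)
def n2316 : Q := act 1 n1739
theorem D2316 : act 1 n1739 = n2316 := rfl
def n2317 : Q := act 5 n1739
theorem D2317 : act 5 n1739 = n2317 := rfl
theorem F4213 : act 0 n2317 = n1741 := d4_1 D2317 (iv D1741) D1739
theorem F4214 : act 2 n2317 = n1852 := d13_1 D2317 (iv D1852) (iv F2841)
def n2318 : Q := act 6 n1739
theorem D2318 : act 6 n1739 = n2318 := rfl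
theorem F4215 : act 0 n2318 = n1742 := d5_1 D2318 (iv D1742) D1739
theorem F4216 : act 2 n2318 = n1853 := d14_1 D2318 (iv D1853) (iv F2841)
def n2319 : Q := act 4 n1740
theorem D2319 : act 4 n1740 = n2319 := rfl
theorem F4217 : act 1 n2319 = n1743 := d8_1 D2319 (iv D1743) (iv F2842)
def n2320 : Q := act 5 n1740
theorem D2320 : act 5 n1740 = n2320 := rfl
theorem F4218 : act 3 n2320 = n1741 := d16_1 D2320 (iv D1741) D1740
def n2321 : Q := act 6 n1740
theorem D2321 : act 6 n1740 = n2321 := rfl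
theorem F4219 : act 3 n2321 = n1742 := d17_1 D2321 (iv D1742) D1740
def n2322 : Q := act 1 n1741
theorem D2322 : act 1 n1741 = n2322 := rfl
theorem F4220 : act 5 n2322 = n1746 := d9_2 D1741 D2322 (iv D1746) (iv D887) D885
def n2323 : Q := act 6 n1741
theorem D2323 : act 6 n1741 = n2323 := rfl
theorem F4221 : act 2 n2323 = n1855 := d14_1 D2323 (iv D1855) (iv F2843)
theorem F4222 : act 5 n2323 = n2318 := d22_2 D1741 D2323 (iv D2318) (iv D1739)
def n2324 : Q := act 1 n1742
theorem D2324 : act 1 n1742 = n2324 := rfl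
theorem F4223 : act 2 n2324 = n2114 := d6_2 (iv F2844) D2324 (iv D2114) (iv F3857) (iv D1856)
theorem F4224 : act 6 n2324 = n1748 := d10_2 D1742 D2324 (iv D1748) (iv D888) D885
def n2325 : Q := act 5 n1742
theorem D2325 : act 5 n1742 = n2325 := rfl
theorem F4225 : act 0 n2325 = n2323 := d4_1 D2325 F4222 F4215
theorem F4226 : act 2 n2325 = n1857 := d13_1 D2325 (iv D1857) (iv F2844)
theorem F4227 : act 6 n2325 = n2317 := d20_2 D1742 D2325 (iv D2317) D2318 (iv F4222) (iv D2323) (iv D1741)
def n2326 : Q := act 5 n1743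
theorem D2326 : act 5 n1743 = n2326 := rfl
theorem F4228 : act 4 n2326 = n1744 := d18_1 D2326 (iv D1744) D1743
def n2327 : Q := act 6 n1743
theorem D2327 : act 6 n1743 = n2327 := rfl
theorem F4229 : act 4 n2327 = n1745 := d19_1 D2327 (iv D1745) D1743
def n2328 : Q := act 1 n1744
theorem D2328 : act 1 n1744 = n2328 := rfl
theorem F4230 : act 3 n2328 = n1746 := d7_2 (iv F2845) D2328 (iv D1746)
def n2329 : Q := act 6 n1744
theorem D2329 : act 6 n1744 = n2329 := rfl
theorem F4231 : act 2 n2329 = n2041 := d14_1 D2329 F3324 F3229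
theorem F4232 : act 3 n2329 = n1747 := d17_1 D2329 (iv D1747) (iv F2845)
theorem F4233 : act 5 n2329 = n2035 := d22_2 D1744 D2329 (iv D2035) F1637
def n2330 : Q := act 1 n1745
theorem D2330 : act 1 n1745 = n2330 := rfl
theorem F4234 : act 3 n2330 = n1748 := d7_2 (iv F2846) D2330 (iv D1748)
def n2331 : Q := act 5 n1745
theorem D2331 : act 5 n1745 = n2331 := rfl
theorem F4235 : act 0 n2331 = n2329 := d4_1 D2331 F4233 F3311
theorem F4236 : act 2 n2331 = n2039 := d13_1 D2331 F3320 F3232
theorem F4237 : act 3 n2331 = n1749 := d16_1 D2331 (iv D1749) (iv F2846)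
theorem F4238 : act 6 n2331 = n2034 := d20_2 D1745 D2331 (iv D2034) D2035 (iv F4233) (iv D2329) (iv D1744)
def n2332 : Q := act 0 n1746
theorem D2332 : act 0 n1746 = n2332 := rfl
def n2333 : Q := act 2 n1746
theorem D2333 : act 2 n1746 = n2333 := rfl
theorem F4239 : act 1 n2333 = n1751 := d6_1 D2333 (iv D1751) (iv D889) (iv F1421) D1746
def n2334 : Q := act 6 n1746
theorem D2334 : act 6 n1746 = n2334 := rfl
def n2335 : Q := act 1 n1747
theorem D2335 : act 1 n1747 = n2335 := rfl
def n2336 : Q := act 0 n1748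
theorem D2336 : act 0 n1748 = n2336 := rfl
theorem F4240 : act 2 n2336 = n2123 := d1_2 (iv F3902) D2336 (iv D2123)
def n2337 : Q := act 5 n1748
theorem D2337 : act 5 n1748 = n2337 := rfl
theorem F4241 : act 2 n2337 = n2124 := d13_1 D2337 (iv D2124) (iv F3902)
def n2338 : Q := act 1 n1749
theorem D2338 : act 1 n1749 = n2338 := rfl
def n2339 : Q := act 2 n1750
theorem D2339 : act 2 n1750 = n2339 := rfl
theorem F4242 : act 0 n2339 = n1751 := d1_1 D2339 (iv D1751) D1750
theorem F4243 : act 5 n2339 = n1866 := d13_2 (iv F2853) D2339 (iv D1866)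
def n2340 : Q := act 3 n1751
theorem D2340 : act 3 n1751 = n2340 := rfl
theorem F4244 : act 5 n2340 = n1868 := d16_2 (iv F2854) D2340 (iv D1868)
def n2341 : Q := act 0 n1809
theorem D2341 : act 0 n1809 = n2341 := rfl
theorem F4245 : act 2 n2341 = n1990 := d1_2 (iv F3715) D2341 (iv D1990)
theorem F4246 : act 4 n2341 = n1861 := d3_2 (iv F2927) D2341 (iv D1861)
def n2342 : Q := act 5 n1809
theorem D2342 : act 5 n1809 = n2342 := rfl
theorem F4247 : act 2 n2342 = n1992 := d13_1 D2342 (iv D1992) (iv F3715)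
theorem F4248 : act 4 n2342 = n1863 := d18_1 D2342 (iv D1863) (iv F2927)
def n2343 : Q := act 6 n1809
theorem D2343 : act 6 n1809 = n2343 := rfl
theorem F4249 : act 1 n2343 = n1825 := d10_1 D2343 (iv D1825) (iv D922) (iv F1463) D1809
theorem F4250 : act 2 n2343 = n1993 := d14_1 D2343 (iv D1993) (iv F3715)
theorem F4251 : act 4 n2343 = n1856 := d19_1 D2343 F2996 (iv F2927)
def n2344 : Q := act 1 n1822
theorem D2344 : act 1 n1822 = n2344 := rfl
theorem F4252 : act 4 n2344 = n1851 := d8_2 (iv F2953) D2344 (iv D1851)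
def n2345 : Q := act 3 n1822
theorem D2345 : act 3 n1822 = n2345 := rfl
theorem F4253 : act 0 n2345 = n1823 := d2_1 D2345 (iv D1823) D1822
theorem F4254 : act 4 n2345 = n2268 := d15_2 (iv F2953) D2345 (iv D2268) F2477 F3822
theorem F4255 : act 2 n2319 = n2345 := d12_3 F4254 F4113 D2319
def n2346 : Q := act 5 n1822
theorem D2346 : act 5 n1822 = n2346 := rfl
theorem F4256 : act 0 n2346 = n1824 := d4_1 D2346 (iv D1824) D1822
theorem F4257 : act 4 n2346 = n1852 := d18_1 D2346 (iv D1852) (iv F2953)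
def n2347 : Q := act 6 n1822
theorem D2347 : act 6 n1822 = n2347 := rfl
theorem F4258 : act 0 n2347 = n1825 := d5_1 D2347 (iv D1825) D1822
theorem F4259 : act 4 n2347 = n1853 := d19_1 D2347 (iv D1853) (iv F2953)
def n2348 : Q := act 2 n1823
theorem D2348 : act 2 n1823 = n2348 := rfl
theorem F4260 : act 0 n2348 = n2319 := d1_1 D2348 F4255 F4253
theorem F4261 : act 4 n2348 = n2271 := d12_2 F3854 D2348 (iv D2271)
def n2349 : Q := act 5 n1823
theorem D2349 : act 5 n1823 = n2349 := rfl
theorem F4262 : act 3 n2349 = n1824 := d16_1 D2349 (iv D1824) D1823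
theorem F4263 : act 4 n2349 = n2272 := d18_1 D2349 (iv D2272) F3854
def n2350 : Q := act 6 n1823
theorem D2350 : act 6 n1823 = n2350 := rfl
theorem F4264 : act 3 n2350 = n1825 := d17_1 D2350 (iv D1825) D1823
theorem F4265 : act 4 n2350 = n2273 := d19_1 D2350 (iv D2273) F3854
def n2351 : Q := act 1 n1824
theorem D2351 : act 1 n1824 = n2351 := rfl
theorem F4266 : act 4 n2351 = n1854 := d8_2 (iv F2955) D2351 (iv D1854)
theorem F4267 : act 5 n2351 = n1827 := d9_2 D1824 D2351 (iv D1827) (iv D924) D922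
def n2352 : Q := act 6 n1824
theorem D2352 : act 6 n1824 = n2352 := rfl
theorem F4268 : act 4 n2352 = n1855 := d19_1 D2352 (iv D1855) (iv F2955)
theorem F4269 : act 5 n2352 = n2347 := d22_2 D1824 D2352 (iv D2347) (iv D1822)
def n2353 : Q := act 5 n1825
theorem D2353 : act 5 n1825 = n2353 := rfl
theorem F4270 : act 0 n2353 = n2352 := d4_1 D2353 F4269 F4258
theorem F4271 : act 4 n2353 = n1857 := d18_1 D2353 (iv D1857) (iv F2956)
theorem F4272 : act 6 n2353 = n2346 := d20_2 D1825 D2353 (iv D2346) D2347 (iv F4269) (iv D2352) (iv D1824)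
def n2354 : Q := act 1 n1826
theorem D2354 : act 1 n1826 = n2354 := rfl
theorem F4273 : act 3 n2354 = n1827 := d7_2 (iv F2957) D2354 (iv D1827)
theorem F4274 : act 4 n2354 = n2279 := d8_2 F3858 D2354 (iv D2279)
def n2355 : Q := act 0 n1827
theorem D2355 : act 0 n1827 = n2355 := rfl
theorem F4275 : act 4 n2355 = n1858 := d3_2 (iv F2958) D2355 (iv D1858)
def n2356 : Q := act 2 n1827
theorem D2356 : act 2 n1827 = n2356 := rfl
theorem F4276 : act 1 n2356 = n1829 := d6_1 D2356 (iv D1829) (iv D925) (iv F1474) D1827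
theorem F4277 : act 4 n2356 = n1859 := d12_2 (iv F2958) D2356 (iv D1859)
def n2357 : Q := act 6 n1827
theorem D2357 : act 6 n1827 = n2357 := rfl
theorem F4278 : act 4 n2357 = n1860 := d19_1 D2357 (iv D1860) (iv F2958)
def n2358 : Q := act 3 n1829
theorem D2358 : act 3 n1829 = n2358 := rfl
def n2359 : Q := act 2 n1834
theorem D2359 : act 2 n1834 = n2359 := rfl
theorem F4279 : act 0 n2359 = n2266 := d1_1 D2359 F4110 F3895
theorem F4280 : act 6 n2359 = n2264 := d14_2 (iv F3894) D2359 (iv D2264)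
def n2360 : Q := act 0 n1851
theorem D2360 : act 0 n1851 = n2360 := rfl
def n2361 : Q := act 2 n1851
theorem D2361 : act 2 n1851 = n2361 := rfl
def n2362 : Q := act 5 n1851
theorem D2362 : act 5 n1851 = n2362 := rfl
def n2363 : Q := act 6 n1851
theorem D2363 : act 6 n1851 = n2363 := rfl
def n2364 : Q := act 1 n1852
theorem D2364 : act 1 n1852 = n2364 := rfl
def n2365 : Q := act 1 n1853
theorem D2365 : act 1 n1853 = n2365 := rfl
def n2366 : Q := act 0 n1854
theorem D2366 : act 0 n1854 = n2366 := rfl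
theorem F4281 : act 5 n2366 = n1858 := d4_2 (iv F2993) D2366 (iv D1858)
def n2367 : Q := act 2 n1854
theorem D2367 : act 2 n1854 = n2367 := rfl
theorem F4282 : act 5 n2367 = n1859 := d13_2 (iv F2993) D2367 (iv D1859)
def n2368 : Q := act 6 n1854
theorem D2368 : act 6 n1854 = n2368 := rfl
def n2369 : Q := act 1 n1855
theorem D2369 : act 1 n1855 = n2369 := rfl
def n2370 : Q := act 0 n1856
theorem D2370 : act 0 n1856 = n2370 := rfl
theorem F4283 : act 2 n2370 = n2107 := d1_2 (iv F3857) D2370 F3905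
theorem F4284 : act 3 n2370 = n2257 := d2_2 (iv F2995) D2370 F4102
theorem F4285 : act 6 n2370 = n1861 := d5_2 (iv F2996) D2370 (iv D1861)
def n2371 : Q := act 5 n1856
theorem D2371 : act 5 n1856 = n2371 := rfl
theorem F4286 : act 2 n2371 = n2115 := d13_1 D2371 (iv D2115) (iv F3857)
theorem F4287 : act 3 n2371 = n2260 := d16_1 D2371 (iv D2260) (iv F2995)
def n2372 : Q := act 1 n1857
theorem D2372 : act 1 n1857 = n2372 := rfl
def n2373 : Q := act 1 n1858
theorem D2373 : act 1 n1858 = n2373 := rfl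
def n2374 : Q := act 2 n1858
theorem D2374 : act 2 n1858 = n2374 := rfl
theorem F4288 : act 0 n2374 = n1859 := d1_1 D2374 (iv D1859) D1858
def n2375 : Q := act 6 n1858
theorem D2375 : act 6 n1858 = n2375 := rfl
theorem F4289 : act 0 n2375 = n1860 := d5_1 D2375 (iv D1860) D1858
theorem F4290 : act 5 n2375 = n2368 := d22_2 F4281 D2375 (iv D2368) D2366
def n2376 : Q := act 3 n1859
theorem D2376 : act 3 n1859 = n2376 := rfl
theorem F4291 : act 1 n2376 = n1868 := d7_1 D2376 (iv D1868) (iv F2999)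
def n2377 : Q := act 6 n1859
theorem D2377 : act 6 n1859 = n2377 := rfl
theorem F4292 : act 2 n2377 = n1860 := d14_1 D2377 (iv D1860) D1859
def n2378 : Q := act 5 n1860
theorem D2378 : act 5 n1860 = n2378 := rfl
theorem F4293 : act 0 n2378 = n2368 := d4_1 D2378 (iv F4290) F4289
theorem F4294 : act 6 n2378 = n2366 := d20_2 D1860 D2378 F4281 D2375 F4290 (iv D2368) F2993
def n2379 : Q := act 1 n1861
theorem D2379 : act 1 n1861 = n2379 := rfl
theorem F4295 : act 3 n2379 = n2255 := d7_2 (iv F3000) D2379 (iv D2255)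
def n2380 : Q := act 5 n1861
theorem D2380 : act 5 n1861 = n2380 := rfl
theorem F4296 : act 0 n2380 = n1863 := d4_1 D2380 (iv D1863) D1861
theorem F4297 : act 2 n2380 = n2106 := d13_1 D2380 (iv D2106) (iv F3855)
theorem F4298 : act 3 n2380 = n2256 := d16_1 D2380 (iv D2256) (iv F3000)
theorem F4299 : act 6 n2380 = n2371 := d22_1 D2380 (iv D2371) F2996 D1861
def n2381 : Q := act 1 n1863
theorem D2381 : act 1 n1863 = n2381 := rfl
theorem F4300 : act 3 n2381 = n2258 := d7_2 (iv F3002) D2381 (iv D2258)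
theorem F4301 : act 5 n2381 = n1864 := d9_2 D1863 D2381 (iv D1864) (iv D940) D939
def n2382 : Q := act 6 n1863
theorem D2382 : act 6 n1863 = n2382 := rfl
theorem F4302 : act 0 n2382 = n2371 := d5_1 D2382 (iv F4299) F4296
theorem F4303 : act 2 n2382 = n2113 := d14_1 D2382 (iv D2113) (iv F3856)
theorem F4304 : act 3 n2382 = n2259 := d17_1 D2382 (iv D2259) (iv F3002)
theorem F4305 : act 5 n2382 = n2370 := d20_1 D2382 F4285 D2380 F4299 (iv D2371) F2996 D1863
def n2383 : Q := act 0 n1864
theorem D2383 : act 0 n1864 = n2383 := rfl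
theorem F4306 : act 3 n2383 = n2261 := d2_2 (iv F3003) D2383 (iv D2261)
def n2384 : Q := act 2 n1864
theorem D2384 : act 2 n1864 = n2384 := rfl
theorem F4307 : act 1 n2384 = n1879 := d6_1 D2384 (iv D1879) (iv D947) (iv F1492) D1864
def n2385 : Q := act 6 n1864
theorem D2385 : act 6 n1864 = n2385 := rfl
theorem F4308 : act 1 n2385 = n2180 := d10_1 D2385 (iv D2180) F1954 F3785 D1864
theorem F4309 : act 3 n2385 = n2263 := d17_1 D2385 (iv D2263) (iv F3003)
def n2386 : Q := act 2 n1865
theorem D2386 : act 2 n1865 = n2386 := rfl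
theorem F4310 : act 4 n2386 = n2266 := d12_2 F3882 D2386 F4110
theorem F4311 : act 5 n2386 = n2359 := d13_2 (iv F3892) D2386 (iv D2359)
theorem F4312 : act 6 n2386 = n2254 := d14_2 (iv F3881) D2386 (iv D2254)
def n2387 : Q := act 1 n1866
theorem D2387 : act 1 n1866 = n2387 := rfl
def n2388 : Q := act 3 n1866
theorem D2388 : act 3 n1866 = n2388 := rfl
theorem F4313 : act 0 n2388 = n1868 := d2_1 D2388 (iv D1868) (iv F3005)
theorem F4314 : act 6 n2388 = n2358 := d17_2 (iv F3887) D2388 (iv D2358)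
theorem F4315 : act 2 n2388 = n2265 := d21_2 D1866 D2388 (iv D2265) (iv D1489) F1168 F620 (iv F767) D941
def n2389 : Q := act 2 n1868
theorem D2389 : act 2 n1868 = n2389 := rfl
theorem F4316 : act 0 n2389 = n2265 := d1_1 D2389 (iv F4315) F4313
theorem F4317 : act 3 n2389 = n2264 := d11_2 D1868 D2389 (iv D2264) F2409 F1169 (iv F1495) D1866 D2388 F4315 (iv D2265) (iv D1489) F1168 F620 (iv F767) D942
def n2390 : Q := act 4 n1868
theorem D2390 : act 4 n1868 = n2390 := rfl
def n2391 : Q := act 6 n1868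
theorem D2391 : act 6 n1868 = n2391 := rfl
theorem F4318 : act 0 n2391 = n2358 := d5_1 D2391 (iv F4314) F4313
theorem F4319 : act 3 n2391 = n1869 := d17_1 D2391 (iv D1869) D1868
def n2392 : Q := act 1 n1869
theorem D2392 : act 1 n1869 = n2392 := rfl
theorem F4320 : act 4 n2392 = n2387 := d8_2 (iv F3889) D2392 (iv D2387)
def n2393 : Q := act 5 n1869
theorem D2393 : act 5 n1869 = n2393 := rfl
theorem F4321 : act 0 n2393 = n2315 := d4_1 D2393 F4211 F3888
theorem F4322 : act 2 n2393 = n1870 := d13_1 D2393 (iv D1870) (iv F3009)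
theorem F4323 : act 4 n2393 = n2339 := d18_1 D2393 F4243 (iv F3889)
theorem F4324 : act 6 n2393 = n2339 := d20_2 D1869 D2393 F4243 F3887 (iv F4211) F4212 F2854
def n2394 : Q := act 2 n1878
theorem D2394 : act 2 n1878 = n2394 := rfl
theorem F4325 : act 0 n2394 = n1879 := d1_1 D2394 (iv D1879) D1878
theorem F4326 : act 5 n2394 = n2126 := d13_2 (iv F3879) D2394 (iv D2126)
theorem F4327 : act 6 n2394 = n2193 := d14_2 (iv F3878) D2394 (iv D2193)
def n2395 : Q := act 3 n1879
theorem D2395 : act 3 n1879 = n2395 := rfl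
theorem F4328 : act 5 n2395 = n2127 := d16_2 F3897 D2395 (iv D2127)
theorem F4329 : act 6 n2395 = n2194 := d17_2 (iv F3899) D2395 (iv D2194)
def n2396 : Q := act 3 n1895
theorem D2396 : act 3 n1895 = n2396 := rfl
theorem F4331 : act 1 n2396 = n2129 := d7_1 D2396 (iv D2129) F3859
theorem F4333 : act 6 n2396 = n2198 := d17_2 F3864 D2396 (iv D2198)
def n2399 : Q := act 4 n1934
theorem D2399 : act 4 n1934 = n2399 := rfl
theorem F4341 : act 1 n2399 = n2134 := d8_1 D2399 (iv D2134) (iv F3853)
theorem F4344 : act 6 n2399 = n2206 := d19_2 F3851 D2399 (iv D2206)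
def n2402 : Q := act 1 n1990
theorem D2402 : act 1 n1990 = n2402 := rfl
theorem F4350 : act 4 n2402 = n2104 := d8_2 (iv F3221) D2402 (iv D2104)
def n2403 : Q := act 3 n1990
theorem D2403 : act 3 n1990 = n2403 := rfl
theorem F4351 : act 0 n2403 = n1991 := d2_1 D2403 (iv D1991) D1990
def n2404 : Q := act 5 n1990
theorem D2404 : act 5 n1990 = n2404 := rfl
theorem F4352 : act 0 n2404 = n1992 := d4_1 D2404 (iv D1992) D1990
theorem F4353 : act 4 n2404 = n2106 := d18_1 D2404 (iv D2106) (iv F3221)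
def n2405 : Q := act 6 n1990
theorem D2405 : act 6 n1990 = n2405 := rfl
theorem F4354 : act 0 n2405 = n1993 := d5_1 D2405 (iv D1993) D1990
theorem F4355 : act 4 n2405 = n2107 := d19_1 D2405 (iv D2107) (iv F3221)
def n2406 : Q := act 2 n1991
theorem D2406 : act 2 n1991 = n2406 := rfl
theorem F4356 : act 1 n2406 = n2268 := d6_1 D2406 F4113 F2842 (iv F1586) (iv F3222)
theorem F4357 : act 3 n2267 = n2406 := d7_0 F4356 (iv D2268) D2267
def n2407 : Q := act 4 n1991
theorem D2407 : act 4 n1991 = n2407 := rfl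
theorem F4358 : act 1 n2407 = n1994 := d8_1 D2407 (iv D1994) (iv F3222)
theorem F4359 : act 3 n2407 = n2109 := d15_1 D2407 (iv D2109) (iv D1137) (iv F1584) D1991
def n2408 : Q := act 5 n1991
theorem D2408 : act 5 n1991 = n2408 := rfl
theorem F4360 : act 3 n2408 = n1992 := d16_1 D2408 (iv D1992) D1991
def n2409 : Q := act 6 n1991
theorem D2409 : act 6 n1991 = n2409 := rfl
theorem F4361 : act 3 n2409 = n1993 := d17_1 D2409 (iv D1993) D1991
def n2410 : Q := act 1 n1992
theorem D2410 : act 1 n1992 = n2410 := rfl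
theorem F4362 : act 4 n2410 = n2112 := d8_2 (iv F3223) D2410 (iv D2112)
theorem F4363 : act 5 n2410 = n1997 := d9_2 D1992 D2410 (iv D1997) (iv D1010) D1008
def n2411 : Q := act 6 n1992
theorem D2411 : act 6 n1992 = n2411 := rfl
theorem F4364 : act 4 n2411 = n2113 := d19_1 D2411 (iv D2113) (iv F3223)
theorem F4365 : act 5 n2411 = n2405 := d22_2 D1992 D2411 (iv D2405) (iv D1990)
def n2412 : Q := act 1 n1993
theorem D2412 : act 1 n1993 = n2412 := rfl
theorem F4366 : act 4 n2412 = n2114 := d8_2 (iv F3224) D2412 (iv D2114)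
theorem F4367 : act 6 n2412 = n1998 := d10_2 D1993 D2412 (iv D1998) (iv D1011) D1008
def n2413 : Q := act 5 n1993
theorem D2413 : act 5 n1993 = n2413 := rfl
theorem F4368 : act 0 n2413 = n2411 := d4_1 D2413 F4365 F4354
theorem F4369 : act 4 n2413 = n2115 := d18_1 D2413 (iv D2115) (iv F3224)
theorem F4370 : act 6 n2413 = n2404 := d20_2 D1993 D2413 (iv D2404) D2405 (iv F4365) (iv D2411) (iv D1992)
def n2414 : Q := act 5 n1994
theorem D2414 : act 5 n1994 = n2414 := rfl
theorem F4371 : act 0 n2414 = n2036 := d4_1 D2414 (iv D2036) (iv F3225)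
theorem F4372 : act 2 n2414 = n2326 := d13_1 D2414 (iv D2326) (iv F3226)
theorem F4373 : act 3 n2414 = n2116 := d16_1 D2414 (iv D2116) (iv F3227)
theorem F4374 : act 4 n2414 = n1995 := d18_1 D2414 (iv D1995) D1994
def n2415 : Q := act 6 n1994
theorem D2415 : act 6 n1994 = n2415 := rfl
theorem F4375 : act 0 n2415 = n2037 := d5_1 D2415 (iv D2037) (iv F3225)
theorem F4376 : act 2 n2415 = n2327 := d14_1 D2415 (iv D2327) (iv F3226)
theorem F4377 : act 3 n2415 = n2117 := d17_1 D2415 (iv D2117) (iv F3227)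
theorem F4378 : act 4 n2415 = n1996 := d19_1 D2415 (iv D1996) D1994
def n2416 : Q := act 1 n1995
theorem D2416 : act 1 n1995 = n2416 := rfl
theorem F4379 : act 3 n2416 = n1997 := d7_2 (iv F3230) D2416 (iv D1997)
def n2417 : Q := act 1 n1996
theorem D2417 : act 1 n1996 = n2417 := rfl
theorem F4380 : act 3 n2417 = n1998 := d7_2 (iv F3233) D2417 (iv D1998)
def n2418 : Q := act 0 n1997
theorem D2418 : act 0 n1997 = n2418 := rfl
theorem F4381 : act 4 n2418 = n2120 := d3_2 (iv F3234) D2418 (iv D2120)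
def n2419 : Q := act 2 n1997
theorem D2419 : act 2 n1997 = n2419 := rfl
theorem F4382 : act 1 n2419 = n2000 := d6_1 D2419 (iv D2000) (iv D1012) (iv F1588) D1997
theorem F4383 : act 4 n2419 = n2121 := d12_2 (iv F3234) D2419 (iv D2121)
def n2420 : Q := act 6 n1997
theorem D2420 : act 6 n1997 = n2420 := rfl
theorem F4384 : act 4 n2420 = n2122 := d19_1 D2420 (iv D2122) (iv F3234)
def n2421 : Q := act 0 n1998
theorem D2421 : act 0 n1998 = n2421 := rfl
theorem F4385 : act 4 n2421 = n2123 := d3_2 (iv F3235) D2421 (iv D2123)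
def n2422 : Q := act 5 n1998
theorem D2422 : act 5 n1998 = n2422 := rfl
theorem F4386 : act 4 n2422 = n2124 := d18_1 D2422 (iv D2124) (iv F3235)
def n2423 : Q := act 2 n1999
theorem D2423 : act 2 n1999 = n2423 := rfl
theorem F4387 : act 0 n2423 = n2000 := d1_1 D2423 (iv D2000) D1999
theorem F4388 : act 4 n2423 = n2126 := d12_2 (iv F3237) D2423 (iv D2126)
def n2424 : Q := act 3 n2000
theorem D2424 : act 3 n2000 = n2424 := rfl
def n2425 : Q := act 6 n2000
theorem D2425 : act 6 n2000 = n2425 := rfl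
theorem F4389 : act 2 n2425 = n2001 := d14_1 D2425 (iv D2001) D2000
theorem F4390 : act 4 n2425 = n2128 := d19_1 D2425 (iv D2128) (iv F3238)
def n2426 : Q := act 2 n2007
theorem D2426 : act 2 n2007 = n2426 := rfl
theorem F4391 : act 0 n2426 = n2283 := d1_1 D2426 (iv D2283) F3716
theorem F4392 : act 4 n2426 = n2394 := d12_2 (iv F3880) D2426 (iv D2394)
theorem F4393 : act 5 n2426 = n2423 := d13_2 (iv F3254) D2426 (iv D2423)
def n2427 : Q := act 0 n2020
theorem D2427 : act 0 n2020 = n2427 := rfl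
theorem F4394 : act 4 n2427 = n2137 := d3_2 (iv F3281) D2427 (iv D2137)
def n2428 : Q := act 2 n2020
theorem D2428 : act 2 n2020 = n2428 := rfl
theorem F4395 : act 1 n2428 = n2080 := d6_1 D2428 (iv D2080) (iv D1060) (iv F1630) D2020
theorem F4396 : act 4 n2428 = n2138 := d12_2 (iv F3281) D2428 (iv D2138)
def n2429 : Q := act 3 n2020
theorem D2429 : act 3 n2020 = n2429 := rfl
theorem F4397 : act 1 n2429 = n2021 := d7_1 D2429 (iv D2021) D2020
def n2430 : Q := act 5 n2020
theorem D2430 : act 5 n2020 = n2430 := rfl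
theorem F4398 : act 4 n2430 = n2140 := d18_1 D2430 (iv D2140) (iv F3281)
def n2431 : Q := act 6 n2020
theorem D2431 : act 6 n2020 = n2431 := rfl
theorem F4399 : act 4 n2431 = n2141 := d19_1 D2431 (iv D2141) (iv F3281)
def n2432 : Q := act 4 n2021
theorem D2432 : act 4 n2021 = n2432 := rfl
theorem F4400 : act 0 n2432 = n2025 := d3_1 D2432 (iv D2025) (iv F3282)
theorem F4401 : act 3 n2432 = n2143 := d15_1 D2432 (iv D2143) (iv D1179) (iv F1631) D2021
def n2433 : Q := act 5 n2021
theorem D2433 : act 5 n2021 = n2433 := rfl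
theorem F4402 : act 0 n2433 = n2026 := d4_1 D2433 (iv D2026) (iv F3282)
theorem F4403 : act 3 n2433 = n2022 := d16_1 D2433 (iv D2022) D2021
def n2434 : Q := act 6 n2021
theorem D2434 : act 6 n2021 = n2434 := rfl
theorem F4405 : act 3 n2434 = n2023 := d17_1 D2434 (iv D2023) D2021
def n2435 : Q := act 1 n2022
theorem D2435 : act 1 n2022 = n2435 := rfl
theorem F4406 : act 4 n2435 = n2146 := d8_2 (iv F3285) D2435 (iv D2146)
def n2436 : Q := act 1 n2023
theorem D2436 : act 1 n2023 = n2436 := rfl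
theorem F4407 : act 4 n2436 = n2147 := d8_2 (iv F3288) D2436 (iv D2147)
def n2437 : Q := act 1 n2024
theorem D2437 : act 1 n2024 = n2437 := rfl
theorem F4408 : act 2 n2437 = n2032 := d6_2 D2024 D2437 (iv D2032) (iv D1033) (iv F1632)
def n2438 : Q := act 4 n2024
theorem D2438 : act 4 n2024 = n2438 := rfl
theorem F4409 : act 2 n2438 = n2025 := d12_1 D2438 (iv D2025) D2024
def n2439 : Q := act 5 n2024
theorem D2439 : act 5 n2024 = n2439 := rfl
theorem F4410 : act 2 n2439 = n2026 := d13_1 D2439 (iv D2026) D2024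
def n2440 : Q := act 6 n2024
theorem D2440 : act 6 n2024 = n2440 := rfl
theorem F4411 : act 2 n2440 = n2027 := d14_1 D2440 (iv D2027) D2024
def n2441 : Q := act 5 n2025
theorem D2441 : act 5 n2025 = n2441 := rfl
theorem F4412 : act 3 n2441 = n2152 := d16_1 D2441 (iv D2152) (iv F3290)
theorem F4413 : act 4 n2441 = n2026 := d18_1 D2441 (iv D2026) D2025
def n2442 : Q := act 6 n2025
theorem D2442 : act 6 n2025 = n2442 := rfl
theorem F4414 : act 3 n2442 = n2153 := d17_1 D2442 (iv D2153) (iv F3290)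
theorem F4415 : act 4 n2442 = n2027 := d19_1 D2442 (iv D2027) D2025
def n2443 : Q := act 1 n2026
theorem D2443 : act 1 n2026 = n2443 := rfl
theorem F4416 : act 3 n2443 = n2028 := d7_2 (iv F3291) D2443 (iv D2028)
theorem F4417 : act 5 n2443 = n2038 := d9_2 D2026 D2443 (iv D2038) (iv D1035) (iv F1632)
def n2444 : Q := act 6 n2026
theorem D2444 : act 6 n2026 = n2444 := rfl
theorem F4418 : act 3 n2444 = n2029 := d17_1 D2444 (iv D2029) (iv F3291)
theorem F4419 : act 5 n2444 = n2434 := d22_2 D2026 D2444 (iv D2434) F3282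
def n2445 : Q := act 1 n2027
theorem D2445 : act 1 n2027 = n2445 := rfl
theorem F4420 : act 3 n2445 = n2030 := d7_2 (iv F3292) D2445 (iv D2030)
theorem F4421 : act 6 n2445 = n2040 := d10_2 D2027 D2445 (iv D2040) (iv D1036) (iv F1632)
def n2446 : Q := act 5 n2027
theorem D2446 : act 5 n2027 = n2446 := rfl
theorem F4423 : act 3 n2446 = n2031 := d16_1 D2446 (iv D2031) (iv F3292)
theorem F4424 : act 6 n2446 = n2433 := d20_2 D2027 D2446 (iv D2433) D2434 (iv F4419) (iv D2444) (iv D2026)
def n2447 : Q := act 0 n2028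
theorem D2447 : act 0 n2028 = n2447 := rfl
theorem F4425 : act 4 n2447 = n2158 := d3_2 (iv F3293) D2447 (iv D2158)
theorem F4426 : act 5 n2447 = n2042 := d4_2 (iv F3294) D2447 (iv D2042)
def n2448 : Q := act 6 n2028
theorem D2448 : act 6 n2028 = n2448 := rfl
theorem F4427 : act 4 n2448 = n2160 := d19_1 D2448 (iv D2160) (iv F3293)
def n2449 : Q := act 1 n2029
theorem D2449 : act 1 n2029 = n2449 := rfl
theorem F4428 : act 4 n2449 = n2161 := d8_2 (iv F3296) D2449 (iv D2161)
def n2450 : Q := act 0 n2030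
theorem D2450 : act 0 n2030 = n2450 := rfl
theorem F4429 : act 2 n2450 = n2450 := d1_2 F3298 D2450 (iv D2450)
theorem F4430 : act 4 n2450 = n2162 := d3_2 (iv F3299) D2450 (iv D2162)
theorem F4431 : act 6 n2450 = n2045 := d5_2 (iv F3300) D2450 (iv D2045)
def n2451 : Q := act 5 n2030
theorem D2451 : act 5 n2030 = n2451 := rfl
theorem F4433 : act 4 n2451 = n2163 := d18_1 D2451 (iv D2163) (iv F3299)
def n2452 : Q := act 1 n2031
theorem D2452 : act 1 n2031 = n2452 := rfl
def n2453 : Q := act 0 n2032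
theorem D2453 : act 0 n2032 = n2453 := rfl
theorem F4435 : act 3 n2453 = n2297 := d2_2 (iv F3305) D2453 (iv D2297)
def n2454 : Q := act 4 n2032
theorem D2454 : act 4 n2032 = n2454 := rfl
theorem F4436 : act 1 n2454 = n2033 := d8_1 D2454 (iv D2033) D2032
def n2455 : Q := act 5 n2032
theorem D2455 : act 5 n2032 = n2455 := rfl
theorem F4437 : act 3 n2455 = n2298 := d16_1 D2455 (iv D2298) (iv F3305)
def n2456 : Q := act 6 n2032
theorem D2456 : act 6 n2032 = n2456 := rfl
def n2457 : Q := act 3 n2033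
theorem D2457 : act 3 n2033 = n2457 := rfl
theorem F4439 : act 0 n2457 = n2308 := d2_1 D2457 F4195 (iv F3306)
theorem F4440 : act 2 n2457 = n2457 := d11_1 D2457 (iv D2457) F3307 F1639 (iv F1855) (iv F3227) F3226 (iv F4195) F4194 F4195 (iv F3226) F3227 F1855 (iv F1639) (iv F3307)
theorem F4441 : act 4 n2457 = n2293 := d15_2 D2033 D2457 (iv D2293) F3726 (iv F1638)
def n2458 : Q := act 5 n2033
theorem D2458 : act 5 n2033 = n2458 := rfl
theorem F4442 : act 0 n2458 = n2326 := d4_1 D2458 (iv D2326) (iv F3306)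
theorem F4443 : act 2 n2458 = n2036 := d13_1 D2458 (iv D2036) (iv F3307)
theorem F4444 : act 4 n2458 = n2034 := d18_1 D2458 (iv D2034) D2033
def n2459 : Q := act 6 n2033
theorem D2459 : act 6 n2033 = n2459 := rfl
theorem F4445 : act 0 n2459 = n2327 := d5_1 D2459 (iv D2327) (iv F3306)
theorem F4446 : act 2 n2459 = n2037 := d14_1 D2459 (iv D2037) (iv F3307)
theorem F4447 : act 4 n2459 = n2035 := d19_1 D2459 (iv D2035) D2033
def n2460 : Q := act 1 n2034
theorem D2460 : act 1 n2034 = n2460 := rfl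
theorem F4448 : act 3 n2460 = n2300 := d7_2 (iv F3310) D2460 (iv D2300)
def n2461 : Q := act 1 n2035
theorem D2461 : act 1 n2035 = n2461 := rfl
theorem F4449 : act 3 n2461 = n2301 := d7_2 (iv F3313) D2461 (iv D2301)
def n2462 : Q := act 1 n2036
theorem D2462 : act 1 n2036 = n2462 := rfl
theorem F4450 : act 3 n2462 = n2165 := d7_2 (iv F3314) D2462 (iv D2165)
theorem F4451 : act 4 n2462 = n2038 := d8_2 (iv F3315) D2462 (iv D2038)
def n2463 : Q := act 6 n2036
theorem D2463 : act 6 n2036 = n2463 := rfl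
theorem F4452 : act 3 n2463 = n2166 := d17_1 D2463 (iv D2166) (iv F3314)
theorem F4453 : act 4 n2463 = n2039 := d19_1 D2463 (iv D2039) (iv F3315)
theorem F4454 : act 5 n2463 = n2415 := d22_2 D2036 D2463 (iv D2415) F3225
def n2464 : Q := act 1 n2037
theorem D2464 : act 1 n2037 = n2464 := rfl
theorem F4455 : act 3 n2464 = n2167 := d7_2 (iv F3316) D2464 (iv D2167)
theorem F4456 : act 4 n2464 = n2040 := d8_2 (iv F3317) D2464 (iv D2040)
def n2465 : Q := act 5 n2037
theorem D2465 : act 5 n2037 = n2465 := rfl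
theorem F4457 : act 0 n2465 = n2463 := d4_1 D2465 F4454 F4375
theorem F4458 : act 3 n2465 = n2168 := d16_1 D2465 (iv D2168) (iv F3316)
theorem F4459 : act 4 n2465 = n2041 := d18_1 D2465 (iv D2041) (iv F3317)
theorem F4460 : act 6 n2465 = n2414 := d20_2 D2037 D2465 (iv D2414) D2415 (iv F4454) (iv D2463) (iv D2036)
def n2466 : Q := act 0 n2038
theorem D2466 : act 0 n2038 = n2466 := rfl
theorem F4461 : act 3 n2466 = n2042 := d2_2 (iv F3318) D2466 (iv D2042)
def n2467 : Q := act 2 n2038
theorem D2467 : act 2 n2038 = n2467 := rfl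
def n2468 : Q := act 6 n2038
theorem D2468 : act 6 n2038 = n2468 := rfl
theorem F4462 : act 3 n2468 = n2043 := d17_1 D2468 (iv D2043) (iv F3318)
def n2469 : Q := act 1 n2039
theorem D2469 : act 1 n2039 = n2469 := rfl
theorem F4463 : act 3 n2469 = n2044 := d7_2 (iv F3319) D2469 (iv D2044)
def n2470 : Q := act 0 n2040
theorem D2470 : act 0 n2040 = n2470 := rfl
theorem F4464 : act 3 n2470 = n2045 := d2_2 (iv F3321) D2470 (iv D2045)
def n2471 : Q := act 2 n2040
theorem D2471 : act 2 n2040 = n2471 := rfl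
def n2472 : Q := act 5 n2040
theorem D2472 : act 5 n2040 = n2472 := rfl
theorem F4465 : act 3 n2472 = n2046 := d16_1 D2472 (iv D2046) (iv F3321)
def n2473 : Q := act 1 n2041
theorem D2473 : act 1 n2041 = n2473 := rfl
theorem F4466 : act 3 n2473 = n2047 := d7_2 (iv F3323) D2473 (iv D2047)
def n2474 : Q := act 1 n2042
theorem D2474 : act 1 n2042 = n2474 := rfl
theorem F4467 : act 4 n2474 = n2177 := d8_2 (iv F3325) D2474 (iv D2177)
def n2475 : Q := act 6 n2042
theorem D2475 : act 6 n2042 = n2475 := rfl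
theorem F4468 : act 0 n2475 = n2043 := d5_1 D2475 (iv D2043) D2042
theorem F4469 : act 4 n2475 = n2179 := d19_1 D2475 (iv D2179) (iv F3325)
theorem F4470 : act 5 n2475 = n2448 := d22_2 F4426 D2475 (iv D2448) D2447
def n2476 : Q := act 1 n2043
theorem D2476 : act 1 n2043 = n2476 := rfl
theorem F4471 : act 4 n2476 = n2181 := d8_2 (iv F3326) D2476 (iv D2181)
theorem F4472 : act 6 n2476 = n2044 := d10_2 D2043 D2476 (iv D2044) (iv D1038) D1037
def n2477 : Q := act 5 n2043
theorem D2477 : act 5 n2043 = n2477 := rfl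
theorem F4473 : act 0 n2477 = n2448 := d4_1 D2477 (iv F4470) F4468
theorem F4474 : act 4 n2477 = n2182 := d18_1 D2477 (iv D2182) (iv F3326)
theorem F4475 : act 6 n2477 = n2447 := d20_2 D2043 D2477 F4426 D2475 F4470 (iv D2448) F3294
def n2478 : Q := act 0 n2044
theorem D2478 : act 0 n2044 = n2478 := rfl
theorem F4476 : act 4 n2478 = n2183 := d3_2 (iv F3327) D2478 (iv D2183)
def n2479 : Q := act 2 n2044
theorem D2479 : act 2 n2044 = n2479 := rfl
theorem F4477 : act 1 n2479 = n2049 := d6_1 D2479 (iv D2049) (iv D1041) (iv F1643) D2044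
theorem F4478 : act 4 n2479 = n2184 := d12_2 (iv F3327) D2479 (iv D2184)
def n2480 : Q := act 5 n2044
theorem D2480 : act 5 n2044 = n2480 := rfl
theorem F4479 : act 1 n2480 = n2422 := d9_1 D2480 (iv D2422) (iv D1998) (iv F1645) D2044
theorem F4480 : act 4 n2480 = n2185 := d18_1 D2480 (iv D2185) (iv F3327)
def n2481 : Q := act 1 n2045
theorem D2481 : act 1 n2045 = n2481 := rfl
theorem F4481 : act 4 n2481 = n2186 := d8_2 (iv F3329) D2481 (iv D2186)
def n2482 : Q := act 5 n2045
theorem D2482 : act 5 n2045 = n2482 := rfl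
theorem F4482 : act 0 n2482 = n2046 := d4_1 D2482 (iv D2046) D2045
theorem F4484 : act 4 n2482 = n2187 := d18_1 D2482 (iv D2187) (iv F3329)
theorem F4485 : act 6 n2482 = n2451 := d22_1 D2482 (iv D2451) F3300 D2045
def n2483 : Q := act 1 n2046
theorem D2483 : act 1 n2046 = n2483 := rfl
theorem F4486 : act 4 n2483 = n2188 := d8_2 (iv F3331) D2483 (iv D2188)
theorem F4487 : act 5 n2483 = n2047 := d9_2 D2046 D2483 (iv D2047) (iv D1040) D1039
def n2484 : Q := act 6 n2046
theorem D2484 : act 6 n2046 = n2484 := rfl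
theorem F4488 : act 0 n2484 = n2451 := d5_1 D2484 (iv F4485) F4482
theorem F4490 : act 4 n2484 = n2189 := d19_1 D2484 (iv D2189) (iv F3331)
theorem F4491 : act 5 n2484 = n2450 := d20_1 D2484 F4431 D2482 F4485 (iv D2451) F3300 D2046
def n2485 : Q := act 0 n2047
theorem D2485 : act 0 n2047 = n2485 := rfl
theorem F4492 : act 4 n2485 = n2190 := d3_2 (iv F3332) D2485 (iv D2190)
def n2486 : Q := act 2 n2047
theorem D2486 : act 2 n2047 = n2486 := rfl
theorem F4493 : act 1 n2486 = n2052 := d6_1 D2486 (iv D2052) (iv D1042) (iv F1649) D2047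
def n2487 : Q := act 6 n2047
theorem D2487 : act 6 n2047 = n2487 := rfl
theorem F4495 : act 1 n2487 = n2420 := d10_1 D2487 (iv D2420) (iv D1997) (iv F1651) D2047
theorem F4496 : act 4 n2487 = n2192 := d19_1 D2487 (iv D2192) (iv F3332)
def n2488 : Q := act 2 n2048
theorem D2488 : act 2 n2048 = n2488 := rfl
theorem F4497 : act 0 n2488 = n2049 := d1_1 D2488 (iv D2049) D2048
theorem F4498 : act 4 n2488 = n2193 := d12_2 (iv F3334) D2488 (iv D2193)
theorem F4499 : act 5 n2488 = n2425 := d13_2 F3875 D2488 F4389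
theorem F4500 : act 6 n2488 = n2426 := d14_2 F3874 D2488 (iv D2426)
def n2489 : Q := act 3 n2049
theorem D2489 : act 3 n2049 = n2489 := rfl
def n2490 : Q := act 5 n2049
theorem D2490 : act 5 n2049 = n2490 := rfl
theorem F4501 : act 0 n2490 = n2425 := d4_1 D2490 (iv F4499) F4497
theorem F4502 : act 2 n2490 = n2050 := d13_1 D2490 (iv D2050) D2049
theorem F4503 : act 4 n2490 = n2195 := d18_1 D2490 (iv D2195) (iv F3335)
theorem F4504 : act 6 n2490 = n2423 := d20_2 F4149 D2490 (iv F4393) (iv F4500) F4499 (iv D2425) (iv F4148)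
def n2491 : Q := act 3 n2052
theorem D2491 : act 3 n2052 = n2491 := rfl
theorem F4505 : act 0 n2491 = n2196 := d2_1 D2491 (iv D2196) (iv F3838)
def n2492 : Q := act 6 n2052
theorem D2492 : act 6 n2052 = n2492 := rfl
theorem F4507 : act 0 n2492 = n2197 := d5_1 D2492 (iv D2197) (iv F3838)
theorem F4508 : act 2 n2492 = n2053 := d14_1 D2492 (iv D2053) D2052
theorem F4509 : act 4 n2492 = n2197 := d19_1 D2492 (iv D2197) (iv F3342)
theorem F4510 : act 5 n2492 = n2197 := d22_2 F3343 D2492 (iv D2197) (iv F3838)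
def n2493 : Q := act 2 n2062
theorem D2493 : act 2 n2062 = n2493 := rfl
def n2495 : Q := act 6 n2062
theorem D2495 : act 6 n2062 = n2495 := rfl
theorem F4516 : act 0 n2495 = n2204 := d5_1 D2495 (iv D2204) (iv F3841)
theorem F4517 : act 1 n2495 = n2198 := d10_1 D2495 (iv F4333) F4331 (iv F4024) (iv F4025)
theorem F4518 : act 3 n2495 = n2063 := d17_1 D2495 (iv D2063) D2062
theorem F4519 : act 5 n2495 = n2204 := d22_2 F3368 D2495 (iv D2204) (iv F3841)
def n2496 : Q := act 1 n2076
theorem D2496 : act 1 n2076 = n2496 := rfl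
theorem F4520 : act 2 n2496 = n2078 := d6_2 D2076 D2496 (iv F3391) (iv F3847) (iv F3818)
theorem F4521 : act 3 n2496 = n2496 := d7_2 F3834 D2496 (iv D2496)
theorem F4522 : act 0 n2496 = n2210 := d21_8 F4048 F2076 F1008 (iv F862) (iv F1693) (iv F3390) (iv F4520) F4521
theorem F4523 : act 6 n2076 = n2496 := d5_0 F4522 (iv D2210) (iv F3831)
theorem F4524 : act 5 n2210 = n2496 := d22_0 (iv F4523) F3388 F4523 F4522
def n2497 : Q := act 4 n2076
theorem D2497 : act 4 n2076 = n2497 := rfl
theorem F4526 : act 2 n2497 = n2077 := d12_1 D2497 (iv D2077) D2076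
def n2498 : Q := act 6 n2077
theorem D2498 : act 6 n2077 = n2498 := rfl
theorem F4528 : act 0 n2498 = n2211 := d5_1 D2498 (iv D2211) (iv F3832)
theorem F4529 : act 1 n2498 = n2206 := d10_1 D2498 (iv F4344) F4341 (iv F4041) (iv F4042)
theorem F4530 : act 4 n2498 = n2078 := d19_1 D2498 (iv D2078) D2077
theorem F4531 : act 5 n2498 = n2211 := d22_2 F3389 D2498 (iv D2211) (iv F3832)
def n2499 : Q := act 2 n2079
theorem D2499 : act 2 n2079 = n2499 := rfl
theorem F4532 : act 0 n2499 = n2080 := d1_1 D2499 (iv D2080) D2079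
theorem F4533 : act 4 n2499 = n2213 := d12_2 (iv F3394) D2499 (iv D2213)
def n2500 : Q := act 5 n2079
theorem D2500 : act 5 n2079 = n2500 := rfl
theorem F4534 : act 0 n2500 = n2081 := d4_1 D2500 (iv D2081) D2079
def n2501 : Q := act 6 n2079
theorem D2501 : act 6 n2079 = n2501 := rfl
theorem F4537 : act 0 n2501 = n2082 := d5_1 D2501 (iv D2082) D2079
def n2502 : Q := act 3 n2080
theorem D2502 : act 3 n2080 = n2502 := rfl
def n2503 : Q := act 5 n2080
theorem D2503 : act 5 n2080 = n2503 := rfl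
theorem F4540 : act 2 n2503 = n2081 := d13_1 D2503 (iv D2081) D2080
theorem F4541 : act 4 n2503 = n2217 := d18_1 D2503 (iv D2217) (iv F3395)
def n2504 : Q := act 6 n2080
theorem D2504 : act 6 n2080 = n2504 := rfl
theorem F4542 : act 2 n2504 = n2082 := d14_1 D2504 (iv D2082) D2080
theorem F4543 : act 4 n2504 = n2218 := d19_1 D2504 (iv D2218) (iv F3395)
def n2505 : Q := act 1 n2081
theorem D2505 : act 1 n2081 = n2505 := rfl
theorem F4546 : act 5 n2505 = n2083 := d9_2 D2081 D2505 (iv D2083) (iv D1061) D1060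
def n2506 : Q := act 6 n2081
theorem D2506 : act 6 n2081 = n2506 := rfl
theorem F4547 : act 3 n2506 = n2220 := d17_1 D2506 (iv D2220) (iv F3396)
theorem F4549 : act 5 n2506 = n2501 := d22_2 D2081 D2506 (iv D2501) (iv D2079)
def n2507 : Q := act 1 n2082
theorem D2507 : act 1 n2082 = n2507 := rfl
theorem F4551 : act 4 n2507 = n2221 := d8_2 (iv F3399) D2507 (iv D2221)
theorem F4552 : act 6 n2507 = n2084 := d10_2 D2082 D2507 (iv D2084) (iv D1062) D1060
def n2508 : Q := act 5 n2082
theorem D2508 : act 5 n2082 = n2508 := rfl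
theorem F4553 : act 0 n2508 = n2506 := d4_1 D2508 F4549 F4537
theorem F4554 : act 3 n2508 = n2222 := d16_1 D2508 (iv D2222) (iv F3398)
def n2509 : Q := act 0 n2083
theorem D2509 : act 0 n2083 = n2509 := rfl
theorem F4557 : act 3 n2509 = n2223 := d2_2 (iv F3400) D2509 (iv D2223)
theorem F4558 : act 4 n2509 = n2223 := d3_2 (iv F3401) D2509 (iv D2223)
def n2510 : Q := act 2 n2083
theorem D2510 : act 2 n2083 = n2510 := rfl
theorem F4559 : act 4 n2510 = n2224 := d12_2 (iv F3401) D2510 (iv D2224)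
def n2511 : Q := act 6 n2083
theorem D2511 : act 6 n2083 = n2511 := rfl
theorem F4560 : act 3 n2511 = n2225 := d17_1 D2511 (iv D2225) (iv F3400)
theorem F4561 : act 4 n2511 = n2225 := d19_1 D2511 (iv D2225) (iv F3401)
def n2512 : Q := act 0 n2084
theorem D2512 : act 0 n2084 = n2512 := rfl
theorem F4562 : act 3 n2512 = n2226 := d2_2 (iv F3402) D2512 (iv D2226)
theorem F4563 : act 4 n2512 = n2226 := d3_2 (iv F3403) D2512 (iv D2226)
def n2513 : Q := act 2 n2084
theorem D2513 : act 2 n2084 = n2513 := rfl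
theorem F4564 : act 4 n2513 = n2227 := d12_2 (iv F3403) D2513 (iv D2227)
def n2514 : Q := act 5 n2084
theorem D2514 : act 5 n2084 = n2514 := rfl
theorem F4565 : act 3 n2514 = n2228 := d16_1 D2514 (iv D2228) (iv F3402)
theorem F4566 : act 4 n2514 = n2228 := d18_1 D2514 (iv D2228) (iv F3403)
def n2515 : Q := act 0 n2085
theorem D2515 : act 0 n2085 = n2515 := rfl
theorem F4567 : act 3 n2515 = n2233 := d2_2 (iv F3404) D2515 (iv D2233)
theorem F4568 : act 4 n2515 = n2233 := d3_2 (iv F3405) D2515 (iv D2233)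
def n2516 : Q := act 2 n2085
theorem D2516 : act 2 n2085 = n2516 := rfl
theorem F4569 : act 4 n2516 = n2234 := d12_2 (iv F3405) D2516 (iv D2234)
def n2517 : Q := act 5 n2085
theorem D2517 : act 5 n2085 = n2517 := rfl
theorem F4570 : act 1 n2517 = n2514 := d9_1 D2517 (iv D2514) (iv D2084) (iv F1705) D2085
theorem F4571 : act 3 n2517 = n2235 := d16_1 D2517 (iv D2235) (iv F3404)
theorem F4572 : act 4 n2517 = n2235 := d18_1 D2517 (iv D2235) (iv F3405)
def n2518 : Q := act 0 n2086
theorem D2518 : act 0 n2086 = n2518 := rfl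
theorem F4574 : act 4 n2518 = n2236 := d3_2 (iv F3407) D2518 (iv D2236)
theorem F4575 : act 5 n2518 = n2518 := d4_2 F3408 D2518 (iv D2518)
def n2520 : Q := act 6 n2086
theorem D2520 : act 6 n2086 = n2520 := rfl
theorem F4578 : act 1 n2520 = n2511 := d10_1 D2520 (iv D2511) (iv D2083) (iv F1709) D2086
def n2521 : Q := act 0 n2104
theorem D2521 : act 0 n2104 = n2521 := rfl
theorem F4581 : act 1 n2521 = n2137 := d0_2 D2104 D2521 (iv D2137) (iv D1178) (iv D578) (iv D286) (iv F506) D554 D1136
def n2522 : Q := act 2 n2104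
theorem D2522 : act 2 n2104 = n2522 := rfl
def n2523 : Q := act 3 n2104
theorem D2523 : act 3 n2104 = n2523 := rfl
theorem F4582 : act 1 n2523 = n2105 := d7_1 D2523 (iv D2105) D2104
def n2524 : Q := act 5 n2104
theorem D2524 : act 5 n2104 = n2524 := rfl
def n2525 : Q := act 6 n2104
theorem D2525 : act 6 n2104 = n2525 := rfl
def n2526 : Q := act 2 n2105
theorem D2526 : act 2 n2105 = n2526 := rfl
theorem F4583 : act 0 n2526 = n2108 := d1_1 D2526 (iv D2108) (iv F3903)
def n2527 : Q := act 4 n2105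
theorem D2527 : act 4 n2105 = n2527 := rfl
theorem F4584 : act 0 n2527 = n2109 := d3_1 D2527 (iv D2109) (iv F3903)
def n2528 : Q := act 5 n2105
theorem D2528 : act 5 n2105 = n2528 := rfl
theorem F4585 : act 0 n2528 = n2110 := d4_1 D2528 (iv D2110) (iv F3903)
theorem F4586 : act 3 n2528 = n2106 := d16_1 D2528 (iv D2106) D2105
def n2529 : Q := act 6 n2105
theorem D2529 : act 6 n2105 = n2529 := rfl
theorem F4587 : act 0 n2529 = n2111 := d5_1 D2529 (iv D2111) (iv F3903)
theorem F4588 : act 3 n2529 = n2107 := d17_1 D2529 (iv D2107) D2105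
def n2530 : Q := act 1 n2106
theorem D2530 : act 1 n2106 = n2530 := rfl
def n2531 : Q := act 1 n2107
theorem D2531 : act 1 n2107 = n2531 := rfl
def n2532 : Q := act 3 n2108
theorem D2532 : act 3 n2108 = n2532 := rfl
theorem F4589 : act 1 n2532 = n2148 := d7_1 D2532 (iv D2148) (iv F3906)
def n2533 : Q := act 4 n2108
theorem D2533 : act 4 n2108 = n2533 := rfl
theorem F4590 : act 1 n2533 = n2149 := d8_1 D2533 (iv D2149) (iv F3906)
theorem F4591 : act 2 n2533 = n2109 := d12_1 D2533 (iv D2109) D2108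
def n2534 : Q := act 5 n2108
theorem D2534 : act 5 n2108 = n2534 := rfl
theorem F4592 : act 2 n2534 = n2110 := d13_1 D2534 (iv D2110) D2108
def n2535 : Q := act 6 n2108
theorem D2535 : act 6 n2108 = n2535 := rfl
def n2536 : Q := act 5 n2109
theorem D2536 : act 5 n2109 = n2536 := rfl
theorem F4594 : act 4 n2536 = n2110 := d18_1 D2536 (iv D2110) D2109
def n2537 : Q := act 6 n2109
theorem D2537 : act 6 n2109 = n2537 := rfl
theorem F4595 : act 4 n2537 = n2111 := d19_1 D2537 (iv D2111) D2109
def n2538 : Q := act 1 n2110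
theorem D2538 : act 1 n2110 = n2538 := rfl
theorem F4596 : act 3 n2538 = n2112 := d7_2 (iv F3908) D2538 (iv D2112)
theorem F4597 : act 5 n2538 = n2118 := d9_2 D2110 D2538 (iv D2118) (iv D1141) (iv F1853)
def n2539 : Q := act 6 n2110
theorem D2539 : act 6 n2110 = n2539 := rfl
theorem F4598 : act 3 n2539 = n2113 := d17_1 D2539 (iv D2113) (iv F3908)
theorem F4599 : act 5 n2539 = n2529 := d22_2 D2110 D2539 (iv D2529) F3903
def n2540 : Q := act 1 n2111
theorem D2540 : act 1 n2111 = n2540 := rfl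
theorem F4600 : act 3 n2540 = n2114 := d7_2 (iv F3909) D2540 (iv D2114)
theorem F4601 : act 6 n2540 = n2119 := d10_2 D2111 D2540 (iv D2119) (iv D1142) (iv F1853)
def n2541 : Q := act 5 n2111
theorem D2541 : act 5 n2111 = n2541 := rfl
theorem F4603 : act 3 n2541 = n2115 := d16_1 D2541 (iv D2115) (iv F3909)
theorem F4604 : act 6 n2541 = n2528 := d20_2 D2111 D2541 (iv D2528) D2529 (iv F4599) (iv D2539) (iv D2110)
def n2542 : Q := act 0 n2112
theorem D2542 : act 0 n2112 = n2542 := rfl
theorem F4605 : act 5 n2542 = n2120 := d4_2 (iv F3910) D2542 (iv D2120)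
def n2543 : Q := act 2 n2112
theorem D2543 : act 2 n2112 = n2543 := rfl
theorem F4606 : act 5 n2543 = n2121 := d13_2 (iv F3910) D2543 (iv D2121)
def n2544 : Q := act 6 n2112
theorem D2544 : act 6 n2112 = n2544 := rfl
def n2545 : Q := act 1 n2113
theorem D2545 : act 1 n2113 = n2545 := rfl
def n2546 : Q := act 0 n2114
theorem D2546 : act 0 n2114 = n2546 := rfl
theorem F4607 : act 6 n2546 = n2123 := d5_2 (iv F3912) D2546 (iv D2123)
def n2547 : Q := act 5 n2114
theorem D2547 : act 5 n2114 = n2547 := rfl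
def n2548 : Q := act 1 n2115
theorem D2548 : act 1 n2115 = n2548 := rfl
def n2549 : Q := act 1 n2116
theorem D2549 : act 1 n2116 = n2549 := rfl
theorem F4608 : act 4 n2549 = n2118 := d8_2 (iv F3917) D2549 (iv D2118)
def n2550 : Q := act 1 n2117
theorem D2550 : act 1 n2117 = n2550 := rfl
theorem F4609 : act 4 n2550 = n2119 := d8_2 (iv F3920) D2550 (iv D2119)
def n2551 : Q := act 0 n2118
theorem D2551 : act 0 n2118 = n2551 := rfl
theorem F4610 : act 3 n2551 = n2120 := d2_2 (iv F3921) D2551 (iv D2120)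
def n2552 : Q := act 2 n2118
theorem D2552 : act 2 n2118 = n2552 := rfl
theorem F4611 : act 1 n2552 = n2170 := d6_1 D2552 (iv D2170) (iv D1192) (iv F1857) D2118
def n2553 : Q := act 6 n2118
theorem D2553 : act 6 n2118 = n2553 := rfl
theorem F4612 : act 3 n2553 = n2122 := d17_1 D2553 (iv D2122) (iv F3921)
def n2554 : Q := act 0 n2119
theorem D2554 : act 0 n2119 = n2554 := rfl
theorem F4613 : act 3 n2554 = n2123 := d2_2 (iv F3922) D2554 (iv D2123)
def n2555 : Q := act 2 n2119
theorem D2555 : act 2 n2119 = n2555 := rfl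
theorem F4614 : act 1 n2555 = n2174 := d6_1 D2555 (iv D2174) (iv D1194) (iv F1860) D2119
def n2556 : Q := act 5 n2119
theorem D2556 : act 5 n2119 = n2556 := rfl
theorem F4615 : act 3 n2556 = n2124 := d16_1 D2556 (iv D2124) (iv F3922)
def n2557 : Q := act 1 n2120
theorem D2557 : act 1 n2120 = n2557 := rfl
def n2558 : Q := act 2 n2120
theorem D2558 : act 2 n2120 = n2558 := rfl
theorem F4616 : act 0 n2558 = n2121 := d1_1 D2558 (iv D2121) D2120
def n2559 : Q := act 6 n2120
theorem D2559 : act 6 n2120 = n2559 := rfl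
theorem F4617 : act 0 n2559 = n2122 := d5_1 D2559 (iv D2122) D2120
theorem F4618 : act 5 n2559 = n2544 := d22_2 F4605 D2559 (iv D2544) D2542
def n2560 : Q := act 3 n2121
theorem D2560 : act 3 n2121 = n2560 := rfl
theorem F4619 : act 1 n2560 = n2127 := d7_1 D2560 (iv D2127) (iv F3923)
def n2561 : Q := act 6 n2121
theorem D2561 : act 6 n2121 = n2561 := rfl
theorem F4620 : act 2 n2561 = n2122 := d14_1 D2561 (iv D2122) D2121
def n2562 : Q := act 5 n2122
theorem D2562 : act 5 n2122 = n2562 := rfl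
theorem F4621 : act 0 n2562 = n2544 := d4_1 D2562 (iv F4618) F4617
theorem F4622 : act 6 n2562 = n2542 := d20_2 D2122 D2562 F4605 D2559 F4618 (iv D2544) F3910
def n2563 : Q := act 1 n2123
theorem D2563 : act 1 n2123 = n2563 := rfl
def n2564 : Q := act 5 n2123
theorem D2564 : act 5 n2123 = n2564 := rfl
theorem F4623 : act 0 n2564 = n2124 := d4_1 D2564 (iv D2124) D2123
theorem F4624 : act 6 n2564 = n2547 := d22_1 D2564 (iv D2547) F3912 D2123
def n2565 : Q := act 6 n2124
theorem D2565 : act 6 n2124 = n2565 := rfl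
theorem F4625 : act 0 n2565 = n2547 := d5_1 D2565 (iv F4624) F4623
theorem F4626 : act 5 n2565 = n2546 := d20_1 D2565 F4607 D2564 F4624 (iv D2547) F3912 D2124
def n2566 : Q := act 2 n2125
theorem D2566 : act 2 n2125 = n2566 := rfl
theorem F4627 : act 0 n2566 = n2386 := d1_1 D2566 (iv D2386) (iv F3924)
theorem F4628 : act 4 n2566 = n2359 := d12_2 (iv F3926) D2566 (iv D2359)
theorem F4629 : act 5 n2566 = n2266 := d13_2 (iv F3927) D2566 F4110
theorem F4630 : act 6 n2566 = n2302 := d14_2 (iv F3928) D2566 (iv D2302)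
def n2567 : Q := act 1 n2126
theorem D2567 : act 1 n2126 = n2567 := rfl
def n2568 : Q := act 3 n2126
theorem D2568 : act 3 n2126 = n2568 := rfl
theorem F4631 : act 0 n2568 = n2127 := d2_1 D2568 (iv D2127) (iv F3929)
def n2569 : Q := act 2 n2127
theorem D2569 : act 2 n2127 = n2569 := rfl
def n2570 : Q := act 4 n2127
theorem D2570 : act 4 n2127 = n2570 := rfl
def n2571 : Q := act 6 n2127
theorem D2571 : act 6 n2127 = n2571 := rfl
theorem F4632 : act 3 n2571 = n2128 := d17_1 D2571 (iv D2128) D2127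
def n2572 : Q := act 1 n2128
theorem D2572 : act 1 n2128 = n2572 := rfl
def n2573 : Q := act 2 n2129
theorem D2573 : act 2 n2129 = n2573 := rfl
theorem F4633 : act 0 n2573 = n2130 := d1_1 D2573 (iv D2130) (iv F3931)
theorem F4634 : act 3 n2573 = n2569 := d21_1 D2573 (iv D2569) (iv D2127) (iv D1146) F919 D561 D1154 (iv F3931)
def n2574 : Q := act 4 n2129
theorem D2574 : act 4 n2129 = n2574 := rfl
theorem F4636 : act 3 n2574 = n2134 := d15_1 D2574 (iv D2134) (iv D1167) (iv F1868) D2129
def n2576 : Q := act 3 n2130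
theorem D2576 : act 3 n2130 = n2576 := rfl
theorem F4638 : act 0 n2576 = n2569 := d2_1 D2576 (iv F4634) F4633
def n2580 : Q := act 1 n2132
theorem D2580 : act 1 n2132 = n2580 := rfl
theorem F4645 : act 3 n2580 = n2133 := d7_2 (iv F3934) D2580 (iv D2133)
def n2581 : Q := act 1 n2135
theorem D2581 : act 1 n2135 = n2581 := rfl
theorem F4649 : act 4 n2581 = n2136 := d8_2 (iv F3940) D2581 (iv D2136)
def n2582 : Q := act 2 n2137
theorem D2582 : act 2 n2137 = n2582 := rfl
theorem F4651 : act 0 n2582 = n2138 := d1_1 D2582 (iv D2138) D2137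
def n2583 : Q := act 3 n2137
theorem D2583 : act 3 n2137 = n2583 := rfl
theorem F4652 : act 0 n2583 = n2139 := d2_1 D2583 (iv D2139) D2137
def n2584 : Q := act 5 n2137
theorem D2584 : act 5 n2137 = n2584 := rfl
theorem F4653 : act 0 n2584 = n2140 := d4_1 D2584 (iv D2140) D2137
def n2585 : Q := act 6 n2137
theorem D2585 : act 6 n2137 = n2585 := rfl
theorem F4654 : act 0 n2585 = n2141 := d5_1 D2585 (iv D2141) D2137
def n2586 : Q := act 3 n2138
theorem D2586 : act 3 n2138 = n2586 := rfl
theorem F4655 : act 1 n2586 = n2216 := d7_1 D2586 (iv D2216) (iv F3945)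
def n2587 : Q := act 5 n2138
theorem D2587 : act 5 n2138 = n2587 := rfl
theorem F4656 : act 2 n2587 = n2140 := d13_1 D2587 (iv D2140) D2138
def n2588 : Q := act 6 n2138
theorem D2588 : act 6 n2138 = n2588 := rfl
theorem F4657 : act 2 n2588 = n2141 := d14_1 D2588 (iv D2141) D2138
def n2589 : Q := act 2 n2139
theorem D2589 : act 2 n2139 = n2589 := rfl
def n2590 : Q := act 4 n2139
theorem D2590 : act 4 n2139 = n2590 := rfl
theorem F4658 : act 1 n2590 = n2143 := d8_1 D2590 (iv D2143) (iv F3946)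
def n2591 : Q := act 5 n2139
theorem D2591 : act 5 n2139 = n2591 := rfl
theorem F4659 : act 3 n2591 = n2140 := d16_1 D2591 (iv D2140) D2139
def n2592 : Q := act 6 n2139
theorem D2592 : act 6 n2139 = n2592 := rfl
theorem F4660 : act 3 n2592 = n2141 := d17_1 D2592 (iv D2141) D2139
def n2593 : Q := act 1 n2140
theorem D2593 : act 1 n2140 = n2593 := rfl
theorem F4661 : act 5 n2593 = n2146 := d9_2 D2140 D2593 (iv D2146) (iv D1180) D1178
def n2594 : Q := act 6 n2140
theorem D2594 : act 6 n2140 = n2594 := rfl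
theorem F4662 : act 5 n2594 = n2585 := d22_2 D2140 D2594 (iv D2585) (iv D2137)
def n2595 : Q := act 1 n2141
theorem D2595 : act 1 n2141 = n2595 := rfl
theorem F4663 : act 6 n2595 = n2147 := d10_2 D2141 D2595 (iv D2147) (iv D1181) D1178
def n2596 : Q := act 5 n2141
theorem D2596 : act 5 n2141 = n2596 := rfl
theorem F4664 : act 0 n2596 = n2594 := d4_1 D2596 F4662 F4654
theorem F4665 : act 6 n2596 = n2584 := d20_2 D2141 D2596 (iv D2584) D2585 (iv F4662) (iv D2594) (iv D2140)
def n2597 : Q := act 1 n2142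
theorem D2597 : act 1 n2142 = n2597 := rfl
theorem F4666 : act 3 n2597 = n2437 := d7_2 (iv F3948) D2597 (iv D2437)
def n2598 : Q := act 4 n2142
theorem D2598 : act 4 n2142 = n2598 := rfl
theorem F4667 : act 0 n2598 = n2149 := d3_1 D2598 (iv D2149) (iv F3947)
theorem F4668 : act 2 n2598 = n2143 := d12_1 D2598 (iv D2143) D2142
def n2599 : Q := act 5 n2142
theorem D2599 : act 5 n2142 = n2599 := rfl
theorem F4669 : act 0 n2599 = n2150 := d4_1 D2599 (iv D2150) (iv F3947)
theorem F4670 : act 2 n2599 = n2144 := d13_1 D2599 (iv D2144) D2142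
theorem F4671 : act 3 n2599 = n2439 := d16_1 D2599 (iv D2439) (iv F3948)
def n2600 : Q := act 6 n2142
theorem D2600 : act 6 n2142 = n2600 := rfl
theorem F4673 : act 2 n2600 = n2145 := d14_1 D2600 (iv D2145) D2142
theorem F4674 : act 3 n2600 = n2440 := d17_1 D2600 (iv D2440) (iv F3948)
def n2601 : Q := act 5 n2143
theorem D2601 : act 5 n2143 = n2601 := rfl
theorem F4675 : act 0 n2601 = n2152 := d4_1 D2601 (iv D2152) (iv F3949)
theorem F4676 : act 4 n2601 = n2144 := d18_1 D2601 (iv D2144) D2143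
def n2602 : Q := act 6 n2143
theorem D2602 : act 6 n2143 = n2602 := rfl
theorem F4677 : act 0 n2602 = n2153 := d5_1 D2602 (iv D2153) (iv F3949)
theorem F4678 : act 4 n2602 = n2145 := d19_1 D2602 (iv D2145) D2143
def n2603 : Q := act 1 n2144
theorem D2603 : act 1 n2144 = n2603 := rfl
theorem F4679 : act 3 n2603 = n2146 := d7_2 (iv F3951) D2603 (iv D2146)
def n2604 : Q := act 1 n2145
theorem D2604 : act 1 n2145 = n2604 := rfl
theorem F4680 : act 3 n2604 = n2147 := d7_2 (iv F3953) D2604 (iv D2147)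
def n2605 : Q := act 0 n2146
theorem D2605 : act 0 n2146 = n2605 := rfl
def n2606 : Q := act 2 n2146
theorem D2606 : act 2 n2146 = n2606 := rfl
theorem F4681 : act 1 n2606 = n2224 := d6_1 D2606 (iv D2224) (iv D1277) (iv F1930) D2146
def n2607 : Q := act 6 n2146
theorem D2607 : act 6 n2146 = n2607 := rfl
def n2608 : Q := act 0 n2147
theorem D2608 : act 0 n2147 = n2608 := rfl
def n2609 : Q := act 2 n2147
theorem D2609 : act 2 n2147 = n2609 := rfl
theorem F4682 : act 1 n2609 = n2227 := d6_1 D2609 (iv D2227) (iv D1278) (iv F1932) D2147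
def n2610 : Q := act 5 n2147
theorem D2610 : act 5 n2147 = n2610 := rfl
def n2611 : Q := act 4 n2148
theorem D2611 : act 4 n2148 = n2611 := rfl
theorem F4683 : act 0 n2611 = n2438 := d3_1 D2611 (iv D2438) (iv F3954)
theorem F4684 : act 2 n2611 = n2432 := d12_1 D2611 (iv D2432) (iv F3955)
def n2612 : Q := act 5 n2148
theorem D2612 : act 5 n2148 = n2612 := rfl
theorem F4686 : act 2 n2612 = n2433 := d13_1 D2612 (iv D2433) (iv F3955)
theorem F4687 : act 3 n2612 = n2150 := d16_1 D2612 (iv D2150) D2148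
def n2613 : Q := act 6 n2148
theorem D2613 : act 6 n2148 = n2613 := rfl
theorem F4690 : act 3 n2613 = n2151 := d17_1 D2613 (iv D2151) D2148
def n2614 : Q := act 3 n2149
theorem D2614 : act 3 n2149 = n2614 := rfl
def n2615 : Q := act 5 n2149
theorem D2615 : act 5 n2149 = n2615 := rfl
theorem F4691 : act 2 n2615 = n2152 := d13_1 D2615 (iv D2152) (iv F3956)
theorem F4692 : act 4 n2615 = n2150 := d18_1 D2615 (iv D2150) D2149
def n2616 : Q := act 6 n2149
theorem D2616 : act 6 n2149 = n2616 := rfl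
theorem F4693 : act 2 n2616 = n2153 := d14_1 D2616 (iv D2153) (iv F3956)
theorem F4694 : act 4 n2616 = n2151 := d19_1 D2616 (iv D2151) D2149
def n2617 : Q := act 1 n2150
theorem D2617 : act 1 n2150 = n2617 := rfl
def n2618 : Q := act 6 n2150
theorem D2618 : act 6 n2150 = n2618 := rfl
theorem F4695 : act 2 n2618 = n2155 := d14_1 D2618 (iv D2155) (iv F3957)
theorem F4696 : act 5 n2618 = n2600 := d22_2 D2150 D2618 (iv D2600) F3947
def n2619 : Q := act 1 n2151
theorem D2619 : act 1 n2151 = n2619 := rfl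
def n2620 : Q := act 5 n2151
theorem D2620 : act 5 n2151 = n2620 := rfl
theorem F4699 : act 6 n2620 = n2599 := d20_2 D2151 D2620 (iv D2599) D2600 (iv F4696) (iv D2618) (iv D2150)
def n2621 : Q := act 1 n2152
theorem D2621 : act 1 n2152 = n2621 := rfl
theorem F4700 : act 4 n2621 = n2154 := d8_2 (iv F3959) D2621 (iv D2154)
theorem F4701 : act 5 n2621 = n2165 := d9_2 D2152 D2621 (iv D2165) (iv D1190) (iv F1933)
def n2622 : Q := act 6 n2152
theorem D2622 : act 6 n2152 = n2622 := rfl
theorem F4702 : act 4 n2622 = n2155 := d19_1 D2622 (iv D2155) (iv F3959)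
theorem F4703 : act 5 n2622 = n2602 := d22_2 D2152 D2622 (iv D2602) F3949
def n2623 : Q := act 1 n2153
theorem D2623 : act 1 n2153 = n2623 := rfl
theorem F4704 : act 4 n2623 = n2156 := d8_2 (iv F3960) D2623 (iv D2156)
theorem F4705 : act 6 n2623 = n2167 := d10_2 D2153 D2623 (iv D2167) (iv D1191) (iv F1933)
def n2624 : Q := act 5 n2153
theorem D2624 : act 5 n2153 = n2624 := rfl
theorem F4706 : act 0 n2624 = n2622 := d4_1 D2624 F4703 F4677
theorem F4707 : act 4 n2624 = n2157 := d18_1 D2624 (iv D2157) (iv F3960)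
theorem F4708 : act 6 n2624 = n2601 := d20_2 D2153 D2624 (iv D2601) D2602 (iv F4703) (iv D2622) (iv D2152)
def n2625 : Q := act 0 n2154
theorem D2625 : act 0 n2154 = n2625 := rfl
theorem F4709 : act 3 n2625 = n2158 := d2_2 (iv F3961) D2625 (iv D2158)
theorem F4710 : act 5 n2625 = n2169 := d4_2 (iv F3962) D2625 (iv D2169)
def n2626 : Q := act 2 n2154
theorem D2626 : act 2 n2154 = n2626 := rfl
theorem F4711 : act 5 n2626 = n2170 := d13_2 (iv F3962) D2626 (iv D2170)
def n2627 : Q := act 6 n2154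
theorem D2627 : act 6 n2154 = n2627 := rfl
theorem F4712 : act 3 n2627 = n2160 := d17_1 D2627 (iv D2160) (iv F3961)
def n2628 : Q := act 1 n2155
theorem D2628 : act 1 n2155 = n2628 := rfl
theorem F4713 : act 3 n2628 = n2161 := d7_2 (iv F3963) D2628 (iv D2161)
def n2629 : Q := act 0 n2156
theorem D2629 : act 0 n2156 = n2629 := rfl
theorem F4714 : act 3 n2629 = n2162 := d2_2 (iv F3965) D2629 (iv D2162)
def n2630 : Q := act 2 n2156
theorem D2630 : act 2 n2156 = n2630 := rfl
theorem F4716 : act 6 n2630 = n2174 := d14_2 (iv F3966) D2630 (iv D2174)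
def n2631 : Q := act 5 n2156
theorem D2631 : act 5 n2156 = n2631 := rfl
theorem F4717 : act 3 n2631 = n2163 := d16_1 D2631 (iv D2163) (iv F3965)
def n2632 : Q := act 1 n2157
theorem D2632 : act 1 n2157 = n2632 := rfl
theorem F4718 : act 3 n2632 = n2164 := d7_2 (iv F3968) D2632 (iv D2164)
def n2633 : Q := act 1 n2158
theorem D2633 : act 1 n2158 = n2633 := rfl
def n2634 : Q := act 2 n2158
theorem D2634 : act 2 n2158 = n2634 := rfl
theorem F4719 : act 0 n2634 = n2159 := d1_1 D2634 (iv D2159) D2158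
theorem F4720 : act 5 n2634 = n2178 := d13_2 (iv F3970) D2634 (iv D2178)
theorem F4721 : act 3 n2366 = n2634 := d16_3 F4720 (iv F3992) (iv F4281)
def n2635 : Q := act 6 n2159
theorem D2635 : act 6 n2159 = n2635 := rfl
theorem F4722 : act 2 n2635 = n2160 := d14_1 D2635 (iv D2160) D2159
theorem F4723 : act 3 n2635 = n2368 := d17_1 D2635 (iv D2368) F3973
def n2636 : Q := act 1 n2160
theorem D2636 : act 1 n2160 = n2636 := rfl
theorem F4724 : act 6 n2636 = n2161 := d10_2 D2160 D2636 (iv D2161) (iv D1187) D1186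
def n2637 : Q := act 0 n2161
theorem D2637 : act 0 n2161 = n2637 := rfl
def n2638 : Q := act 2 n2161
theorem D2638 : act 2 n2161 = n2638 := rfl
theorem F4725 : act 1 n2638 = n2234 := d6_1 D2638 (iv D2234) (iv D1282) (iv F1937) D2161
def n2639 : Q := act 5 n2161
theorem D2639 : act 5 n2161 = n2639 := rfl
theorem F4726 : act 1 n2639 = n2610 := d9_1 D2639 (iv D2610) (iv D2147) (iv F1938) D2161
def n2640 : Q := act 1 n2162
theorem D2640 : act 1 n2162 = n2640 := rfl
def n2641 : Q := act 1 n2163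
theorem D2641 : act 1 n2163 = n2641 := rfl
theorem F4727 : act 5 n2641 = n2164 := d9_2 D2163 D2641 (iv D2164) (iv D1189) D1188
def n2642 : Q := act 0 n2164
theorem D2642 : act 0 n2164 = n2642 := rfl
def n2644 : Q := act 6 n2164
theorem D2644 : act 6 n2164 = n2644 := rfl
theorem F4729 : act 1 n2644 = n2607 := d10_1 D2644 (iv D2607) (iv D2146) (iv F1943) D2164
def n2645 : Q := act 0 n2165
theorem D2645 : act 0 n2165 = n2645 := rfl
theorem F4730 : act 4 n2645 = n2169 := d3_2 (iv F3977) D2645 (iv D2169)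
def n2646 : Q := act 2 n2165
theorem D2646 : act 2 n2165 = n2646 := rfl
theorem F4731 : act 4 n2646 = n2170 := d12_2 (iv F3977) D2646 (iv D2170)
def n2647 : Q := act 6 n2165
theorem D2647 : act 6 n2165 = n2647 := rfl
theorem F4732 : act 4 n2647 = n2171 := d19_1 D2647 (iv D2171) (iv F3977)
def n2648 : Q := act 1 n2166
theorem D2648 : act 1 n2166 = n2648 := rfl
theorem F4733 : act 4 n2648 = n2172 := d8_2 (iv F3978) D2648 (iv D2172)
def n2649 : Q := act 0 n2167
theorem D2649 : act 0 n2167 = n2649 := rfl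
theorem F4734 : act 4 n2649 = n2173 := d3_2 (iv F3980) D2649 (iv D2173)
def n2651 : Q := act 5 n2167
theorem D2651 : act 5 n2167 = n2651 := rfl
theorem F4736 : act 4 n2651 = n2175 := d18_1 D2651 (iv D2175) (iv F3980)
def n2652 : Q := act 1 n2168
theorem D2652 : act 1 n2168 = n2652 := rfl
theorem F4737 : act 4 n2652 = n2176 := d8_2 (iv F3983) D2652 (iv D2176)
def n2653 : Q := act 1 n2169
theorem D2653 : act 1 n2169 = n2653 := rfl
theorem F4738 : act 3 n2653 = n2177 := d7_2 (iv F3985) D2653 (iv D2177)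
def n2654 : Q := act 2 n2169
theorem D2654 : act 2 n2169 = n2654 := rfl
theorem F4739 : act 0 n2654 = n2170 := d1_1 D2654 (iv D2170) D2169
def n2655 : Q := act 6 n2169
theorem D2655 : act 6 n2169 = n2655 := rfl
theorem F4740 : act 0 n2655 = n2171 := d5_1 D2655 (iv D2171) D2169
theorem F4741 : act 3 n2655 = n2179 := d17_1 D2655 (iv D2179) (iv F3985)
theorem F4742 : act 5 n2655 = n2627 := d22_2 F4710 D2655 (iv D2627) D2625
def n2656 : Q := act 3 n2170
theorem D2656 : act 3 n2170 = n2656 := rfl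
def n2657 : Q := act 6 n2170
theorem D2657 : act 6 n2170 = n2657 := rfl
theorem F4743 : act 2 n2657 = n2171 := d14_1 D2657 (iv D2171) D2170
def n2658 : Q := act 1 n2171
theorem D2658 : act 1 n2171 = n2658 := rfl
theorem F4744 : act 3 n2658 = n2181 := d7_2 (iv F3986) D2658 (iv D2181)
theorem F4745 : act 6 n2658 = n2172 := d10_2 D2171 D2658 (iv D2172) (iv D1193) D1192
def n2659 : Q := act 5 n2171
theorem D2659 : act 5 n2171 = n2659 := rfl
theorem F4746 : act 0 n2659 = n2627 := d4_1 D2659 (iv F4742) F4740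
theorem F4747 : act 3 n2659 = n2182 := d16_1 D2659 (iv D2182) (iv F3986)
theorem F4748 : act 6 n2659 = n2625 := d20_2 D2171 D2659 F4710 D2655 F4742 (iv D2627) F3962
def n2660 : Q := act 0 n2172
theorem D2660 : act 0 n2172 = n2660 := rfl
theorem F4749 : act 3 n2660 = n2183 := d2_2 (iv F3987) D2660 (iv D2183)
def n2661 : Q := act 2 n2172
theorem D2661 : act 2 n2172 = n2661 := rfl
def n2662 : Q := act 5 n2172
theorem D2662 : act 5 n2172 = n2662 := rfl
theorem F4750 : act 1 n2662 = n2556 := d9_1 D2662 (iv D2556) (iv D2119) (iv F1948) D2172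
theorem F4751 : act 3 n2662 = n2185 := d16_1 D2662 (iv D2185) (iv F3987)
def n2663 : Q := act 1 n2173
theorem D2663 : act 1 n2173 = n2663 := rfl
theorem F4752 : act 3 n2663 = n2186 := d7_2 (iv F3988) D2663 (iv D2186)
def n2665 : Q := act 5 n2173
theorem D2665 : act 5 n2173 = n2665 := rfl
theorem F4755 : act 3 n2665 = n2187 := d16_1 D2665 (iv D2187) (iv F3988)
theorem F4756 : act 6 n2665 = n2631 := d22_1 D2665 (iv D2631) F3966 D2173
def n2666 : Q := act 3 n2174
theorem D2666 : act 3 n2174 = n2666 := rfl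
def n2667 : Q := act 5 n2174
theorem D2667 : act 5 n2174 = n2667 := rfl
theorem F4757 : act 2 n2667 = n2175 := d13_1 D2667 (iv D2175) D2174
def n2668 : Q := act 1 n2175
theorem D2668 : act 1 n2175 = n2668 := rfl
theorem F4758 : act 3 n2668 = n2188 := d7_2 (iv F3989) D2668 (iv D2188)
theorem F4759 : act 5 n2668 = n2176 := d9_2 D2175 D2668 (iv D2176) (iv D1195) D1194
def n2669 : Q := act 6 n2175
theorem D2669 : act 6 n2175 = n2669 := rfl
theorem F4761 : act 3 n2669 = n2189 := d17_1 D2669 (iv D2189) (iv F3989)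
def n2670 : Q := act 0 n2176
theorem D2670 : act 0 n2176 = n2670 := rfl
theorem F4763 : act 3 n2670 = n2190 := d2_2 (iv F3990) D2670 (iv D2190)
def n2671 : Q := act 2 n2176
theorem D2671 : act 2 n2176 = n2671 := rfl
theorem F4764 : act 1 n2671 = n2661 := d6_1 D2671 (iv D2661) (iv D2172) (iv F1951) D2176
def n2672 : Q := act 6 n2176
theorem D2672 : act 6 n2176 = n2672 := rfl
theorem F4765 : act 1 n2672 = n2553 := d10_1 D2672 (iv D2553) (iv D2118) (iv F1953) D2176
theorem F4766 : act 3 n2672 = n2192 := d17_1 D2672 (iv D2192) (iv F3990)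
def n2673 : Q := act 0 n2177
theorem D2673 : act 0 n2177 = n2673 := rfl
def n2674 : Q := act 2 n2177
theorem D2674 : act 2 n2177 = n2674 := rfl
def n2675 : Q := act 5 n2177
theorem D2675 : act 5 n2177 = n2675 := rfl
def n2676 : Q := act 6 n2177
theorem D2676 : act 6 n2177 = n2676 := rfl
def n2677 : Q := act 1 n2178
theorem D2677 : act 1 n2178 = n2677 := rfl
theorem F4767 : act 3 n2677 = n2373 := d7_2 F3992 D2677 (iv D2373)
def n2678 : Q := act 6 n2178
theorem D2678 : act 6 n2178 = n2678 := rfl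
theorem F4768 : act 0 n2678 = n2180 := d5_1 D2678 (iv D2180) (iv F3991)
theorem F4769 : act 2 n2678 = n2179 := d14_1 D2678 (iv D2179) D2178
theorem F4770 : act 3 n2678 = n2375 := d17_1 D2678 (iv D2375) F3992
theorem F4771 : act 5 n2678 = n2635 := d22_2 F4720 D2678 (iv D2635) (iv F4719)
def n2679 : Q := act 1 n2179
theorem D2679 : act 1 n2179 = n2679 := rfl
def n2680 : Q := act 5 n2180
theorem D2680 : act 5 n2180 = n2680 := rfl
theorem F4772 : act 0 n2680 = n2635 := d4_1 D2680 (iv F4771) F4768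
theorem F4773 : act 2 n2680 = n2182 := d13_1 D2680 (iv D2182) (iv F3995)
theorem F4774 : act 3 n2680 = n2378 := d16_1 D2680 (iv D2378) (iv F3996)
theorem F4775 : act 6 n2680 = n2634 := d20_2 D2180 D2680 F4720 D2678 F4771 (iv D2635) F3972
def n2681 : Q := act 0 n2181
theorem D2681 : act 0 n2181 = n2681 := rfl
theorem F4776 : act 6 n2681 = n2183 := d5_2 (iv F3997) D2681 (iv D2183)
def n2682 : Q := act 2 n2181
theorem D2682 : act 2 n2181 = n2682 := rfl
theorem F4777 : act 6 n2682 = n2184 := d14_2 (iv F3997) D2682 (iv D2184)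
def n2683 : Q := act 5 n2181
theorem D2683 : act 5 n2181 = n2683 := rfl
def n2684 : Q := act 1 n2182
theorem D2684 : act 1 n2182 = n2684 := rfl
def n2685 : Q := act 1 n2183
theorem D2685 : act 1 n2183 = n2685 := rfl
def n2686 : Q := act 2 n2183
theorem D2686 : act 2 n2183 = n2686 := rfl
theorem F4778 : act 0 n2686 = n2184 := d1_1 D2686 (iv D2184) D2183
def n2687 : Q := act 5 n2183
theorem D2687 : act 5 n2183 = n2687 := rfl
theorem F4779 : act 0 n2687 = n2185 := d4_1 D2687 (iv D2185) D2183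
theorem F4780 : act 6 n2687 = n2683 := d22_1 D2687 (iv D2683) F3997 D2183
def n2688 : Q := act 3 n2184
theorem D2688 : act 3 n2184 = n2688 := rfl
theorem F4781 : act 1 n2688 = n2194 := d7_1 D2688 (iv D2194) (iv F4000)
def n2689 : Q := act 5 n2184
theorem D2689 : act 5 n2184 = n2689 := rfl
theorem F4782 : act 2 n2689 = n2185 := d13_1 D2689 (iv D2185) D2184
def n2690 : Q := act 6 n2185
theorem D2690 : act 6 n2185 = n2690 := rfl
theorem F4783 : act 0 n2690 = n2683 := d5_1 D2690 (iv F4780) F4779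
theorem F4784 : act 5 n2690 = n2681 := d20_1 D2690 F4776 D2687 F4780 (iv D2683) F3997 D2185
def n2691 : Q := act 0 n2186
theorem D2691 : act 0 n2186 = n2691 := rfl
def n2692 : Q := act 2 n2186
theorem D2692 : act 2 n2186 = n2692 := rfl
def n2693 : Q := act 5 n2186
theorem D2693 : act 5 n2186 = n2693 := rfl
def n2694 : Q := act 6 n2186
theorem D2694 : act 6 n2186 = n2694 := rfl
def n2695 : Q := act 1 n2187
theorem D2695 : act 1 n2187 = n2695 := rfl
def n2696 : Q := act 0 n2188
theorem D2696 : act 0 n2188 = n2696 := rfl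
theorem F4786 : act 5 n2696 = n2190 := d4_2 (iv F4005) D2696 (iv D2190)
def n2697 : Q := act 2 n2188
theorem D2697 : act 2 n2188 = n2697 := rfl
theorem F4788 : act 5 n2697 = n2191 := d13_2 (iv F4005) D2697 (iv D2191)
def n2698 : Q := act 6 n2188
theorem D2698 : act 6 n2188 = n2698 := rfl
def n2699 : Q := act 1 n2189
theorem D2699 : act 1 n2189 = n2699 := rfl
def n2700 : Q := act 1 n2190
theorem D2700 : act 1 n2190 = n2700 := rfl
def n2701 : Q := act 2 n2190
theorem D2701 : act 2 n2190 = n2701 := rfl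
def n2702 : Q := act 6 n2190
theorem D2702 : act 6 n2190 = n2702 := rfl
theorem F4791 : act 5 n2702 = n2698 := d22_2 F4786 D2702 (iv D2698) D2696
def n2703 : Q := act 3 n2191
theorem D2703 : act 3 n2191 = n2703 := rfl
theorem F4792 : act 1 n2703 = n2196 := d7_1 D2703 (iv D2196) (iv F4009)
def n2704 : Q := act 6 n2191
theorem D2704 : act 6 n2191 = n2704 := rfl
theorem F4793 : act 2 n2704 = n2192 := d14_1 D2704 (iv D2192) D2191
def n2705 : Q := act 5 n2192
theorem D2705 : act 5 n2192 = n2705 := rfl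
theorem F4795 : act 6 n2705 = n2696 := d20_2 D2192 D2705 F4786 D2702 F4791 (iv D2698) F4005
def n2706 : Q := act 1 n2193
theorem D2706 : act 1 n2193 = n2706 := rfl
def n2707 : Q := act 3 n2193
theorem D2707 : act 3 n2193 = n2707 := rfl
theorem F4797 : act 5 n2707 = n2571 := d16_2 (iv F4012) D2707 F4632
def n2709 : Q := act 4 n2194
theorem D2709 : act 4 n2194 = n2709 := rfl
def n2710 : Q := act 5 n2194
theorem D2710 : act 5 n2194 = n2710 := rfl
theorem F4799 : act 3 n2710 = n2195 := d16_1 D2710 (iv D2195) D2194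
theorem F4800 : act 6 n2710 = n2568 := d22_3 (iv F4328) F4329 D2710 F4631
def n2711 : Q := act 1 n2195
theorem D2711 : act 1 n2195 = n2711 := rfl
theorem F4801 : act 2 n2711 = n2338 := d6_2 (iv F4014) D2711 (iv D2338) F2850 (iv F3774)
def n2712 : Q := act 2 n2196
theorem D2712 : act 2 n2196 = n2712 := rfl
theorem F4803 : act 3 n2712 = n2493 := d21_1 D2712 (iv D2493) (iv D2062) (iv D1047) (iv F1654) D2052 D2491 F4505
def n2714 : Q := act 6 n2196
theorem D2714 : act 6 n2196 = n2714 := rfl
theorem F4805 : act 3 n2714 = n2197 := d17_1 D2714 (iv D2197) D2196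
def n2715 : Q := act 1 n2197
theorem D2715 : act 1 n2197 = n2715 := rfl
theorem F4806 : act 2 n2715 = n2572 := d6_2 (iv F4017) D2715 (iv D2572) F3930 (iv F1970)
def n2723 : Q := act 1 n2202
theorem D2723 : act 1 n2202 = n2723 := rfl
def n2724 : Q := act 3 n2202
theorem D2724 : act 3 n2202 = n2724 := rfl
theorem F4827 : act 2 n2724 = n2491 := d11_1 D2724 (iv D2491) (iv D2052) F1654 D1047 D2062 D2493 (iv F4803) (iv D2712) (iv D2196) (iv D1212) F961 D603 D1235 D2202
def n2726 : Q := act 6 n2202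
theorem D2726 : act 6 n2202 = n2726 := rfl
theorem F4831 : act 2 n2726 = n2204 := d14_1 D2726 (iv D2204) D2202
def n2728 : Q := act 1 n2204
theorem D2728 : act 1 n2204 = n2728 := rfl
theorem F4835 : act 3 n2728 = n2205 := d7_2 (iv F4030) D2728 (iv D2205)
theorem F4836 : act 5 n2728 = n2580 := d9_2 F4519 D2728 (iv D2580) (iv F4019) (iv F4517)
def n2729 : Q := act 4 n2208
theorem D2729 : act 4 n2208 = n2729 := rfl
theorem F4839 : act 1 n2729 = n2209 := d8_1 D2729 (iv D2209) D2208
def n2730 : Q := act 5 n2208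
theorem D2730 : act 5 n2208 = n2730 := rfl
theorem F4842 : act 0 n2730 = n2730 := d4_1 D2730 (iv D2730) F4045
theorem F4843 : act 1 n2730 = n2730 := d9_1 D2730 (iv D2730) (iv D2208) F2073 D2208
theorem F4844 : act 2 n2730 = n2730 := d13_1 D2730 (iv D2730) F4043
theorem F4845 : act 3 n2730 = n2730 := d16_1 D2730 (iv D2730) F4044
theorem F4846 : act 6 n2730 = n2730 := d22_1 D2730 (iv D2730) F4057 F4045
def n2732 : Q := act 6 n2209
theorem D2732 : act 6 n2209 = n2732 := rfl
theorem F4850 : act 2 n2732 = n2211 := d14_1 D2732 (iv D2211) (iv F4046)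
theorem F4851 : act 4 n2732 = n2210 := d19_1 D2732 (iv D2210) D2209
def n2733 : Q := act 1 n2211
theorem D2733 : act 1 n2211 = n2733 := rfl
theorem F4854 : act 4 n2733 = n2212 := d8_2 (iv F4050) D2733 (iv D2212)
theorem F4855 : act 5 n2733 = n2581 := d9_2 F4531 D2733 (iv D2581) (iv F4037) (iv F4529)
def n2734 : Q := act 1 n2213
theorem D2734 : act 1 n2213 = n2734 := rfl
def n2735 : Q := act 3 n2213
theorem D2735 : act 3 n2213 = n2735 := rfl
theorem F4857 : act 0 n2735 = n2216 := d2_1 D2735 (iv D2216) (iv F4058)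
def n2736 : Q := act 5 n2213
theorem D2736 : act 5 n2213 = n2736 := rfl
theorem F4858 : act 0 n2736 = n2217 := d4_1 D2736 (iv D2217) (iv F4058)
def n2737 : Q := act 6 n2213
theorem D2737 : act 6 n2213 = n2737 := rfl
theorem F4860 : act 0 n2737 = n2218 := d5_1 D2737 (iv D2218) (iv F4058)
theorem F4861 : act 2 n2737 = n2215 := d14_1 D2737 (iv D2215) D2213
def n2738 : Q := act 1 n2214
theorem D2738 : act 1 n2214 = n2738 := rfl
def n2739 : Q := act 1 n2215
theorem D2739 : act 1 n2215 = n2739 := rfl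
def n2740 : Q := act 2 n2216
theorem D2740 : act 2 n2216 = n2740 := rfl
def n2741 : Q := act 4 n2216
theorem D2741 : act 4 n2216 = n2741 := rfl
def n2742 : Q := act 5 n2216
theorem D2742 : act 5 n2216 = n2742 := rfl
theorem F4862 : act 3 n2742 = n2217 := d16_1 D2742 (iv D2217) D2216
def n2744 : Q := act 1 n2217
theorem D2744 : act 1 n2217 = n2744 := rfl
def n2745 : Q := act 6 n2217
theorem D2745 : act 6 n2217 = n2745 := rfl
theorem F4864 : act 2 n2745 = n2220 := d14_1 D2745 (iv D2220) (iv F4061)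
theorem F4865 : act 5 n2745 = n2737 := d22_2 D2217 D2745 (iv D2737) F4058
def n2746 : Q := act 1 n2218
theorem D2746 : act 1 n2218 = n2746 := rfl
def n2747 : Q := act 5 n2218
theorem D2747 : act 5 n2218 = n2747 := rfl
theorem F4866 : act 0 n2747 = n2745 := d4_1 D2747 F4865 F4860
theorem F4867 : act 2 n2747 = n2222 := d13_1 D2747 (iv D2222) (iv F4062)
theorem F4868 : act 6 n2747 = n2736 := d20_2 D2218 D2747 (iv D2736) D2737 (iv F4865) (iv D2745) (iv D2217)
def n2748 : Q := act 0 n2219
theorem D2748 : act 0 n2219 = n2748 := rfl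
theorem F4869 : act 5 n2748 = n2223 := d4_2 (iv F4063) D2748 (iv D2223)
def n2749 : Q := act 2 n2219
theorem D2749 : act 2 n2219 = n2749 := rfl
theorem F4870 : act 5 n2749 = n2224 := d13_2 (iv F4063) D2749 (iv D2224)
def n2750 : Q := act 6 n2219
theorem D2750 : act 6 n2219 = n2750 := rfl
def n2751 : Q := act 1 n2220
theorem D2751 : act 1 n2220 = n2751 := rfl
def n2752 : Q := act 0 n2221
theorem D2752 : act 0 n2221 = n2752 := rfl
theorem F4871 : act 6 n2752 = n2226 := d5_2 (iv F4065) D2752 (iv D2226)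
def n2753 : Q := act 2 n2221
theorem D2753 : act 2 n2221 = n2753 := rfl
theorem F4872 : act 6 n2753 = n2227 := d14_2 (iv F4065) D2753 (iv D2227)
def n2754 : Q := act 5 n2221
theorem D2754 : act 5 n2221 = n2754 := rfl
def n2755 : Q := act 1 n2222
theorem D2755 : act 1 n2222 = n2755 := rfl
def n2756 : Q := act 1 n2223
theorem D2756 : act 1 n2223 = n2756 := rfl
def n2757 : Q := act 2 n2223
theorem D2757 : act 2 n2223 = n2757 := rfl
theorem F4873 : act 0 n2757 = n2224 := d1_1 D2757 (iv D2224) D2223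
def n2758 : Q := act 6 n2223
theorem D2758 : act 6 n2223 = n2758 := rfl
theorem F4874 : act 0 n2758 = n2225 := d5_1 D2758 (iv D2225) D2223
theorem F4875 : act 5 n2758 = n2750 := d22_2 F4869 D2758 (iv D2750) D2748
def n2759 : Q := act 3 n2224
theorem D2759 : act 3 n2224 = n2759 := rfl
def n2760 : Q := act 6 n2224
theorem D2760 : act 6 n2224 = n2760 := rfl
theorem F4876 : act 2 n2760 = n2225 := d14_1 D2760 (iv D2225) D2224
def n2761 : Q := act 5 n2225
theorem D2761 : act 5 n2225 = n2761 := rfl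
theorem F4877 : act 0 n2761 = n2750 := d4_1 D2761 (iv F4875) F4874
theorem F4878 : act 6 n2761 = n2748 := d20_2 D2225 D2761 F4869 D2758 F4875 (iv D2750) F4063
def n2762 : Q := act 1 n2226
theorem D2762 : act 1 n2226 = n2762 := rfl
theorem F4879 : act 0 n2762 = n2762 := d0_1 D2762 (iv D2762) (iv D2226) (iv D1278) F1010 F546 (iv F1010) D1278 D2226
def n2763 : Q := act 2 n2226
theorem D2763 : act 2 n2226 = n2763 := rfl
theorem F4880 : act 0 n2763 = n2227 := d1_1 D2763 (iv D2227) D2226
def n2764 : Q := act 5 n2226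
theorem D2764 : act 5 n2226 = n2764 := rfl
theorem F4881 : act 0 n2764 = n2228 := d4_1 D2764 (iv D2228) D2226
theorem F4882 : act 6 n2764 = n2754 := d22_1 D2764 (iv D2754) F4065 D2226
def n2765 : Q := act 3 n2227
theorem D2765 : act 3 n2227 = n2765 := rfl
def n2766 : Q := act 5 n2227
theorem D2766 : act 5 n2227 = n2766 := rfl
theorem F4883 : act 2 n2766 = n2228 := d13_1 D2766 (iv D2228) D2227
def n2767 : Q := act 6 n2228
theorem D2767 : act 6 n2228 = n2767 := rfl
theorem F4884 : act 0 n2767 = n2754 := d5_1 D2767 (iv F4882) F4881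
def n2768 : Q := act 0 n2229
theorem D2768 : act 0 n2229 = n2768 := rfl
def n2769 : Q := act 2 n2229
theorem D2769 : act 2 n2229 = n2769 := rfl
def n2770 : Q := act 5 n2229
theorem D2770 : act 5 n2229 = n2770 := rfl
theorem F4886 : act 1 n2770 = n2241 := d9_1 D2770 (iv D2241) (iv D1284) (iv F2079) D2229
def n2771 : Q := act 6 n2229
theorem D2771 : act 6 n2229 = n2771 := rfl
def n2772 : Q := act 1 n2230
theorem D2772 : act 1 n2230 = n2772 := rfl
theorem F4887 : act 3 n2772 = n2364 := d7_2 F4070 D2772 (iv D2364)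
def n2773 : Q := act 1 n2231
theorem D2773 : act 1 n2231 = n2773 := rfl
theorem F4888 : act 3 n2773 = n2369 := d7_2 (iv F4072) D2773 (iv D2369)
def n2774 : Q := act 0 n2232
theorem D2774 : act 0 n2232 = n2774 := rfl
theorem F4889 : act 6 n2774 = n2233 := d5_2 (iv F4073) D2774 (iv D2233)
def n2775 : Q := act 2 n2232
theorem D2775 : act 2 n2232 = n2775 := rfl
theorem F4890 : act 6 n2775 = n2234 := d14_2 (iv F4073) D2775 (iv D2234)
def n2776 : Q := act 5 n2232
theorem D2776 : act 5 n2232 = n2776 := rfl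
def n2777 : Q := act 1 n2233
theorem D2777 : act 1 n2233 = n2777 := rfl
def n2778 : Q := act 2 n2233
theorem D2778 : act 2 n2233 = n2778 := rfl
theorem F4891 : act 0 n2778 = n2234 := d1_1 D2778 (iv D2234) D2233
def n2779 : Q := act 5 n2233
theorem D2779 : act 5 n2233 = n2779 := rfl
theorem F4892 : act 0 n2779 = n2235 := d4_1 D2779 (iv D2235) D2233
theorem F4893 : act 6 n2779 = n2776 := d22_1 D2779 (iv D2776) F4073 D2233
def n2780 : Q := act 3 n2234
theorem D2780 : act 3 n2234 = n2780 := rfl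
def n2781 : Q := act 5 n2234
theorem D2781 : act 5 n2234 = n2781 := rfl
theorem F4894 : act 2 n2781 = n2235 := d13_1 D2781 (iv D2235) D2234
def n2782 : Q := act 6 n2235
theorem D2782 : act 6 n2235 = n2782 := rfl
theorem F4895 : act 0 n2782 = n2776 := d5_1 D2782 (iv F4893) F4892
theorem F4896 : act 5 n2782 = n2774 := d20_1 D2782 F4889 D2779 F4893 (iv D2776) F4073 D2235
def n2783 : Q := act 1 n2236
theorem D2783 : act 1 n2236 = n2783 := rfl
def n2784 : Q := act 2 n2236
theorem D2784 : act 2 n2236 = n2784 := rfl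
theorem F4897 : act 0 n2784 = n2237 := d1_1 D2784 (iv D2237) D2236
theorem F4898 : act 5 n2784 = n2784 := d13_2 F4075 D2784 (iv D2784)
def n2785 : Q := act 6 n2236
theorem D2785 : act 6 n2236 = n2785 := rfl
theorem F4899 : act 0 n2785 = n2238 := d5_1 D2785 (iv D2238) D2236
theorem F4900 : act 5 n2785 = n2238 := d22_2 F4075 D2785 (iv D2238) D2236
def n2787 : Q := act 6 n2237
theorem D2787 : act 6 n2237 = n2787 := rfl
theorem F4902 : act 2 n2787 = n2238 := d14_1 D2787 (iv D2238) D2237
def n2788 : Q := act 2 n2239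
theorem D2788 : act 2 n2239 = n2788 := rfl
theorem F4903 : act 0 n2788 = n2240 := d1_1 D2788 (iv D2240) D2239
def n2789 : Q := act 5 n2239
theorem D2789 : act 5 n2239 = n2789 := rfl
def n2790 : Q := act 6 n2239
theorem D2790 : act 6 n2239 = n2790 := rfl
theorem F4905 : act 0 n2790 = n2242 := d5_1 D2790 (iv D2242) D2239
def n2791 : Q := act 1 n2240
theorem D2791 : act 1 n2240 = n2791 := rfl
theorem F4906 : act 2 n2791 = n2243 := d6_2 D2240 D2791 (iv D2243) (iv D1285) D1284
def n2792 : Q := act 3 n2240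
theorem D2792 : act 3 n2240 = n2792 := rfl
def n2793 : Q := act 5 n2240
theorem D2793 : act 5 n2240 = n2793 := rfl
theorem F4907 : act 2 n2793 = n2241 := d13_1 D2793 (iv D2241) D2240
def n2794 : Q := act 6 n2240
theorem D2794 : act 6 n2240 = n2794 := rfl
theorem F4908 : act 2 n2794 = n2242 := d14_1 D2794 (iv D2242) D2240
def n2795 : Q := act 6 n2241
theorem D2795 : act 6 n2241 = n2795 := rfl
theorem F4909 : act 5 n2795 = n2790 := d22_2 D2241 D2795 (iv D2790) (iv D2239)
def n2796 : Q := act 1 n2242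
theorem D2796 : act 1 n2242 = n2796 := rfl
theorem F4910 : act 6 n2796 = n2245 := d10_2 D2242 D2796 (iv D2245) (iv D1286) D1284
def n2797 : Q := act 5 n2242
theorem D2797 : act 5 n2242 = n2797 := rfl
theorem F4911 : act 0 n2797 = n2795 := d4_1 D2797 F4909 F4905
theorem F4912 : act 6 n2797 = n2789 := d20_2 D2242 D2797 (iv D2789) D2790 (iv F4909) (iv D2795) (iv D2241)
def n2798 : Q := act 0 n2243
theorem D2798 : act 0 n2243 = n2798 := rfl
theorem F4913 : act 1 n2798 = n2360 := d0_2 D2243 D2798 (iv D2360) (iv D1851) (iv D935) (iv D454) (iv F3736) (iv F1015) (iv F2082)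
theorem F4914 : act 3 n2798 = n2360 := d2_2 (iv F4078) D2798 (iv D2360)
def n2799 : Q := act 5 n2243
theorem D2799 : act 5 n2243 = n2799 := rfl
theorem F4915 : act 3 n2799 = n2362 := d16_1 D2799 (iv D2362) (iv F4078)
def n2800 : Q := act 6 n2243
theorem D2800 : act 6 n2243 = n2800 := rfl
theorem F4916 : act 3 n2800 = n2363 := d17_1 D2800 (iv D2363) (iv F4078)
def n2801 : Q := act 1 n2244
theorem D2801 : act 1 n2244 = n2801 := rfl
theorem F4917 : act 3 n2801 = n2365 := d7_2 (iv F4081) D2801 (iv D2365)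
def n2802 : Q := act 0 n2245
theorem D2802 : act 0 n2245 = n2802 := rfl
def n2803 : Q := act 2 n2245
theorem D2803 : act 2 n2245 = n2803 := rfl
def n2804 : Q := act 5 n2245
theorem D2804 : act 5 n2245 = n2804 := rfl
theorem F4918 : act 1 n2804 = n2776 := d9_1 D2804 (iv D2776) (iv D2232) (iv F2084) D2245
def n2805 : Q := act 1 n2246
theorem D2805 : act 1 n2246 = n2805 := rfl
theorem F4919 : act 3 n2805 = n2372 := d7_2 (iv F4085) D2805 (iv D2372)
def n2806 : Q := act 0 n2247
theorem D2806 : act 0 n2247 = n2806 := rfl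
def n2807 : Q := act 2 n2247
theorem D2807 : act 2 n2247 = n2807 := rfl
def n2808 : Q := act 6 n2247
theorem D2808 : act 6 n2247 = n2808 := rfl
theorem F4920 : act 1 n2808 = n2771 := d10_1 D2808 (iv D2771) (iv D2229) (iv F2088) D2247
def n2809 : Q := act 1 n2248
theorem D2809 : act 1 n2248 = n2809 := rfl
theorem F4921 : act 4 n2809 = n2255 := d8_2 (iv F4088) D2809 (iv D2255)
def n2810 : Q := act 3 n2248
theorem D2810 : act 3 n2248 = n2810 := rfl
theorem F4922 : act 0 n2810 = n2249 := d2_1 D2810 (iv D2249) D2248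
theorem F4923 : act 2 n2810 = n2532 := d21_2 (iv F4087) D2810 (iv D2532) (iv D2108) (iv D1137) F3821 F1490 D1484
def n2811 : Q := act 5 n2248
theorem D2811 : act 5 n2248 = n2811 := rfl
theorem F4925 : act 2 n2811 = n2256 := d13_1 D2811 (iv D2256) (iv F4087)
theorem F4926 : act 4 n2811 = n2256 := d18_1 D2811 (iv D2256) (iv F4088)
def n2812 : Q := act 6 n2248
theorem D2812 : act 6 n2248 = n2812 := rfl
def n2813 : Q := act 2 n2249
theorem D2813 : act 2 n2249 = n2813 := rfl
theorem F4930 : act 0 n2813 = n2532 := d1_1 D2813 (iv F4923) F4922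
theorem F4931 : act 1 n2813 = n2348 := d6_1 D2813 (iv D2348) F2954 F3798 (iv F4089)
theorem F4932 : act 3 n2813 = n2526 := d11_2 D2249 D2813 (iv D2526) (iv D2105) (iv F3855) F3000 (iv F4087) D2810 F4923 (iv D2532) (iv D2108) (iv D1137) F3821 F1490 (iv F2367)
theorem F4933 : act 0 n2454 = n2437 := d0_5 F4931 F4260 F4217 (iv F3306) (iv F4436) (iv D2437) (iv F3954) (iv F4589) (iv F4930)
theorem F4934 : act 2 n2453 = n2454 := d1_0 F4933 F4408 D2453
theorem F4935 : act 4 n2437 = n2453 := d3_2 D2454 F4933 (iv D2453)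
theorem F4936 : act 1 n2453 = n2438 := d8_1 F4935 (iv D2438) D2437
def n2814 : Q := act 5 n2249
theorem D2814 : act 5 n2249 = n2814 := rfl
theorem F4937 : act 3 n2814 = n2250 := d16_1 D2814 (iv D2250) D2249
def n2815 : Q := act 6 n2249
theorem D2815 : act 6 n2249 = n2815 := rfl
theorem F4938 : act 1 n2815 = n2273 := d10_1 D2815 (iv D2273) F2478 (iv F3800) (iv F4089)
def n2816 : Q := act 1 n2250
theorem D2816 : act 1 n2250 = n2816 := rfl
theorem F4940 : act 4 n2816 = n2258 := d8_2 (iv F4091) D2816 (iv D2258)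
theorem F4941 : act 5 n2816 = n2253 := d9_2 D2250 D2816 (iv D2253) (iv D1454) D1452
def n2817 : Q := act 6 n2250
theorem D2817 : act 6 n2250 = n2817 := rfl
theorem F4943 : act 4 n2817 = n2259 := d19_1 D2817 (iv D2259) (iv F4091)
theorem F4944 : act 5 n2817 = n2812 := d22_2 D2250 D2817 (iv D2812) (iv D2248)
def n2818 : Q := act 5 n2251
theorem D2818 : act 5 n2251 = n2818 := rfl
theorem F4946 : act 2 n2818 = n2260 := d13_1 D2818 (iv D2260) (iv F4093)
theorem F4947 : act 4 n2818 = n2260 := d18_1 D2818 (iv D2260) (iv F4094)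
theorem F4948 : act 6 n2818 = n2811 := d20_2 D2251 D2818 (iv D2811) D2812 (iv F4944) (iv D2817) (iv D2250)
def n2819 : Q := act 1 n2252
theorem D2819 : act 1 n2252 = n2819 := rfl
theorem F4949 : act 3 n2819 = n2253 := d7_2 (iv F4096) D2819 (iv D2253)
def n2820 : Q := act 0 n2253
theorem D2820 : act 0 n2253 = n2820 := rfl
theorem F4950 : act 4 n2820 = n2261 := d3_2 (iv F4098) D2820 (iv D2261)
def n2821 : Q := act 2 n2253
theorem D2821 : act 2 n2253 = n2821 := rfl
theorem F4951 : act 1 n2821 = n2254 := d6_1 D2821 (iv D2254) (iv D1456) (iv F2368) D2253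
theorem F4952 : act 4 n2821 = n2262 := d12_2 (iv F4098) D2821 (iv D2262)
def n2822 : Q := act 6 n2253
theorem D2822 : act 6 n2253 = n2822 := rfl
theorem F4953 : act 1 n2822 = n2357 := d10_1 D2822 (iv D2357) (iv D1827) (iv F3747) D2253
theorem F4954 : act 4 n2822 = n2263 := d19_1 D2822 (iv D2263) (iv F4098)
def n2823 : Q := act 3 n2254
theorem D2823 : act 3 n2254 = n2823 := rfl
theorem F4955 : act 5 n2823 = n2265 := d16_2 (iv F4100) D2823 (iv D2265)
def n2824 : Q := act 0 n2255
theorem D2824 : act 0 n2255 = n2824 := rfl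
def n2825 : Q := act 2 n2255
theorem D2825 : act 2 n2255 = n2825 := rfl
def n2826 : Q := act 5 n2255
theorem D2826 : act 5 n2255 = n2826 := rfl
def n2827 : Q := act 6 n2255
theorem D2827 : act 6 n2255 = n2827 := rfl
def n2828 : Q := act 1 n2256
theorem D2828 : act 1 n2256 = n2828 := rfl
def n2829 : Q := act 1 n2257
theorem D2829 : act 1 n2257 = n2829 := rfl
def n2830 : Q := act 0 n2258
theorem D2830 : act 0 n2258 = n2830 := rfl
theorem F4956 : act 5 n2830 = n2261 := d4_2 (iv F4103) D2830 (iv D2261)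
def n2831 : Q := act 2 n2258
theorem D2831 : act 2 n2258 = n2831 := rfl
theorem F4957 : act 5 n2831 = n2262 := d13_2 (iv F4103) D2831 (iv D2262)
def n2832 : Q := act 6 n2258
theorem D2832 : act 6 n2258 = n2832 := rfl
def n2833 : Q := act 1 n2259
theorem D2833 : act 1 n2259 = n2833 := rfl
def n2834 : Q := act 1 n2260
theorem D2834 : act 1 n2260 = n2834 := rfl
theorem F4958 : act 5 n2834 = n2805 := d9_2 D2260 D2834 (iv D2805) (iv D2246) F3825
def n2835 : Q := act 1 n2261
theorem D2835 : act 1 n2261 = n2835 := rfl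
def n2836 : Q := act 2 n2261
theorem D2836 : act 2 n2261 = n2836 := rfl
theorem F4959 : act 0 n2836 = n2262 := d1_1 D2836 (iv D2262) D2261
def n2837 : Q := act 6 n2261
theorem D2837 : act 6 n2261 = n2837 := rfl
theorem F4960 : act 0 n2837 = n2263 := d5_1 D2837 (iv D2263) D2261
theorem F4961 : act 5 n2837 = n2832 := d22_2 F4956 D2837 (iv D2832) D2830
def n2838 : Q := act 3 n2262
theorem D2838 : act 3 n2262 = n2838 := rfl
theorem F4962 : act 1 n2838 = n2265 := d7_1 D2838 (iv D2265) (iv F4107)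
def n2839 : Q := act 6 n2262
theorem D2839 : act 6 n2262 = n2839 := rfl
theorem F4963 : act 2 n2839 = n2263 := d14_1 D2839 (iv D2263) D2262
def n2840 : Q := act 5 n2263
theorem D2840 : act 5 n2263 = n2840 := rfl
theorem F4964 : act 0 n2840 = n2832 := d4_1 D2840 (iv F4961) F4960
theorem F4965 : act 6 n2840 = n2830 := d20_2 D2263 D2840 F4956 D2837 F4961 (iv D2832) F4103
def n2841 : Q := act 1 n2264
theorem D2841 : act 1 n2264 = n2841 := rfl
def n2842 : Q := act 4 n2265
theorem D2842 : act 4 n2265 = n2842 := rfl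
def n2843 : Q := act 6 n2265
theorem D2843 : act 6 n2265 = n2843 := rfl
theorem F4966 : act 2 n2843 = n2358 := d14_1 D2843 (iv F4314) F4315
theorem F4967 : act 3 n2843 = n2266 := d17_1 D2843 (iv D2266) D2265
def n2844 : Q := act 1 n2266
theorem D2844 : act 1 n2266 = n2844 := rfl
theorem F4968 : act 2 n2844 = n2392 := d6_2 (iv F4110) D2844 (iv D2392) F3009 (iv F2410)
def n2845 : Q := act 0 n2267
theorem D2845 : act 0 n2267 = n2845 := rfl
theorem F4969 : act 4 n2845 = n2798 := d3_2 (iv F4111) D2845 (iv D2798)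
def n2846 : Q := act 2 n2267
theorem D2846 : act 2 n2267 = n2846 := rfl
theorem F4970 : act 1 n2846 = n2285 := d6_1 D2846 (iv D2285) (iv D1550) (iv F2476) D2267
theorem F4971 : act 4 n2846 = n2791 := d12_2 (iv F4111) D2846 F4906
def n2847 : Q := act 5 n2267
theorem D2847 : act 5 n2267 = n2847 := rfl
theorem F4972 : act 4 n2847 = n2799 := d18_1 D2847 (iv D2799) (iv F4111)
def n2848 : Q := act 6 n2267
theorem D2848 : act 6 n2267 = n2848 := rfl
theorem F4973 : act 4 n2848 = n2800 := d19_1 D2848 (iv D2800) (iv F4111)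
def n2849 : Q := act 5 n2268
theorem D2849 : act 5 n2268 = n2849 := rfl
theorem F4974 : act 0 n2849 = n2272 := d4_1 D2849 (iv D2272) (iv F4112)
theorem F4975 : act 2 n2849 = n2320 := d13_1 D2849 (iv D2320) (iv F4113)
theorem F4976 : act 3 n2849 = n2269 := d16_1 D2849 (iv D2269) D2268
def n2850 : Q := act 6 n2268
theorem D2850 : act 6 n2268 = n2850 := rfl
theorem F4977 : act 0 n2850 = n2273 := d5_1 D2850 (iv D2273) (iv F4112)
theorem F4978 : act 2 n2850 = n2321 := d14_1 D2850 (iv D2321) (iv F4113)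
theorem F4979 : act 3 n2850 = n2270 := d17_1 D2850 (iv D2270) D2268
def n2851 : Q := act 1 n2269
theorem D2851 : act 1 n2269 = n2851 := rfl
theorem F4980 : act 4 n2851 = n2772 := d8_2 (iv F4116) D2851 (iv D2772)
def n2852 : Q := act 1 n2270
theorem D2852 : act 1 n2270 = n2852 := rfl
theorem F4981 : act 4 n2852 = n2801 := d8_2 (iv F4119) D2852 (iv D2801)
def n2853 : Q := act 1 n2271
theorem D2853 : act 1 n2271 = n2853 := rfl
theorem F4982 : act 2 n2853 = n2277 := d6_2 D2271 D2853 (iv D2277) (iv D1528) (iv F2478)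
theorem F4983 : act 3 n2853 = n2316 := d7_2 (iv F4121) D2853 (iv D2316)
theorem F4984 : act 4 n2853 = n2813 := d8_2 F4261 D2853 F4931
theorem F4985 : act 0 n2316 = n2846 := d21_8 (iv D2846) F4357 (iv D2406) (iv D1991) (iv F3715) (iv F4134) (iv F4982) F4983
theorem F4986 : act 2 n2845 = n2316 := d21_0 (iv F4983) F4982 F4134 F3715 D1991 D2406 (iv F4357) D2845
theorem F4987 : act 1 n2361 = n2845 := d6_5 F4986 (iv D2316) F2841 D1851 D2361
theorem F4988 : act 0 n2344 = n2361 := d0_9 F4987 (iv D2845) (iv D2267) (iv D1524) (iv D777) (iv F3730) D922 D1822 D2344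
theorem F4989 : act 4 n2360 = n2361 := d8_0 F4987 F4969 F4913
theorem F4990 : act 2 n2344 = n2360 := d12_3 F4989 (iv D2361) (iv F4252)
def n2854 : Q := act 5 n2271
theorem D2854 : act 5 n2271 = n2854 := rfl
theorem F4991 : act 0 n2854 = n2320 := d4_1 D2854 (iv D2320) (iv F4120)
theorem F4992 : act 2 n2854 = n2272 := d13_1 D2854 (iv D2272) D2271
theorem F4993 : act 3 n2854 = n2317 := d16_1 D2854 (iv D2317) (iv F4121)
def n2855 : Q := act 6 n2271
theorem D2855 : act 6 n2271 = n2855 := rfl
theorem F4994 : act 0 n2855 = n2321 := d5_1 D2855 (iv D2321) (iv F4120)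
theorem F4995 : act 2 n2855 = n2273 := d14_1 D2855 (iv D2273) D2271
def n2856 : Q := act 1 n2272
theorem D2856 : act 1 n2272 = n2856 := rfl
theorem F4997 : act 3 n2856 = n2274 := d7_2 (iv F4122) D2856 (iv D2274)
theorem F4998 : act 5 n2856 = n2279 := d9_2 D2272 D2856 (iv D2279) (iv D1530) (iv F2478)
def n2857 : Q := act 6 n2272
theorem D2857 : act 6 n2272 = n2857 := rfl
theorem F4999 : act 3 n2857 = n2275 := d17_1 D2857 (iv D2275) (iv F4122)
theorem F5000 : act 5 n2857 = n2850 := d22_2 D2272 D2857 (iv D2850) F4112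
def n2858 : Q := act 5 n2273
theorem D2858 : act 5 n2273 = n2858 := rfl
theorem F5001 : act 0 n2858 = n2857 := d4_1 D2858 F5000 F4977
theorem F5002 : act 3 n2858 = n2276 := d16_1 D2858 (iv D2276) (iv F4123)
theorem F5003 : act 6 n2858 = n2849 := d20_2 D2273 D2858 (iv D2849) D2850 (iv F5000) (iv D2857) (iv D2272)
def n2859 : Q := act 0 n2274
theorem D2859 : act 0 n2274 = n2859 := rfl
theorem F5004 : act 2 n2859 = n2447 := d1_2 (iv F4124) D2859 (iv D2447)
theorem F5005 : act 4 n2859 = n2634 := d3_2 (iv F4125) D2859 F4719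
theorem F5006 : act 5 n2859 = n2280 := d4_2 (iv F4126) D2859 (iv D2280)
def n2860 : Q := act 6 n2274
theorem D2860 : act 6 n2274 = n2860 := rfl
theorem F5007 : act 2 n2860 = n2448 := d14_1 D2860 (iv D2448) (iv F4124)
theorem F5008 : act 4 n2860 = n2635 := d19_1 D2860 (iv D2635) (iv F4125)
def n2861 : Q := act 1 n2275
theorem D2861 : act 1 n2275 = n2861 := rfl
theorem F5009 : act 4 n2861 = n2773 := d8_2 (iv F4128) D2861 (iv D2773)
def n2862 : Q := act 1 n2276
theorem D2862 : act 1 n2276 = n2862 := rfl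
theorem F5010 : act 4 n2862 = n2805 := d8_2 (iv F4132) D2862 (iv D2805)
def n2863 : Q := act 0 n2277
theorem D2863 : act 0 n2277 = n2863 := rfl
theorem F5011 : act 3 n2863 = n2341 := d2_2 (iv F4134) D2863 (iv D2341)
theorem F5012 : act 4 n2863 = n2810 := d3_2 (iv F4135) D2863 F4922
def n2864 : Q := act 5 n2277
theorem D2864 : act 5 n2277 = n2864 := rfl
theorem F5013 : act 3 n2864 = n2342 := d16_1 D2864 (iv D2342) (iv F4134)
theorem F5014 : act 4 n2864 = n2814 := d18_1 D2864 (iv D2814) (iv F4135)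
def n2865 : Q := act 6 n2277
theorem D2865 : act 6 n2277 = n2865 := rfl
theorem F5015 : act 1 n2865 = n2350 := d10_1 D2865 (iv D2350) F2954 (iv F3735) D2277
theorem F5016 : act 3 n2865 = n2343 := d17_1 D2865 (iv D2343) (iv F4134)
def n2866 : Q := act 1 n2278
theorem D2866 : act 1 n2278 = n2866 := rfl
theorem F5018 : act 3 n2866 = n2282 := d7_2 (iv F4138) D2866 (iv D2282)
theorem F5019 : act 4 n2866 = n2819 := d8_2 (iv F4139) D2866 (iv D2819)
def n2867 : Q := act 0 n2279
theorem D2867 : act 0 n2279 = n2867 := rfl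
theorem F5020 : act 3 n2867 = n2280 := d2_2 (iv F4141) D2867 (iv D2280)
def n2868 : Q := act 2 n2279
theorem D2868 : act 2 n2279 = n2868 := rfl
def n2869 : Q := act 6 n2279
theorem D2869 : act 6 n2279 = n2869 := rfl
theorem F5021 : act 3 n2869 = n2281 := d17_1 D2869 (iv D2281) (iv F4141)
def n2870 : Q := act 1 n2280
theorem D2870 : act 1 n2280 = n2870 := rfl
theorem F5022 : act 4 n2870 = n2677 := d8_2 (iv F4143) D2870 (iv D2677)
def n2871 : Q := act 6 n2280
theorem D2871 : act 6 n2280 = n2871 := rfl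
theorem F5023 : act 0 n2871 = n2281 := d5_1 D2871 (iv D2281) D2280
theorem F5024 : act 2 n2871 = n2475 := d14_1 D2871 (iv D2475) (iv F4142)
theorem F5025 : act 4 n2871 = n2678 := d19_1 D2871 (iv D2678) (iv F4143)
theorem F5026 : act 5 n2871 = n2860 := d22_2 F5006 D2871 (iv D2860) D2859
def n2872 : Q := act 1 n2281
theorem D2872 : act 1 n2281 = n2872 := rfl
theorem F5027 : act 4 n2872 = n2385 := d8_2 (iv F4145) D2872 F4308
theorem F5028 : act 6 n2872 = n2282 := d10_2 D2281 D2872 (iv D2282) (iv D1533) D1532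
def n2873 : Q := act 5 n2281
theorem D2873 : act 5 n2281 = n2873 := rfl
theorem F5029 : act 0 n2873 = n2860 := d4_1 D2873 (iv F5026) F5023
theorem F5030 : act 2 n2873 = n2477 := d13_1 D2873 (iv D2477) (iv F4144)
theorem F5031 : act 4 n2873 = n2680 := d18_1 D2873 (iv D2680) (iv F4145)
theorem F5032 : act 6 n2873 = n2859 := d20_2 D2281 D2873 F5006 D2871 F5026 (iv D2860) F4126
def n2874 : Q := act 0 n2282
theorem D2874 : act 0 n2282 = n2874 := rfl
theorem F5033 : act 4 n2874 = n2383 := d3_2 (iv F4146) D2874 (iv D2383)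
def n2875 : Q := act 2 n2282
theorem D2875 : act 2 n2282 = n2875 := rfl
theorem F5034 : act 1 n2875 = n2283 := d6_1 D2875 (iv D2283) (iv D1536) (iv F2490) D2282
theorem F5035 : act 4 n2875 = n2384 := d12_2 (iv F4146) D2875 (iv D2384)
def n2876 : Q := act 5 n2282
theorem D2876 : act 5 n2282 = n2876 := rfl
theorem F5036 : act 1 n2876 = n2342 := d9_1 D2876 (iv D2342) (iv D1809) (iv F3713) D2282
theorem F5037 : act 4 n2876 = n2381 := d18_1 D2876 F4301 (iv F4146)
def n2877 : Q := act 3 n2283
theorem D2877 : act 3 n2283 = n2877 := rfl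
theorem F5038 : act 5 n2877 = n2424 := d16_2 (iv F4148) D2877 (iv D2424)
theorem F5039 : act 6 n2877 = n2489 := d17_2 (iv F4149) D2877 (iv D2489)
theorem F5040 : act 2 n2877 = n2424 := d21_2 D2283 D2877 (iv D2424) (iv D2000) F1593 D1015 D2007 (iv F3716)
def n2878 : Q := act 2 n2284
theorem D2878 : act 2 n2284 = n2878 := rfl
theorem F5041 : act 0 n2878 = n2285 := d1_1 D2878 (iv D2285) D2284
theorem F5042 : act 4 n2878 = n2788 := d12_2 (iv F4152) D2878 (iv D2788)
theorem F5043 : act 1 n2297 = n2878 := d0_0 F5041 (iv F4970) (iv F4985) (iv D2316) (iv D1739) (iv D885) (iv F1364) D1692 D2297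
theorem F5044 : act 3 n2878 = n2438 := d7_2 F4435 F5043 (iv F4936)
theorem F5045 : act 3 n2611 = n2285 := d2_2 F5044 (iv F4683) (iv F5041)
theorem F5046 : act 3 n2598 = n2788 := d15_5 (iv F5042) F5044 (iv D2438) (iv F3948) D2598
theorem E1558 : n2614 = n2240 := (c21_6 D2878 F5044 F4409 F3290 (iv F3956) D2614 (iv D2240) (iv F2527) D2284)
theorem E1559 : n2792 = n2149 := ((D2792).symm.trans (sb E1558 (iv D2614)))
theorem F5047 : act 3 n2149 = n2240 := (sb E1559 (iv D2792))
theorem F5048 : act 3 n2791 = n2533 := d7_2 F5047 D2791 F4590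
theorem F5049 : act 3 n2793 = n2615 := d16_3 (iv D2615) F5047 D2793
theorem F5050 : act 3 n2794 = n2616 := d17_3 (iv D2616) F5047 D2794
def n2879 : Q := act 5 n2284
theorem D2879 : act 5 n2284 = n2879 := rfl
theorem F5051 : act 0 n2879 = n2286 := d4_1 D2879 (iv D2286) D2284
theorem F5052 : act 3 n2879 = n2789 := d16_1 D2879 (iv D2789) (iv F4151)
theorem F5053 : act 4 n2879 = n2789 := d18_1 D2879 (iv D2789) (iv F4152)
def n2880 : Q := act 6 n2284
theorem D2880 : act 6 n2284 = n2880 := rfl
theorem F5054 : act 0 n2880 = n2287 := d5_1 D2880 (iv D2287) D2284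
def n2881 : Q := act 5 n2285
theorem D2881 : act 5 n2285 = n2881 := rfl
theorem F5057 : act 2 n2881 = n2286 := d13_1 D2881 (iv D2286) D2285
theorem F5058 : act 4 n2881 = n2793 := d18_1 D2881 (iv D2793) (iv F4153)
def n2882 : Q := act 6 n2285
theorem D2882 : act 6 n2285 = n2882 := rfl
theorem F5059 : act 2 n2882 = n2287 := d14_1 D2882 (iv D2287) D2285
theorem F5060 : act 4 n2882 = n2794 := d19_1 D2882 (iv D2794) (iv F4153)
def n2883 : Q := act 1 n2286
theorem D2883 : act 1 n2286 = n2883 := rfl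
theorem F5061 : act 3 n2883 = n2770 := d7_2 (iv F4154) D2883 F4886
theorem F5062 : act 4 n2883 = n2770 := d8_2 (iv F4155) D2883 F4886
theorem F5063 : act 5 n2883 = n2288 := d9_2 D2286 D2883 (iv D2288) (iv D1551) D1550
def n2884 : Q := act 6 n2286
theorem D2884 : act 6 n2286 = n2884 := rfl
theorem F5064 : act 3 n2884 = n2795 := d17_1 D2884 (iv D2795) (iv F4154)
theorem F5065 : act 4 n2884 = n2795 := d19_1 D2884 (iv D2795) (iv F4155)
theorem F5066 : act 5 n2884 = n2880 := d22_2 D2286 D2884 (iv D2880) (iv D2284)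
def n2885 : Q := act 1 n2287
theorem D2885 : act 1 n2287 = n2885 := rfl
theorem F5067 : act 3 n2885 = n2796 := d7_2 (iv F4156) D2885 (iv D2796)
theorem F5068 : act 4 n2885 = n2796 := d8_2 (iv F4157) D2885 (iv D2796)
theorem F5069 : act 6 n2885 = n2289 := d10_2 D2287 D2885 (iv D2289) (iv D1552) D1550
def n2886 : Q := act 5 n2287
theorem D2886 : act 5 n2287 = n2886 := rfl
theorem F5071 : act 3 n2886 = n2797 := d16_1 D2886 (iv D2797) (iv F4156)
theorem F5073 : act 6 n2886 = n2879 := d20_2 D2287 D2886 (iv D2879) D2880 (iv F5066) (iv D2884) (iv D2286)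
def n2887 : Q := act 0 n2288
theorem D2887 : act 0 n2288 = n2887 := rfl
theorem F5074 : act 3 n2887 = n2768 := d2_2 (iv F4158) D2887 (iv D2768)
theorem F5075 : act 4 n2887 = n2768 := d3_2 (iv F4159) D2887 (iv D2768)
def n2888 : Q := act 2 n2288
theorem D2888 : act 2 n2288 = n2888 := rfl
theorem F5076 : act 4 n2888 = n2769 := d12_2 (iv F4159) D2888 (iv D2769)
def n2889 : Q := act 6 n2288
theorem D2889 : act 6 n2288 = n2889 := rfl
theorem F5077 : act 3 n2889 = n2771 := d17_1 D2889 (iv D2771) (iv F4158)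
theorem F5078 : act 4 n2889 = n2771 := d19_1 D2889 (iv D2771) (iv F4159)
def n2890 : Q := act 0 n2289
theorem D2890 : act 0 n2289 = n2890 := rfl
theorem F5079 : act 3 n2890 = n2802 := d2_2 (iv F4160) D2890 (iv D2802)
theorem F5080 : act 4 n2890 = n2802 := d3_2 (iv F4161) D2890 (iv D2802)
def n2891 : Q := act 2 n2289
theorem D2891 : act 2 n2289 = n2891 := rfl
def n2892 : Q := act 5 n2289
theorem D2892 : act 5 n2289 = n2892 := rfl
theorem F5083 : act 4 n2892 = n2804 := d18_1 D2892 (iv D2804) (iv F4161)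
def n2893 : Q := act 0 n2290
theorem D2893 : act 0 n2290 = n2893 := rfl
theorem F5084 : act 3 n2893 = n2774 := d2_2 (iv F4162) D2893 (iv D2774)
theorem F5085 : act 4 n2893 = n2774 := d3_2 (iv F4163) D2893 (iv D2774)
theorem F5086 : act 6 n2893 = n2515 := d5_2 (iv F4164) D2893 (iv D2515)
def n2894 : Q := act 2 n2290
theorem D2894 : act 2 n2290 = n2894 := rfl
theorem F5087 : act 4 n2894 = n2775 := d12_2 (iv F4163) D2894 (iv D2775)
theorem F5088 : act 6 n2894 = n2516 := d14_2 (iv F4164) D2894 (iv D2516)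
def n2895 : Q := act 5 n2290
theorem D2895 : act 5 n2290 = n2895 := rfl
theorem F5089 : act 1 n2895 = n2892 := d9_1 D2895 (iv D2892) (iv D2289) (iv F2537) D2290
def n2896 : Q := act 0 n2291
theorem D2896 : act 0 n2291 = n2896 := rfl
theorem F5092 : act 3 n2896 = n2806 := d2_2 (iv F4165) D2896 (iv D2806)
theorem F5093 : act 4 n2896 = n2806 := d3_2 (iv F4166) D2896 (iv D2806)
theorem F5094 : act 5 n2896 = n2806 := d4_2 (iv F4167) D2896 (iv D2806)
def n2897 : Q := act 2 n2291
theorem D2897 : act 2 n2291 = n2897 := rfl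
theorem F5095 : act 4 n2897 = n2807 := d12_2 (iv F4166) D2897 (iv D2807)
theorem F5096 : act 5 n2897 = n2807 := d13_2 (iv F4167) D2897 (iv D2807)
def n2898 : Q := act 6 n2291
theorem D2898 : act 6 n2291 = n2898 := rfl
theorem F5097 : act 1 n2898 = n2889 := d10_1 D2898 (iv D2889) (iv D2288) (iv F2541) D2291
theorem F5098 : act 3 n2898 = n2808 := d17_1 D2898 (iv D2808) (iv F4165)
theorem F5099 : act 4 n2898 = n2808 := d19_1 D2898 (iv D2808) (iv F4166)
def n2899 : Q := act 0 n2292
theorem D2899 : act 0 n2292 = n2899 := rfl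
theorem F5100 : act 2 n2899 = n2297 := d1_2 (iv F4168) D2899 (iv D2297)
theorem F5101 : act 4 n2899 = n2297 := d3_2 (iv F4169) D2899 (iv D2297)
theorem F5102 : act 1 n2788 = n2899 := d8_3 F5101 F5043 F5042
def n2900 : Q := act 3 n2292
theorem D2900 : act 3 n2292 = n2900 := rfl
theorem F5103 : act 1 n2900 = n2293 := d7_1 D2900 (iv D2293) D2292
def n2901 : Q := act 5 n2292
theorem D2901 : act 5 n2292 = n2901 := rfl
theorem F5104 : act 2 n2901 = n2298 := d13_1 D2901 (iv D2298) (iv F4168)
theorem F5105 : act 4 n2901 = n2298 := d18_1 D2901 (iv D2298) (iv F4169)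
def n2902 : Q := act 6 n2292
theorem D2902 : act 6 n2292 = n2902 := rfl
def n2903 : Q := act 5 n2293
theorem D2903 : act 5 n2293 = n2903 := rfl
theorem F5108 : act 0 n2903 = n2309 := d4_1 D2903 (iv D2309) (iv F4170)
theorem F5109 : act 2 n2903 = n2903 := d13_1 D2903 (iv D2903) F4171
theorem F5110 : act 3 n2903 = n2294 := d16_1 D2903 (iv D2294) D2293
def n2904 : Q := act 6 n2293
theorem D2904 : act 6 n2293 = n2904 := rfl
theorem F5111 : act 0 n2904 = n2310 := d5_1 D2904 (iv D2310) (iv F4170)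
theorem F5112 : act 2 n2904 = n2904 := d14_1 D2904 (iv D2904) F4171
theorem F5113 : act 3 n2904 = n2295 := d17_1 D2904 (iv D2295) D2293
def n2905 : Q := act 1 n2294
theorem D2905 : act 1 n2294 = n2905 := rfl
theorem F5114 : act 2 n2905 = n2841 := d6_2 (iv F4173) D2905 (iv D2841) (iv D2264) F3866
theorem F5115 : act 4 n2905 = n2300 := d8_2 (iv F4174) D2905 (iv D2300)
def n2906 : Q := act 1 n2295
theorem D2906 : act 1 n2295 = n2906 := rfl
theorem F5116 : act 4 n2906 = n2301 := d8_2 (iv F4177) D2906 (iv D2301)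
def n2907 : Q := act 2 n2296
theorem D2907 : act 2 n2296 = n2907 := rfl
theorem F5118 : act 4 n2907 = n2303 := d12_2 (iv F4180) D2907 (iv D2303)
def n2908 : Q := act 5 n2297
theorem D2908 : act 5 n2297 = n2908 := rfl
theorem F5121 : act 0 n2908 = n2298 := d4_1 D2908 (iv D2298) D2297
def n2909 : Q := act 6 n2297
theorem D2909 : act 6 n2297 = n2909 := rfl
theorem F5122 : act 0 n2909 = n2299 := d5_1 D2909 (iv D2299) D2297
def n2910 : Q := act 1 n2298
theorem D2910 : act 1 n2298 = n2910 := rfl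
theorem F5123 : act 5 n2910 = n2300 := d9_2 D2298 D2910 (iv D2300) (iv D1693) D1692
def n2911 : Q := act 6 n2298
theorem D2911 : act 6 n2298 = n2911 := rfl
theorem F5124 : act 5 n2911 = n2909 := d22_2 D2298 D2911 (iv D2909) (iv D2297)
def n2912 : Q := act 1 n2299
theorem D2912 : act 1 n2299 = n2912 := rfl
theorem F5125 : act 6 n2912 = n2301 := d10_2 D2299 D2912 (iv D2301) (iv D1694) D1692
def n2913 : Q := act 5 n2299
theorem D2913 : act 5 n2299 = n2913 := rfl
def n2914 : Q := act 0 n2300
theorem D2914 : act 0 n2300 = n2914 := rfl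
def n2915 : Q := act 2 n2300
theorem D2915 : act 2 n2300 = n2915 := rfl
theorem F5128 : act 1 n2915 = n2302 := d6_1 D2915 (iv D2302) (iv D1695) (iv F2766) D2300
theorem F5129 : act 4 n2915 = n2841 := d12_2 F5115 D2915 (iv F5114)
def n2916 : Q := act 6 n2300
theorem D2916 : act 6 n2300 = n2916 := rfl
def n2917 : Q := act 0 n2301
theorem D2917 : act 0 n2301 = n2917 := rfl
def n2918 : Q := act 2 n2301
theorem D2918 : act 2 n2301 = n2918 := rfl
theorem F5130 : act 1 n2918 = n2303 := d6_1 D2918 (iv D2303) (iv D1696) (iv F2768) D2301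
def n2919 : Q := act 5 n2301
theorem D2919 : act 5 n2301 = n2919 := rfl
def n2920 : Q := act 3 n2302
theorem D2920 : act 3 n2302 = n2920 := rfl
theorem F5132 : act 5 n2920 = n2389 := d16_2 (iv F4185) D2920 F4317
theorem F5133 : act 2 n2920 = n2340 := d21_2 D2302 D2920 (iv D2340) (iv D1751) F1423 (iv F1145) (iv F2370) F3869
def n2922 : Q := act 1 n2304
theorem D2922 : act 1 n2304 = n2922 := rfl
theorem F5135 : act 0 n2922 = n2791 := d0_1 D2922 (iv D2791) (iv F4903) F5102 (iv D2899) (iv D2292) F3725 D1711 D2304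
theorem F5136 : act 2 n2922 = n2798 := d6_2 (iv F4187) D2922 F4913 (iv F4990) (iv D2344)
theorem F5137 : act 4 n2922 = n2316 := d8_2 (iv F4188) D2922 (iv D2316)
def n2923 : Q := act 3 n2304
theorem D2923 : act 3 n2304 = n2923 := rfl
theorem F5138 : act 0 n2923 = n2305 := d2_1 D2923 (iv D2305) D2304
def n2924 : Q := act 5 n2304
theorem D2924 : act 5 n2304 = n2924 := rfl
theorem F5139 : act 0 n2924 = n2306 := d4_1 D2924 (iv D2306) D2304
theorem F5140 : act 2 n2924 = n2346 := d13_1 D2924 (iv D2346) (iv F4187)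
theorem F5141 : act 4 n2924 = n2317 := d18_1 D2924 (iv D2317) (iv F4188)
def n2925 : Q := act 6 n2304
theorem D2925 : act 6 n2304 = n2925 := rfl
theorem F5142 : act 0 n2925 = n2307 := d5_1 D2925 (iv D2307) D2304
theorem F5143 : act 2 n2925 = n2347 := d14_1 D2925 (iv D2347) (iv F4187)
theorem F5144 : act 4 n2925 = n2318 := d19_1 D2925 (iv D2318) (iv F4188)
def n2926 : Q := act 2 n2305
theorem D2926 : act 2 n2305 = n2926 := rfl
theorem F5145 : act 1 n2926 = n2926 := d6_1 D2926 (iv D2926) F4189 F2796 (iv F4189)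
def n2927 : Q := act 4 n2305
theorem D2927 : act 4 n2305 = n2927 := rfl
theorem F5146 : act 1 n2927 = n2308 := d8_1 D2927 (iv D2308) (iv F4189)
theorem F5147 : act 3 n2927 = n2319 := d15_1 D2927 (iv D2319) (iv D1740) (iv F2795) D2305
def n2928 : Q := act 5 n2305
theorem D2928 : act 5 n2305 = n2928 := rfl
theorem F5148 : act 3 n2928 = n2306 := d16_1 D2928 (iv D2306) D2305
def n2929 : Q := act 6 n2305
theorem D2929 : act 6 n2305 = n2929 := rfl
theorem F5149 : act 3 n2929 = n2307 := d17_1 D2929 (iv D2307) D2305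
def n2930 : Q := act 1 n2306
theorem D2930 : act 1 n2306 = n2930 := rfl
theorem F5150 : act 4 n2930 = n2322 := d8_2 (iv F4191) D2930 (iv D2322)
theorem F5151 : act 5 n2930 = n2311 := d9_2 D2306 D2930 (iv D2311) (iv D1713) D1711
def n2931 : Q := act 6 n2306
theorem D2931 : act 6 n2306 = n2931 := rfl
theorem F5152 : act 2 n2931 = n2352 := d14_1 D2931 (iv D2352) (iv F4190)
theorem F5154 : act 5 n2931 = n2925 := d22_2 D2306 D2931 (iv D2925) (iv D2304)
def n2932 : Q := act 1 n2307
theorem D2932 : act 1 n2307 = n2932 := rfl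
theorem F5155 : act 2 n2932 = n2412 := d6_2 (iv F4192) D2932 (iv D2412) (iv F4250) F4249
theorem F5156 : act 4 n2932 = n2324 := d8_2 (iv F4193) D2932 (iv D2324)
theorem F5157 : act 6 n2932 = n2313 := d10_2 D2307 D2932 (iv D2313) (iv D1714) D1711
def n2933 : Q := act 5 n2307
theorem D2933 : act 5 n2307 = n2933 := rfl
theorem F5159 : act 2 n2933 = n2353 := d13_1 D2933 (iv D2353) (iv F4192)
theorem F5160 : act 4 n2933 = n2325 := d18_1 D2933 (iv D2325) (iv F4193)
theorem F5161 : act 6 n2933 = n2924 := d20_2 D2307 D2933 (iv D2924) D2925 (iv F5154) (iv D2931) (iv D2306)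
def n2934 : Q := act 5 n2308
theorem D2934 : act 5 n2308 = n2934 := rfl
theorem F5162 : act 2 n2934 = n2934 := d13_1 D2934 (iv D2934) F4194
theorem F5163 : act 3 n2934 = n2326 := d16_1 D2934 (iv D2326) (iv F4195)
theorem F5164 : act 4 n2934 = n2309 := d18_1 D2934 (iv D2309) D2308
def n2935 : Q := act 6 n2308
theorem D2935 : act 6 n2308 = n2935 := rfl
theorem F5166 : act 3 n2935 = n2327 := d17_1 D2935 (iv D2327) (iv F4195)
theorem F5167 : act 4 n2935 = n2310 := d19_1 D2935 (iv D2310) D2308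
def n2936 : Q := act 1 n2309
theorem D2936 : act 1 n2309 = n2936 := rfl
theorem F5168 : act 3 n2936 = n2311 := d7_2 (iv F4197) D2936 (iv D2311)
def n2937 : Q := act 6 n2309
theorem D2937 : act 6 n2309 = n2937 := rfl
theorem F5169 : act 2 n2937 = n2937 := d14_1 D2937 (iv D2937) F4196
theorem F5170 : act 3 n2937 = n2312 := d17_1 D2937 (iv D2312) (iv F4197)
theorem F5171 : act 5 n2937 = n2904 := d22_2 D2309 D2937 (iv D2904) F4170
def n2938 : Q := act 1 n2310
theorem D2938 : act 1 n2310 = n2938 := rfl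
theorem F5172 : act 3 n2938 = n2313 := d7_2 (iv F4199) D2938 (iv D2313)
def n2939 : Q := act 5 n2310
theorem D2939 : act 5 n2310 = n2939 := rfl
theorem F5173 : act 0 n2939 = n2937 := d4_1 D2939 F5171 F5111
theorem F5174 : act 2 n2939 = n2939 := d13_1 D2939 (iv D2939) F4198
theorem F5175 : act 3 n2939 = n2314 := d16_1 D2939 (iv D2314) (iv F4199)
theorem F5176 : act 6 n2939 = n2903 := d20_2 D2310 D2939 (iv D2903) D2904 (iv F5171) (iv D2937) (iv D2309)
def n2940 : Q := act 0 n2311
theorem D2940 : act 0 n2311 = n2940 := rfl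
theorem F5177 : act 4 n2940 = n2332 := d3_2 (iv F4200) D2940 (iv D2332)
def n2941 : Q := act 2 n2311
theorem D2941 : act 2 n2311 = n2941 := rfl
theorem F5178 : act 1 n2941 = n2315 := d6_1 D2941 (iv D2315) (iv D1715) (iv F2797) D2311
theorem F5179 : act 4 n2941 = n2333 := d12_2 (iv F4200) D2941 (iv D2333)
def n2942 : Q := act 6 n2311
theorem D2942 : act 6 n2311 = n2942 := rfl
theorem F5180 : act 4 n2942 = n2334 := d19_1 D2942 (iv D2334) (iv F4200)
def n2943 : Q := act 1 n2312
theorem D2943 : act 1 n2312 = n2943 := rfl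
theorem F5181 : act 2 n2943 = n2335 := d6_2 (iv F4201) D2943 (iv D2335) F2847 (iv F3792)
theorem F5182 : act 4 n2943 = n2335 := d8_2 (iv F4202) D2943 (iv D2335)
def n2944 : Q := act 0 n2313
theorem D2944 : act 0 n2313 = n2944 := rfl
theorem F5183 : act 2 n2944 = n2421 := d1_2 (iv F4204) D2944 (iv D2421)
theorem F5184 : act 4 n2944 = n2336 := d3_2 (iv F4205) D2944 (iv D2336)
def n2945 : Q := act 5 n2313
theorem D2945 : act 5 n2313 = n2945 := rfl
theorem F5185 : act 2 n2945 = n2422 := d13_1 D2945 (iv D2422) (iv F4204)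
theorem F5186 : act 4 n2945 = n2337 := d18_1 D2945 (iv D2337) (iv F4205)
def n2946 : Q := act 1 n2314
theorem D2946 : act 1 n2314 = n2946 := rfl
theorem F5187 : act 4 n2946 = n2338 := d8_2 (iv F4208) D2946 (iv D2338)
def n2947 : Q := act 3 n2315
theorem D2947 : act 3 n2315 = n2947 := rfl
theorem F5188 : act 5 n2947 = n2358 := d16_2 (iv F4211) D2947 (iv D2358)
theorem F5189 : act 6 n2947 = n2340 := d17_2 (iv F4212) D2947 (iv D2340)
def n2948 : Q := act 5 n2316
theorem D2948 : act 5 n2316 = n2948 := rfl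
def n2949 : Q := act 6 n2316
theorem D2949 : act 6 n2316 = n2949 := rfl
def n2950 : Q := act 1 n2317
theorem D2950 : act 1 n2317 = n2950 := rfl
def n2951 : Q := act 1 n2318
theorem D2951 : act 1 n2318 = n2951 := rfl
def n2952 : Q := act 5 n2319
theorem D2952 : act 5 n2319 = n2952 := rfl
theorem F5190 : act 4 n2952 = n2320 := d18_1 D2952 (iv D2320) D2319
def n2953 : Q := act 6 n2319
theorem D2953 : act 6 n2319 = n2953 := rfl
theorem F5191 : act 4 n2953 = n2321 := d19_1 D2953 (iv D2321) D2319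
def n2954 : Q := act 1 n2320
theorem D2954 : act 1 n2320 = n2954 := rfl
theorem F5192 : act 3 n2954 = n2322 := d7_2 (iv F4218) D2954 (iv D2322)
theorem F5193 : act 5 n2954 = n2328 := d9_2 D2320 D2954 (iv D2328) (iv D1744) (iv F2842)
def n2955 : Q := act 6 n2320
theorem D2955 : act 6 n2320 = n2955 := rfl
theorem F5194 : act 2 n2955 = n2858 := d14_1 D2955 F5003 F4975
theorem F5196 : act 5 n2955 = n2855 := d22_2 D2320 D2955 (iv D2855) F4120
def n2956 : Q := act 1 n2321
theorem D2956 : act 1 n2321 = n2956 := rfl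
theorem F5197 : act 3 n2956 = n2324 := d7_2 (iv F4219) D2956 (iv D2324)
theorem F5198 : act 6 n2956 = n2330 := d10_2 D2321 D2956 (iv D2330) (iv D1745) (iv F2842)
def n2957 : Q := act 5 n2321
theorem D2957 : act 5 n2321 = n2957 := rfl
theorem F5200 : act 2 n2957 = n2857 := d13_1 D2957 F5000 F4978
theorem F5201 : act 3 n2957 = n2325 := d16_1 D2957 (iv D2325) (iv F4219)
theorem F5202 : act 6 n2957 = n2854 := d20_2 D2321 D2957 (iv D2854) D2855 (iv F5196) (iv D2955) (iv D2320)
def n2958 : Q := act 0 n2322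
theorem D2958 : act 0 n2322 = n2958 := rfl
theorem F5203 : act 5 n2958 = n2332 := d4_2 (iv F4220) D2958 (iv D2332)
def n2959 : Q := act 2 n2322
theorem D2959 : act 2 n2322 = n2959 := rfl
theorem F5204 : act 1 n2959 = n2367 := d6_1 D2959 (iv D2367) (iv D1854) (iv F2843) D2322
theorem F5205 : act 5 n2959 = n2333 := d13_2 (iv F4220) D2959 (iv D2333)
def n2960 : Q := act 6 n2322
theorem D2960 : act 6 n2322 = n2960 := rfl
def n2961 : Q := act 1 n2323
theorem D2961 : act 1 n2323 = n2961 := rfl
def n2962 : Q := act 0 n2324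
theorem D2962 : act 0 n2324 = n2962 := rfl
theorem F5206 : act 2 n2962 = n2546 := d1_2 (iv F4223) D2962 (iv D2546)
theorem F5207 : act 6 n2962 = n2336 := d5_2 (iv F4224) D2962 (iv D2336)
def n2963 : Q := act 5 n2324
theorem D2963 : act 5 n2324 = n2963 := rfl
theorem F5208 : act 2 n2963 = n2547 := d13_1 D2963 (iv D2547) (iv F4223)
def n2964 : Q := act 1 n2325
theorem D2964 : act 1 n2325 = n2964 := rfl
def n2965 : Q := act 1 n2326
theorem D2965 : act 1 n2326 = n2965 := rfl
theorem F5209 : act 4 n2965 = n2328 := d8_2 (iv F4228) D2965 (iv D2328)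
def n2966 : Q := act 6 n2326
theorem D2966 : act 6 n2326 = n2966 := rfl
theorem F5210 : act 2 n2966 = n2465 := d14_1 D2966 F4460 F4372
theorem F5211 : act 4 n2966 = n2329 := d19_1 D2966 (iv D2329) (iv F4228)
theorem F5212 : act 5 n2966 = n2459 := d22_2 D2326 D2966 (iv D2459) F3306
def n2967 : Q := act 1 n2327
theorem D2967 : act 1 n2327 = n2967 := rfl
theorem F5213 : act 4 n2967 = n2330 := d8_2 (iv F4229) D2967 (iv D2330)
def n2968 : Q := act 5 n2327
theorem D2968 : act 5 n2327 = n2968 := rfl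
theorem F5215 : act 2 n2968 = n2463 := d13_1 D2968 F4454 F4376
theorem F5216 : act 4 n2968 = n2331 := d18_1 D2968 (iv D2331) (iv F4229)
theorem F5217 : act 6 n2968 = n2458 := d20_2 D2327 D2968 (iv D2458) D2459 (iv F5212) (iv D2966) (iv D2326)
def n2969 : Q := act 0 n2328
theorem D2969 : act 0 n2328 = n2969 := rfl
theorem F5218 : act 3 n2969 = n2332 := d2_2 (iv F4230) D2969 (iv D2332)
def n2970 : Q := act 2 n2328
theorem D2970 : act 2 n2328 = n2970 := rfl
def n2971 : Q := act 6 n2328
theorem D2971 : act 6 n2328 = n2971 := rfl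
theorem F5219 : act 3 n2971 = n2334 := d17_1 D2971 (iv D2334) (iv F4230)
def n2972 : Q := act 1 n2329
theorem D2972 : act 1 n2329 = n2972 := rfl
theorem F5220 : act 3 n2972 = n2335 := d7_2 (iv F4232) D2972 (iv D2335)
def n2973 : Q := act 0 n2330
theorem D2973 : act 0 n2330 = n2973 := rfl
theorem F5221 : act 3 n2973 = n2336 := d2_2 (iv F4234) D2973 (iv D2336)
def n2974 : Q := act 2 n2330
theorem D2974 : act 2 n2330 = n2974 := rfl
def n2975 : Q := act 5 n2330
theorem D2975 : act 5 n2330 = n2975 := rfl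
theorem F5222 : act 3 n2975 = n2337 := d16_1 D2975 (iv D2337) (iv F4234)
def n2976 : Q := act 1 n2331
theorem D2976 : act 1 n2331 = n2976 := rfl
theorem F5223 : act 3 n2976 = n2338 := d7_2 (iv F4237) D2976 (iv D2338)
def n2977 : Q := act 1 n2332
theorem D2977 : act 1 n2332 = n2977 := rfl
def n2978 : Q := act 2 n2332
theorem D2978 : act 2 n2332 = n2978 := rfl
theorem F5224 : act 0 n2978 = n2333 := d1_1 D2978 (iv D2333) D2332
def n2979 : Q := act 6 n2332
theorem D2979 : act 6 n2332 = n2979 := rfl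
theorem F5225 : act 0 n2979 = n2334 := d5_1 D2979 (iv D2334) D2332
theorem F5226 : act 5 n2979 = n2960 := d22_2 F5203 D2979 (iv D2960) D2958
def n2980 : Q := act 3 n2333
theorem D2980 : act 3 n2333 = n2980 := rfl
theorem F5227 : act 1 n2980 = n2340 := d7_1 D2980 (iv D2340) (iv F4239)
def n2981 : Q := act 6 n2333
theorem D2981 : act 6 n2333 = n2981 := rfl
theorem F5228 : act 2 n2981 = n2334 := d14_1 D2981 (iv D2334) D2333
def n2982 : Q := act 1 n2334
theorem D2982 : act 1 n2334 = n2982 := rfl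
theorem F5229 : act 6 n2982 = n2335 := d10_2 D2334 D2982 (iv D2335) (iv D1747) D1746
def n2983 : Q := act 5 n2334
theorem D2983 : act 5 n2334 = n2983 := rfl
theorem F5230 : act 0 n2983 = n2960 := d4_1 D2983 (iv F5226) F5225
theorem F5231 : act 6 n2983 = n2958 := d20_2 D2334 D2983 F5203 D2979 F5226 (iv D2960) F4220
def n2984 : Q := act 0 n2335
theorem D2984 : act 0 n2335 = n2984 := rfl
def n2985 : Q := act 5 n2335
theorem D2985 : act 5 n2335 = n2985 := rfl
theorem F5232 : act 1 n2985 = n2919 := d9_1 D2985 (iv D2919) (iv D2301) (iv F2848) D2335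
def n2986 : Q := act 1 n2336
theorem D2986 : act 1 n2336 = n2986 := rfl
def n2987 : Q := act 5 n2336
theorem D2987 : act 5 n2336 = n2987 := rfl
theorem F5233 : act 0 n2987 = n2337 := d4_1 D2987 (iv D2337) D2336
theorem F5234 : act 2 n2987 = n2564 := d13_1 D2987 (iv D2564) (iv F4240)
theorem F5235 : act 6 n2987 = n2963 := d22_1 D2987 (iv D2963) F4224 D2336
def n2988 : Q := act 1 n2337
theorem D2988 : act 1 n2337 = n2988 := rfl
theorem F5236 : act 5 n2988 = n2338 := d9_2 D2337 D2988 (iv D2338) (iv D1749) D1748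
def n2989 : Q := act 6 n2337
theorem D2989 : act 6 n2337 = n2989 := rfl
theorem F5239 : act 5 n2989 = n2962 := d20_1 D2989 F5207 D2987 F5235 (iv D2963) F4224 D2337
def n2990 : Q := act 0 n2338
theorem D2990 : act 0 n2338 = n2990 := rfl
def n2991 : Q := act 6 n2338
theorem D2991 : act 6 n2338 = n2991 := rfl
theorem F5240 : act 1 n2991 = n2916 := d10_1 D2991 (iv D2916) (iv D2300) (iv F2851) D2338
def n2992 : Q := act 1 n2339
theorem D2992 : act 1 n2339 = n2992 := rfl
def n2993 : Q := act 3 n2339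
theorem D2993 : act 3 n2339 = n2993 := rfl
theorem F5241 : act 0 n2993 = n2340 := d2_1 D2993 (iv D2340) (iv F4242)
theorem F5242 : act 2 n2993 = n2823 := d11_1 D2993 (iv D2823) (iv D2254) F2370 F1145 (iv F1423) D1751 D2340 (iv F5133) (iv D2920) (iv D2302) F2769 F3723 (iv F2852) D2339
theorem F5243 : act 5 n2993 = n2388 := d16_2 (iv F4243) D2993 (iv D2388)
def n2994 : Q := act 4 n2340
theorem D2994 : act 4 n2340 = n2994 := rfl
theorem F5244 : act 5 n2994 = n2390 := d18_2 (iv F4244) D2994 (iv D2390)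
def n2995 : Q := act 1 n2341
theorem D2995 : act 1 n2341 = n2995 := rfl
theorem F5245 : act 4 n2995 = n2379 := d8_2 (iv F4246) D2995 (iv D2379)
def n2996 : Q := act 5 n2341
theorem D2996 : act 5 n2341 = n2996 := rfl
theorem F5246 : act 0 n2996 = n2342 := d4_1 D2996 (iv D2342) D2341
theorem F5247 : act 2 n2996 = n2404 := d13_1 D2996 (iv D2404) (iv F4245)
theorem F5248 : act 4 n2996 = n2380 := d18_1 D2996 (iv D2380) (iv F4246)
def n2997 : Q := act 6 n2341
theorem D2997 : act 6 n2341 = n2997 := rfl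
theorem F5249 : act 0 n2997 = n2343 := d5_1 D2997 (iv D2343) D2341
theorem F5250 : act 2 n2997 = n2405 := d14_1 D2997 (iv D2405) (iv F4245)
theorem F5251 : act 4 n2997 = n2370 := d19_1 D2997 F4285 (iv F4246)
def n2998 : Q := act 6 n2342
theorem D2998 : act 6 n2342 = n2998 := rfl
theorem F5252 : act 2 n2998 = n2411 := d14_1 D2998 (iv D2411) (iv F4247)
theorem F5253 : act 4 n2998 = n2382 := d19_1 D2998 (iv D2382) (iv F4248)
theorem F5254 : act 5 n2998 = n2997 := d22_2 D2342 D2998 (iv D2997) (iv D2341)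
def n2999 : Q := act 5 n2343
theorem D2999 : act 5 n2343 = n2999 := rfl
theorem F5255 : act 0 n2999 = n2998 := d4_1 D2999 F5254 F5249
theorem F5256 : act 2 n2999 = n2413 := d13_1 D2999 (iv D2413) (iv F4250)
theorem F5257 : act 4 n2999 = n2371 := d18_1 D2999 (iv D2371) (iv F4251)
theorem F5258 : act 6 n2999 = n2996 := d20_2 D2343 D2999 (iv D2996) D2997 (iv F5254) (iv D2998) (iv D2342)
def n3000 : Q := act 3 n2344
theorem D3000 : act 3 n2344 = n3000 := rfl
theorem F5259 : act 1 n3000 = n2345 := d7_1 D3000 (iv D2345) D2344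
theorem F5260 : act 4 n3000 = n2406 := d15_2 (iv F4252) D3000 (iv F4357) F4111 F4078
theorem F5261 : act 2 n3000 = n2407 := d21_2 (iv F4990) D3000 F4359 (iv F4591) (iv F5048) F4906 F4078 D2360
def n3001 : Q := act 5 n2344
theorem D3001 : act 5 n2344 = n3001 := rfl
theorem F5262 : act 4 n3001 = n2362 := d18_1 D3001 (iv D2362) (iv F4252)
def n3002 : Q := act 6 n2344
theorem D3002 : act 6 n2344 = n3002 := rfl
theorem F5263 : act 4 n3002 = n2363 := d19_1 D3002 (iv D2363) (iv F4252)
def n3003 : Q := act 5 n2345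
theorem D3003 : act 5 n2345 = n3003 := rfl
theorem F5264 : act 0 n3003 = n2349 := d4_1 D3003 (iv D2349) (iv F4253)
theorem F5265 : act 2 n3003 = n2952 := d13_1 D3003 (iv D2952) F4255
theorem F5266 : act 3 n3003 = n2346 := d16_1 D3003 (iv D2346) D2345
theorem F5267 : act 4 n3003 = n2849 := d18_1 D3003 (iv D2849) (iv F4254)
def n3004 : Q := act 6 n2345
theorem D3004 : act 6 n2345 = n3004 := rfl
theorem F5268 : act 0 n3004 = n2350 := d5_1 D3004 (iv D2350) (iv F4253)
theorem F5269 : act 2 n3004 = n2953 := d14_1 D3004 (iv D2953) F4255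
theorem F5270 : act 3 n3004 = n2347 := d17_1 D3004 (iv D2347) D2345
theorem F5271 : act 4 n3004 = n2850 := d19_1 D3004 (iv D2850) (iv F4254)
def n3005 : Q := act 1 n2346
theorem D3005 : act 1 n2346 = n3005 := rfl
theorem F5272 : act 4 n3005 = n2364 := d8_2 (iv F4257) D3005 (iv D2364)
def n3006 : Q := act 1 n2347
theorem D3006 : act 1 n2347 = n3006 := rfl
theorem F5273 : act 4 n3006 = n2365 := d8_2 (iv F4259) D3006 (iv D2365)
def n3007 : Q := act 3 n2348
theorem D3007 : act 3 n2348 = n3007 := rfl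
theorem F5274 : act 0 n3007 = n2927 := d2_1 D3007 F5147 (iv F4260)
theorem F5275 : act 1 n3007 = n2526 := d7_1 D3007 (iv F4932) F4931
theorem F5276 : act 4 n3007 = n2923 := d15_2 (iv F4261) D3007 (iv D2923) F4188 (iv F4121)
def n3008 : Q := act 5 n2348
theorem D3008 : act 5 n2348 = n3008 := rfl
theorem F5277 : act 0 n3008 = n2952 := d4_1 D3008 (iv D2952) (iv F4260)
theorem F5278 : act 2 n3008 = n2349 := d13_1 D3008 (iv D2349) D2348
def n3009 : Q := act 6 n2348
theorem D3009 : act 6 n2348 = n3009 := rfl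
theorem F5281 : act 2 n3009 = n2350 := d14_1 D3009 (iv D2350) D2348
theorem F5282 : act 4 n3009 = n2855 := d19_1 D3009 (iv D2855) (iv F4261)
def n3010 : Q := act 1 n2349
theorem D3010 : act 1 n2349 = n3010 := rfl
theorem F5283 : act 3 n3010 = n2351 := d7_2 (iv F4262) D3010 (iv D2351)
theorem F5284 : act 4 n3010 = n2856 := d8_2 (iv F4263) D3010 (iv D2856)
theorem F5285 : act 5 n3010 = n2354 := d9_2 D2349 D3010 (iv D2354) (iv D1826) (iv F2954)
def n3011 : Q := act 6 n2349
theorem D3011 : act 6 n2349 = n3011 := rfl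
theorem F5286 : act 3 n3011 = n2352 := d17_1 D3011 (iv D2352) (iv F4262)
theorem F5287 : act 4 n3011 = n2857 := d19_1 D3011 (iv D2857) (iv F4263)
theorem F5288 : act 5 n3011 = n3004 := d22_2 D2349 D3011 (iv D3004) F4253
def n3012 : Q := act 5 n2350
theorem D3012 : act 5 n2350 = n3012 := rfl
theorem F5290 : act 3 n3012 = n2353 := d16_1 D3012 (iv D2353) (iv F4264)
theorem F5291 : act 4 n3012 = n2858 := d18_1 D3012 (iv D2858) (iv F4265)
theorem F5292 : act 6 n3012 = n3003 := d20_2 D2350 D3012 (iv D3003) D3004 (iv F5288) (iv D3011) (iv D2349)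
def n3013 : Q := act 0 n2351
theorem D3013 : act 0 n2351 = n3013 := rfl
theorem F5293 : act 4 n3013 = n2366 := d3_2 (iv F4266) D3013 (iv D2366)
theorem F5294 : act 5 n3013 = n2355 := d4_2 (iv F4267) D3013 (iv D2355)
def n3014 : Q := act 2 n2351
theorem D3014 : act 2 n2351 = n3014 := rfl
theorem F5295 : act 4 n3014 = n2367 := d12_2 (iv F4266) D3014 (iv D2367)
theorem F5296 : act 5 n3014 = n2356 := d13_2 (iv F4267) D3014 (iv D2356)
def n3015 : Q := act 6 n2351
theorem D3015 : act 6 n2351 = n3015 := rfl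
theorem F5297 : act 4 n3015 = n2368 := d19_1 D3015 (iv D2368) (iv F4266)
def n3016 : Q := act 1 n2352
theorem D3016 : act 1 n2352 = n3016 := rfl
theorem F5298 : act 4 n3016 = n2369 := d8_2 (iv F4268) D3016 (iv D2369)
def n3017 : Q := act 1 n2353
theorem D3017 : act 1 n2353 = n3017 := rfl
theorem F5299 : act 4 n3017 = n2372 := d8_2 (iv F4271) D3017 (iv D2372)
def n3018 : Q := act 0 n2354
theorem D3018 : act 0 n2354 = n3018 := rfl
theorem F5300 : act 3 n3018 = n2355 := d2_2 (iv F4273) D3018 (iv D2355)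
theorem F5301 : act 4 n3018 = n2867 := d3_2 (iv F4274) D3018 (iv D2867)
def n3019 : Q := act 2 n2354
theorem D3019 : act 2 n2354 = n3019 := rfl
theorem F5302 : act 4 n3019 = n2868 := d12_2 (iv F4274) D3019 (iv D2868)
def n3020 : Q := act 6 n2354
theorem D3020 : act 6 n2354 = n3020 := rfl
theorem F5303 : act 3 n3020 = n2357 := d17_1 D3020 (iv D2357) (iv F4273)
theorem F5304 : act 4 n3020 = n2869 := d19_1 D3020 (iv D2869) (iv F4274)
def n3021 : Q := act 1 n2355
theorem D3021 : act 1 n2355 = n3021 := rfl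
theorem F5305 : act 4 n3021 = n2373 := d8_2 (iv F4275) D3021 (iv D2373)
def n3022 : Q := act 2 n2355
theorem D3022 : act 2 n2355 = n3022 := rfl
theorem F5306 : act 0 n3022 = n2356 := d1_1 D3022 (iv D2356) D2355
theorem F5307 : act 4 n3022 = n2374 := d12_2 (iv F4275) D3022 (iv D2374)
def n3023 : Q := act 6 n2355
theorem D3023 : act 6 n2355 = n3023 := rfl
theorem F5308 : act 0 n3023 = n2357 := d5_1 D3023 (iv D2357) D2355
theorem F5309 : act 4 n3023 = n2375 := d19_1 D3023 (iv D2375) (iv F4275)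
theorem F5310 : act 5 n3023 = n3015 := d22_2 F5294 D3023 (iv D3015) D3013
def n3024 : Q := act 3 n2356
theorem D3024 : act 3 n2356 = n3024 := rfl
theorem F5311 : act 1 n3024 = n2358 := d7_1 D3024 (iv D2358) (iv F4276)
def n3025 : Q := act 6 n2356
theorem D3025 : act 6 n2356 = n3025 := rfl
theorem F5312 : act 2 n3025 = n2357 := d14_1 D3025 (iv D2357) D2356
theorem F5313 : act 4 n3025 = n2377 := d19_1 D3025 (iv D2377) (iv F4277)
def n3026 : Q := act 5 n2357
theorem D3026 : act 5 n2357 = n3026 := rfl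
theorem F5314 : act 0 n3026 = n3015 := d4_1 D3026 (iv F5310) F5308
theorem F5315 : act 4 n3026 = n2378 := d18_1 D3026 (iv D2378) (iv F4278)
theorem F5316 : act 6 n3026 = n3013 := d20_2 D2357 D3026 F5294 D3023 F5310 (iv D3015) F4267
def n3027 : Q := act 4 n2358
theorem D3027 : act 4 n2358 = n3027 := rfl
theorem F5317 : act 3 n3027 = n2390 := d15_1 D3027 (iv D2390) (iv D1868) (iv F2961) D2358
def n3028 : Q := act 1 n2359
theorem D3028 : act 1 n2359 = n3028 := rfl
def n3029 : Q := act 3 n2359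
theorem D3029 : act 3 n2359 = n3029 := rfl
theorem F5318 : act 0 n3029 = n2843 := d2_1 D3029 F4967 (iv F4279)
theorem F5319 : act 2 n3029 = n2391 := d11_1 D3029 F4319 F3009 F1496 (iv F1172) (iv F2411) (iv F4110) (iv F4967) F4966 (iv D2358) (iv D1829) F1476 D927 D1834 D2359
theorem F5320 : act 6 n3029 = n2389 := d17_2 (iv F4280) D3029 F4317
def n3030 : Q := act 5 n2360
theorem D3030 : act 5 n2360 = n3030 := rfl
theorem F5321 : act 0 n3030 = n2362 := d4_1 D3030 (iv D2362) D2360
theorem F5322 : act 2 n3030 = n3001 := d13_1 D3030 (iv D3001) F4990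
def n3031 : Q := act 6 n2360
theorem D3031 : act 6 n2360 = n3031 := rfl
theorem F5323 : act 0 n3031 = n2363 := d5_1 D3031 (iv D2363) D2360
theorem F5324 : act 2 n3031 = n3002 := d14_1 D3031 (iv D3002) F4990
def n3032 : Q := act 3 n2361
theorem D3032 : act 3 n2361 = n3032 := rfl
theorem F5325 : act 0 n3032 = n3000 := d2_1 D3032 (iv D3000) F4988
def n3033 : Q := act 5 n2361
theorem D3033 : act 5 n2361 = n3033 := rfl
theorem F5326 : act 0 n3033 = n3001 := d4_1 D3033 (iv D3001) F4988
theorem F5327 : act 2 n3033 = n2362 := d13_1 D3033 (iv D2362) D2361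
theorem F5328 : act 4 n3033 = n3030 := d18_1 D3033 (iv D3030) F4989
def n3034 : Q := act 6 n2361
theorem D3034 : act 6 n2361 = n3034 := rfl
theorem F5329 : act 0 n3034 = n3002 := d5_1 D3034 (iv D3002) F4988
theorem F5330 : act 2 n3034 = n2363 := d14_1 D3034 (iv D2363) D2361
theorem F5331 : act 4 n3034 = n3031 := d19_1 D3034 (iv D3031) F4989
def n3035 : Q := act 1 n2362
theorem D3035 : act 1 n2362 = n3035 := rfl
theorem F5332 : act 5 n3035 = n2364 := d9_2 D2362 D3035 (iv D2364) (iv D1852) D1851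
def n3036 : Q := act 6 n2362
theorem D3036 : act 6 n2362 = n3036 := rfl
theorem F5333 : act 5 n3036 = n3031 := d22_2 D2362 D3036 (iv D3031) (iv D2360)
def n3037 : Q := act 1 n2363
theorem D3037 : act 1 n2363 = n3037 := rfl
theorem F5334 : act 6 n3037 = n2365 := d10_2 D2363 D3037 (iv D2365) (iv D1853) D1851
def n3038 : Q := act 5 n2363
theorem D3038 : act 5 n2363 = n3038 := rfl
theorem F5336 : act 6 n3038 = n3030 := d20_2 D2363 D3038 (iv D3030) D3031 (iv F5333) (iv D3036) (iv D2362)
def n3039 : Q := act 0 n2364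
theorem D3039 : act 0 n2364 = n3039 := rfl
def n3040 : Q := act 2 n2364
theorem D3040 : act 2 n2364 = n3040 := rfl
def n3041 : Q := act 6 n2364
theorem D3041 : act 6 n2364 = n3041 := rfl
def n3042 : Q := act 0 n2365
theorem D3042 : act 0 n2365 = n3042 := rfl
def n3043 : Q := act 2 n2365
theorem D3043 : act 2 n2365 = n3043 := rfl
def n3044 : Q := act 5 n2365
theorem D3044 : act 5 n2365 = n3044 := rfl
def n3045 : Q := act 1 n2366
theorem D3045 : act 1 n2366 = n3045 := rfl
def n3046 : Q := act 2 n2366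
theorem D3046 : act 2 n2366 = n3046 := rfl
theorem F5337 : act 0 n3046 = n2367 := d1_1 D3046 (iv D2367) D2366
theorem F5338 : act 5 n3046 = n2374 := d13_2 (iv F4281) D3046 (iv D2374)
def n3047 : Q := act 3 n2367
theorem D3047 : act 3 n2367 = n3047 := rfl
theorem F5339 : act 5 n3047 = n2376 := d16_2 (iv F4282) D3047 (iv D2376)
def n3048 : Q := act 6 n2367
theorem D3048 : act 6 n2367 = n3048 := rfl
theorem F5340 : act 2 n3048 = n2368 := d14_1 D3048 (iv D2368) D2367
def n3049 : Q := act 1 n2368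
theorem D3049 : act 1 n2368 = n3049 := rfl
theorem F5341 : act 6 n3049 = n2369 := d10_2 D2368 D3049 (iv D2369) (iv D1855) D1854
def n3050 : Q := act 0 n2369
theorem D3050 : act 0 n2369 = n3050 := rfl
def n3052 : Q := act 5 n2369
theorem D3052 : act 5 n2369 = n3052 := rfl
theorem F5342 : act 1 n3052 = n3044 := d9_1 D3052 (iv D3044) (iv D2365) (iv F2994) D2369
def n3053 : Q := act 1 n2370
theorem D3053 : act 1 n2370 = n3053 := rfl
theorem F5343 : act 3 n3053 = n2829 := d7_2 (iv F4284) D3053 (iv D2829)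
def n3054 : Q := act 1 n2371
theorem D3054 : act 1 n2371 = n3054 := rfl
theorem F5344 : act 3 n3054 = n2834 := d7_2 (iv F4287) D3054 (iv D2834)
theorem F5345 : act 5 n3054 = n2372 := d9_2 D2371 D3054 (iv D2372) (iv D1857) D1856
def n3055 : Q := act 0 n2372
theorem D3055 : act 0 n2372 = n3055 := rfl
def n3056 : Q := act 2 n2372
theorem D3056 : act 2 n2372 = n3056 := rfl
def n3057 : Q := act 6 n2372
theorem D3057 : act 6 n2372 = n3057 := rfl
theorem F5346 : act 1 n3057 = n3041 := d10_1 D3057 (iv D3041) (iv D2364) (iv F2998) D2372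
def n3058 : Q := act 0 n2373
theorem D3058 : act 0 n2373 = n3058 := rfl
def n3059 : Q := act 2 n2373
theorem D3059 : act 2 n2373 = n3059 := rfl
def n3060 : Q := act 5 n2373
theorem D3060 : act 5 n2373 = n3060 := rfl
def n3061 : Q := act 6 n2373
theorem D3061 : act 6 n2373 = n3061 := rfl
def n3062 : Q := act 1 n2374
theorem D3062 : act 1 n2374 = n3062 := rfl
def n3063 : Q := act 3 n2374
theorem D3063 : act 3 n2374 = n3063 := rfl
theorem F5347 : act 0 n3063 = n2376 := d2_1 D3063 (iv D2376) (iv F4288)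
theorem F5348 : act 2 n3063 = n2656 := d21_2 D2374 D3063 (iv D2656) (iv D2170) F1946 D1197 F3819 D1858
def n3064 : Q := act 6 n2374
theorem D3064 : act 6 n2374 = n3064 := rfl
theorem F5349 : act 0 n3064 = n2377 := d5_1 D3064 (iv D2377) (iv F4288)
theorem F5350 : act 2 n3064 = n2375 := d14_1 D3064 (iv D2375) D2374
theorem F5351 : act 5 n3064 = n3048 := d22_2 F5338 D3064 (iv D3048) (iv F5337)
def n3065 : Q := act 1 n2375
theorem D3065 : act 1 n2375 = n3065 := rfl
def n3066 : Q := act 2 n2376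
theorem D3066 : act 2 n2376 = n3066 := rfl
theorem F5352 : act 0 n3066 = n2656 := d1_1 D3066 (iv F5348) F5347
theorem F5353 : act 3 n3066 = n2654 := d11_2 D2376 D3066 (iv D2654) F3985 D2178 (iv F3992) D2374 D3063 F5348 (iv D2656) (iv D2170) F1946 D1197 F3819 D1859
def n3067 : Q := act 4 n2376
theorem D3067 : act 4 n2376 = n3067 := rfl
theorem F5354 : act 1 n3067 = n2390 := d8_1 D3067 (iv D2390) (iv F4291)
def n3068 : Q := act 6 n2376
theorem D3068 : act 6 n2376 = n3068 := rfl
theorem F5355 : act 3 n3068 = n2377 := d17_1 D3068 (iv D2377) D2376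
def n3069 : Q := act 1 n2377
theorem D3069 : act 1 n2377 = n3069 := rfl
theorem F5356 : act 6 n3069 = n2392 := d10_2 D2377 D3069 (iv D2392) (iv D1869) (iv F2999)
def n3070 : Q := act 5 n2377
theorem D3070 : act 5 n2377 = n3070 := rfl
theorem F5358 : act 2 n3070 = n2378 := d13_1 D3070 (iv D2378) (iv F4292)
theorem F5359 : act 6 n3070 = n3046 := d20_2 D2377 D3070 F5338 D3064 F5351 (iv D3048) F4282
def n3071 : Q := act 1 n2378
theorem D3071 : act 1 n2378 = n3071 := rfl
def n3072 : Q := act 0 n2379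
theorem D3072 : act 0 n2379 = n3072 := rfl
theorem F5360 : act 1 n3072 = n2824 := d0_2 D2379 D3072 (iv D2824) (iv D2255) (iv D1484) (iv D743) (iv F764) D939 D1861
def n3073 : Q := act 2 n2379
theorem D3073 : act 2 n2379 = n3073 := rfl
theorem F5362 : act 1 n3073 = n2522 := d6_1 D3073 (iv D2522) (iv D2104) (iv F3855) D2379
def n3074 : Q := act 5 n2379
theorem D3074 : act 5 n2379 = n3074 := rfl
theorem F5363 : act 3 n3074 = n2826 := d16_1 D3074 (iv D2826) (iv F4295)
def n3075 : Q := act 6 n2379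
theorem D3075 : act 6 n2379 = n3075 := rfl
theorem F5364 : act 3 n3075 = n2827 := d17_1 D3075 (iv D2827) (iv F4295)
def n3076 : Q := act 1 n2380
theorem D3076 : act 1 n2380 = n3076 := rfl
theorem F5365 : act 3 n3076 = n2828 := d7_2 (iv F4298) D3076 (iv D2828)
def n3077 : Q := act 0 n2381
theorem D3077 : act 0 n2381 = n3077 := rfl
theorem F5366 : act 3 n3077 = n2830 := d2_2 (iv F4300) D3077 (iv D2830)
theorem F5367 : act 5 n3077 = n2383 := d4_2 (iv F4301) D3077 (iv D2383)
def n3078 : Q := act 2 n2381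
theorem D3078 : act 2 n2381 = n3078 := rfl
theorem F5368 : act 1 n3078 = n2543 := d6_1 D3078 (iv D2543) (iv D2112) (iv F3856) D2381
theorem F5369 : act 5 n3078 = n2384 := d13_2 (iv F4301) D3078 (iv D2384)
def n3079 : Q := act 6 n2381
theorem D3079 : act 6 n2381 = n3079 := rfl
theorem F5370 : act 3 n3079 = n2832 := d17_1 D3079 (iv D2832) (iv F4300)
def n3080 : Q := act 1 n2382
theorem D3080 : act 1 n2382 = n3080 := rfl
theorem F5371 : act 3 n3080 = n2833 := d7_2 (iv F4304) D3080 (iv D2833)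
def n3081 : Q := act 1 n2383
theorem D3081 : act 1 n2383 = n3081 := rfl
theorem F5372 : act 3 n3081 = n2835 := d7_2 (iv F4306) D3081 (iv D2835)
def n3082 : Q := act 2 n2383
theorem D3082 : act 2 n2383 = n3082 := rfl
theorem F5373 : act 0 n3082 = n2384 := d1_1 D3082 (iv D2384) D2383
def n3083 : Q := act 6 n2383
theorem D3083 : act 6 n2383 = n3083 := rfl
theorem F5374 : act 0 n3083 = n2385 := d5_1 D3083 (iv D2385) D2383
theorem F5375 : act 3 n3083 = n2837 := d17_1 D3083 (iv D2837) (iv F4306)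
theorem F5376 : act 5 n3083 = n3079 := d22_2 F5367 D3083 (iv D3079) D3077
def n3084 : Q := act 3 n2384
theorem D3084 : act 3 n2384 = n3084 := rfl
theorem F5377 : act 1 n3084 = n2395 := d7_1 D3084 (iv D2395) (iv F4307)
def n3085 : Q := act 6 n2384
theorem D3085 : act 6 n2384 = n3085 := rfl
theorem F5378 : act 1 n3085 = n2682 := d10_1 D3085 F4777 F4000 (iv F3899) (iv F4307)
theorem F5379 : act 2 n3085 = n2385 := d14_1 D3085 (iv D2385) D2384
def n3086 : Q := act 5 n2385
theorem D3086 : act 5 n2385 = n3086 := rfl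
theorem F5380 : act 0 n3086 = n3079 := d4_1 D3086 (iv F5376) F5374
theorem F5382 : act 6 n3086 = n3077 := d20_2 D2385 D3086 F5367 D3083 F5376 (iv D3079) F4301
def n3087 : Q := act 1 n2386
theorem D3087 : act 1 n2386 = n3087 := rfl
theorem F5383 : act 2 n3087 = n2387 := d6_2 D2386 D3087 (iv D2387) (iv D1866) D1865
theorem F5384 : act 4 n3087 = n2844 := d8_2 (iv F4310) D3087 (iv D2844)
def n3088 : Q := act 3 n2386
theorem D3088 : act 3 n2386 = n3088 := rfl
theorem F5385 : act 5 n3088 = n3029 := d16_2 (iv F4311) D3088 (iv D3029)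
theorem F5386 : act 6 n3088 = n2823 := d17_2 (iv F4312) D3088 (iv D2823)
def n3089 : Q := act 0 n2387
theorem D3089 : act 0 n2387 = n3089 := rfl
def n3090 : Q := act 3 n2387
theorem D3090 : act 3 n2387 = n3090 := rfl
theorem F5387 : act 1 n3090 = n2388 := d7_1 D3090 (iv D2388) D2387
def n3091 : Q := act 5 n2387
theorem D3091 : act 5 n2387 = n3091 := rfl
def n3092 : Q := act 6 n2387
theorem D3092 : act 6 n2387 = n3092 := rfl
theorem F5388 : act 1 n3092 = n3025 := d10_1 D3092 (iv D3025) F4276 (iv F3887) D2387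
theorem F5389 : act 4 n3092 = n3069 := d19_1 D3092 F5356 F4320
def n3093 : Q := act 4 n2388
theorem D3093 : act 4 n2388 = n3093 := rfl
theorem F5390 : act 0 n3093 = n2390 := d3_1 D3093 (iv D2390) (iv F4313)
theorem F5391 : act 2 n3093 = n2842 := d12_1 D3093 (iv D2842) (iv F4315)
theorem F5392 : act 6 n3093 = n3027 := d19_2 (iv F4314) D3093 (iv D3027)
def n3094 : Q := act 1 n2389
theorem D3094 : act 1 n2389 = n3094 := rfl
theorem F5393 : act 3 n3094 = n2841 := d7_2 (iv F4317) D3094 (iv D2841)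
def n3095 : Q := act 4 n2389
theorem D3095 : act 4 n2389 = n3095 := rfl
theorem F5394 : act 0 n3095 = n2842 := d3_1 D3095 (iv D2842) (iv F4316)
theorem F5395 : act 2 n3095 = n2390 := d12_1 D3095 (iv D2390) D2389
def n3096 : Q := act 6 n2390
theorem D3096 : act 6 n2390 = n3096 := rfl
theorem F5396 : act 0 n3096 = n3027 := d5_1 D3096 (iv F5392) F5390
theorem F5397 : act 3 n3096 = n3093 := d17_1 D3096 F5392 F5317
theorem F5398 : act 4 n3096 = n2391 := d19_1 D3096 (iv D2391) D2390
def n3097 : Q := act 1 n2391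
theorem D3097 : act 1 n2391 = n3097 := rfl
theorem F5399 : act 3 n3097 = n2392 := d7_2 (iv F4319) D3097 (iv D2392)
def n3098 : Q := act 5 n2391
theorem D3098 : act 5 n2391 = n3098 := rfl
theorem F5400 : act 0 n3098 = n2947 := d4_1 D3098 F5188 (iv F4318)
theorem F5401 : act 2 n3098 = n3088 := d13_1 D3098 F5385 F5319
theorem F5402 : act 3 n3098 = n2393 := d16_1 D3098 (iv D2393) (iv F4319)
theorem F5403 : act 6 n3098 = n2993 := d20_2 D2391 D3098 F5243 F4314 (iv F5188) F5189 F4244
def n3099 : Q := act 0 n2392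
theorem D3099 : act 0 n2392 = n3099 := rfl
theorem F5404 : act 4 n3099 = n3089 := d3_2 (iv F4320) D3099 (iv D3089)
def n3100 : Q := act 5 n2392
theorem D3100 : act 5 n2392 = n3100 := rfl
theorem F5405 : act 4 n3100 = n3091 := d18_1 D3100 (iv D3091) (iv F4320)
def n3101 : Q := act 1 n2393
theorem D3101 : act 1 n2393 = n3101 := rfl
theorem F5406 : act 4 n3101 = n2992 := d8_2 (iv F4323) D3101 (iv D2992)
def n3102 : Q := act 1 n2394
theorem D3102 : act 1 n2394 = n3102 := rfl
theorem F5407 : act 2 n3102 = n3101 := d6_2 D2394 D3102 (iv D3101) F4322 F3860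
def n3103 : Q := act 3 n2394
theorem D3103 : act 3 n2394 = n3103 := rfl
theorem F5408 : act 0 n3103 = n2395 := d2_1 D3103 (iv D2395) (iv F4325)
def n3105 : Q := act 4 n2395
theorem D3105 : act 4 n2395 = n3105 := rfl
theorem F5413 : act 5 n3105 = n2570 := d18_2 (iv F4328) D3105 (iv D2570)
theorem F5414 : act 6 n3105 = n2709 := d19_2 (iv F4329) D3105 (iv D2709)
def n3107 : Q := act 4 n2396
theorem D3107 : act 4 n2396 = n3107 := rfl
theorem F5421 : act 3 n3107 = n2399 := d15_1 D3107 (iv D2399) (iv D1934) (iv F3045) D2396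
def n3116 : Q := act 0 n2402
theorem D3116 : act 0 n2402 = n3116 := rfl
theorem F5443 : act 1 n3116 = n2427 := d0_2 D2402 D3116 (iv D2427) (iv D2020) (iv D1029) (iv D502) (iv F822) D1008 D1990
theorem F5444 : act 4 n3116 = n2521 := d3_2 (iv F4350) D3116 (iv D2521)
def n3117 : Q := act 2 n2402
theorem D3117 : act 2 n2402 = n3117 := rfl
theorem F5445 : act 4 n3117 = n2522 := d12_2 (iv F4350) D3117 (iv D2522)
def n3118 : Q := act 3 n2402
theorem D3118 : act 3 n2402 = n3118 := rfl
theorem F5446 : act 1 n3118 = n2403 := d7_1 D3118 (iv D2403) D2402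
def n3119 : Q := act 5 n2402
theorem D3119 : act 5 n2402 = n3119 := rfl
theorem F5447 : act 4 n3119 = n2524 := d18_1 D3119 (iv D2524) (iv F4350)
def n3120 : Q := act 6 n2402
theorem D3120 : act 6 n2402 = n3120 := rfl
theorem F5448 : act 4 n3120 = n2525 := d19_1 D3120 (iv D2525) (iv F4350)
def n3121 : Q := act 2 n2403
theorem D3121 : act 2 n2403 = n3121 := rfl
theorem F5449 : act 0 n3121 = n2406 := d1_1 D3121 (iv D2406) (iv F4351)
theorem F5450 : act 3 n3121 = n2845 := d21_1 D3121 F4986 (iv F4983) F4982 F4134 F3715 D1991 (iv F4351)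
theorem F5451 : act 1 n3032 = n3121 := d7_3 F5450 (iv F4987) D3032
theorem F5452 : act 4 n3032 = n3121 := d15_0 F5450 F4969 F4914 F4989 D3032
def n3122 : Q := act 4 n2403
theorem D3122 : act 4 n2403 = n3122 := rfl
theorem F5453 : act 0 n3122 = n2407 := d3_1 D3122 (iv D2407) (iv F4351)
theorem F5454 : act 2 n3122 = n3032 := d12_1 D3122 F5452 (iv D3121)
theorem F5455 : act 3 n3122 = n2527 := d15_1 D3122 (iv D2527) (iv D2105) (iv F3221) D2403
def n3123 : Q := act 5 n2403
theorem D3123 : act 5 n2403 = n3123 := rfl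
theorem F5456 : act 0 n3123 = n2408 := d4_1 D3123 (iv D2408) (iv F4351)
theorem F5457 : act 3 n3123 = n2404 := d16_1 D3123 (iv D2404) D2403
def n3124 : Q := act 6 n2403
theorem D3124 : act 6 n2403 = n3124 := rfl
theorem F5458 : act 0 n3124 = n2409 := d5_1 D3124 (iv D2409) (iv F4351)
theorem F5459 : act 3 n3124 = n2405 := d17_1 D3124 (iv D2405) D2403
def n3125 : Q := act 1 n2404
theorem D3125 : act 1 n2404 = n3125 := rfl
theorem F5460 : act 4 n3125 = n2530 := d8_2 (iv F4353) D3125 (iv D2530)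
def n3126 : Q := act 1 n2405
theorem D3126 : act 1 n2405 = n3126 := rfl
theorem F5461 : act 4 n3126 = n2531 := d8_2 (iv F4355) D3126 (iv D2531)
def n3127 : Q := act 5 n2406
theorem D3127 : act 5 n2406 = n3127 := rfl
theorem F5462 : act 2 n3127 = n2408 := d13_1 D3127 (iv D2408) D2406
theorem F5463 : act 3 n3127 = n2847 := d16_1 D3127 (iv D2847) F4357
def n3128 : Q := act 6 n2406
theorem D3128 : act 6 n2406 = n3128 := rfl
theorem F5464 : act 2 n3128 = n2409 := d14_1 D3128 (iv D2409) D2406
theorem F5465 : act 3 n3128 = n2848 := d17_1 D3128 (iv D2848) F4357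
def n3129 : Q := act 5 n2407
theorem D3129 : act 5 n2407 = n3129 := rfl
theorem F5466 : act 3 n3129 = n2536 := d16_1 D3129 (iv D2536) (iv F4359)
theorem F5467 : act 4 n3129 = n2408 := d18_1 D3129 (iv D2408) D2407
def n3130 : Q := act 6 n2407
theorem D3130 : act 6 n2407 = n3130 := rfl
theorem F5468 : act 3 n3130 = n2537 := d17_1 D3130 (iv D2537) (iv F4359)
theorem F5469 : act 4 n3130 = n2409 := d19_1 D3130 (iv D2409) D2407
def n3131 : Q := act 1 n2408
theorem D3131 : act 1 n2408 = n3131 := rfl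
theorem F5470 : act 3 n3131 = n2410 := d7_2 (iv F4360) D3131 (iv D2410)
theorem F5471 : act 5 n3131 = n2416 := d9_2 D2408 D3131 (iv D2416) (iv D1995) (iv F3222)
def n3132 : Q := act 6 n2408
theorem D3132 : act 6 n2408 = n3132 := rfl
theorem F5472 : act 3 n3132 = n2411 := d17_1 D3132 (iv D2411) (iv F4360)
theorem F5473 : act 5 n3132 = n3124 := d22_2 D2408 D3132 (iv D3124) F4351
def n3133 : Q := act 1 n2409
theorem D3133 : act 1 n2409 = n3133 := rfl
theorem F5474 : act 3 n3133 = n2412 := d7_2 (iv F4361) D3133 (iv D2412)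
theorem F5475 : act 6 n3133 = n2417 := d10_2 D2409 D3133 (iv D2417) (iv D1996) (iv F3222)
def n3134 : Q := act 5 n2409
theorem D3134 : act 5 n2409 = n3134 := rfl
theorem F5476 : act 0 n3134 = n3132 := d4_1 D3134 F5473 F5458
theorem F5477 : act 3 n3134 = n2413 := d16_1 D3134 (iv D2413) (iv F4361)
theorem F5478 : act 6 n3134 = n3123 := d20_2 D2409 D3134 (iv D3123) D3124 (iv F5473) (iv D3132) (iv D2408)
def n3135 : Q := act 0 n2410
theorem D3135 : act 0 n2410 = n3135 := rfl
theorem F5479 : act 4 n3135 = n2542 := d3_2 (iv F4362) D3135 (iv D2542)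
theorem F5480 : act 5 n3135 = n2418 := d4_2 (iv F4363) D3135 (iv D2418)
def n3136 : Q := act 2 n2410
theorem D3136 : act 2 n2410 = n3136 := rfl
theorem F5481 : act 4 n3136 = n2543 := d12_2 (iv F4362) D3136 (iv D2543)
theorem F5482 : act 5 n3136 = n2419 := d13_2 (iv F4363) D3136 (iv D2419)
def n3137 : Q := act 6 n2410
theorem D3137 : act 6 n2410 = n3137 := rfl
theorem F5483 : act 4 n3137 = n2544 := d19_1 D3137 (iv D2544) (iv F4362)
def n3138 : Q := act 1 n2411
theorem D3138 : act 1 n2411 = n3138 := rfl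
theorem F5484 : act 4 n3138 = n2545 := d8_2 (iv F4364) D3138 (iv D2545)
def n3139 : Q := act 0 n2412
theorem D3139 : act 0 n2412 = n3139 := rfl
theorem F5485 : act 4 n3139 = n2546 := d3_2 (iv F4366) D3139 (iv D2546)
theorem F5486 : act 6 n3139 = n2421 := d5_2 (iv F4367) D3139 (iv D2421)
def n3140 : Q := act 5 n2412
theorem D3140 : act 5 n2412 = n3140 := rfl
theorem F5487 : act 4 n3140 = n2547 := d18_1 D3140 (iv D2547) (iv F4366)
def n3141 : Q := act 1 n2413
theorem D3141 : act 1 n2413 = n3141 := rfl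
theorem F5488 : act 4 n3141 = n2548 := d8_2 (iv F4369) D3141 (iv D2548)
def n3142 : Q := act 1 n2414
theorem D3142 : act 1 n2414 = n3142 := rfl
theorem F5489 : act 3 n3142 = n2549 := d7_2 (iv F4373) D3142 (iv D2549)
theorem F5490 : act 4 n3142 = n2416 := d8_2 (iv F4374) D3142 (iv D2416)
def n3143 : Q := act 1 n2415
theorem D3143 : act 1 n2415 = n3143 := rfl
theorem F5491 : act 3 n3143 = n2550 := d7_2 (iv F4377) D3143 (iv D2550)
theorem F5492 : act 4 n3143 = n2417 := d8_2 (iv F4378) D3143 (iv D2417)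
def n3144 : Q := act 0 n2416
theorem D3144 : act 0 n2416 = n3144 := rfl
theorem F5493 : act 3 n3144 = n2418 := d2_2 (iv F4379) D3144 (iv D2418)
def n3145 : Q := act 2 n2416
theorem D3145 : act 2 n2416 = n3145 := rfl
theorem F5494 : act 1 n3145 = n2970 := d6_1 D3145 (iv D2970) (iv D2328) (iv F3229) D2416
def n3146 : Q := act 6 n2416
theorem D3146 : act 6 n2416 = n3146 := rfl
theorem F5495 : act 3 n3146 = n2420 := d17_1 D3146 (iv D2420) (iv F4379)
def n3147 : Q := act 0 n2417
theorem D3147 : act 0 n2417 = n3147 := rfl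
theorem F5496 : act 3 n3147 = n2421 := d2_2 (iv F4380) D3147 (iv D2421)
def n3148 : Q := act 2 n2417
theorem D3148 : act 2 n2417 = n3148 := rfl
def n3149 : Q := act 5 n2417
theorem D3149 : act 5 n2417 = n3149 := rfl
theorem F5498 : act 3 n3149 = n2422 := d16_1 D3149 (iv D2422) (iv F4380)
def n3150 : Q := act 1 n2418
theorem D3150 : act 1 n2418 = n3150 := rfl
theorem F5499 : act 4 n3150 = n2557 := d8_2 (iv F4381) D3150 (iv D2557)
def n3151 : Q := act 2 n2418
theorem D3151 : act 2 n2418 = n3151 := rfl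
theorem F5500 : act 0 n3151 = n2419 := d1_1 D3151 (iv D2419) D2418
theorem F5501 : act 4 n3151 = n2558 := d12_2 (iv F4381) D3151 (iv D2558)
def n3152 : Q := act 6 n2418
theorem D3152 : act 6 n2418 = n3152 := rfl
theorem F5502 : act 0 n3152 = n2420 := d5_1 D3152 (iv D2420) D2418
theorem F5503 : act 4 n3152 = n2559 := d19_1 D3152 (iv D2559) (iv F4381)
theorem F5504 : act 5 n3152 = n3137 := d22_2 F5480 D3152 (iv D3137) D3135
def n3153 : Q := act 3 n2419
theorem D3153 : act 3 n2419 = n3153 := rfl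
theorem F5505 : act 1 n3153 = n2424 := d7_1 D3153 (iv D2424) (iv F4382)
def n3154 : Q := act 6 n2419
theorem D3154 : act 6 n2419 = n3154 := rfl
theorem F5506 : act 2 n3154 = n2420 := d14_1 D3154 (iv D2420) D2419
theorem F5507 : act 4 n3154 = n2561 := d19_1 D3154 (iv D2561) (iv F4383)
def n3155 : Q := act 5 n2420
theorem D3155 : act 5 n2420 = n3155 := rfl
theorem F5508 : act 0 n3155 = n3137 := d4_1 D3155 (iv F5504) F5502
theorem F5509 : act 4 n3155 = n2562 := d18_1 D3155 (iv D2562) (iv F4384)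
theorem F5510 : act 6 n3155 = n3135 := d20_2 D2420 D3155 F5480 D3152 F5504 (iv D3137) F4363
def n3156 : Q := act 1 n2421
theorem D3156 : act 1 n2421 = n3156 := rfl
theorem F5511 : act 4 n3156 = n2563 := d8_2 (iv F4385) D3156 (iv D2563)
def n3157 : Q := act 5 n2421
theorem D3157 : act 5 n2421 = n3157 := rfl
theorem F5512 : act 0 n3157 = n2422 := d4_1 D3157 (iv D2422) D2421
theorem F5513 : act 4 n3157 = n2564 := d18_1 D3157 (iv D2564) (iv F4385)
theorem F5514 : act 6 n3157 = n3140 := d22_1 D3157 (iv D3140) F4367 D2421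
def n3158 : Q := act 6 n2422
theorem D3158 : act 6 n2422 = n3158 := rfl
theorem F5515 : act 0 n3158 = n3140 := d5_1 D3158 (iv F5514) F5512
theorem F5516 : act 4 n3158 = n2565 := d19_1 D3158 (iv D2565) (iv F4386)
theorem F5517 : act 5 n3158 = n3139 := d20_1 D3158 F5486 D3157 F5514 (iv D3140) F4367 D2422
def n3159 : Q := act 1 n2423
theorem D3159 : act 1 n2423 = n3159 := rfl
theorem F5518 : act 2 n3159 = n3028 := d6_2 D2423 D3159 (iv D3028) (iv D2359) F3893
theorem F5519 : act 4 n3159 = n2567 := d8_2 (iv F4388) D3159 (iv D2567)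
def n3160 : Q := act 3 n2423
theorem D3160 : act 3 n2423 = n3160 := rfl
theorem F5520 : act 0 n3160 = n2424 := d2_1 D3160 (iv D2424) (iv F4387)
def n3161 : Q := act 4 n2424
theorem D3161 : act 4 n2424 = n3161 := rfl
theorem F5521 : act 3 n3161 = n2570 := d15_1 D3161 (iv D2570) (iv D2127) (iv F3238) D2424
def n3162 : Q := act 6 n2424
theorem D3162 : act 6 n2424 = n3162 := rfl
theorem F5522 : act 2 n3162 = n2489 := d14_1 D3162 (iv F5039) F5040
theorem F5523 : act 3 n3162 = n2425 := d17_1 D3162 (iv D2425) D2424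
def n3163 : Q := act 1 n2425
theorem D3163 : act 1 n2425 = n3163 := rfl
theorem F5524 : act 4 n3163 = n2572 := d8_2 (iv F4390) D3163 (iv D2572)
def n3164 : Q := act 1 n2426
theorem D3164 : act 1 n2426 = n3164 := rfl
theorem F5525 : act 2 n3164 = n2992 := d6_2 D2426 D3164 (iv D2992) (iv D2339) F3870
theorem F5526 : act 4 n3164 = n3102 := d8_2 (iv F4392) D3164 (iv D3102)
def n3165 : Q := act 3 n2426
theorem D3165 : act 3 n2426 = n3165 := rfl
theorem F5527 : act 0 n3165 = n2877 := d2_1 D3165 (iv D2877) (iv F4391)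
theorem F5528 : act 2 n3165 = n3160 := d11_1 D3165 (iv D3160) (iv D2423) F3236 F3719 (iv F2499) D2283 D2877 F5040 (iv D2424) (iv D2000) F1593 D1015 D2007 D2426
theorem F5529 : act 5 n3165 = n3160 := d16_2 (iv F4393) D3165 (iv D3160)
def n3166 : Q := act 2 n2427
theorem D3166 : act 2 n2427 = n3166 := rfl
theorem F5530 : act 0 n3166 = n2428 := d1_1 D3166 (iv D2428) D2427
theorem F5531 : act 4 n3166 = n2582 := d12_2 (iv F4394) D3166 (iv D2582)
def n3167 : Q := act 3 n2427
theorem D3167 : act 3 n2427 = n3167 := rfl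
theorem F5532 : act 0 n3167 = n2429 := d2_1 D3167 (iv D2429) D2427
def n3168 : Q := act 5 n2427
theorem D3168 : act 5 n2427 = n3168 := rfl
theorem F5533 : act 0 n3168 = n2430 := d4_1 D3168 (iv D2430) D2427
theorem F5534 : act 4 n3168 = n2584 := d18_1 D3168 (iv D2584) (iv F4394)
def n3169 : Q := act 6 n2427
theorem D3169 : act 6 n2427 = n3169 := rfl
theorem F5535 : act 0 n3169 = n2431 := d5_1 D3169 (iv D2431) D2427
theorem F5536 : act 4 n3169 = n2585 := d19_1 D3169 (iv D2585) (iv F4394)
def n3170 : Q := act 3 n2428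
theorem D3170 : act 3 n2428 = n3170 := rfl
theorem F5537 : act 1 n3170 = n2502 := d7_1 D3170 (iv D2502) (iv F4395)
def n3171 : Q := act 5 n2428
theorem D3171 : act 5 n2428 = n3171 := rfl
theorem F5538 : act 2 n3171 = n2430 := d13_1 D3171 (iv D2430) D2428
theorem F5539 : act 4 n3171 = n2587 := d18_1 D3171 (iv D2587) (iv F4396)
def n3172 : Q := act 6 n2428
theorem D3172 : act 6 n2428 = n3172 := rfl
theorem F5540 : act 2 n3172 = n2431 := d14_1 D3172 (iv D2431) D2428
theorem F5541 : act 4 n3172 = n2588 := d19_1 D3172 (iv D2588) (iv F4396)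
def n3173 : Q := act 2 n2429
theorem D3173 : act 2 n2429 = n3173 := rfl
theorem F5542 : act 1 n3173 = n2810 := d6_1 D3173 F4923 F4589 F3955 (iv F4397)
theorem F5543 : act 3 n2809 = n3173 := d7_0 F5542 (iv D2810) D2809
def n3174 : Q := act 4 n2429
theorem D3174 : act 4 n2429 = n3174 := rfl
theorem F5544 : act 1 n3174 = n2432 := d8_1 D3174 (iv D2432) (iv F4397)
theorem F5545 : act 3 n3174 = n2590 := d15_1 D3174 (iv D2590) (iv D2139) (iv F3281) D2429
def n3175 : Q := act 5 n2429
theorem D3175 : act 5 n2429 = n3175 := rfl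
theorem F5546 : act 3 n3175 = n2430 := d16_1 D3175 (iv D2430) D2429
def n3177 : Q := act 1 n2430
theorem D3177 : act 1 n2430 = n3177 := rfl
theorem F5548 : act 4 n3177 = n2593 := d8_2 (iv F4398) D3177 (iv D2593)
theorem F5549 : act 5 n3177 = n2435 := d9_2 D2430 D3177 (iv D2435) (iv D2022) D2020
def n3178 : Q := act 6 n2430
theorem D3178 : act 6 n2430 = n3178 := rfl
theorem F5550 : act 4 n3178 = n2594 := d19_1 D3178 (iv D2594) (iv F4398)
theorem F5551 : act 5 n3178 = n3169 := d22_2 D2430 D3178 (iv D3169) (iv D2427)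
def n3179 : Q := act 1 n2431
theorem D3179 : act 1 n2431 = n3179 := rfl
theorem F5552 : act 4 n3179 = n2595 := d8_2 (iv F4399) D3179 (iv D2595)
theorem F5553 : act 6 n3179 = n2436 := d10_2 D2431 D3179 (iv D2436) (iv D2023) D2020
def n3180 : Q := act 5 n2431
theorem D3180 : act 5 n2431 = n3180 := rfl
theorem F5555 : act 4 n3180 = n2596 := d18_1 D3180 (iv D2596) (iv F4399)
theorem F5556 : act 6 n3180 = n3168 := d20_2 D2431 D3180 (iv D3168) D3169 (iv F5551) (iv D3178) (iv D2430)
def n3181 : Q := act 5 n2432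
theorem D3181 : act 5 n2432 = n3181 := rfl
theorem F5557 : act 0 n3181 = n2441 := d4_1 D3181 (iv D2441) (iv F4400)
theorem F5558 : act 3 n3181 = n2601 := d16_1 D3181 (iv D2601) (iv F4401)
theorem F5559 : act 4 n3181 = n2433 := d18_1 D3181 (iv D2433) D2432
def n3182 : Q := act 6 n2432
theorem D3182 : act 6 n2432 = n3182 := rfl
theorem F5561 : act 3 n3182 = n2602 := d17_1 D3182 (iv D2602) (iv F4401)
def n3183 : Q := act 1 n2433
theorem D3183 : act 1 n2433 = n3183 := rfl
theorem F5563 : act 3 n3183 = n2435 := d7_2 (iv F4403) D3183 (iv D2435)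
def n3185 : Q := act 0 n2435
theorem D3185 : act 0 n2435 = n3185 := rfl
theorem F5565 : act 4 n3185 = n2605 := d3_2 (iv F4406) D3185 (iv D2605)
def n3186 : Q := act 2 n2435
theorem D3186 : act 2 n2435 = n3186 := rfl
theorem F5566 : act 1 n3186 = n2510 := d6_1 D3186 (iv D2510) (iv D2083) (iv F3284) D2435
theorem F5567 : act 4 n3186 = n2606 := d12_2 (iv F4406) D3186 (iv D2606)
def n3187 : Q := act 6 n2435
theorem D3187 : act 6 n2435 = n3187 := rfl
theorem F5568 : act 4 n3187 = n2607 := d19_1 D3187 (iv D2607) (iv F4406)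
def n3188 : Q := act 0 n2436
theorem D3188 : act 0 n2436 = n3188 := rfl
theorem F5569 : act 4 n3188 = n2608 := d3_2 (iv F4407) D3188 (iv D2608)
def n3189 : Q := act 2 n2436
theorem D3189 : act 2 n2436 = n3189 := rfl
theorem F5570 : act 1 n3189 = n2513 := d6_1 D3189 (iv D2513) (iv D2084) (iv F3287) D2436
theorem F5571 : act 4 n3189 = n2609 := d12_2 (iv F4407) D3189 (iv D2609)
def n3190 : Q := act 5 n2436
theorem D3190 : act 5 n2436 = n3190 := rfl
theorem F5572 : act 4 n3190 = n2610 := d18_1 D3190 (iv D2610) (iv F4407)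
def n3191 : Q := act 5 n2437
theorem D3191 : act 5 n2437 = n3191 := rfl
theorem F5573 : act 2 n3191 = n2455 := d13_1 D3191 (iv D2455) (iv F4408)
def n3192 : Q := act 6 n2437
theorem D3192 : act 6 n2437 = n3192 := rfl
def n3193 : Q := act 5 n2438
theorem D3193 : act 5 n2438 = n3193 := rfl
theorem F5575 : act 2 n3193 = n2441 := d13_1 D3193 (iv D2441) (iv F4409)
theorem F5576 : act 4 n3193 = n2439 := d18_1 D3193 (iv D2439) D2438
def n3194 : Q := act 6 n2438
theorem D3194 : act 6 n2438 = n3194 := rfl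
theorem F5577 : act 2 n3194 = n2442 := d14_1 D3194 (iv D2442) (iv F4409)
theorem F5578 : act 4 n3194 = n2440 := d19_1 D3194 (iv D2440) D2438
def n3195 : Q := act 1 n2439
theorem D3195 : act 1 n2439 = n3195 := rfl
def n3196 : Q := act 6 n2439
theorem D3196 : act 6 n2439 = n3196 := rfl
theorem F5580 : act 3 n3196 = n2620 := d17_1 D3196 F4699 F4671
theorem F5581 : act 5 n3196 = n2613 := d22_2 D2439 D3196 (iv D2613) F3954
def n3197 : Q := act 1 n2440
theorem D3197 : act 1 n2440 = n3197 := rfl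
def n3198 : Q := act 5 n2440
theorem D3198 : act 5 n2440 = n3198 := rfl
theorem F5584 : act 3 n3198 = n2618 := d16_1 D3198 F4696 F4674
theorem F5585 : act 6 n3198 = n2612 := d20_2 D2440 D3198 (iv D2612) D2613 (iv F5581) (iv D3196) (iv D2439)
def n3199 : Q := act 1 n2441
theorem D3199 : act 1 n2441 = n3199 := rfl
theorem F5586 : act 3 n3199 = n2621 := d7_2 (iv F4412) D3199 (iv D2621)
theorem F5587 : act 4 n3199 = n2443 := d8_2 (iv F4413) D3199 (iv D2443)
theorem F5588 : act 5 n3199 = n2462 := d9_2 D2441 D3199 (iv D2462) (iv D2036) (iv F3289)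
def n3200 : Q := act 6 n2441
theorem D3200 : act 6 n2441 = n3200 := rfl
theorem F5589 : act 3 n3200 = n2622 := d17_1 D3200 (iv D2622) (iv F4412)
theorem F5590 : act 4 n3200 = n2444 := d19_1 D3200 (iv D2444) (iv F4413)
theorem F5591 : act 5 n3200 = n3182 := d22_2 D2441 D3200 (iv D3182) F4400
def n3201 : Q := act 1 n2442
theorem D3201 : act 1 n2442 = n3201 := rfl
theorem F5592 : act 3 n3201 = n2623 := d7_2 (iv F4414) D3201 (iv D2623)
theorem F5593 : act 4 n3201 = n2445 := d8_2 (iv F4415) D3201 (iv D2445)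
theorem F5594 : act 6 n3201 = n2464 := d10_2 D2442 D3201 (iv D2464) (iv D2037) (iv F3289)
def n3202 : Q := act 5 n2442
theorem D3202 : act 5 n2442 = n3202 := rfl
theorem F5596 : act 3 n3202 = n2624 := d16_1 D3202 (iv D2624) (iv F4414)
theorem F5597 : act 4 n3202 = n2446 := d18_1 D3202 (iv D2446) (iv F4415)
theorem F5598 : act 6 n3202 = n3181 := d20_2 D2442 D3202 (iv D3181) D3182 (iv F5591) (iv D3200) (iv D2441)
def n3203 : Q := act 0 n2443
theorem D3203 : act 0 n2443 = n3203 := rfl
theorem F5599 : act 3 n3203 = n2447 := d2_2 (iv F4416) D3203 (iv D2447)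
theorem F5600 : act 5 n3203 = n2466 := d4_2 (iv F4417) D3203 (iv D2466)
def n3204 : Q := act 2 n2443
theorem D3204 : act 2 n2443 = n3204 := rfl
theorem F5601 : act 5 n3204 = n2467 := d13_2 (iv F4417) D3204 (iv D2467)
def n3205 : Q := act 6 n2443
theorem D3205 : act 6 n2443 = n3205 := rfl
theorem F5602 : act 3 n3205 = n2448 := d17_1 D3205 (iv D2448) (iv F4416)
def n3206 : Q := act 1 n2444
theorem D3206 : act 1 n2444 = n3206 := rfl
theorem F5603 : act 3 n3206 = n2449 := d7_2 (iv F4418) D3206 (iv D2449)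
def n3207 : Q := act 0 n2445
theorem D3207 : act 0 n2445 = n3207 := rfl
theorem F5604 : act 3 n3207 = n2450 := d2_2 (iv F4420) D3207 (iv D2450)
theorem F5605 : act 6 n3207 = n2470 := d5_2 (iv F4421) D3207 (iv D2470)
def n3208 : Q := act 2 n2445
theorem D3208 : act 2 n2445 = n3208 := rfl
theorem F5606 : act 6 n3208 = n2471 := d14_2 (iv F4421) D3208 (iv D2471)
def n3209 : Q := act 5 n2445
theorem D3209 : act 5 n2445 = n3209 := rfl
theorem F5607 : act 3 n3209 = n2451 := d16_1 D3209 (iv D2451) (iv F4420)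
def n3210 : Q := act 1 n2446
theorem D3210 : act 1 n2446 = n3210 := rfl
theorem F5608 : act 3 n3210 = n2452 := d7_2 (iv F4423) D3210 (iv D2452)
def n3211 : Q := act 1 n2447
theorem D3211 : act 1 n2447 = n3211 := rfl
theorem F5609 : act 4 n3211 = n2633 := d8_2 (iv F4425) D3211 (iv D2633)
def n3212 : Q := act 1 n2448
theorem D3212 : act 1 n2448 = n3212 := rfl
theorem F5610 : act 4 n3212 = n2636 := d8_2 (iv F4427) D3212 (iv D2636)
theorem F5611 : act 6 n3212 = n2449 := d10_2 D2448 D3212 (iv D2449) (iv D2029) D2028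
def n3213 : Q := act 0 n2449
theorem D3213 : act 0 n2449 = n3213 := rfl
theorem F5612 : act 4 n3213 = n2637 := d3_2 (iv F4428) D3213 (iv D2637)
def n3214 : Q := act 2 n2449
theorem D3214 : act 2 n2449 = n3214 := rfl
theorem F5613 : act 1 n3214 = n2516 := d6_1 D3214 (iv D2516) (iv D2085) (iv F3295) D2449
theorem F5614 : act 4 n3214 = n2638 := d12_2 (iv F4428) D3214 (iv D2638)
def n3215 : Q := act 5 n2449
theorem D3215 : act 5 n2449 = n3215 := rfl
theorem F5615 : act 1 n3215 = n3190 := d9_1 D3215 (iv D3190) (iv D2436) (iv F3297) D2449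
def n3216 : Q := act 1 n2450
theorem D3216 : act 1 n2450 = n3216 := rfl
theorem F5617 : act 4 n3216 = n2640 := d8_2 (iv F4430) D3216 (iv D2640)
def n3217 : Q := act 1 n2451
theorem D3217 : act 1 n2451 = n3217 := rfl
theorem F5618 : act 4 n3217 = n2641 := d8_2 (iv F4433) D3217 (iv D2641)
theorem F5619 : act 5 n3217 = n2452 := d9_2 D2451 D3217 (iv D2452) (iv D2031) D2030
def n3218 : Q := act 0 n2452
theorem D3218 : act 0 n2452 = n3218 := rfl
def n3220 : Q := act 6 n2452
theorem D3220 : act 6 n2452 = n3220 := rfl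
theorem F5623 : act 1 n3220 = n3187 := d10_1 D3220 (iv D3187) (iv D2435) (iv F3304) D2452
def n3221 : Q := act 5 n2453
theorem D3221 : act 5 n2453 = n3221 := rfl
theorem F5625 : act 0 n3221 = n2455 := d4_1 D3221 (iv D2455) D2453
def n3222 : Q := act 6 n2453
theorem D3222 : act 6 n2453 = n3222 := rfl
theorem F5628 : act 0 n3222 = n2456 := d5_1 D3222 (iv D2456) D2453
theorem F5629 : act 3 n3222 = n2909 := d17_1 D3222 (iv D2909) (iv F4435)
theorem F5630 : act 4 n3222 = n3192 := d19_1 D3222 (iv D3192) F4935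
def n3223 : Q := act 3 n2454
theorem D3223 : act 3 n2454 = n3223 := rfl
theorem F5631 : act 0 n3223 = n2597 := d2_1 D3223 F4666 (iv F4933)
theorem F5632 : act 1 n3223 = n2457 := d7_1 D3223 (iv D2457) (iv F4436)
theorem F5633 : act 4 n3223 = n2900 := d15_2 D2454 D3223 (iv D2900) F4169 (iv F3305)
theorem E1560 : n2502 = n2428 := (c25_14 F5633 (iv D2900) F4168 (iv F3305) (iv F4408) (iv D2437) (iv F3948) (iv D2142) (iv D1179) F944 D629 (iv F1695) D2080 D2502 (iv D2428) (iv D2020) D2021 (iv F3955) (iv D2148) (iv D1182) F945 (iv D287) (iv D150) (iv D83) F129 F128 (iv D27) (iv F68) (iv D24) (iv D13) (iv D7) D6 F24 D11 D19 D36 D60 F151 (iv F3561) (iv D38) (iv F99) F64 (iv F118) (iv F168) (iv F264) (iv D119) (iv F258) (iv D115) F164 F123 F72 (iv D26) D27 D51 D89 (iv F303) (iv D139) (iv F290) (iv D134) (iv F260) D216 D429 D885 D1740 (iv F4113) (iv D2268) F2476 D1550 F2527 D2240 (iv F5047) F3956 F1933 (iv F1639) (iv F3307) D2457 F4440 (iv F5632))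
theorem E1561 : n3170 = n2080 := (((F4395).symm.trans (sb E1560 (iv F5537)))).symm
theorem F5634 : act 3 n2080 = n2428 := (sb E1561 (iv D3170))
theorem F5635 : act 3 n3166 = n2499 := d2_2 F5634 (iv F5530) F4532
theorem E1562 : n2741 = n2586 := ((c15_4 (iv F3395) F5634 F4396 D2586 (iv D2741) (iv D2216))).symm
theorem F5636 : act 4 n2586 = n2216 := (sb E1562 (iv D2741))
theorem F5637 : act 3 n3171 = n2503 := d16_3 (iv D2503) F5634 D3171
theorem F5638 : act 3 n3172 = n2504 := d17_3 (iv D2504) F5634 D3172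
theorem E1563 : n2809 = n2213 := (c21_6 D2080 F5634 (iv D2428) D2429 D3173 (iv F5543) (iv D2213) (iv F3393) (iv D2079))
theorem E1564 : n2734 = n2248 := ((D2734).symm.trans (sb E1563 (iv D2809)))
theorem E1565 : n3173 = n2735 := (((D2735).symm.trans (sb E1563 F5543))).symm
theorem E1566 : n2499 = n2255 := (((iv F4533)).symm.trans (sb E1563 F4921))
theorem F5639 : act 1 n2248 = n2213 := (sb E1564 (iv D2734))
theorem F5640 : act 1 n2735 = n2810 := (sb E1565 F5542)
theorem F5641 : act 2 n2735 = n2429 := (sb E1565 (iv D3173))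
theorem E1567 : n2824 = n2080 := ((D2824).symm.trans (sb E1566 F4532))
theorem E1568 : n2825 = n2079 := ((D2825).symm.trans (sb E1566 (iv D2499)))
theorem E1569 : n3166 = n2379 := ((((iv F4295)).symm.trans (sb E1566 (iv F5635)))).symm
theorem F5642 : act 4 n2255 = n2213 := (sb E1566 F4533)
theorem F5643 : act 0 n2080 = n2255 := (sb E1567 (iv D2824))
theorem E1570 : n3072 = n2428 := ((((iv F4395)).symm.trans (sb E1567 (iv F5360)))).symm
theorem F5644 : act 2 n2079 = n2255 := (sb E1568 (iv D2825))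
theorem E1571 : n3073 = n2427 := ((D3073).symm.trans (sb E1569 (iv D3166)))
theorem E1572 : n2995 = n2582 := (((iv F5245)).symm.trans (sb E1569 F5531))
theorem F5645 : act 0 n2428 = n2379 := (sb E1570 (iv D3072))
theorem E1573 : n3116 = n2522 := (((iv F5443)).symm.trans (sb E1571 F5362))
theorem F5646 : act 2 n2427 = n2379 := (sb E1571 (iv D3073))
theorem F5647 : act 1 n2582 = n2341 := (sb E1572 (iv D2995))
theorem F5648 : act 4 n2582 = n2379 := (sb E1572 F5245)
theorem F5649 : act 0 n2522 = n2402 := (sb E1573 (iv D3116))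
theorem F5650 : act 1 n2522 = n2427 := (sb E1573 F5443)
theorem E1574 : n3117 = n2521 := (((iv F5445)).symm.trans (sb E1573 F5444))
theorem F5651 : act 2 n2521 = n2402 := (sb E1574 (iv D3117))
theorem F5652 : act 4 n2521 = n2522 := (sb E1574 F5445)
theorem E1575 : n3167 = n2740 := (c21_9 (iv D2740) (iv D2216) (iv D1274) (iv F1695) D2080 F5634 (iv D2428) D2429 (iv F5532))
theorem F5654 : act 3 n2740 = n2427 := (sb E1575 (iv D3167))
theorem F5655 : act 2 n3074 = n3168 := d13_3 (iv D3168) F5646 D3074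
theorem F5656 : act 2 n3075 = n3169 := d14_3 (iv D3169) F5646 D3075
theorem F5657 : act 0 n3172 = n3075 := d1_3 F5656 F5535 (iv F5540)
theorem F5658 : act 0 n2827 = n2504 := d2_3 (iv F5638) F5657 F5364
theorem F5660 : act 4 n2737 = n2827 := d3_0 F5658 F4543 (iv F4860)
theorem F5661 : act 0 n3171 = n3074 := d1_3 F5655 F5533 (iv F5538)
theorem F5662 : act 0 n2826 = n2503 := d2_3 (iv F5637) F5661 F5363
theorem F5663 : act 2 n2500 = n2826 := d1_0 F5662 F4540 (iv F4534)
theorem F5664 : act 4 n2736 = n2826 := d3_0 F5662 F4541 (iv F4858)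
def n3224 : Q := act 5 n2454
theorem D3224 : act 5 n2454 = n3224 := rfl
theorem F5667 : act 4 n3224 = n2455 := d18_1 D3224 (iv D2455) D2454
def n3225 : Q := act 6 n2454
theorem D3225 : act 6 n2454 = n3225 := rfl
def n3226 : Q := act 1 n2455
theorem D3226 : act 1 n2455 = n3226 := rfl
theorem F5671 : act 3 n3226 = n2910 := d7_2 (iv F4437) D3226 (iv D2910)
theorem F5672 : act 5 n3226 = n2460 := d9_2 D2455 D3226 (iv D2460) (iv D2034) D2032
def n3227 : Q := act 6 n2455
theorem D3227 : act 6 n2455 = n3227 := rfl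
theorem F5673 : act 3 n3227 = n2911 := d17_1 D3227 (iv D2911) (iv F4437)
theorem F5674 : act 5 n3227 = n3222 := d22_2 D2455 D3227 (iv D3222) (iv D2453)
def n3228 : Q := act 1 n2456
theorem D3228 : act 1 n2456 = n3228 := rfl
theorem F5676 : act 6 n3228 = n2461 := d10_2 D2456 D3228 (iv D2461) (iv D2035) D2032
def n3229 : Q := act 5 n2456
theorem D3229 : act 5 n2456 = n3229 := rfl
theorem F5679 : act 6 n3229 = n3221 := d20_2 D2456 D3229 (iv D3221) D3222 (iv F5674) (iv D3227) (iv D2455)
def n3230 : Q := act 5 n2457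
theorem D3230 : act 5 n2457 = n3230 := rfl
theorem F5680 : act 0 n3230 = n2934 := d4_1 D3230 (iv D2934) (iv F4439)
theorem F5681 : act 2 n3230 = n3230 := d13_1 D3230 (iv D3230) F4440
theorem F5682 : act 3 n3230 = n2458 := d16_1 D3230 (iv D2458) D2457
theorem F5683 : act 4 n3230 = n2903 := d18_1 D3230 (iv D2903) (iv F4441)
def n3231 : Q := act 6 n2457
theorem D3231 : act 6 n2457 = n3231 := rfl
theorem F5685 : act 2 n3231 = n3231 := d14_1 D3231 (iv D3231) F4440
theorem F5686 : act 3 n3231 = n2459 := d17_1 D3231 (iv D2459) D2457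
theorem F5687 : act 4 n3231 = n2904 := d19_1 D3231 (iv D2904) (iv F4441)
def n3232 : Q := act 1 n2458
theorem D3232 : act 1 n2458 = n3232 := rfl
def n3233 : Q := act 1 n2459
theorem D3233 : act 1 n2459 = n3233 := rfl
theorem F5689 : act 4 n3233 = n2461 := d8_2 (iv F4447) D3233 (iv D2461)
def n3234 : Q := act 0 n2460
theorem D3234 : act 0 n2460 = n3234 := rfl
theorem F5690 : act 3 n3234 = n2914 := d2_2 (iv F4448) D3234 (iv D2914)
def n3235 : Q := act 2 n2460
theorem D3235 : act 2 n2460 = n3235 := rfl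
theorem F5691 : act 1 n3235 = n2467 := d6_1 D3235 (iv D2467) (iv D2038) (iv F3309) D2460
def n3236 : Q := act 6 n2460
theorem D3236 : act 6 n2460 = n3236 := rfl
def n3237 : Q := act 0 n2461
theorem D3237 : act 0 n2461 = n3237 := rfl
theorem F5693 : act 3 n3237 = n2917 := d2_2 (iv F4449) D3237 (iv D2917)
def n3238 : Q := act 2 n2461
theorem D3238 : act 2 n2461 = n3238 := rfl
theorem F5694 : act 1 n3238 = n2471 := d6_1 D3238 (iv D2471) (iv D2040) (iv F3312) D2461
def n3239 : Q := act 5 n2461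
theorem D3239 : act 5 n2461 = n3239 := rfl
theorem F5695 : act 3 n3239 = n2919 := d16_1 D3239 (iv D2919) (iv F4449)
def n3240 : Q := act 0 n2462
theorem D3240 : act 0 n2462 = n3240 := rfl
theorem F5696 : act 3 n3240 = n2645 := d2_2 (iv F4450) D3240 (iv D2645)
theorem F5697 : act 4 n3240 = n2466 := d3_2 (iv F4451) D3240 (iv D2466)
def n3241 : Q := act 2 n2462
theorem D3241 : act 2 n2462 = n3241 := rfl
theorem F5698 : act 4 n3241 = n2467 := d12_2 (iv F4451) D3241 (iv D2467)
def n3242 : Q := act 6 n2462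
theorem D3242 : act 6 n2462 = n3242 := rfl
theorem F5699 : act 3 n3242 = n2647 := d17_1 D3242 (iv D2647) (iv F4450)
theorem F5700 : act 4 n3242 = n2468 := d19_1 D3242 (iv D2468) (iv F4451)
def n3243 : Q := act 1 n2463
theorem D3243 : act 1 n2463 = n3243 := rfl
theorem F5701 : act 3 n3243 = n2648 := d7_2 (iv F4452) D3243 (iv D2648)
theorem F5702 : act 4 n3243 = n2469 := d8_2 (iv F4453) D3243 (iv D2469)
def n3244 : Q := act 0 n2464
theorem D3244 : act 0 n2464 = n3244 := rfl
theorem F5703 : act 3 n3244 = n2649 := d2_2 (iv F4455) D3244 (iv D2649)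
theorem F5704 : act 4 n3244 = n2470 := d3_2 (iv F4456) D3244 (iv D2470)
def n3245 : Q := act 2 n2464
theorem D3245 : act 2 n2464 = n3245 := rfl
theorem F5705 : act 4 n3245 = n2471 := d12_2 (iv F4456) D3245 (iv D2471)
def n3246 : Q := act 5 n2464
theorem D3246 : act 5 n2464 = n3246 := rfl
def n3247 : Q := act 1 n2465
theorem D3247 : act 1 n2465 = n3247 := rfl
theorem F5708 : act 3 n3247 = n2652 := d7_2 (iv F4458) D3247 (iv D2652)
theorem F5709 : act 4 n3247 = n2473 := d8_2 (iv F4459) D3247 (iv D2473)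
def n3248 : Q := act 1 n2466
theorem D3248 : act 1 n2466 = n3248 := rfl
theorem F5710 : act 3 n3248 = n2474 := d7_2 (iv F4461) D3248 (iv D2474)
def n3249 : Q := act 2 n2466
theorem D3249 : act 2 n2466 = n3249 := rfl
theorem F5711 : act 0 n3249 = n2467 := d1_1 D3249 (iv D2467) D2466
def n3250 : Q := act 6 n2466
theorem D3250 : act 6 n2466 = n3250 := rfl
theorem F5712 : act 0 n3250 = n2468 := d5_1 D3250 (iv D2468) D2466
theorem F5713 : act 3 n3250 = n2475 := d17_1 D3250 (iv D2475) (iv F4461)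
theorem F5714 : act 5 n3250 = n3205 := d22_2 F5600 D3250 (iv D3205) D3203
def n3251 : Q := act 3 n2467
theorem D3251 : act 3 n2467 = n3251 := rfl
def n3252 : Q := act 6 n2467
theorem D3252 : act 6 n2467 = n3252 := rfl
theorem F5715 : act 2 n3252 = n2468 := d14_1 D3252 (iv D2468) D2467
def n3253 : Q := act 1 n2468
theorem D3253 : act 1 n2468 = n3253 := rfl
theorem F5716 : act 3 n3253 = n2476 := d7_2 (iv F4462) D3253 (iv D2476)
theorem F5717 : act 6 n3253 = n2469 := d10_2 D2468 D3253 (iv D2469) (iv D2039) D2038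
def n3254 : Q := act 5 n2468
theorem D3254 : act 5 n2468 = n3254 := rfl
theorem F5719 : act 3 n3254 = n2477 := d16_1 D3254 (iv D2477) (iv F4462)
theorem F5720 : act 6 n3254 = n3203 := d20_2 D2468 D3254 F5600 D3250 F5714 (iv D3205) F4417
def n3255 : Q := act 0 n2469
theorem D3255 : act 0 n2469 = n3255 := rfl
theorem F5721 : act 3 n3255 = n2478 := d2_2 (iv F4463) D3255 (iv D2478)
def n3256 : Q := act 2 n2469
theorem D3256 : act 2 n2469 = n3256 := rfl
def n3257 : Q := act 5 n2469
theorem D3257 : act 5 n2469 = n3257 := rfl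
theorem F5722 : act 1 n3257 = n3149 := d9_1 D3257 (iv D3149) (iv D2417) (iv F3320) D2469
theorem F5723 : act 3 n3257 = n2480 := d16_1 D3257 (iv D2480) (iv F4463)
def n3258 : Q := act 1 n2470
theorem D3258 : act 1 n2470 = n3258 := rfl
theorem F5724 : act 3 n3258 = n2481 := d7_2 (iv F4464) D3258 (iv D2481)
def n3259 : Q := act 2 n2470
theorem D3259 : act 2 n2470 = n3259 := rfl
def n3260 : Q := act 5 n2470
theorem D3260 : act 5 n2470 = n3260 := rfl
theorem F5726 : act 0 n3260 = n2472 := d4_1 D3260 (iv D2472) D2470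
theorem F5728 : act 6 n3260 = n3209 := d22_1 D3260 (iv D3209) F4421 D2470
def n3261 : Q := act 3 n2471
theorem D3261 : act 3 n2471 = n3261 := rfl
def n3262 : Q := act 5 n2471
theorem D3262 : act 5 n2471 = n3262 := rfl
def n3263 : Q := act 1 n2472
theorem D3263 : act 1 n2472 = n3263 := rfl
theorem F5730 : act 3 n3263 = n2483 := d7_2 (iv F4465) D3263 (iv D2483)
theorem F5731 : act 5 n3263 = n2473 := d9_2 D2472 D3263 (iv D2473) (iv D2041) D2040
def n3264 : Q := act 6 n2472
theorem D3264 : act 6 n2472 = n3264 := rfl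
theorem F5732 : act 0 n3264 = n3209 := d5_1 D3264 (iv F5728) F5726
theorem F5733 : act 3 n3264 = n2484 := d17_1 D3264 (iv D2484) (iv F4465)
def n3265 : Q := act 0 n2473
theorem D3265 : act 0 n2473 = n3265 := rfl
theorem F5735 : act 3 n3265 = n2485 := d2_2 (iv F4466) D3265 (iv D2485)
def n3266 : Q := act 2 n2473
theorem D3266 : act 2 n2473 = n3266 := rfl
def n3267 : Q := act 6 n2473
theorem D3267 : act 6 n2473 = n3267 := rfl
theorem F5736 : act 1 n3267 = n3146 := d10_1 D3267 (iv D3146) (iv D2416) (iv F3324) D2473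
theorem F5737 : act 3 n3267 = n2487 := d17_1 D3267 (iv D2487) (iv F4466)
def n3268 : Q := act 0 n2474
theorem D3268 : act 0 n2474 = n3268 := rfl
theorem F5738 : act 4 n3268 = n2673 := d3_2 (iv F4467) D3268 (iv D2673)
def n3269 : Q := act 2 n2474
theorem D3269 : act 2 n2474 = n3269 := rfl
theorem F5739 : act 4 n3269 = n2674 := d12_2 (iv F4467) D3269 (iv D2674)
def n3270 : Q := act 5 n2474
theorem D3270 : act 5 n2474 = n3270 := rfl
def n3271 : Q := act 6 n2474
theorem D3271 : act 6 n2474 = n3271 := rfl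
theorem F5741 : act 4 n3271 = n2676 := d19_1 D3271 (iv D2676) (iv F4467)
def n3272 : Q := act 1 n2475
theorem D3272 : act 1 n2475 = n3272 := rfl
theorem F5742 : act 4 n3272 = n2679 := d8_2 (iv F4469) D3272 (iv D2679)
def n3273 : Q := act 0 n2476
theorem D3273 : act 0 n2476 = n3273 := rfl
theorem F5743 : act 4 n3273 = n2681 := d3_2 (iv F4471) D3273 (iv D2681)
theorem F5744 : act 6 n3273 = n2478 := d5_2 (iv F4472) D3273 (iv D2478)
def n3274 : Q := act 2 n2476
theorem D3274 : act 2 n2476 = n3274 := rfl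
theorem F5745 : act 4 n3274 = n2682 := d12_2 (iv F4471) D3274 (iv D2682)
theorem F5746 : act 6 n3274 = n2479 := d14_2 (iv F4472) D3274 (iv D2479)
def n3275 : Q := act 5 n2476
theorem D3275 : act 5 n2476 = n3275 := rfl
theorem F5747 : act 4 n3275 = n2683 := d18_1 D3275 (iv D2683) (iv F4471)
def n3276 : Q := act 1 n2477
theorem D3276 : act 1 n2477 = n3276 := rfl
theorem F5748 : act 4 n3276 = n2684 := d8_2 (iv F4474) D3276 (iv D2684)
def n3277 : Q := act 1 n2478
theorem D3277 : act 1 n2478 = n3277 := rfl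
theorem F5749 : act 4 n3277 = n2685 := d8_2 (iv F4476) D3277 (iv D2685)
def n3278 : Q := act 2 n2478
theorem D3278 : act 2 n2478 = n3278 := rfl
theorem F5750 : act 0 n3278 = n2479 := d1_1 D3278 (iv D2479) D2478
theorem F5751 : act 4 n3278 = n2686 := d12_2 (iv F4476) D3278 (iv D2686)
def n3279 : Q := act 5 n2478
theorem D3279 : act 5 n2478 = n3279 := rfl
theorem F5752 : act 0 n3279 = n2480 := d4_1 D3279 (iv D2480) D2478
theorem F5753 : act 4 n3279 = n2687 := d18_1 D3279 (iv D2687) (iv F4476)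
theorem F5754 : act 6 n3279 = n3275 := d22_1 D3279 (iv D3275) F4472 D2478
def n3280 : Q := act 3 n2479
theorem D3280 : act 3 n2479 = n3280 := rfl
theorem F5755 : act 1 n3280 = n2489 := d7_1 D3280 (iv D2489) (iv F4477)
def n3281 : Q := act 5 n2479
theorem D3281 : act 5 n2479 = n3281 := rfl
theorem F5756 : act 2 n3281 = n2480 := d13_1 D3281 (iv D2480) D2479
theorem F5757 : act 4 n3281 = n2689 := d18_1 D3281 (iv D2689) (iv F4478)
def n3282 : Q := act 6 n2480
theorem D3282 : act 6 n2480 = n3282 := rfl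
theorem F5758 : act 0 n3282 = n3275 := d5_1 D3282 (iv F5754) F5752
def n3283 : Q := act 0 n2481
theorem D3283 : act 0 n2481 = n3283 := rfl
theorem F5761 : act 4 n3283 = n2691 := d3_2 (iv F4481) D3283 (iv D2691)
def n3285 : Q := act 5 n2481
theorem D3285 : act 5 n2481 = n3285 := rfl
def n3286 : Q := act 6 n2481
theorem D3286 : act 6 n2481 = n3286 := rfl
def n3287 : Q := act 1 n2482
theorem D3287 : act 1 n2482 = n3287 := rfl
theorem F5766 : act 4 n3287 = n2695 := d8_2 (iv F4484) D3287 (iv D2695)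
def n3288 : Q := act 0 n2483
theorem D3288 : act 0 n2483 = n3288 := rfl
theorem F5767 : act 4 n3288 = n2696 := d3_2 (iv F4486) D3288 (iv D2696)
theorem F5768 : act 5 n3288 = n2485 := d4_2 (iv F4487) D3288 (iv D2485)
def n3289 : Q := act 2 n2483
theorem D3289 : act 2 n2483 = n3289 := rfl
theorem F5770 : act 4 n3289 = n2697 := d12_2 (iv F4486) D3289 (iv D2697)
theorem F5771 : act 5 n3289 = n2486 := d13_2 (iv F4487) D3289 (iv D2486)
def n3290 : Q := act 6 n2483
theorem D3290 : act 6 n2483 = n3290 := rfl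
def n3291 : Q := act 1 n2484
theorem D3291 : act 1 n2484 = n3291 := rfl
theorem F5773 : act 4 n3291 = n2699 := d8_2 (iv F4490) D3291 (iv D2699)
def n3292 : Q := act 1 n2485
theorem D3292 : act 1 n2485 = n3292 := rfl
theorem F5774 : act 4 n3292 = n2700 := d8_2 (iv F4492) D3292 (iv D2700)
def n3293 : Q := act 2 n2485
theorem D3293 : act 2 n2485 = n3293 := rfl
theorem F5775 : act 0 n3293 = n2486 := d1_1 D3293 (iv D2486) D2485
def n3294 : Q := act 6 n2485
theorem D3294 : act 6 n2485 = n3294 := rfl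
theorem F5778 : act 4 n3294 = n2702 := d19_1 D3294 (iv D2702) (iv F4492)
theorem F5779 : act 5 n3294 = n3290 := d22_2 F5768 D3294 (iv D3290) D3288
def n3295 : Q := act 3 n2486
theorem D3295 : act 3 n2486 = n3295 := rfl
theorem F5780 : act 1 n3295 = n2491 := d7_1 D3295 (iv D2491) (iv F4493)
def n3297 : Q := act 5 n2487
theorem D3297 : act 5 n2487 = n3297 := rfl
theorem F5784 : act 4 n3297 = n2705 := d18_1 D3297 (iv D2705) (iv F4496)
theorem F5785 : act 6 n3297 = n3288 := d20_2 D2487 D3297 F5768 D3294 F5779 (iv D3290) F4487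
def n3298 : Q := act 1 n2488
theorem D3298 : act 1 n2488 = n3298 := rfl
theorem F5786 : act 2 n3298 = n2706 := d6_2 D2488 D3298 (iv D2706) (iv D2193) (iv F3837)
theorem F5787 : act 4 n3298 = n2706 := d8_2 (iv F4498) D3298 (iv D2706)
def n3299 : Q := act 3 n2488
theorem D3299 : act 3 n2488 = n3299 := rfl
theorem F5788 : act 0 n3299 = n2489 := d2_1 D3299 (iv D2489) (iv F4497)
theorem F5789 : act 5 n3299 = n3162 := d16_2 (iv F4499) D3299 F5523
theorem F5790 : act 6 n3299 = n3165 := d17_2 (iv F4500) D3299 (iv D3165)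
def n3300 : Q := act 4 n2489
theorem D3300 : act 4 n2489 = n3300 := rfl
theorem F5791 : act 3 n3300 = n2709 := d15_1 D3300 (iv D2709) (iv D2194) (iv F3335) D2489
def n3301 : Q := act 5 n2489
theorem D3301 : act 5 n2489 = n3301 := rfl
theorem F5792 : act 0 n3301 = n3162 := d4_1 D3301 (iv F5789) F5788
theorem F5793 : act 2 n3301 = n3299 := d13_1 D3301 F5789 F5522
theorem F5794 : act 3 n3301 = n2490 := d16_1 D3301 (iv D2490) D2489
theorem F5795 : act 6 n3301 = n3160 := d20_2 F5039 D3301 (iv F5529) (iv F5790) F5789 (iv D3162) (iv F5038)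
def n3302 : Q := act 1 n2490
theorem D3302 : act 1 n2490 = n3302 := rfl
theorem F5796 : act 2 n3302 = n2946 := d6_2 (iv F4502) D3302 (iv D2946) F4207 F3685
theorem F5797 : act 4 n3302 = n2711 := d8_2 (iv F4503) D3302 (iv D2711)
def n3304 : Q := act 6 n2491
theorem D3304 : act 6 n2491 = n3304 := rfl
theorem F5802 : act 3 n3304 = n2492 := d17_1 D3304 (iv D2492) D2491
def n3305 : Q := act 1 n2492
theorem D3305 : act 1 n2492 = n3305 := rfl
theorem F5804 : act 2 n3305 = n3163 := d6_2 (iv F4508) D3305 (iv D3163) F4389 (iv F3344)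
theorem F5805 : act 4 n3305 = n2715 := d8_2 (iv F4509) D3305 (iv D2715)
def n3308 : Q := act 6 n2493
theorem D3308 : act 6 n2493 = n3308 := rfl
theorem F5810 : act 2 n3308 = n2495 := d14_1 D3308 (iv D2495) D2493
def n3310 : Q := act 4 n2496
theorem D3310 : act 4 n2496 = n3310 := rfl
theorem F5819 : act 2 n3310 = n2498 := d12_1 D3310 F4530 (iv F4520)
def n3312 : Q := act 1 n2500
theorem D3312 : act 1 n2500 = n3312 := rfl
theorem F5827 : act 5 n3312 = n2738 := d9_2 D2500 D3312 (iv D2738) (iv D2214) (iv F3392)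
def n3313 : Q := act 1 n2501
theorem D3313 : act 1 n2501 = n3313 := rfl
theorem F5830 : act 6 n3313 = n2739 := d10_2 D2501 D3313 (iv D2739) (iv D2215) (iv F3392)
def n3314 : Q := act 1 n2503
theorem D3314 : act 1 n2503 = n3314 := rfl
theorem F5831 : act 4 n3314 = n2744 := d8_2 (iv F4541) D3314 (iv D2744)
def n3315 : Q := act 6 n2503
theorem D3315 : act 6 n2503 = n3315 := rfl
theorem F5832 : act 2 n3315 = n2506 := d14_1 D3315 (iv D2506) (iv F4540)
theorem F5833 : act 4 n3315 = n2745 := d19_1 D3315 (iv D2745) (iv F4541)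
theorem F5834 : act 5 n3315 = n2827 := d22_2 D2503 D3315 (iv D2827) (iv F5643)
def n3316 : Q := act 1 n2504
theorem D3316 : act 1 n2504 = n3316 := rfl
theorem F5835 : act 4 n3316 = n2746 := d8_2 (iv F4543) D3316 (iv D2746)
def n3317 : Q := act 5 n2504
theorem D3317 : act 5 n2504 = n3317 := rfl
theorem F5838 : act 4 n3317 = n2747 := d18_1 D3317 (iv D2747) (iv F4543)
theorem F5839 : act 6 n3317 = n2826 := d20_2 D2504 D3317 (iv D2826) D2827 (iv F5834) (iv D3315) (iv D2503)
def n3318 : Q := act 0 n2505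
theorem D3318 : act 0 n2505 = n3318 := rfl
theorem F5842 : act 5 n3318 = n2509 := d4_2 (iv F4546) D3318 (iv D2509)
def n3319 : Q := act 2 n2505
theorem D3319 : act 2 n2505 = n3319 := rfl
theorem F5844 : act 5 n3319 = n2510 := d13_2 (iv F4546) D3319 (iv D2510)
def n3320 : Q := act 6 n2505
theorem D3320 : act 6 n2505 = n3320 := rfl
def n3321 : Q := act 1 n2506
theorem D3321 : act 1 n2506 = n3321 := rfl
theorem F5847 : act 3 n3321 = n2751 := d7_2 (iv F4547) D3321 (iv D2751)
def n3322 : Q := act 0 n2507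
theorem D3322 : act 0 n2507 = n3322 := rfl
theorem F5850 : act 4 n3322 = n2752 := d3_2 (iv F4551) D3322 (iv D2752)
theorem F5851 : act 6 n3322 = n2512 := d5_2 (iv F4552) D3322 (iv D2512)
def n3323 : Q := act 2 n2507
theorem D3323 : act 2 n2507 = n3323 := rfl
theorem F5852 : act 4 n3323 = n2753 := d12_2 (iv F4551) D3323 (iv D2753)
theorem F5853 : act 6 n3323 = n2513 := d14_2 (iv F4552) D3323 (iv D2513)
def n3324 : Q := act 5 n2507
theorem D3324 : act 5 n2507 = n3324 := rfl
def n3325 : Q := act 1 n2508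
theorem D3325 : act 1 n2508 = n3325 := rfl
theorem F5856 : act 3 n3325 = n2755 := d7_2 (iv F4554) D3325 (iv D2755)
def n3326 : Q := act 1 n2509
theorem D3326 : act 1 n2509 = n3326 := rfl
theorem F5858 : act 3 n3326 = n2756 := d7_2 (iv F4557) D3326 (iv D2756)
theorem F5859 : act 4 n3326 = n2756 := d8_2 (iv F4558) D3326 (iv D2756)
def n3327 : Q := act 2 n2509
theorem D3327 : act 2 n2509 = n3327 := rfl
theorem F5860 : act 0 n3327 = n2510 := d1_1 D3327 (iv D2510) D2509
theorem F5861 : act 4 n3327 = n2757 := d12_2 (iv F4558) D3327 (iv D2757)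
def n3328 : Q := act 6 n2509
theorem D3328 : act 6 n2509 = n3328 := rfl
theorem F5862 : act 0 n3328 = n2511 := d5_1 D3328 (iv D2511) D2509
theorem F5863 : act 3 n3328 = n2758 := d17_1 D3328 (iv D2758) (iv F4557)
theorem F5865 : act 5 n3328 = n3320 := d22_2 F5842 D3328 (iv D3320) D3318
def n3329 : Q := act 3 n2510
theorem D3329 : act 3 n2510 = n3329 := rfl
def n3330 : Q := act 6 n2510
theorem D3330 : act 6 n2510 = n3330 := rfl
theorem F5866 : act 2 n3330 = n2511 := d14_1 D3330 (iv D2511) D2510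
def n3331 : Q := act 5 n2511
theorem D3331 : act 5 n2511 = n3331 := rfl
theorem F5868 : act 0 n3331 = n3320 := d4_1 D3331 (iv F5865) F5862
theorem F5869 : act 3 n3331 = n2761 := d16_1 D3331 (iv D2761) (iv F4560)
theorem F5870 : act 4 n3331 = n2761 := d18_1 D3331 (iv D2761) (iv F4561)
theorem F5871 : act 6 n3331 = n3318 := d20_2 D2511 D3331 F5842 D3328 F5865 (iv D3320) F4546
def n3332 : Q := act 1 n2512
theorem D3332 : act 1 n2512 = n3332 := rfl
theorem F5872 : act 0 n3332 = n3332 := d0_1 D3332 (iv D3332) (iv D2512) (iv D2084) F1700 F867 (iv F1700) D2084 D2512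
theorem F5873 : act 3 n3332 = n2762 := d7_2 (iv F4562) D3332 (iv D2762)
theorem F5874 : act 4 n3332 = n2762 := d8_2 (iv F4563) D3332 (iv D2762)
def n3333 : Q := act 2 n2512
theorem D3333 : act 2 n2512 = n3333 := rfl
theorem F5875 : act 0 n3333 = n2513 := d1_1 D3333 (iv D2513) D2512
theorem F5876 : act 4 n3333 = n2763 := d12_2 (iv F4563) D3333 (iv D2763)
def n3334 : Q := act 5 n2512
theorem D3334 : act 5 n2512 = n3334 := rfl
theorem F5877 : act 0 n3334 = n2514 := d4_1 D3334 (iv D2514) D2512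
theorem F5880 : act 6 n3334 = n3324 := d22_1 D3334 (iv D3324) F4552 D2512
def n3335 : Q := act 3 n2513
theorem D3335 : act 3 n2513 = n3335 := rfl
def n3336 : Q := act 5 n2513
theorem D3336 : act 5 n2513 = n3336 := rfl
theorem F5881 : act 2 n3336 = n2514 := d13_1 D3336 (iv D2514) D2513
theorem F5882 : act 4 n3336 = n2766 := d18_1 D3336 (iv D2766) (iv F4564)
def n3337 : Q := act 6 n2514
theorem D3337 : act 6 n2514 = n3337 := rfl
theorem F5883 : act 0 n3337 = n3324 := d5_1 D3337 (iv F5880) F5877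
theorem F5884 : act 3 n3337 = n2767 := d17_1 D3337 (iv D2767) (iv F4565)
theorem F5886 : act 5 n3337 = n3322 := d20_1 D3337 F5851 D3334 F5880 (iv D3324) F4552 D2514
def n3338 : Q := act 1 n2515
theorem D3338 : act 1 n2515 = n3338 := rfl
theorem F5887 : act 3 n3338 = n2777 := d7_2 (iv F4567) D3338 (iv D2777)
def n3339 : Q := act 2 n2515
theorem D3339 : act 2 n2515 = n3339 := rfl
theorem F5889 : act 0 n3339 = n2516 := d1_1 D3339 (iv D2516) D2515
theorem F5890 : act 4 n3339 = n2778 := d12_2 (iv F4568) D3339 (iv D2778)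
def n3340 : Q := act 5 n2515
theorem D3340 : act 5 n2515 = n3340 := rfl
theorem F5891 : act 0 n3340 = n2517 := d4_1 D3340 (iv D2517) D2515
theorem F5894 : act 6 n3340 = n2895 := d22_1 D3340 (iv D2895) F4164 D2515
theorem F5895 : act 1 n2785 = n3340 := d24_14 F5894 (iv D2895) (iv D2290) (iv D1553) (iv D792) (iv D384) F388 (iv D162) D161 D311 D634 D1283 D2238 (iv F4900)
theorem F5896 : act 6 n2783 = n2892 := d10_4 (iv F5894) (iv F5895) (iv D2785) D2783 (iv F5089)
theorem E1576 : n3338 = n2761 := (c9_4 (iv F4900) F5895 (iv D3340) D3338 (iv D2761) (iv F4077))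
theorem F5897 : act 1 n2761 = n2515 := (sb E1576 (iv D3338))
theorem E1577 : n3331 = n2777 := (((iv F5869)).symm.trans (sb E1576 F5887))
theorem F5898 : act 0 n2777 = n3320 := (sb E1577 F5868)
theorem F5900 : act 4 n2777 = n2761 := (sb E1577 F5870)
theorem F5901 : act 5 n2777 = n2511 := (sb E1577 (iv D3331))
theorem F5902 : act 6 n2777 = n3318 := (sb E1577 F5871)
def n3341 : Q := act 3 n2516
theorem D3341 : act 3 n2516 = n3341 := rfl
def n3342 : Q := act 5 n2516
theorem D3342 : act 5 n2516 = n3342 := rfl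
theorem F5903 : act 2 n3342 = n2517 := d13_1 D3342 (iv D2517) D2516
theorem F5904 : act 4 n3342 = n2781 := d18_1 D3342 (iv D2781) (iv F4569)
def n3343 : Q := act 6 n2517
theorem D3343 : act 6 n2517 = n3343 := rfl
theorem F5905 : act 0 n3343 = n2895 := d5_1 D3343 (iv F5894) F5891
theorem F5908 : act 5 n3343 = n2893 := d20_1 D3343 F5086 D3340 F5894 (iv D2895) F4164 D2517
def n3344 : Q := act 1 n2518
theorem D3344 : act 1 n2518 = n3344 := rfl
theorem F5910 : act 4 n3344 = n2783 := d8_2 (iv F4574) D3344 (iv D2783)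
theorem F5911 : act 6 n2804 = n3344 := d19_0 F5910 F5896 F5083
def n3345 : Q := act 2 n2518
theorem D3345 : act 2 n2518 = n3345 := rfl
theorem F5913 : act 4 n3345 = n2784 := d12_2 (iv F4574) D3345 (iv D2784)
def n3346 : Q := act 6 n2518
theorem D3346 : act 6 n2518 = n3346 := rfl
theorem F5916 : act 1 n3346 = n2779 := d10_1 D3346 F4893 (iv F4918) F5911 (iv D3344)
def n3349 : Q := act 3 n2521
theorem D3349 : act 3 n2521 = n3349 := rfl
theorem F5923 : act 0 n3349 = n2523 := d2_1 D3349 (iv D2523) D2521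
theorem F5924 : act 1 n3349 = n2583 := d7_1 D3349 (iv D2583) (iv F4581)
def n3351 : Q := act 6 n2521
theorem D3351 : act 6 n2521 = n3351 := rfl
theorem F5927 : act 0 n3351 = n2525 := d5_1 D3351 (iv D2525) D2521
theorem F5928 : act 2 n3351 = n3120 := d14_1 D3351 (iv D3120) (iv F5651)
def n3352 : Q := act 3 n2522
theorem D3352 : act 3 n2522 = n3352 := rfl
theorem F5930 : act 1 n3352 = n2740 := d7_1 D3352 F5654 (iv F5650)
def n3353 : Q := act 5 n2522
theorem D3353 : act 5 n2522 = n3353 := rfl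
theorem F5931 : act 0 n3353 = n3119 := d4_1 D3353 (iv D3119) (iv F5649)
theorem F5932 : act 2 n3353 = n2524 := d13_1 D3353 (iv D2524) D2522
def n3354 : Q := act 6 n2522
theorem D3354 : act 6 n2522 = n3354 := rfl
theorem F5934 : act 0 n3354 = n3120 := d5_1 D3354 (iv D3120) (iv F5649)
theorem F5935 : act 2 n3354 = n2525 := d14_1 D3354 (iv D2525) D2522
def n3355 : Q := act 2 n2523
theorem D3355 : act 2 n2523 = n3355 := rfl
def n3356 : Q := act 4 n2523
theorem D3356 : act 4 n2523 = n3356 := rfl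
theorem F5937 : act 1 n3356 = n2527 := d8_1 D3356 (iv D2527) (iv F4582)
def n3357 : Q := act 5 n2523
theorem D3357 : act 5 n2523 = n3357 := rfl
theorem F5938 : act 3 n3357 = n2524 := d16_1 D3357 (iv D2524) D2523
def n3358 : Q := act 6 n2523
theorem D3358 : act 6 n2523 = n3358 := rfl
theorem F5939 : act 3 n3358 = n2525 := d17_1 D3358 (iv D2525) D2523
def n3359 : Q := act 1 n2524
theorem D3359 : act 1 n2524 = n3359 := rfl
theorem F5940 : act 5 n3359 = n2530 := d9_2 D2524 D3359 (iv D2530) (iv D2106) D2104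
def n3360 : Q := act 6 n2524
theorem D3360 : act 6 n2524 = n3360 := rfl
theorem F5941 : act 5 n3360 = n3351 := d22_2 D2524 D3360 (iv D3351) (iv D2521)
def n3361 : Q := act 1 n2525
theorem D3361 : act 1 n2525 = n3361 := rfl
theorem F5942 : act 6 n3361 = n2531 := d10_2 D2525 D3361 (iv D2531) (iv D2107) D2104
def n3362 : Q := act 5 n2525
theorem D3362 : act 5 n2525 = n3362 := rfl
theorem F5943 : act 0 n3362 = n3360 := d4_1 D3362 F5941 F5927
def n3363 : Q := act 4 n2526
theorem D3363 : act 4 n2526 = n3363 := rfl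
theorem F5945 : act 0 n3363 = n2533 := d3_1 D3363 (iv D2533) (iv F4583)
theorem F5946 : act 1 n3363 = n2923 := d8_1 D3363 (iv F5276) F5275
theorem F5947 : act 2 n3363 = n2527 := d12_1 D3363 (iv D2527) D2526
theorem F5948 : act 3 n3363 = n2922 := d15_1 D3363 F5137 (iv F4983) F4984 F4932
def n3364 : Q := act 5 n2526
theorem D3364 : act 5 n2526 = n3364 := rfl
theorem F5949 : act 0 n3364 = n2534 := d4_1 D3364 (iv D2534) (iv F4583)
theorem F5950 : act 2 n3364 = n2528 := d13_1 D3364 (iv D2528) D2526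
def n3365 : Q := act 6 n2526
theorem D3365 : act 6 n2526 = n3365 := rfl
theorem F5951 : act 0 n3365 = n2535 := d5_1 D3365 (iv D2535) (iv F4583)
theorem F5952 : act 2 n3365 = n2529 := d14_1 D3365 (iv D2529) D2526
def n3366 : Q := act 5 n2527
theorem D3366 : act 5 n2527 = n3366 := rfl
theorem F5953 : act 0 n3366 = n2536 := d4_1 D3366 (iv D2536) (iv F4584)
theorem F5954 : act 4 n3366 = n2528 := d18_1 D3366 (iv D2528) D2527
def n3367 : Q := act 6 n2527
theorem D3367 : act 6 n2527 = n3367 := rfl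
theorem F5956 : act 4 n3367 = n2529 := d19_1 D3367 (iv D2529) D2527
def n3368 : Q := act 1 n2528
theorem D3368 : act 1 n2528 = n3368 := rfl
theorem F5957 : act 3 n3368 = n2530 := d7_2 (iv F4586) D3368 (iv D2530)
def n3369 : Q := act 1 n2529
theorem D3369 : act 1 n2529 = n3369 := rfl
theorem F5958 : act 3 n3369 = n2531 := d7_2 (iv F4588) D3369 (iv D2531)
def n3370 : Q := act 0 n2530
theorem D3370 : act 0 n2530 = n3370 := rfl
def n3371 : Q := act 2 n2530
theorem D3371 : act 2 n2530 = n3371 := rfl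
def n3372 : Q := act 6 n2530
theorem D3372 : act 6 n2530 = n3372 := rfl
def n3373 : Q := act 0 n2531
theorem D3373 : act 0 n2531 = n3373 := rfl
def n3374 : Q := act 2 n2531
theorem D3374 : act 2 n2531 = n3374 := rfl
def n3375 : Q := act 5 n2531
theorem D3375 : act 5 n2531 = n3375 := rfl
def n3376 : Q := act 4 n2532
theorem D3376 : act 4 n2532 = n3376 := rfl
theorem F5959 : act 0 n3376 = n2853 := d3_1 D3376 F4984 F4930
theorem F5960 : act 1 n3376 = n2611 := d8_1 D3376 (iv D2611) (iv F4589)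
theorem F5961 : act 2 n3376 = n2863 := d12_1 D3376 F5012 F4923
def n3377 : Q := act 5 n2532
theorem D3377 : act 5 n2532 = n3377 := rfl
theorem F5963 : act 3 n3377 = n2534 := d16_1 D3377 (iv D2534) D2532
def n3379 : Q := act 5 n2533
theorem D3379 : act 5 n2533 = n3379 := rfl
theorem F5965 : act 2 n3379 = n2536 := d13_1 D3379 (iv D2536) (iv F4591)
theorem F5966 : act 4 n3379 = n2534 := d18_1 D3379 (iv D2534) D2533
def n3380 : Q := act 6 n2533
theorem D3380 : act 6 n2533 = n3380 := rfl
theorem F5967 : act 2 n3380 = n2537 := d14_1 D3380 (iv D2537) (iv F4591)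
theorem F5968 : act 4 n3380 = n2535 := d19_1 D3380 (iv D2535) D2533
def n3381 : Q := act 1 n2534
theorem D3381 : act 1 n2534 = n3381 := rfl
theorem F5969 : act 5 n3381 = n2617 := d9_2 D2534 D3381 (iv D2617) (iv D2150) (iv F3906)
def n3382 : Q := act 6 n2534
theorem D3382 : act 6 n2534 = n3382 := rfl
theorem F5971 : act 5 n3382 = n3365 := d22_2 D2534 D3382 (iv D3365) F4583
def n3383 : Q := act 1 n2535
theorem D3383 : act 1 n2535 = n3383 := rfl
def n3384 : Q := act 5 n2535
theorem D3384 : act 5 n2535 = n3384 := rfl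
theorem F5973 : act 0 n3384 = n3382 := d4_1 D3384 F5971 F5951
theorem F5975 : act 6 n3384 = n3364 := d20_2 D2535 D3384 (iv D3364) D3365 (iv F5971) (iv D3382) (iv D2534)
def n3385 : Q := act 1 n2536
theorem D3385 : act 1 n2536 = n3385 := rfl
theorem F5976 : act 4 n3385 = n2538 := d8_2 (iv F4594) D3385 (iv D2538)
theorem F5977 : act 5 n3385 = n2549 := d9_2 D2536 D3385 (iv D2549) (iv D2116) (iv F3907)
def n3386 : Q := act 6 n2536
theorem D3386 : act 6 n2536 = n3386 := rfl
theorem F5978 : act 4 n3386 = n2539 := d19_1 D3386 (iv D2539) (iv F4594)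
theorem F5979 : act 5 n3386 = n3367 := d22_2 D2536 D3386 (iv D3367) F4584
def n3387 : Q := act 1 n2537
theorem D3387 : act 1 n2537 = n3387 := rfl
theorem F5980 : act 4 n3387 = n2540 := d8_2 (iv F4595) D3387 (iv D2540)
theorem F5981 : act 6 n3387 = n2550 := d10_2 D2537 D3387 (iv D2550) (iv D2117) (iv F3907)
def n3388 : Q := act 5 n2537
theorem D3388 : act 5 n2537 = n3388 := rfl
theorem F5983 : act 4 n3388 = n2541 := d18_1 D3388 (iv D2541) (iv F4595)
theorem F5984 : act 6 n3388 = n3366 := d20_2 D2537 D3388 (iv D3366) D3367 (iv F5979) (iv D3386) (iv D2536)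
def n3389 : Q := act 0 n2538
theorem D3389 : act 0 n2538 = n3389 := rfl
theorem F5985 : act 3 n3389 = n2542 := d2_2 (iv F4596) D3389 (iv D2542)
theorem F5986 : act 5 n3389 = n2551 := d4_2 (iv F4597) D3389 (iv D2551)
def n3390 : Q := act 2 n2538
theorem D3390 : act 2 n2538 = n3390 := rfl
theorem F5987 : act 5 n3390 = n2552 := d13_2 (iv F4597) D3390 (iv D2552)
def n3391 : Q := act 6 n2538
theorem D3391 : act 6 n2538 = n3391 := rfl
def n3392 : Q := act 1 n2539
theorem D3392 : act 1 n2539 = n3392 := rfl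
def n3393 : Q := act 0 n2540
theorem D3393 : act 0 n2540 = n3393 := rfl
theorem F5990 : act 3 n3393 = n2546 := d2_2 (iv F4600) D3393 (iv D2546)
theorem F5991 : act 6 n3393 = n2554 := d5_2 (iv F4601) D3393 (iv D2554)
def n3394 : Q := act 2 n2540
theorem D3394 : act 2 n2540 = n3394 := rfl
theorem F5992 : act 6 n3394 = n2555 := d14_2 (iv F4601) D3394 (iv D2555)
def n3395 : Q := act 5 n2540
theorem D3395 : act 5 n2540 = n3395 := rfl
def n3396 : Q := act 1 n2541
theorem D3396 : act 1 n2541 = n3396 := rfl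
theorem F5994 : act 3 n3396 = n2548 := d7_2 (iv F4603) D3396 (iv D2548)
def n3397 : Q := act 1 n2542
theorem D3397 : act 1 n2542 = n3397 := rfl
def n3398 : Q := act 2 n2542
theorem D3398 : act 2 n2542 = n3398 := rfl
theorem F5995 : act 0 n3398 = n2543 := d1_1 D3398 (iv D2543) D2542
theorem F5996 : act 5 n3398 = n2558 := d13_2 (iv F4605) D3398 (iv D2558)
def n3399 : Q := act 3 n2543
theorem D3399 : act 3 n2543 = n3399 := rfl
theorem F5997 : act 5 n3399 = n2560 := d16_2 (iv F4606) D3399 (iv D2560)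
def n3400 : Q := act 6 n2543
theorem D3400 : act 6 n2543 = n3400 := rfl
theorem F5998 : act 2 n3400 = n2544 := d14_1 D3400 (iv D2544) D2543
def n3401 : Q := act 1 n2544
theorem D3401 : act 1 n2544 = n3401 := rfl
theorem F5999 : act 6 n3401 = n2545 := d10_2 D2544 D3401 (iv D2545) (iv D2113) D2112
def n3402 : Q := act 0 n2545
theorem D3402 : act 0 n2545 = n3402 := rfl
def n3403 : Q := act 2 n2545
theorem D3403 : act 2 n2545 = n3403 := rfl
def n3404 : Q := act 5 n2545
theorem D3404 : act 5 n2545 = n3404 := rfl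
theorem F6000 : act 1 n3404 = n3375 := d9_1 D3404 (iv D3375) (iv D2531) (iv F3911) D2545
def n3405 : Q := act 1 n2546
theorem D3405 : act 1 n2546 = n3405 := rfl
def n3406 : Q := act 1 n2547
theorem D3406 : act 1 n2547 = n3406 := rfl
theorem F6001 : act 5 n3406 = n2548 := d9_2 D2547 D3406 (iv D2548) (iv D2115) D2114
def n3407 : Q := act 0 n2548
theorem D3407 : act 0 n2548 = n3407 := rfl
def n3408 : Q := act 2 n2548
theorem D3408 : act 2 n2548 = n3408 := rfl
def n3409 : Q := act 6 n2548
theorem D3409 : act 6 n2548 = n3409 := rfl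
theorem F6002 : act 1 n3409 = n3372 := d10_1 D3409 (iv D3372) (iv D2530) (iv F3914) D2548
def n3410 : Q := act 0 n2549
theorem D3410 : act 0 n2549 = n3410 := rfl
theorem F6003 : act 4 n3410 = n2551 := d3_2 (iv F4608) D3410 (iv D2551)
def n3411 : Q := act 2 n2549
theorem D3411 : act 2 n2549 = n3411 := rfl
theorem F6004 : act 1 n3411 = n2646 := d6_1 D3411 (iv D2646) (iv D2165) (iv F3916) D2549
theorem F6005 : act 4 n3411 = n2552 := d12_2 (iv F4608) D3411 (iv D2552)
def n3412 : Q := act 6 n2549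
theorem D3412 : act 6 n2549 = n3412 := rfl
theorem F6006 : act 4 n3412 = n2553 := d19_1 D3412 (iv D2553) (iv F4608)
def n3413 : Q := act 0 n2550
theorem D3413 : act 0 n2550 = n3413 := rfl
theorem F6007 : act 4 n3413 = n2554 := d3_2 (iv F4609) D3413 (iv D2554)
def n3414 : Q := act 2 n2550
theorem D3414 : act 2 n2550 = n3414 := rfl
def n3415 : Q := act 5 n2550
theorem D3415 : act 5 n2550 = n3415 := rfl
theorem F6010 : act 4 n3415 = n2556 := d18_1 D3415 (iv D2556) (iv F4609)
def n3416 : Q := act 1 n2551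
theorem D3416 : act 1 n2551 = n3416 := rfl
theorem F6011 : act 3 n3416 = n2557 := d7_2 (iv F4610) D3416 (iv D2557)
def n3417 : Q := act 2 n2551
theorem D3417 : act 2 n2551 = n3417 := rfl
theorem F6012 : act 0 n3417 = n2552 := d1_1 D3417 (iv D2552) D2551
def n3418 : Q := act 6 n2551
theorem D3418 : act 6 n2551 = n3418 := rfl
theorem F6013 : act 0 n3418 = n2553 := d5_1 D3418 (iv D2553) D2551
theorem F6014 : act 3 n3418 = n2559 := d17_1 D3418 (iv D2559) (iv F4610)
theorem F6015 : act 5 n3418 = n3391 := d22_2 F5986 D3418 (iv D3391) D3389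
def n3419 : Q := act 3 n2552
theorem D3419 : act 3 n2552 = n3419 := rfl
theorem F6016 : act 1 n3419 = n2656 := d7_1 D3419 (iv D2656) (iv F4611)
def n3420 : Q := act 6 n2552
theorem D3420 : act 6 n2552 = n3420 := rfl
theorem F6017 : act 2 n3420 = n2553 := d14_1 D3420 (iv D2553) D2552
def n3421 : Q := act 5 n2553
theorem D3421 : act 5 n2553 = n3421 := rfl
theorem F6018 : act 0 n3421 = n3391 := d4_1 D3421 (iv F6015) F6013
theorem F6020 : act 6 n3421 = n3389 := d20_2 D2553 D3421 F5986 D3418 F6015 (iv D3391) F4597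
def n3422 : Q := act 1 n2554
theorem D3422 : act 1 n2554 = n3422 := rfl
theorem F6021 : act 3 n3422 = n2563 := d7_2 (iv F4613) D3422 (iv D2563)
def n3423 : Q := act 2 n2554
theorem D3423 : act 2 n2554 = n3423 := rfl
def n3424 : Q := act 5 n2554
theorem D3424 : act 5 n2554 = n3424 := rfl
theorem F6023 : act 0 n3424 = n2556 := d4_1 D3424 (iv D2556) D2554
theorem F6024 : act 3 n3424 = n2564 := d16_1 D3424 (iv D2564) (iv F4613)
theorem F6025 : act 6 n3424 = n3395 := d22_1 D3424 (iv D3395) F4601 D2554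
def n3425 : Q := act 3 n2555
theorem D3425 : act 3 n2555 = n3425 := rfl
theorem F6026 : act 1 n3425 = n2666 := d7_1 D3425 (iv D2666) (iv F4614)
def n3426 : Q := act 5 n2555
theorem D3426 : act 5 n2555 = n3426 := rfl
theorem F6027 : act 2 n3426 = n2556 := d13_1 D3426 (iv D2556) D2555
def n3427 : Q := act 6 n2556
theorem D3427 : act 6 n2556 = n3427 := rfl
theorem F6029 : act 3 n3427 = n2565 := d17_1 D3427 (iv D2565) (iv F4615)
theorem F6030 : act 5 n3427 = n3393 := d20_1 D3427 F5991 D3424 F6025 (iv D3395) F4601 D2556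
def n3428 : Q := act 0 n2557
theorem D3428 : act 0 n2557 = n3428 := rfl
theorem F6031 : act 1 n3428 = n2673 := d0_2 D2557 D3428 (iv D2673) (iv D2177) (iv D1196) (iv D585) (iv F915) D1143 D2120
def n3429 : Q := act 2 n2557
theorem D3429 : act 2 n2557 = n3429 := rfl
def n3430 : Q := act 5 n2557
theorem D3430 : act 5 n2557 = n3430 := rfl
def n3431 : Q := act 6 n2557
theorem D3431 : act 6 n2557 = n3431 := rfl
def n3432 : Q := act 1 n2558
theorem D3432 : act 1 n2558 = n3432 := rfl
def n3433 : Q := act 3 n2558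
theorem D3433 : act 3 n2558 = n3433 := rfl
theorem F6032 : act 0 n3433 = n2560 := d2_1 D3433 (iv D2560) (iv F4616)
def n3434 : Q := act 6 n2558
theorem D3434 : act 6 n2558 = n3434 := rfl
theorem F6033 : act 0 n3434 = n2561 := d5_1 D3434 (iv D2561) (iv F4616)
theorem F6034 : act 2 n3434 = n2559 := d14_1 D3434 (iv D2559) D2558
theorem F6035 : act 5 n3434 = n3400 := d22_2 F5996 D3434 (iv D3400) (iv F5995)
def n3435 : Q := act 1 n2559
theorem D3435 : act 1 n2559 = n3435 := rfl
def n3436 : Q := act 2 n2560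
theorem D3436 : act 2 n2560 = n3436 := rfl
def n3437 : Q := act 4 n2560
theorem D3437 : act 4 n2560 = n3437 := rfl
theorem F6036 : act 1 n3437 = n2570 := d8_1 D3437 (iv D2570) (iv F4619)
def n3438 : Q := act 6 n2560
theorem D3438 : act 6 n2560 = n3438 := rfl
theorem F6037 : act 3 n3438 = n2561 := d17_1 D3438 (iv D2561) D2560
def n3439 : Q := act 1 n2561
theorem D3439 : act 1 n2561 = n3439 := rfl
theorem F6038 : act 6 n3439 = n2572 := d10_2 D2561 D3439 (iv D2572) (iv D2128) (iv F3923)
def n3440 : Q := act 5 n2561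
theorem D3440 : act 5 n2561 = n3440 := rfl
theorem F6040 : act 2 n3440 = n2562 := d13_1 D3440 (iv D2562) (iv F4620)
theorem F6041 : act 6 n3440 = n3398 := d20_2 D2561 D3440 F5996 D3434 F6035 (iv D3400) F4606
def n3441 : Q := act 1 n2562
theorem D3441 : act 1 n2562 = n3441 := rfl
def n3442 : Q := act 0 n2563
theorem D3442 : act 0 n2563 = n3442 := rfl
theorem F6042 : act 1 n3442 = n2691 := d0_2 D2563 D3442 (iv D2691) (iv D2186) (iv D1200) (iv D587) (iv F917) D1144 D2123
def n3443 : Q := act 2 n2563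
theorem D3443 : act 2 n2563 = n3443 := rfl
def n3444 : Q := act 5 n2563
theorem D3444 : act 5 n2563 = n3444 := rfl
def n3445 : Q := act 6 n2563
theorem D3445 : act 6 n2563 = n3445 := rfl
def n3446 : Q := act 1 n2564
theorem D3446 : act 1 n2564 = n3446 := rfl
def n3447 : Q := act 1 n2565
theorem D3447 : act 1 n2565 = n3447 := rfl
def n3448 : Q := act 1 n2566
theorem D3448 : act 1 n2566 = n3448 := rfl
theorem F6043 : act 2 n3448 = n2567 := d6_2 D2566 D3448 (iv D2567) (iv D2126) D2125
theorem F6044 : act 4 n3448 = n3028 := d8_2 (iv F4628) D3448 (iv D3028)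
def n3449 : Q := act 3 n2566
theorem D3449 : act 3 n2566 = n3449 := rfl
theorem F6045 : act 0 n3449 = n3088 := d2_1 D3449 (iv D3088) (iv F4627)
theorem F6046 : act 2 n3449 = n2947 := d11_1 D3449 (iv D2947) (iv D2315) F2801 F3810 (iv F3004) D2386 D3088 (iv F5401) F5402 F4322 F3011 (iv F3793) (iv F3925) D2566
theorem F6047 : act 5 n3449 = n2843 := d16_2 (iv F4629) D3449 F4967
theorem F6048 : act 6 n3449 = n2920 := d17_2 (iv F4630) D3449 (iv D2920)
def n3450 : Q := act 0 n2567
theorem D3450 : act 0 n2567 = n3450 := rfl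
def n3453 : Q := act 6 n2567
theorem D3453 : act 6 n2567 = n3453 := rfl
def n3454 : Q := act 4 n2568
theorem D3454 : act 4 n2568 = n3454 := rfl
theorem F6050 : act 0 n3454 = n2570 := d3_1 D3454 (iv D2570) (iv F4631)
def n3455 : Q := act 1 n2569
theorem D3455 : act 1 n2569 = n3455 := rfl
def n3460 : Q := act 0 n2572
theorem D3460 : act 0 n2572 = n3460 := rfl
def n3461 : Q := act 5 n2572
theorem D3461 : act 5 n2572 = n3461 := rfl
def n3476 : Q := act 3 n2582
theorem D3476 : act 3 n2582 = n3476 := rfl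
theorem F6080 : act 0 n3476 = n2586 := d2_1 D3476 (iv D2586) (iv F4651)
theorem F6081 : act 1 n3476 = n2863 := d7_1 D3476 F5011 (iv F5647)
theorem F6082 : act 4 n3476 = n2735 := d15_2 (iv F5648) D3476 (iv D2735) (iv F5642) (iv F4295)
theorem F6083 : act 2 n3174 = n3476 := d12_3 F6082 F5641 D3174
def n3477 : Q := act 5 n2582
theorem D3477 : act 5 n2582 = n3477 := rfl
theorem F6084 : act 0 n3477 = n2587 := d4_1 D3477 (iv D2587) (iv F4651)
theorem F6085 : act 2 n3477 = n2584 := d13_1 D3477 (iv D2584) D2582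
theorem F6086 : act 4 n3477 = n3074 := d18_1 D3477 (iv D3074) (iv F5648)
def n3478 : Q := act 6 n2582
theorem D3478 : act 6 n2582 = n3478 := rfl
def n3479 : Q := act 2 n2583
theorem D3479 : act 2 n2583 = n3479 := rfl
theorem F6090 : act 0 n3479 = n2589 := d1_1 D3479 (iv D2589) (iv F4652)
def n3480 : Q := act 4 n2583
theorem D3480 : act 4 n2583 = n3480 := rfl
theorem F6091 : act 0 n3480 = n2590 := d3_1 D3480 (iv D2590) (iv F4652)
def n3481 : Q := act 5 n2583
theorem D3481 : act 5 n2583 = n3481 := rfl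
theorem F6092 : act 0 n3481 = n2591 := d4_1 D3481 (iv D2591) (iv F4652)
theorem F6093 : act 3 n3481 = n2584 := d16_1 D3481 (iv D2584) D2583
def n3482 : Q := act 6 n2583
theorem D3482 : act 6 n2583 = n3482 := rfl
theorem F6094 : act 0 n3482 = n2592 := d5_1 D3482 (iv D2592) (iv F4652)
def n3483 : Q := act 1 n2584
theorem D3483 : act 1 n2584 = n3483 := rfl
def n3484 : Q := act 1 n2585
theorem D3484 : act 1 n2585 = n3484 := rfl
def n3485 : Q := act 2 n2586
theorem D3485 : act 2 n2586 = n3485 := rfl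
theorem F6096 : act 0 n3485 = n3174 := d1_1 D3485 F6083 F6080
theorem F6097 : act 4 n3485 = n2740 := d12_2 (iv F5636) D3485 (iv D2740)
theorem F6098 : act 3 n3480 = n3485 := d15_5 F6097 F5654 F4394 D2583 D3480
def n3486 : Q := act 5 n2586
theorem D3486 : act 5 n2586 = n3486 := rfl
theorem F6099 : act 3 n3486 = n2587 := d16_1 D3486 (iv D2587) D2586
theorem F6100 : act 4 n3486 = n2742 := d18_1 D3486 (iv D2742) (iv F5636)
def n3488 : Q := act 1 n2587
theorem D3488 : act 1 n2587 = n3488 := rfl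
theorem F6103 : act 5 n3488 = n2744 := d9_2 D2587 D3488 (iv D2744) (iv D2217) (iv F3945)
def n3489 : Q := act 6 n2587
theorem D3489 : act 6 n2587 = n3489 := rfl
theorem F6104 : act 2 n3489 = n2594 := d14_1 D3489 (iv D2594) (iv F4656)
theorem F6105 : act 5 n3489 = n3478 := d22_2 D2587 D3489 (iv D3478) F4651
def n3490 : Q := act 1 n2588
theorem D3490 : act 1 n2588 = n3490 := rfl
theorem F6106 : act 6 n3490 = n2746 := d10_2 D2588 D3490 (iv D2746) (iv D2218) (iv F3945)
def n3491 : Q := act 5 n2588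
theorem D3491 : act 5 n2588 = n3491 := rfl
theorem F6109 : act 6 n3491 = n3477 := d20_2 D2588 D3491 (iv D3477) D3478 (iv F6105) (iv D3489) (iv D2587)
def n3492 : Q := act 1 n2589
theorem D3492 : act 1 n2589 = n3492 := rfl
theorem F6110 : act 2 n3492 = n2597 := d6_2 D2589 D3492 (iv D2597) (iv D2142) (iv F3946)
def n3493 : Q := act 3 n2589
theorem D3493 : act 3 n2589 = n3493 := rfl
theorem F6111 : act 2 n3493 = n2590 := d21_2 D2589 D3493 (iv F5545) F6083 (iv D3476) (iv D2582) D2583 F4652
theorem F6112 : act 4 n2589 = n3493 := d25_0 (iv D3493) (iv D2589) (iv D2139) D2138 F3945 D2216 D2740 F5654 F5646 (iv D2379) F3000 (iv F4087) D2810 F4923 F4589 (iv D2148) (iv D1182) (iv D579) F515 (iv D161) (iv F303) (iv D139) (iv D78) F125 (iv F113) (iv D41) (iv D21) (iv F56) D33 D57 D99 (iv F3562) (iv D57) (iv D33) F56 (iv D12) D13 D24 F68 (iv D14) F36 (iv D9) (iv D4) F12 D4 F18 D9 D14 (iv F68) (iv D24) (iv F62) D41 F114 (iv F165) D122 D229 D454 F3823 (iv D636) (iv F654) (iv F1217) (iv D777)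 D778 D1528 F3733 (iv D916) (iv F3625) (iv D247) (iv F408) D417 D860 D1692 (iv F3305) (iv F4408) (iv F4666) (iv F6110) (iv D3492)
def n3494 : Q := act 5 n2589
theorem D3494 : act 5 n2589 = n3494 := rfl
theorem F6113 : act 2 n3494 = n2591 := d13_1 D3494 (iv D2591) D2589
def n3495 : Q := act 6 n2589
theorem D3495 : act 6 n2589 = n3495 := rfl
theorem F6114 : act 2 n3495 = n2592 := d14_1 D3495 (iv D2592) D2589
def n3496 : Q := act 5 n2590
theorem D3496 : act 5 n2590 = n3496 := rfl
theorem F6115 : act 4 n3496 = n2591 := d18_1 D3496 (iv D2591) D2590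
def n3497 : Q := act 6 n2590
theorem D3497 : act 6 n2590 = n3497 := rfl
theorem F6116 : act 4 n3497 = n2592 := d19_1 D3497 (iv D2592) D2590
def n3498 : Q := act 1 n2591
theorem D3498 : act 1 n2591 = n3498 := rfl
theorem F6117 : act 3 n3498 = n2593 := d7_2 (iv F4659) D3498 (iv D2593)
theorem F6118 : act 5 n3498 = n2603 := d9_2 D2591 D3498 (iv D2603) (iv D2144) (iv F3946)
def n3499 : Q := act 6 n2591
theorem D3499 : act 6 n2591 = n3499 := rfl
theorem F6120 : act 5 n3499 = n3482 := d22_2 D2591 D3499 (iv D3482) F4652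
def n3500 : Q := act 1 n2592
theorem D3500 : act 1 n2592 = n3500 := rfl
theorem F6121 : act 3 n3500 = n2595 := d7_2 (iv F4660) D3500 (iv D2595)
theorem F6122 : act 6 n3500 = n2604 := d10_2 D2592 D3500 (iv D2604) (iv D2145) (iv F3946)
def n3501 : Q := act 5 n2592
theorem D3501 : act 5 n2592 = n3501 := rfl
theorem F6124 : act 3 n3501 = n2596 := d16_1 D3501 (iv D2596) (iv F4660)
theorem F6125 : act 6 n3501 = n3481 := d20_2 D2592 D3501 (iv D3481) D3482 (iv F6120) (iv D3499) (iv D2591)
def n3502 : Q := act 0 n2593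
theorem D3502 : act 0 n2593 = n3502 := rfl
theorem F6126 : act 5 n3502 = n2605 := d4_2 (iv F4661) D3502 (iv D2605)
def n3503 : Q := act 2 n2593
theorem D3503 : act 2 n2593 = n3503 := rfl
theorem F6127 : act 5 n3503 = n2606 := d13_2 (iv F4661) D3503 (iv D2606)
def n3504 : Q := act 6 n2593
theorem D3504 : act 6 n2593 = n3504 := rfl
def n3505 : Q := act 1 n2594
theorem D3505 : act 1 n2594 = n3505 := rfl
def n3506 : Q := act 0 n2595
theorem D3506 : act 0 n2595 = n3506 := rfl
theorem F6128 : act 6 n3506 = n2608 := d5_2 (iv F4663) D3506 (iv D2608)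
def n3507 : Q := act 2 n2595
theorem D3507 : act 2 n2595 = n3507 := rfl
theorem F6129 : act 6 n3507 = n2609 := d14_2 (iv F4663) D3507 (iv D2609)
def n3508 : Q := act 5 n2595
theorem D3508 : act 5 n2595 = n3508 := rfl
def n3509 : Q := act 1 n2596
theorem D3509 : act 1 n2596 = n3509 := rfl
def n3510 : Q := act 4 n2597
theorem D3510 : act 4 n2597 = n3510 := rfl
theorem F6130 : act 0 n3510 = n2900 := d3_1 D3510 (iv F5633) F5631
theorem F6131 : act 1 n3510 = n2598 := d8_1 D3510 (iv D2598) D2597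
theorem F6132 : act 3 n3510 = n2899 := d15_1 D3510 F5101 (iv F4435) (iv F4935) (iv F4666)
def n3511 : Q := act 5 n2597
theorem D3511 : act 5 n2597 = n3511 := rfl
def n3512 : Q := act 6 n2597
theorem D3512 : act 6 n2597 = n3512 := rfl
def n3513 : Q := act 5 n2598
theorem D3513 : act 5 n2598 = n3513 := rfl
theorem F6135 : act 0 n3513 = n2615 := d4_1 D3513 (iv D2615) (iv F4667)
theorem F6136 : act 2 n3513 = n2601 := d13_1 D3513 (iv D2601) (iv F4668)
theorem F6137 : act 4 n3513 = n2599 := d18_1 D3513 (iv D2599) D2598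
def n3514 : Q := act 6 n2598
theorem D3514 : act 6 n2598 = n3514 := rfl
theorem F6138 : act 0 n3514 = n2616 := d5_1 D3514 (iv D2616) (iv F4667)
theorem F6139 : act 2 n3514 = n2602 := d14_1 D3514 (iv D2602) (iv F4668)
theorem F6140 : act 4 n3514 = n2600 := d19_1 D3514 (iv D2600) D2598
def n3515 : Q := act 1 n2599
theorem D3515 : act 1 n2599 = n3515 := rfl
theorem F6141 : act 3 n3515 = n3195 := d7_2 (iv F4671) D3515 (iv D3195)
def n3516 : Q := act 1 n2600
theorem D3516 : act 1 n2600 = n3516 := rfl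
theorem F6142 : act 3 n3516 = n3197 := d7_2 (iv F4674) D3516 (iv D3197)
def n3517 : Q := act 1 n2601
theorem D3517 : act 1 n2601 = n3517 := rfl
theorem F6143 : act 4 n3517 = n2603 := d8_2 (iv F4676) D3517 (iv D2603)
def n3518 : Q := act 1 n2602
theorem D3518 : act 1 n2602 = n3518 := rfl
theorem F6144 : act 4 n3518 = n2604 := d8_2 (iv F4678) D3518 (iv D2604)
def n3519 : Q := act 0 n2603
theorem D3519 : act 0 n2603 = n3519 := rfl
theorem F6145 : act 3 n3519 = n2605 := d2_2 (iv F4679) D3519 (iv D2605)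
def n3520 : Q := act 2 n2603
theorem D3520 : act 2 n2603 = n3520 := rfl
def n3521 : Q := act 6 n2603
theorem D3521 : act 6 n2603 = n3521 := rfl
theorem F6146 : act 3 n3521 = n2607 := d17_1 D3521 (iv D2607) (iv F4679)
def n3522 : Q := act 0 n2604
theorem D3522 : act 0 n2604 = n3522 := rfl
theorem F6147 : act 3 n3522 = n2608 := d2_2 (iv F4680) D3522 (iv D2608)
def n3523 : Q := act 2 n2604
theorem D3523 : act 2 n2604 = n3523 := rfl
def n3524 : Q := act 5 n2604
theorem D3524 : act 5 n2604 = n3524 := rfl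
theorem F6148 : act 3 n3524 = n2610 := d16_1 D3524 (iv D2610) (iv F4680)
def n3525 : Q := act 1 n2605
theorem D3525 : act 1 n2605 = n3525 := rfl
def n3526 : Q := act 2 n2605
theorem D3526 : act 2 n2605 = n3526 := rfl
theorem F6149 : act 0 n3526 = n2606 := d1_1 D3526 (iv D2606) D2605
def n3527 : Q := act 6 n2605
theorem D3527 : act 6 n2605 = n3527 := rfl
theorem F6151 : act 5 n3527 = n3504 := d22_2 F6126 D3527 (iv D3504) D3502
def n3528 : Q := act 3 n2606
theorem D3528 : act 3 n2606 = n3528 := rfl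
def n3529 : Q := act 6 n2606
theorem D3529 : act 6 n2606 = n3529 := rfl
def n3530 : Q := act 5 n2607
theorem D3530 : act 5 n2607 = n3530 := rfl
def n3531 : Q := act 1 n2608
theorem D3531 : act 1 n2608 = n3531 := rfl
def n3532 : Q := act 2 n2608
theorem D3532 : act 2 n2608 = n3532 := rfl
theorem F6156 : act 0 n3532 = n2609 := d1_1 D3532 (iv D2609) D2608
def n3533 : Q := act 5 n2608
theorem D3533 : act 5 n2608 = n3533 := rfl
theorem F6157 : act 0 n3533 = n2610 := d4_1 D3533 (iv D2610) D2608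
theorem F6158 : act 6 n3533 = n3508 := d22_1 D3533 (iv D3508) F4663 D2608
def n3534 : Q := act 3 n2609
theorem D3534 : act 3 n2609 = n3534 := rfl
theorem F6159 : act 1 n3534 = n2765 := d7_1 D3534 (iv D2765) (iv F4682)
def n3535 : Q := act 5 n2609
theorem D3535 : act 5 n2609 = n3535 := rfl
theorem F6160 : act 2 n3535 = n2610 := d13_1 D3535 (iv D2610) D2609
def n3536 : Q := act 6 n2610
theorem D3536 : act 6 n2610 = n3536 := rfl
theorem F6161 : act 0 n3536 = n3508 := d5_1 D3536 (iv F6158) F6157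
theorem F6162 : act 5 n3536 = n3506 := d20_1 D3536 F6128 D3533 F6158 (iv D3508) F4663 D2610
def n3537 : Q := act 5 n2611
theorem D3537 : act 5 n2611 = n3537 := rfl
theorem F6163 : act 0 n3537 = n3193 := d4_1 D3537 (iv D3193) (iv F4683)
theorem F6165 : act 3 n3537 = n2881 := d16_1 D3537 (iv D2881) (iv F5045)
theorem F6166 : act 4 n3537 = n2612 := d18_1 D3537 (iv D2612) D2611
def n3538 : Q := act 6 n2611
theorem D3538 : act 6 n2611 = n3538 := rfl
theorem F6167 : act 0 n3538 = n3194 := d5_1 D3538 (iv D3194) (iv F4683)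
theorem F6169 : act 3 n3538 = n2882 := d17_1 D3538 (iv D2882) (iv F5045)
theorem F6170 : act 4 n3538 = n2613 := d19_1 D3538 (iv D2613) D2611
def n3539 : Q := act 1 n2612
theorem D3539 : act 1 n2612 = n3539 := rfl
theorem F6171 : act 3 n3539 = n2617 := d7_2 (iv F4687) D3539 (iv D2617)
def n3540 : Q := act 1 n2613
theorem D3540 : act 1 n2613 = n3540 := rfl
theorem F6172 : act 3 n3540 = n2619 := d7_2 (iv F4690) D3540 (iv D2619)
def n3541 : Q := act 1 n2615
theorem D3541 : act 1 n2615 = n3541 := rfl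
theorem F6173 : act 4 n3541 = n2617 := d8_2 (iv F4692) D3541 (iv D2617)
def n3542 : Q := act 6 n2615
theorem D3542 : act 6 n2615 = n3542 := rfl
theorem F6174 : act 2 n3542 = n2622 := d14_1 D3542 (iv D2622) (iv F4691)
theorem F6175 : act 4 n3542 = n2618 := d19_1 D3542 (iv D2618) (iv F4692)
theorem F6176 : act 5 n3542 = n3514 := d22_2 D2615 D3542 (iv D3514) F4667
def n3543 : Q := act 1 n2616
theorem D3543 : act 1 n2616 = n3543 := rfl
theorem F6177 : act 4 n3543 = n2619 := d8_2 (iv F4694) D3543 (iv D2619)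
def n3544 : Q := act 5 n2616
theorem D3544 : act 5 n2616 = n3544 := rfl
theorem F6180 : act 4 n3544 = n2620 := d18_1 D3544 (iv D2620) (iv F4694)
theorem F6181 : act 6 n3544 = n3513 := d20_2 D2616 D3544 (iv D3513) D3514 (iv F6176) (iv D3542) (iv D2615)
def n3545 : Q := act 0 n2617
theorem D3545 : act 0 n2617 = n3545 := rfl
def n3546 : Q := act 2 n2617
theorem D3546 : act 2 n2617 = n3546 := rfl
theorem F6182 : act 1 n3546 = n2626 := d6_1 D3546 (iv D2626) (iv D2154) (iv F3957) D2617
def n3547 : Q := act 6 n2617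
theorem D3547 : act 6 n2617 = n3547 := rfl
def n3548 : Q := act 1 n2618
theorem D3548 : act 1 n2618 = n3548 := rfl
def n3549 : Q := act 0 n2619
theorem D3549 : act 0 n2619 = n3549 := rfl
def n3550 : Q := act 2 n2619
theorem D3550 : act 2 n2619 = n3550 := rfl
theorem F6183 : act 1 n3550 = n2630 := d6_1 D3550 (iv D2630) (iv D2156) (iv F3958) D2619
def n3551 : Q := act 5 n2619
theorem D3551 : act 5 n2619 = n3551 := rfl
def n3552 : Q := act 1 n2620
theorem D3552 : act 1 n2620 = n3552 := rfl
def n3553 : Q := act 0 n2621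
theorem D3553 : act 0 n2621 = n3553 := rfl
theorem F6184 : act 4 n3553 = n2625 := d3_2 (iv F4700) D3553 (iv D2625)
theorem F6185 : act 5 n3553 = n2645 := d4_2 (iv F4701) D3553 (iv D2645)
def n3554 : Q := act 2 n2621
theorem D3554 : act 2 n2621 = n3554 := rfl
theorem F6186 : act 4 n3554 = n2626 := d12_2 (iv F4700) D3554 (iv D2626)
theorem F6187 : act 5 n3554 = n2646 := d13_2 (iv F4701) D3554 (iv D2646)
def n3555 : Q := act 6 n2621
theorem D3555 : act 6 n2621 = n3555 := rfl
theorem F6188 : act 4 n3555 = n2627 := d19_1 D3555 (iv D2627) (iv F4700)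
def n3556 : Q := act 1 n2622
theorem D3556 : act 1 n2622 = n3556 := rfl
theorem F6189 : act 4 n3556 = n2628 := d8_2 (iv F4702) D3556 (iv D2628)
def n3557 : Q := act 0 n2623
theorem D3557 : act 0 n2623 = n3557 := rfl
theorem F6190 : act 4 n3557 = n2629 := d3_2 (iv F4704) D3557 (iv D2629)
def n3558 : Q := act 2 n2623
theorem D3558 : act 2 n2623 = n3558 := rfl
theorem F6192 : act 4 n3558 = n2630 := d12_2 (iv F4704) D3558 (iv D2630)
def n3559 : Q := act 5 n2623
theorem D3559 : act 5 n2623 = n3559 := rfl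
theorem F6194 : act 4 n3559 = n2631 := d18_1 D3559 (iv D2631) (iv F4704)
def n3560 : Q := act 1 n2624
theorem D3560 : act 1 n2624 = n3560 := rfl
def n3561 : Q := act 1 n2625
theorem D3561 : act 1 n2625 = n3561 := rfl
theorem F6196 : act 3 n3561 = n2633 := d7_2 (iv F4709) D3561 (iv D2633)
def n3562 : Q := act 2 n2625
theorem D3562 : act 2 n2625 = n3562 := rfl
theorem F6197 : act 0 n3562 = n2626 := d1_1 D3562 (iv D2626) D2625
theorem F6198 : act 5 n3562 = n2654 := d13_2 (iv F4710) D3562 (iv D2654)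
def n3563 : Q := act 3 n2626
theorem D3563 : act 3 n2626 = n3563 := rfl
theorem F6199 : act 5 n3563 = n2656 := d16_2 (iv F4711) D3563 (iv D2656)
def n3564 : Q := act 6 n2626
theorem D3564 : act 6 n2626 = n3564 := rfl
theorem F6200 : act 2 n3564 = n2627 := d14_1 D3564 (iv D2627) D2626
def n3565 : Q := act 1 n2627
theorem D3565 : act 1 n2627 = n3565 := rfl
theorem F6201 : act 3 n3565 = n2636 := d7_2 (iv F4712) D3565 (iv D2636)
theorem F6202 : act 6 n3565 = n2628 := d10_2 D2627 D3565 (iv D2628) (iv D2155) D2154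
def n3566 : Q := act 0 n2628
theorem D3566 : act 0 n2628 = n3566 := rfl
theorem F6203 : act 3 n3566 = n2637 := d2_2 (iv F4713) D3566 (iv D2637)
def n3567 : Q := act 2 n2628
theorem D3567 : act 2 n2628 = n3567 := rfl
def n3568 : Q := act 5 n2628
theorem D3568 : act 5 n2628 = n3568 := rfl
theorem F6204 : act 1 n3568 = n3524 := d9_1 D3568 (iv D3524) (iv D2604) (iv F3964) D2628
theorem F6205 : act 3 n3568 = n2639 := d16_1 D3568 (iv D2639) (iv F4713)
def n3569 : Q := act 1 n2629
theorem D3569 : act 1 n2629 = n3569 := rfl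
theorem F6206 : act 3 n3569 = n2640 := d7_2 (iv F4714) D3569 (iv D2640)
def n3570 : Q := act 2 n2629
theorem D3570 : act 2 n2629 = n3570 := rfl
def n3571 : Q := act 3 n2630
theorem D3571 : act 3 n2630 = n3571 := rfl
theorem F6209 : act 6 n3571 = n2666 := d17_2 (iv F4716) D3571 (iv D2666)
def n3572 : Q := act 5 n2630
theorem D3572 : act 5 n2630 = n3572 := rfl
def n3573 : Q := act 1 n2631
theorem D3573 : act 1 n2631 = n3573 := rfl
theorem F6212 : act 5 n3573 = n2632 := d9_2 D2631 D3573 (iv D2632) (iv D2157) D2156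
def n3574 : Q := act 0 n2632
theorem D3574 : act 0 n2632 = n3574 := rfl
theorem F6213 : act 3 n3574 = n2642 := d2_2 (iv F4718) D3574 (iv D2642)
def n3576 : Q := act 6 n2632
theorem D3576 : act 6 n2632 = n3576 := rfl
theorem F6214 : act 1 n3576 = n3521 := d10_1 D3576 (iv D3521) (iv D2603) (iv F3969) D2632
theorem F6215 : act 3 n3576 = n2644 := d17_1 D3576 (iv D2644) (iv F4718)
def n3577 : Q := act 0 n2633
theorem D3577 : act 0 n2633 = n3577 := rfl
def n3578 : Q := act 2 n2633
theorem D3578 : act 2 n2633 = n3578 := rfl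
def n3579 : Q := act 5 n2633
theorem D3579 : act 5 n2633 = n3579 := rfl
theorem F6216 : act 1 n3579 = n2675 := d9_1 D3579 (iv D2675) (iv D2177) (iv F3970) D2633
def n3580 : Q := act 6 n2633
theorem D3580 : act 6 n2633 = n3580 := rfl
def n3581 : Q := act 1 n2634
theorem D3581 : act 1 n2634 = n3581 := rfl
theorem F6217 : act 3 n3581 = n3045 := d7_2 F4721 D3581 (iv D3045)
def n3582 : Q := act 1 n2635
theorem D3582 : act 1 n2635 = n3582 := rfl
theorem F6219 : act 6 n3582 = n2773 := d10_2 D2635 D3582 (iv D2773) (iv D2231) (iv F3971)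
def n3583 : Q := act 0 n2636
theorem D3583 : act 0 n2636 = n3583 := rfl
theorem F6220 : act 6 n3583 = n2637 := d5_2 (iv F4724) D3583 (iv D2637)
def n3584 : Q := act 2 n2636
theorem D3584 : act 2 n2636 = n3584 := rfl
theorem F6221 : act 6 n3584 = n2638 := d14_2 (iv F4724) D3584 (iv D2638)
def n3585 : Q := act 5 n2636
theorem D3585 : act 5 n2636 = n3585 := rfl
def n3586 : Q := act 1 n2637
theorem D3586 : act 1 n2637 = n3586 := rfl
def n3587 : Q := act 2 n2637
theorem D3587 : act 2 n2637 = n3587 := rfl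
theorem F6222 : act 0 n3587 = n2638 := d1_1 D3587 (iv D2638) D2637
def n3588 : Q := act 5 n2637
theorem D3588 : act 5 n2637 = n3588 := rfl
theorem F6223 : act 0 n3588 = n2639 := d4_1 D3588 (iv D2639) D2637
theorem F6224 : act 6 n3588 = n3585 := d22_1 D3588 (iv D3585) F4724 D2637
def n3589 : Q := act 3 n2638
theorem D3589 : act 3 n2638 = n3589 := rfl
theorem F6225 : act 1 n3589 = n2780 := d7_1 D3589 (iv D2780) (iv F4725)
def n3590 : Q := act 5 n2638
theorem D3590 : act 5 n2638 = n3590 := rfl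
theorem F6226 : act 2 n3590 = n2639 := d13_1 D3590 (iv D2639) D2638
def n3591 : Q := act 6 n2639
theorem D3591 : act 6 n2639 = n3591 := rfl
theorem F6227 : act 0 n3591 = n3585 := d5_1 D3591 (iv F6224) F6223
theorem F6228 : act 5 n3591 = n3583 := d20_1 D3591 F6220 D3588 F6224 (iv D3585) F4724 D2639
def n3592 : Q := act 0 n2640
theorem D3592 : act 0 n2640 = n3592 := rfl
def n3593 : Q := act 2 n2640
theorem D3593 : act 2 n2640 = n3593 := rfl
def n3594 : Q := act 5 n2640
theorem D3594 : act 5 n2640 = n3594 := rfl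
def n3595 : Q := act 6 n2640
theorem D3595 : act 6 n2640 = n3595 := rfl
theorem F6230 : act 1 n3595 = n2694 := d10_1 D3595 (iv D2694) (iv D2186) (iv F3975) D2640
def n3596 : Q := act 0 n2641
theorem D3596 : act 0 n2641 = n3596 := rfl
theorem F6231 : act 5 n3596 = n2642 := d4_2 (iv F4727) D3596 (iv D2642)
def n3598 : Q := act 6 n2641
theorem D3598 : act 6 n2641 = n3598 := rfl
def n3599 : Q := act 1 n2642
theorem D3599 : act 1 n2642 = n3599 := rfl
def n3601 : Q := act 6 n2642
theorem D3601 : act 6 n2642 = n3601 := rfl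
theorem F6235 : act 0 n3601 = n2644 := d5_1 D3601 (iv D2644) D2642
theorem F6236 : act 5 n3601 = n3598 := d22_2 F6231 D3601 (iv D3598) D3596
def n3604 : Q := act 5 n2644
theorem D3604 : act 5 n2644 = n3604 := rfl
theorem F6239 : act 0 n3604 = n3598 := d4_1 D3604 (iv F6236) F6235
theorem F6240 : act 6 n3604 = n3596 := d20_2 D2644 D3604 F6231 D3601 F6236 (iv D3598) F4727
def n3605 : Q := act 1 n2645
theorem D3605 : act 1 n2645 = n3605 := rfl
theorem F6241 : act 4 n3605 = n2653 := d8_2 (iv F4730) D3605 (iv D2653)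
def n3606 : Q := act 2 n2645
theorem D3606 : act 2 n2645 = n3606 := rfl
theorem F6242 : act 0 n3606 = n2646 := d1_1 D3606 (iv D2646) D2645
theorem F6243 : act 4 n3606 = n2654 := d12_2 (iv F4730) D3606 (iv D2654)
def n3607 : Q := act 6 n2645
theorem D3607 : act 6 n2645 = n3607 := rfl
theorem F6244 : act 0 n3607 = n2647 := d5_1 D3607 (iv D2647) D2645
theorem F6245 : act 4 n3607 = n2655 := d19_1 D3607 (iv D2655) (iv F4730)
theorem F6246 : act 5 n3607 = n3555 := d22_2 F6185 D3607 (iv D3555) D3553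
def n3608 : Q := act 3 n2646
theorem D3608 : act 3 n2646 = n3608 := rfl
def n3609 : Q := act 6 n2646
theorem D3609 : act 6 n2646 = n3609 := rfl
theorem F6247 : act 2 n3609 = n2647 := d14_1 D3609 (iv D2647) D2646
theorem F6248 : act 4 n3609 = n2657 := d19_1 D3609 (iv D2657) (iv F4731)
def n3610 : Q := act 1 n2647
theorem D3610 : act 1 n2647 = n3610 := rfl
theorem F6249 : act 4 n3610 = n2658 := d8_2 (iv F4732) D3610 (iv D2658)
theorem F6250 : act 6 n3610 = n2648 := d10_2 D2647 D3610 (iv D2648) (iv D2166) D2165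
def n3611 : Q := act 5 n2647
theorem D3611 : act 5 n2647 = n3611 := rfl
theorem F6251 : act 0 n3611 = n3555 := d4_1 D3611 (iv F6246) F6244
theorem F6253 : act 6 n3611 = n3553 := d20_2 D2647 D3611 F6185 D3607 F6246 (iv D3555) F4701
def n3612 : Q := act 0 n2648
theorem D3612 : act 0 n2648 = n3612 := rfl
theorem F6254 : act 4 n3612 = n2660 := d3_2 (iv F4733) D3612 (iv D2660)
def n3613 : Q := act 2 n2648
theorem D3613 : act 2 n2648 = n3613 := rfl
theorem F6255 : act 4 n3613 = n2661 := d12_2 (iv F4733) D3613 (iv D2661)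
def n3614 : Q := act 5 n2648
theorem D3614 : act 5 n2648 = n3614 := rfl
theorem F6256 : act 1 n3614 = n3415 := d9_1 D3614 (iv D3415) (iv D2550) (iv F3979) D2648
theorem F6257 : act 4 n3614 = n2662 := d18_1 D3614 (iv D2662) (iv F4733)
def n3617 : Q := act 5 n2649
theorem D3617 : act 5 n2649 = n3617 := rfl
theorem F6262 : act 4 n3617 = n2665 := d18_1 D3617 (iv D2665) (iv F4734)
def n3620 : Q := act 1 n2651
theorem D3620 : act 1 n2651 = n3620 := rfl
theorem F6266 : act 4 n3620 = n2668 := d8_2 (iv F4736) D3620 (iv D2668)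
theorem F6267 : act 5 n3620 = n2652 := d9_2 D2651 D3620 (iv D2652) (iv D2168) D2167
def n3621 : Q := act 6 n2651
theorem D3621 : act 6 n2651 = n3621 := rfl
theorem F6269 : act 4 n3621 = n2669 := d19_1 D3621 (iv D2669) (iv F4736)
def n3622 : Q := act 0 n2652
theorem D3622 : act 0 n2652 = n3622 := rfl
theorem F6271 : act 4 n3622 = n2670 := d3_2 (iv F4737) D3622 (iv D2670)
def n3623 : Q := act 2 n2652
theorem D3623 : act 2 n2652 = n3623 := rfl
theorem F6272 : act 1 n3623 = n3613 := d6_1 D3623 (iv D3613) (iv D2648) (iv F3982) D2652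
theorem F6273 : act 4 n3623 = n2671 := d12_2 (iv F4737) D3623 (iv D2671)
def n3624 : Q := act 6 n2652
theorem D3624 : act 6 n2652 = n3624 := rfl
theorem F6274 : act 1 n3624 = n3412 := d10_1 D3624 (iv D3412) (iv D2549) (iv F3984) D2652
theorem F6275 : act 4 n3624 = n2672 := d19_1 D3624 (iv D2672) (iv F4737)
def n3625 : Q := act 0 n2653
theorem D3625 : act 0 n2653 = n3625 := rfl
theorem F6276 : act 3 n3625 = n2673 := d2_2 (iv F4738) D3625 (iv D2673)
def n3626 : Q := act 2 n2653
theorem D3626 : act 2 n2653 = n3626 := rfl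
def n3627 : Q := act 5 n2653
theorem D3627 : act 5 n2653 = n3627 := rfl
def n3628 : Q := act 6 n2653
theorem D3628 : act 6 n2653 = n3628 := rfl
def n3629 : Q := act 1 n2654
theorem D3629 : act 1 n2654 = n3629 := rfl
def n3630 : Q := act 6 n2654
theorem D3630 : act 6 n2654 = n3630 := rfl
theorem F6280 : act 2 n3630 = n2655 := d14_1 D3630 (iv D2655) D2654
theorem F6281 : act 5 n3630 = n3564 := d22_2 F6198 D3630 (iv D3564) (iv F6197)
def n3631 : Q := act 1 n2655
theorem D3631 : act 1 n2655 = n3631 := rfl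
theorem F6282 : act 3 n3631 = n2679 := d7_2 (iv F4741) D3631 (iv D2679)
def n3632 : Q := act 4 n2656
theorem D3632 : act 4 n2656 = n3632 := rfl
def n3634 : Q := act 1 n2657
theorem D3634 : act 1 n2657 = n3634 := rfl
def n3635 : Q := act 5 n2657
theorem D3635 : act 5 n2657 = n3635 := rfl
theorem F6286 : act 6 n3635 = n3562 := d20_2 D2657 D3635 F6198 D3630 F6281 (iv D3564) F4711
def n3636 : Q := act 0 n2658
theorem D3636 : act 0 n2658 = n3636 := rfl
theorem F6287 : act 3 n3636 = n2681 := d2_2 (iv F4744) D3636 (iv D2681)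
theorem F6288 : act 6 n3636 = n2660 := d5_2 (iv F4745) D3636 (iv D2660)
def n3637 : Q := act 2 n2658
theorem D3637 : act 2 n2658 = n3637 := rfl
def n3638 : Q := act 5 n2658
theorem D3638 : act 5 n2658 = n3638 := rfl
theorem F6290 : act 3 n3638 = n2683 := d16_1 D3638 (iv D2683) (iv F4744)
def n3639 : Q := act 1 n2659
theorem D3639 : act 1 n2659 = n3639 := rfl
theorem F6291 : act 3 n3639 = n2684 := d7_2 (iv F4747) D3639 (iv D2684)
def n3640 : Q := act 1 n2660
theorem D3640 : act 1 n2660 = n3640 := rfl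
theorem F6292 : act 3 n3640 = n2685 := d7_2 (iv F4749) D3640 (iv D2685)
def n3641 : Q := act 2 n2660
theorem D3641 : act 2 n2660 = n3641 := rfl
theorem F6293 : act 0 n3641 = n2661 := d1_1 D3641 (iv D2661) D2660
def n3642 : Q := act 5 n2660
theorem D3642 : act 5 n2660 = n3642 := rfl
theorem F6295 : act 3 n3642 = n2687 := d16_1 D3642 (iv D2687) (iv F4749)
theorem F6296 : act 6 n3642 = n3638 := d22_1 D3642 (iv D3638) F4745 D2660
def n3643 : Q := act 3 n2661
theorem D3643 : act 3 n2661 = n3643 := rfl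
def n3644 : Q := act 5 n2661
theorem D3644 : act 5 n2661 = n3644 := rfl
theorem F6297 : act 2 n3644 = n2662 := d13_1 D3644 (iv D2662) D2661
def n3645 : Q := act 6 n2662
theorem D3645 : act 6 n2662 = n3645 := rfl
theorem F6299 : act 3 n3645 = n2690 := d17_1 D3645 (iv D2690) (iv F4751)
theorem F6300 : act 5 n3645 = n3636 := d20_1 D3645 F6288 D3642 F6296 (iv D3638) F4745 D2662
def n3646 : Q := act 0 n2663
theorem D3646 : act 0 n2663 = n3646 := rfl
theorem F6301 : act 3 n3646 = n2691 := d2_2 (iv F4752) D3646 (iv D2691)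
def n3648 : Q := act 5 n2663
theorem D3648 : act 5 n2663 = n3648 := rfl
def n3649 : Q := act 6 n2663
theorem D3649 : act 6 n2663 = n3649 := rfl
theorem F6303 : act 3 n3649 = n2694 := d17_1 D3649 (iv D2694) (iv F4752)
def n3653 : Q := act 1 n2665
theorem D3653 : act 1 n2665 = n3653 := rfl
theorem F6309 : act 3 n3653 = n2695 := d7_2 (iv F4755) D3653 (iv D2695)
def n3655 : Q := act 5 n2666
theorem D3655 : act 5 n2666 = n3655 := rfl
def n3656 : Q := act 1 n2667
theorem D3656 : act 1 n2667 = n3656 := rfl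
def n3658 : Q := act 0 n2668
theorem D3658 : act 0 n2668 = n3658 := rfl
theorem F6314 : act 3 n3658 = n2696 := d2_2 (iv F4758) D3658 (iv D2696)
theorem F6315 : act 5 n3658 = n2670 := d4_2 (iv F4759) D3658 (iv D2670)
def n3659 : Q := act 2 n2668
theorem D3659 : act 2 n2668 = n3659 := rfl
theorem F6316 : act 5 n3659 = n2671 := d13_2 (iv F4759) D3659 (iv D2671)
def n3660 : Q := act 6 n2668
theorem D3660 : act 6 n2668 = n3660 := rfl
def n3661 : Q := act 1 n2669
theorem D3661 : act 1 n2669 = n3661 := rfl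
theorem F6318 : act 3 n3661 = n2699 := d7_2 (iv F4761) D3661 (iv D2699)
def n3662 : Q := act 1 n2670
theorem D3662 : act 1 n2670 = n3662 := rfl
theorem F6319 : act 3 n3662 = n2700 := d7_2 (iv F4763) D3662 (iv D2700)
def n3663 : Q := act 2 n2670
theorem D3663 : act 2 n2670 = n3663 := rfl
theorem F6320 : act 0 n3663 = n2671 := d1_1 D3663 (iv D2671) D2670
def n3664 : Q := act 6 n2670
theorem D3664 : act 6 n2670 = n3664 := rfl
theorem F6321 : act 0 n3664 = n2672 := d5_1 D3664 (iv D2672) D2670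
theorem F6323 : act 5 n3664 = n3660 := d22_2 F6315 D3664 (iv D3660) D3658
def n3665 : Q := act 3 n2671
theorem D3665 : act 3 n2671 = n3665 := rfl
def n3666 : Q := act 6 n2671
theorem D3666 : act 6 n2671 = n3666 := rfl
theorem F6325 : act 2 n3666 = n2672 := d14_1 D3666 (iv D2672) D2671
def n3667 : Q := act 5 n2672
theorem D3667 : act 5 n2672 = n3667 := rfl
theorem F6326 : act 0 n3667 = n3660 := d4_1 D3667 (iv F6323) F6321
theorem F6327 : act 3 n3667 = n2705 := d16_1 D3667 (iv D2705) (iv F4766)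
theorem F6328 : act 6 n3667 = n3658 := d20_2 D2672 D3667 F6315 D3664 F6323 (iv D3660) F4759
def n3668 : Q := act 2 n2673
theorem D3668 : act 2 n2673 = n3668 := rfl
def n3670 : Q := act 6 n2673
theorem D3670 : act 6 n2673 = n3670 := rfl
theorem F6331 : act 0 n3670 = n2676 := d5_1 D3670 (iv D2676) D2673
def n3671 : Q := act 1 n2674
theorem D3671 : act 1 n2674 = n3671 := rfl
theorem F6332 : act 2 n3671 = n2677 := d6_2 D2674 D3671 (iv D2677) (iv D2178) D2177
def n3673 : Q := act 5 n2674
theorem D3673 : act 5 n2674 = n3673 := rfl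
theorem F6333 : act 2 n3673 = n2675 := d13_1 D3673 (iv D2675) D2674
def n3674 : Q := act 6 n2674
theorem D3674 : act 6 n2674 = n3674 := rfl
theorem F6334 : act 2 n3674 = n2676 := d14_1 D3674 (iv D2676) D2674
def n3675 : Q := act 6 n2675
theorem D3675 : act 6 n2675 = n3675 := rfl
theorem F6335 : act 5 n3675 = n3670 := d22_2 D2675 D3675 (iv D3670) (iv D2673)
def n3676 : Q := act 1 n2676
theorem D3676 : act 1 n2676 = n3676 := rfl
theorem F6336 : act 6 n3676 = n2679 := d10_2 D2676 D3676 (iv D2679) (iv D2179) D2177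
def n3677 : Q := act 5 n2676
theorem D3677 : act 5 n2676 = n3677 := rfl
theorem F6337 : act 0 n3677 = n3675 := d4_1 D3677 F6335 F6331
def n3678 : Q := act 0 n2677
theorem D3678 : act 0 n2677 = n3678 := rfl
theorem F6339 : act 1 n3678 = n3058 := d0_2 D2677 D3678 (iv D3058) (iv D2373) (iv D1858) (iv D938) (iv F3784) (iv F1954) (iv F3991)
theorem F6340 : act 3 n3678 = n3058 := d2_2 (iv F4767) D3678 (iv D3058)
def n3679 : Q := act 5 n2677
theorem D3679 : act 5 n2677 = n3679 := rfl
def n3680 : Q := act 6 n2677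
theorem D3680 : act 6 n2677 = n3680 := rfl
theorem F6342 : act 3 n3680 = n3061 := d17_1 D3680 (iv D3061) (iv F4767)
def n3681 : Q := act 1 n2678
theorem D3681 : act 1 n2678 = n3681 := rfl
theorem F6343 : act 3 n3681 = n3065 := d7_2 (iv F4770) D3681 (iv D3065)
def n3682 : Q := act 0 n2679
theorem D3682 : act 0 n2679 = n3682 := rfl
def n3683 : Q := act 2 n2679
theorem D3683 : act 2 n2679 = n3683 := rfl
def n3684 : Q := act 5 n2679
theorem D3684 : act 5 n2679 = n3684 := rfl
theorem F6344 : act 1 n3684 = n3585 := d9_1 D3684 (iv D3585) (iv D2636) (iv F3994) D2679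
def n3685 : Q := act 1 n2680
theorem D3685 : act 1 n2680 = n3685 := rfl
theorem F6345 : act 3 n3685 = n3071 := d7_2 (iv F4774) D3685 (iv D3071)
def n3686 : Q := act 1 n2681
theorem D3686 : act 1 n2681 = n3686 := rfl
def n3687 : Q := act 2 n2681
theorem D3687 : act 2 n2681 = n3687 := rfl
theorem F6346 : act 0 n3687 = n2682 := d1_1 D3687 (iv D2682) D2681
theorem F6347 : act 6 n3687 = n2686 := d14_2 (iv F4776) D3687 (iv D2686)
def n3688 : Q := act 3 n2682
theorem D3688 : act 3 n2682 = n3688 := rfl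
theorem F6348 : act 6 n3688 = n2688 := d17_2 (iv F4777) D3688 (iv D2688)
def n3689 : Q := act 5 n2682
theorem D3689 : act 5 n2682 = n3689 := rfl
theorem F6349 : act 2 n3689 = n2683 := d13_1 D3689 (iv D2683) D2682
def n3690 : Q := act 1 n2683
theorem D3690 : act 1 n2683 = n3690 := rfl
theorem F6350 : act 5 n3690 = n2684 := d9_2 D2683 D3690 (iv D2684) (iv D2182) D2181
def n3691 : Q := act 0 n2684
theorem D3691 : act 0 n2684 = n3691 := rfl
def n3692 : Q := act 2 n2684
theorem D3692 : act 2 n2684 = n3692 := rfl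
def n3693 : Q := act 6 n2684
theorem D3693 : act 6 n2684 = n3693 := rfl
theorem F6351 : act 1 n3693 = n3580 := d10_1 D3693 (iv D3580) (iv D2633) (iv F3999) D2684
def n3694 : Q := act 0 n2685
theorem D3694 : act 0 n2685 = n3694 := rfl
def n3695 : Q := act 2 n2685
theorem D3695 : act 2 n2685 = n3695 := rfl
def n3696 : Q := act 5 n2685
theorem D3696 : act 5 n2685 = n3696 := rfl
def n3697 : Q := act 6 n2685
theorem D3697 : act 6 n2685 = n3697 := rfl
def n3698 : Q := act 1 n2686
theorem D3698 : act 1 n2686 = n3698 := rfl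
def n3699 : Q := act 3 n2686
theorem D3699 : act 3 n2686 = n3699 := rfl
theorem F6352 : act 0 n3699 = n2688 := d2_1 D3699 (iv D2688) (iv F4778)
def n3700 : Q := act 5 n2686
theorem D3700 : act 5 n2686 = n3700 := rfl
theorem F6353 : act 0 n3700 = n2689 := d4_1 D3700 (iv D2689) (iv F4778)
theorem F6354 : act 2 n3700 = n2687 := d13_1 D3700 (iv D2687) D2686
theorem F6355 : act 6 n3700 = n3689 := d22_1 D3700 (iv D3689) F4777 (iv F4778)
def n3701 : Q := act 1 n2687
theorem D3701 : act 1 n2687 = n3701 := rfl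
def n3702 : Q := act 2 n2688
theorem D3702 : act 2 n2688 = n3702 := rfl
def n3703 : Q := act 4 n2688
theorem D3703 : act 4 n2688 = n3703 := rfl
theorem F6356 : act 1 n3703 = n2709 := d8_1 D3703 (iv D2709) (iv F4781)
def n3704 : Q := act 5 n2688
theorem D3704 : act 5 n2688 = n3704 := rfl
theorem F6357 : act 3 n3704 = n2689 := d16_1 D3704 (iv D2689) D2688
def n3705 : Q := act 1 n2689
theorem D3705 : act 1 n2689 = n3705 := rfl
theorem F6358 : act 2 n3705 = n2988 := d6_2 (iv F4782) D3705 (iv D2988) F4241 (iv F4001)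
theorem F6359 : act 5 n3705 = n2711 := d9_2 D2689 D3705 (iv D2711) (iv D2195) (iv F4000)
def n3706 : Q := act 6 n2689
theorem D3706 : act 6 n2689 = n3706 := rfl
theorem F6360 : act 0 n3706 = n3689 := d5_1 D3706 (iv F6355) F6353
theorem F6361 : act 2 n3706 = n2690 := d14_1 D3706 (iv D2690) (iv F4782)
theorem F6362 : act 5 n3706 = n3687 := d20_1 D3706 F6347 D3700 F6355 (iv D3689) F4777 D2689
def n3707 : Q := act 1 n2690
theorem D3707 : act 1 n2690 = n3707 := rfl
theorem F6363 : act 6 n3707 = n3447 := d10_2 D2690 D3707 (iv D3447) (iv D2565) (iv F4001)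
def n3708 : Q := act 2 n2691
theorem D3708 : act 2 n2691 = n3708 := rfl
theorem F6364 : act 0 n3708 = n2692 := d1_1 D3708 (iv D2692) D2691
def n3709 : Q := act 5 n2691
theorem D3709 : act 5 n2691 = n3709 := rfl
def n3710 : Q := act 6 n2691
theorem D3710 : act 6 n2691 = n3710 := rfl
theorem F6366 : act 0 n3710 = n2694 := d5_1 D3710 (iv D2694) D2691
def n3712 : Q := act 5 n2692
theorem D3712 : act 5 n2692 = n3712 := rfl
def n3713 : Q := act 6 n2692
theorem D3713 : act 6 n2692 = n3713 := rfl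
theorem F6369 : act 2 n3713 = n2694 := d14_1 D3713 (iv D2694) D2692
def n3714 : Q := act 1 n2693
theorem D3714 : act 1 n2693 = n3714 := rfl
theorem F6370 : act 5 n3714 = n2695 := d9_2 D2693 D3714 (iv D2695) (iv D2187) D2186
def n3715 : Q := act 6 n2693
theorem D3715 : act 6 n2693 = n3715 := rfl
theorem F6371 : act 5 n3715 = n3710 := d22_2 D2693 D3715 (iv D3710) (iv D2691)
def n3716 : Q := act 5 n2694
theorem D3716 : act 5 n2694 = n3716 := rfl
theorem F6372 : act 0 n3716 = n3715 := d4_1 D3716 F6371 F6366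
theorem F6373 : act 6 n3716 = n3709 := d20_2 D2694 D3716 (iv D3709) D3710 (iv F6371) (iv D3715) (iv D2693)
def n3717 : Q := act 0 n2695
theorem D3717 : act 0 n2695 = n3717 := rfl
def n3718 : Q := act 2 n2695
theorem D3718 : act 2 n2695 = n3718 := rfl
def n3719 : Q := act 6 n2695
theorem D3719 : act 6 n2695 = n3719 := rfl
theorem F6375 : act 1 n3719 = n3598 := d10_1 D3719 (iv D3598) (iv D2641) (iv F4004) D2695
def n3720 : Q := act 1 n2696
theorem D3720 : act 1 n2696 = n3720 := rfl
def n3721 : Q := act 2 n2696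
theorem D3721 : act 2 n2696 = n3721 := rfl
theorem F6376 : act 0 n3721 = n2697 := d1_1 D3721 (iv D2697) D2696
theorem F6377 : act 5 n3721 = n2701 := d13_2 (iv F4786) D3721 (iv D2701)
def n3722 : Q := act 3 n2697
theorem D3722 : act 3 n2697 = n3722 := rfl
theorem F6379 : act 5 n3722 = n2703 := d16_2 (iv F4788) D3722 (iv D2703)
def n3723 : Q := act 6 n2697
theorem D3723 : act 6 n2697 = n3723 := rfl
def n3724 : Q := act 1 n2698
theorem D3724 : act 1 n2698 = n3724 := rfl
theorem F6381 : act 6 n3724 = n2699 := d10_2 D2698 D3724 (iv D2699) (iv D2189) D2188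
def n3725 : Q := act 0 n2699
theorem D3725 : act 0 n2699 = n3725 := rfl
def n3726 : Q := act 2 n2699
theorem D3726 : act 2 n2699 = n3726 := rfl
def n3727 : Q := act 5 n2699
theorem D3727 : act 5 n2699 = n3727 := rfl
theorem F6383 : act 1 n3727 = n3594 := d9_1 D3727 (iv D3594) (iv D2640) (iv F4008) D2699
def n3728 : Q := act 0 n2700
theorem D3728 : act 0 n2700 = n3728 := rfl
theorem F6384 : act 1 n3728 = n3694 := d0_2 D2700 D3728 (iv D3694) (iv D2685) (iv D2183) (iv D1199) (iv F953) D1202 D2190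
def n3729 : Q := act 2 n2700
theorem D3729 : act 2 n2700 = n3729 := rfl
def n3730 : Q := act 5 n2700
theorem D3730 : act 5 n2700 = n3730 := rfl
def n3731 : Q := act 6 n2700
theorem D3731 : act 6 n2700 = n3731 := rfl
def n3733 : Q := act 3 n2701
theorem D3733 : act 3 n2701 = n3733 := rfl
def n3734 : Q := act 6 n2701
theorem D3734 : act 6 n2701 = n3734 := rfl
theorem F6388 : act 5 n3734 = n3723 := d22_2 F6377 D3734 (iv D3723) (iv F6376)
def n3735 : Q := act 1 n2702
theorem D3735 : act 1 n2702 = n3735 := rfl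
def n3738 : Q := act 6 n2703
theorem D3738 : act 6 n2703 = n3738 := rfl
def n3739 : Q := act 1 n2704
theorem D3739 : act 1 n2704 = n3739 := rfl
theorem F6391 : act 2 n3739 = n3439 := d6_2 (iv F4793) D3739 (iv D3439) F4620 (iv F4010)
theorem F6392 : act 6 n3739 = n2715 := d10_2 D2704 D3739 (iv D2715) (iv D2197) (iv F4009)
def n3740 : Q := act 5 n2704
theorem D3740 : act 5 n2704 = n3740 := rfl
theorem F6395 : act 6 n3740 = n3721 := d20_2 D2704 D3740 F6377 D3734 F6388 (iv D3723) F4788
def n3741 : Q := act 1 n2705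
theorem D3741 : act 1 n2705 = n3741 := rfl
theorem F6396 : act 5 n3741 = n3441 := d9_2 D2705 D3741 (iv D3441) (iv D2562) (iv F4010)
def n3742 : Q := act 0 n2706
theorem D3742 : act 0 n2706 = n3742 := rfl
def n3743 : Q := act 3 n2706
theorem D3743 : act 3 n2706 = n3743 := rfl
theorem F6397 : act 1 n3743 = n2707 := d7_1 D3743 (iv D2707) D2706
def n3744 : Q := act 5 n2706
theorem D3744 : act 5 n2706 = n3744 := rfl
theorem F6398 : act 1 n3744 = n3461 := d9_1 D3744 (iv D3461) (iv D2572) (iv F4012) D2706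
def n3745 : Q := act 6 n2706
theorem D3745 : act 6 n2706 = n3745 := rfl
def n3749 : Q := act 5 n2709
theorem D3749 : act 5 n2709 = n3749 := rfl
theorem F6403 : act 4 n3749 = n2710 := d18_1 D3749 (iv D2710) D2709
def n3750 : Q := act 1 n2710
theorem D3750 : act 1 n2710 = n3750 := rfl
theorem F6405 : act 3 n3750 = n2711 := d7_2 (iv F4799) D3750 (iv D2711)
def n3751 : Q := act 0 n2711
theorem D3751 : act 0 n2711 = n3751 := rfl
theorem F6406 : act 2 n3751 = n2990 := d1_2 (iv F4801) D3751 (iv D2990)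
def n3752 : Q := act 6 n2711
theorem D3752 : act 6 n2711 = n3752 := rfl
theorem F6407 : act 1 n3752 = n3453 := d10_1 D3752 (iv D3453) (iv D2567) (iv F4015) D2711
def n3755 : Q := act 6 n2712
theorem D3755 : act 6 n2712 = n3755 := rfl
theorem F6412 : act 2 n3755 = n2714 := d14_1 D3755 (iv D2714) D2712
theorem F6413 : act 3 n3755 = n3308 := d17_1 D3755 (iv D3308) (iv F4803)
def n3757 : Q := act 1 n2714
theorem D3757 : act 1 n2714 = n3757 := rfl
theorem F6415 : act 3 n3757 = n2715 := d7_2 (iv F4805) D3757 (iv D2715)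
def n3758 : Q := act 0 n2715
theorem D3758 : act 0 n2715 = n3758 := rfl
theorem F6416 : act 2 n3758 = n3460 := d1_2 (iv F4806) D3758 (iv D3460)
def n3772 : Q := act 3 n2723
theorem D3772 : act 3 n2723 = n3772 := rfl
theorem F6436 : act 1 n3772 = n2724 := d7_1 D3772 (iv D2724) D2723
def n3777 : Q := act 6 n2724
theorem D3777 : act 6 n2724 = n3777 := rfl
theorem F6446 : act 2 n3777 = n3304 := d14_1 D3777 (iv D3304) (iv F4827)
theorem F6447 : act 3 n3777 = n2726 := d17_1 D3777 (iv D2726) D2724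
def n3784 : Q := act 5 n2729
theorem D3784 : act 5 n2729 = n3784 := rfl
theorem F6467 : act 4 n3784 = n2730 := d18_1 D3784 (iv D2730) D2729
def n3787 : Q := act 5 n2735
theorem D3787 : act 5 n2735 = n3787 := rfl
theorem F6476 : act 3 n3787 = n2736 := d16_1 D3787 (iv D2736) D2735
def n3788 : Q := act 6 n2735
theorem D3788 : act 6 n2735 = n3788 := rfl
def n3789 : Q := act 1 n2736
theorem D3789 : act 1 n2736 = n3789 := rfl
def n3790 : Q := act 1 n2737
theorem D3790 : act 1 n2737 = n3790 := rfl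
def n3791 : Q := act 0 n2738
theorem D3791 : act 0 n2738 = n3791 := rfl
def n3792 : Q := act 2 n2738
theorem D3792 : act 2 n2738 = n3792 := rfl
def n3793 : Q := act 6 n2738
theorem D3793 : act 6 n2738 = n3793 := rfl
def n3794 : Q := act 0 n2739
theorem D3794 : act 0 n2739 = n3794 := rfl
def n3795 : Q := act 2 n2739
theorem D3795 : act 2 n2739 = n3795 := rfl
def n3796 : Q := act 5 n2739
theorem D3796 : act 5 n2739 = n3796 := rfl
def n3799 : Q := act 1 n2742
theorem D3799 : act 1 n2742 = n3799 := rfl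
theorem F6486 : act 3 n3799 = n2744 := d7_2 (iv F4862) D3799 (iv D2744)
def n3800 : Q := act 6 n2742
theorem D3800 : act 6 n2742 = n3800 := rfl
theorem F6487 : act 3 n3800 = n2745 := d17_1 D3800 (iv D2745) (iv F4862)
theorem F6488 : act 5 n3800 = n3788 := d22_2 D2742 D3800 (iv D3788) F4857
def n3803 : Q := act 0 n2744
theorem D3803 : act 0 n2744 = n3803 := rfl
def n3804 : Q := act 2 n2744
theorem D3804 : act 2 n2744 = n3804 := rfl
theorem F6493 : act 1 n3804 = n2749 := d6_1 D3804 (iv D2749) (iv D2219) (iv F4061) D2744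
def n3805 : Q := act 6 n2744
theorem D3805 : act 6 n2744 = n3805 := rfl
def n3806 : Q := act 1 n2745
theorem D3806 : act 1 n2745 = n3806 := rfl
def n3807 : Q := act 0 n2746
theorem D3807 : act 0 n2746 = n3807 := rfl
def n3808 : Q := act 2 n2746
theorem D3808 : act 2 n2746 = n3808 := rfl
theorem F6494 : act 1 n3808 = n2753 := d6_1 D3808 (iv D2753) (iv D2221) (iv F4062) D2746
def n3809 : Q := act 5 n2746
theorem D3809 : act 5 n2746 = n3809 := rfl
def n3810 : Q := act 1 n2747
theorem D3810 : act 1 n2747 = n3810 := rfl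
def n3811 : Q := act 1 n2748
theorem D3811 : act 1 n2748 = n3811 := rfl
def n3812 : Q := act 2 n2748
theorem D3812 : act 2 n2748 = n3812 := rfl
theorem F6495 : act 0 n3812 = n2749 := d1_1 D3812 (iv D2749) D2748
theorem F6496 : act 5 n3812 = n2757 := d13_2 (iv F4869) D3812 (iv D2757)
def n3813 : Q := act 3 n2749
theorem D3813 : act 3 n2749 = n3813 := rfl
theorem F6497 : act 5 n3813 = n2759 := d16_2 (iv F4870) D3813 (iv D2759)
def n3814 : Q := act 6 n2749
theorem D3814 : act 6 n2749 = n3814 := rfl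
theorem F6498 : act 2 n3814 = n2750 := d14_1 D3814 (iv D2750) D2749
def n3815 : Q := act 1 n2750
theorem D3815 : act 1 n2750 = n3815 := rfl
theorem F6499 : act 0 n3815 = n3344 := d0_1 D3815 (iv D3344) (iv D2518) (iv D2086) F1706 D2085 D2515 (iv F5897) F4877
theorem F6500 : act 6 n3815 = n2751 := d10_2 D2750 D3815 (iv D2751) (iv D2220) D2219
theorem F6501 : act 5 n2796 = n3815 := d24_1 (iv F4910) (iv D3815) (iv D2750) F4063 (iv D1277) (iv F1014) (iv D634) F546 (iv D311) D310 D632 D1281 (iv F2084) D2245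
theorem F6502 : act 1 n2758 = n2797 := d9_3 F6501 (iv D3815) (iv F4875) (iv D2797) D2796
theorem F6503 : act 0 n2751 = n2804 := d22_4 (iv D2804) (iv F4910) F6501 F6500
theorem F6504 : act 5 n2802 = n2751 := d22_0 (iv F6500) (iv F6501) F4910 D2802
theorem F6505 : act 1 n3796 = n2802 := d9_5 F6504 (iv D2751) F4064 D2739 D3796
theorem F6506 : act 5 n3321 = n2890 := d16_2 F6504 (iv F5847) F5079
theorem F6507 : act 0 n2892 = n3321 := d4_3 F6506 (iv D2890) D2892
theorem F6508 : act 1 n2795 = n3334 := d0_2 F6502 F4911 F5877 (iv F4570) (iv F5891) (iv F5895) F4899 F4077 (iv F4874)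
theorem F6509 : act 1 n2886 = n3328 := d7_3 F5863 F6502 (iv F5071)
theorem F6510 : act 1 n2884 = n2764 := d24_8 D2750 (iv F4875) F6502 F4912 (iv D2789) (iv F4150) D2880 (iv F5066) F4882 (iv D2754) (iv D2221) (iv D1276) D1275 D2219
theorem F6511 : act 1 n3322 = n2752 := d24_14 F4871 D2764 (iv F6510) (iv D2884) (iv D2286) (iv D1550) D1552 (iv F2537) D2290 F4164 D2517 F4570 D3337 F5886
theorem E1578 : n3794 = n3313 := (c0_6 F6511 (iv D2752) (iv D2221) (iv F4060) D2739 D3794 (iv D3313) F4537 D2507 D3322)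
theorem F6512 : act 0 n3313 = n2739 := (sb E1578 (iv D3794))
theorem F6513 : act 6 n2762 = n3332 := d10_4 (iv F5851) F6511 F4871 D2762 (iv D3332)
theorem F6514 : act 6 n3796 = n3796 := d22_1 D3796 (iv D3796) (iv F5830) F6512
theorem F6515 : act 5 n3793 = n2756 := d24_7 F6514 (iv D3796) (iv D2739) (iv D2215) D2214 D2738 D3793 (iv D2756) D2758 F4875 D3815 F6500 (iv F6504) (iv F6505)
def n3816 : Q := act 2 n2751
theorem D3816 : act 2 n2751 = n3816 := rfl
def n3817 : Q := act 2 n2752
theorem D3817 : act 2 n2752 = n3817 := rfl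
theorem F6516 : act 0 n3817 = n2753 := d1_1 D3817 (iv D2753) D2752
theorem F6517 : act 6 n3817 = n2763 := d14_2 (iv F4871) D3817 (iv D2763)
def n3818 : Q := act 3 n2753
theorem D3818 : act 3 n2753 = n3818 := rfl
theorem F6518 : act 6 n3818 = n2765 := d17_2 (iv F4872) D3818 (iv D2765)
def n3819 : Q := act 5 n2753
theorem D3819 : act 5 n2753 = n3819 := rfl
def n3820 : Q := act 1 n2754
theorem D3820 : act 1 n2754 = n3820 := rfl
theorem F6520 : act 5 n3820 = n2755 := d9_2 D2754 D3820 (iv D2755) (iv D2222) D2221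
theorem F6521 : act 6 n3820 = n2883 := d10_2 F4882 D3820 (iv D2883) D2884 F6510
theorem F6523 : act 6 n2755 = n2887 := d22_3 (iv F5063) (iv F6521) F6520 (iv D2887)
theorem F6525 : act 6 n2768 = n3325 := d17_2 F6523 F5074 F5856
theorem F6526 : act 5 n2887 = n3811 := d24_1 F6523 (iv D3811) (iv F4878) (iv D2761) (iv F4077) (iv D2238) F2081 (iv D1283) F1014 (iv D630) D629 D1276 D2222 D2755
theorem F6527 : act 0 n2883 = n3811 := d22_4 (iv F6526) (iv F6523) (iv F6520) F6521
theorem F6528 : act 1 n3791 = n2879 := d0_8 D2883 F6527 (iv D3811) (iv D2748) (iv D2219) (iv F4059) D2738 D3791 F5051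
theorem F6529 : act 6 n3326 = n3791 := d10_0 F6528 (iv F5073) F6509 (iv D3328) D3326
theorem F6530 : act 0 n3793 = n3326 := d5_3 F6529 (iv D3791) D3793
theorem F6531 : act 0 n3325 = n2771 := d5_1 F6525 (iv D2771) D2768
def n3821 : Q := act 2 n2755
theorem D3821 : act 2 n2755 = n3821 := rfl
def n3822 : Q := act 0 n2756
theorem D3822 : act 0 n2756 = n3822 := rfl
theorem F6532 : act 1 n3822 = n2768 := d0_2 D2756 D3822 (iv D2768) (iv D2229) (iv D1279) (iv D632) (iv F1009) D1277 D2223
theorem F6535 : act 5 n3822 = n3326 := d4_2 F6515 D3822 (iv F6530)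
theorem F6536 : act 6 n3312 = n3822 := d22_3 (iv F6515) (iv D3793) (iv F5827) (iv D3822)
def n3823 : Q := act 2 n2756
theorem D3823 : act 2 n2756 = n3823 := rfl
def n3824 : Q := act 6 n2756
theorem D3824 : act 6 n2756 = n3824 := rfl
theorem F6538 : act 1 n3824 = n2789 := d10_1 D3824 (iv F4912) (iv F6502) (iv D2758) D2756
def n3825 : Q := act 1 n2757
theorem D3825 : act 1 n2757 = n3825 := rfl
def n3826 : Q := act 3 n2757
theorem D3826 : act 3 n2757 = n3826 := rfl
theorem F6542 : act 0 n3826 = n2759 := d2_1 D3826 (iv D2759) (iv F4873)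
def n3827 : Q := act 6 n2757
theorem D3827 : act 6 n2757 = n3827 := rfl
theorem F6543 : act 0 n3827 = n2760 := d5_1 D3827 (iv D2760) (iv F4873)
theorem F6544 : act 2 n3827 = n2758 := d14_1 D3827 (iv D2758) D2757
theorem F6545 : act 5 n3827 = n3814 := d22_2 F6496 D3827 (iv D3814) (iv F6495)
def n3828 : Q := act 2 n2759
theorem D3828 : act 2 n2759 = n3828 := rfl
def n3829 : Q := act 4 n2759
theorem D3829 : act 4 n2759 = n3829 := rfl
def n3830 : Q := act 6 n2759
theorem D3830 : act 6 n2759 = n3830 := rfl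
theorem F6546 : act 3 n3830 = n2760 := d17_1 D3830 (iv D2760) D2759
def n3831 : Q := act 1 n2760
theorem D3831 : act 1 n2760 = n3831 := rfl
def n3832 : Q := act 5 n2760
theorem D3832 : act 5 n2760 = n3832 := rfl
theorem F6548 : act 2 n3832 = n2761 := d13_1 D3832 (iv D2761) (iv F4876)
theorem F6549 : act 6 n3832 = n3812 := d20_2 D2760 D3832 F6496 D3827 F6545 (iv D3814) F4870
def n3833 : Q := act 2 n2762
theorem D3833 : act 2 n2762 = n3833 := rfl
def n3834 : Q := act 5 n2762
theorem D3834 : act 5 n2762 = n3834 := rfl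
theorem F6552 : act 1 n3834 = n2880 := d9_1 D3834 (iv F5066) F6510 (iv D2764) D2762
def n3835 : Q := act 1 n2763
theorem D3835 : act 1 n2763 = n3835 := rfl
def n3836 : Q := act 3 n2763
theorem D3836 : act 3 n2763 = n3836 := rfl
theorem F6553 : act 0 n3836 = n2765 := d2_1 D3836 (iv D2765) (iv F4880)
def n3837 : Q := act 5 n2763
theorem D3837 : act 5 n2763 = n3837 := rfl
theorem F6554 : act 0 n3837 = n2766 := d4_1 D3837 (iv D2766) (iv F4880)
theorem F6555 : act 2 n3837 = n2764 := d13_1 D3837 (iv D2764) D2763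
theorem F6556 : act 6 n3837 = n3819 := d22_1 D3837 (iv D3819) F4872 (iv F4880)
def n3838 : Q := act 2 n2765
theorem D3838 : act 2 n2765 = n3838 := rfl
def n3839 : Q := act 4 n2765
theorem D3839 : act 4 n2765 = n3839 := rfl
def n3840 : Q := act 5 n2765
theorem D3840 : act 5 n2765 = n3840 := rfl
theorem F6557 : act 3 n3840 = n2766 := d16_1 D3840 (iv D2766) D2765
def n3841 : Q := act 1 n2766
theorem D3841 : act 1 n2766 = n3841 := rfl
def n3842 : Q := act 6 n2766
theorem D3842 : act 6 n2766 = n3842 := rfl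
theorem F6558 : act 0 n3842 = n3819 := d5_1 D3842 (iv F6556) F6554
theorem F6559 : act 2 n3842 = n2767 := d14_1 D3842 (iv D2767) (iv F4883)
theorem F6560 : act 5 n3842 = n3817 := d20_1 D3842 F6517 D3837 F6556 (iv D3819) F4872 D2766
def n3843 : Q := act 1 n2767
theorem D3843 : act 1 n2767 = n3843 := rfl
def n3844 : Q := act 2 n2768
theorem D3844 : act 2 n2768 = n3844 := rfl
theorem F6561 : act 0 n3844 = n2769 := d1_1 D3844 (iv D2769) D2768
def n3845 : Q := act 5 n2768
theorem D3845 : act 5 n2768 = n3845 := rfl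
theorem F6562 : act 0 n3845 = n2770 := d4_1 D3845 (iv D2770) D2768
theorem F6563 : act 1 n3845 = n3318 := d9_1 D3845 F5842 D3326 (iv F6535) F6532
theorem F6564 : act 3 n3845 = n3811 := d16_1 D3845 (iv F6526) F5074
theorem F6565 : act 4 n3845 = n3811 := d18_1 D3845 (iv F6526) F5075
def n3846 : Q := act 1 n2769
theorem D3846 : act 1 n2769 = n3846 := rfl
theorem F6566 : act 2 n3846 = n2772 := d6_2 D2769 D3846 (iv D2772) (iv D2230) D2229
def n3847 : Q := act 3 n2769
theorem D3847 : act 3 n2769 = n3847 := rfl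
def n3848 : Q := act 5 n2769
theorem D3848 : act 5 n2769 = n3848 := rfl
theorem F6567 : act 2 n3848 = n2770 := d13_1 D3848 (iv D2770) D2769
def n3849 : Q := act 6 n2769
theorem D3849 : act 6 n2769 = n3849 := rfl
theorem F6568 : act 2 n3849 = n2771 := d14_1 D3849 (iv D2771) D2769
def n3850 : Q := act 6 n2770
theorem D3850 : act 6 n2770 = n3850 := rfl
theorem F6569 : act 1 n3850 = n3324 := d10_1 D3850 (iv F5880) (iv F6508) (iv D2795) (iv F4886)
theorem F6572 : act 5 n3850 = n3325 := d22_2 D2770 D3850 (iv F6525) (iv D2768)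
def n3851 : Q := act 5 n2771
theorem D3851 : act 5 n2771 = n3851 := rfl
theorem F6573 : act 0 n3851 = n3850 := d4_1 D3851 F6572 F6531
theorem F6575 : act 1 n3851 = n2774 := d24_2 D2771 D3851 F4889 D2779 (iv F5916) (iv D3346) F4575 D3344 (iv F5911) (iv D2804) (iv D2245) (iv D1286) (iv F2079) D2229
theorem F6576 : act 1 n2806 = n3337 := d0_6 F6575 (iv D2774) (iv D2232) (iv F2087) D2247 D2806 F5883 (iv F6569) (iv F6573)
theorem E1579 : n3843 = n2896 := (c7_4 F5092 F6576 F5884 D3843)
theorem F6577 : act 1 n2896 = n2767 := (sb E1579 (iv D3843))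
def n3852 : Q := act 0 n2772
theorem D3852 : act 0 n2772 = n3852 := rfl
theorem F6578 : act 3 n3852 = n3039 := d2_2 (iv F4887) D3852 (iv D3039)
def n3853 : Q := act 5 n2772
theorem D3853 : act 5 n2772 = n3853 := rfl
theorem F6579 : act 1 n3853 = n2799 := d9_1 D3853 (iv D2799) (iv D2243) (iv F4069) D2772
theorem F6580 : act 3 n3853 = n3035 := d16_1 D3853 F5332 (iv F4887)
def n3854 : Q := act 6 n2772
theorem D3854 : act 6 n2772 = n3854 := rfl
theorem F6581 : act 3 n3854 = n3041 := d17_1 D3854 (iv D3041) (iv F4887)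
def n3855 : Q := act 0 n2773
theorem D3855 : act 0 n2773 = n3855 := rfl
theorem F6582 : act 3 n3855 = n3050 := d2_2 (iv F4888) D3855 (iv D3050)
def n3856 : Q := act 2 n2773
theorem D3856 : act 2 n2773 = n3856 := rfl
theorem F6583 : act 1 n3856 = n2775 := d6_1 D3856 (iv D2775) (iv D2232) (iv F4071) D2773
def n3857 : Q := act 5 n2773
theorem D3857 : act 5 n2773 = n3857 := rfl
def n3858 : Q := act 2 n2774
theorem D3858 : act 2 n2774 = n3858 := rfl
theorem F6586 : act 6 n3858 = n2778 := d14_2 (iv F4889) D3858 (iv D2778)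
def n3859 : Q := act 3 n2775
theorem D3859 : act 3 n2775 = n3859 := rfl
theorem F6587 : act 6 n3859 = n2780 := d17_2 (iv F4890) D3859 (iv D2780)
def n3860 : Q := act 5 n2775
theorem D3860 : act 5 n2775 = n3860 := rfl
def n3861 : Q := act 2 n2777
theorem D3861 : act 2 n2777 = n3861 := rfl
theorem F6589 : act 4 n3861 = n3832 := d12_2 (iv F5900) D3861 F6548
theorem F6590 : act 5 n3861 = n3330 := d13_2 (iv F5901) D3861 F5866
def n3862 : Q := act 1 n2778
theorem D3862 : act 1 n2778 = n3862 := rfl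
def n3865 : Q := act 2 n2780
theorem D3865 : act 2 n2780 = n3865 := rfl
def n3866 : Q := act 4 n2780
theorem D3866 : act 4 n2780 = n3866 := rfl
def n3867 : Q := act 5 n2780
theorem D3867 : act 5 n2780 = n3867 := rfl
theorem F6595 : act 3 n3867 = n2781 := d16_1 D3867 (iv D2781) D2780
def n3868 : Q := act 1 n2781
theorem D3868 : act 1 n2781 = n3868 := rfl
theorem F6596 : act 2 n3868 = n3841 := d6_2 (iv F4894) D3868 (iv D3841) F4883 (iv F4074)
def n3869 : Q := act 6 n2781
theorem D3869 : act 6 n2781 = n3869 := rfl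
theorem F6598 : act 2 n3869 = n2782 := d14_1 D3869 (iv D2782) (iv F4894)
def n3870 : Q := act 1 n2782
theorem D3870 : act 1 n2782 = n3870 := rfl
theorem F6601 : act 5 n3870 = n2808 := d9_2 (iv F4896) D3870 F4920 D3851 F6575
theorem F6602 : act 6 n3870 = n2896 := d10_2 D2782 D3870 F6577 (iv D2767) (iv F4074)
def n3871 : Q := act 0 n2783
theorem D3871 : act 0 n2783 = n3871 := rfl
theorem F6603 : act 1 n3871 = n3320 := d0_2 D2783 D3871 (iv F5898) (iv D2777) (iv D2233) (iv D1282) (iv F1013) D1283 D2236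
theorem F6605 : act 4 n3871 = n3815 := d3_2 F5910 D3871 F6499
theorem F6606 : act 6 n3871 = n3321 := d5_2 (iv F5896) D3871 (iv F6507)
theorem F6607 : act 5 n3871 = n2885 := d22_0 F5069 D2892 (iv F5896) D3871
def n3872 : Q := act 2 n2783
theorem D3872 : act 2 n2783 = n3872 := rfl
def n3873 : Q := act 5 n2783
theorem D3873 : act 5 n2783 = n3873 := rfl
theorem F6608 : act 0 n3873 = n2885 := d4_1 D3873 (iv F6607) (iv D3871)
theorem F6610 : act 6 n3873 = n2890 := d20_2 (iv F5896) D3873 (iv F6506) (iv F6606) F6607 F5069 D2892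
def n3874 : Q := act 1 n2784
theorem D3874 : act 1 n2784 = n3874 := rfl
def n3876 : Q := act 6 n2784
theorem D3876 : act 6 n2784 = n3876 := rfl
theorem F6613 : act 0 n3876 = n2787 := d5_1 D3876 (iv D2787) (iv F4897)
theorem F6615 : act 5 n3876 = n2787 := d22_2 F4898 D3876 (iv D2787) (iv F4897)
def n3880 : Q := act 1 n2787
theorem D3880 : act 1 n2787 = n3880 := rfl
theorem F6619 : act 2 n3880 = n3831 := d6_2 (iv F4902) D3880 (iv D3831) F4876 (iv F4077)
def n3881 : Q := act 5 n2788
theorem D3881 : act 5 n2788 = n3881 := rfl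
theorem F6621 : act 2 n3881 = n2789 := d13_1 D3881 (iv D2789) D2788
theorem F6622 : act 3 n3881 = n3513 := d16_1 D3881 (iv D3513) F5046
def n3882 : Q := act 6 n2788
theorem D3882 : act 6 n2788 = n3882 := rfl
theorem F6624 : act 2 n3882 = n2790 := d14_1 D3882 (iv D2790) D2788
theorem F6625 : act 3 n3882 = n3514 := d17_1 D3882 (iv D3514) F5046
def n3883 : Q := act 1 n2790
theorem D3883 : act 1 n2790 = n3883 := rfl
def n3884 : Q := act 5 n2791
theorem D3884 : act 5 n2791 = n3884 := rfl
theorem F6631 : act 2 n3884 = n2799 := d13_1 D3884 (iv D2799) (iv F4906)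
theorem F6632 : act 3 n3884 = n3379 := d16_1 D3884 (iv D3379) (iv F5048)
def n3885 : Q := act 6 n2791
theorem D3885 : act 6 n2791 = n3885 := rfl
theorem F6633 : act 2 n3885 = n2800 := d14_1 D3885 (iv D2800) (iv F4906)
def n3886 : Q := act 1 n2793
theorem D3886 : act 1 n2793 = n3886 := rfl
theorem F6635 : act 3 n3886 = n3541 := d7_2 (iv F5049) D3886 (iv D3541)
def n3887 : Q := act 6 n2793
theorem D3887 : act 6 n2793 = n3887 := rfl
theorem F6637 : act 3 n3887 = n3542 := d17_1 D3887 (iv D3542) (iv F5049)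
theorem F6638 : act 5 n3887 = n3882 := d22_2 D2793 D3887 (iv D3882) F4903
def n3888 : Q := act 1 n2794
theorem D3888 : act 1 n2794 = n3888 := rfl
theorem F6639 : act 3 n3888 = n3543 := d7_2 (iv F5050) D3888 (iv D3543)
def n3889 : Q := act 5 n2794
theorem D3889 : act 5 n2794 = n3889 := rfl
theorem F6641 : act 2 n3889 = n2797 := d13_1 D3889 (iv D2797) (iv F4908)
theorem F6642 : act 3 n3889 = n3544 := d16_1 D3889 (iv D3544) (iv F5050)
theorem F6643 : act 6 n3889 = n3881 := d20_2 D2794 D3889 (iv D3881) D3882 (iv F6638) (iv D3887) (iv D2793)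
def n3890 : Q := act 0 n2796
theorem D3890 : act 0 n2796 = n3890 := rfl
theorem F6645 : act 3 n3890 = n3873 := d2_2 F5067 D3890 F6608
theorem F6646 : act 4 n3890 = n3873 := d3_2 F5068 D3890 F6608
theorem F6647 : act 5 n3890 = n3344 := d4_2 (iv F6501) D3890 (iv F6499)
theorem F6648 : act 6 n3890 = n2802 := d5_2 (iv F4910) D3890 (iv D2802)
def n3891 : Q := act 2 n2796
theorem D3891 : act 2 n2796 = n3891 := rfl
theorem F6649 : act 6 n3891 = n2803 := d14_2 (iv F4910) D3891 (iv D2803)
def n3892 : Q := act 5 n2798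
theorem D3892 : act 5 n2798 = n3892 := rfl
theorem F6650 : act 0 n3892 = n2799 := d4_1 D3892 (iv D2799) D2798
theorem F6651 : act 3 n3892 = n3030 := d16_1 D3892 (iv D3030) (iv F4914)
def n3893 : Q := act 6 n2798
theorem D3893 : act 6 n2798 = n3893 := rfl
theorem F6652 : act 0 n3893 = n2800 := d5_1 D3893 (iv D2800) D2798
theorem F6653 : act 3 n3893 = n3031 := d17_1 D3893 (iv D3031) (iv F4914)
def n3894 : Q := act 6 n2799
theorem D3894 : act 6 n2799 = n3894 := rfl
theorem F6654 : act 3 n3894 = n3036 := d17_1 D3894 (iv D3036) (iv F4915)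
theorem F6655 : act 5 n3894 = n3893 := d22_2 D2799 D3894 (iv D3893) (iv D2798)
def n3895 : Q := act 1 n2800
theorem D3895 : act 1 n2800 = n3895 := rfl
theorem F6656 : act 3 n3895 = n3037 := d7_2 (iv F4916) D3895 (iv D3037)
theorem F6657 : act 6 n3895 = n2801 := d10_2 D2800 D3895 (iv D2801) (iv D2244) D2243
def n3896 : Q := act 5 n2800
theorem D3896 : act 5 n2800 = n3896 := rfl
theorem F6658 : act 0 n3896 = n3894 := d4_1 D3896 F6655 F6652
theorem F6659 : act 3 n3896 = n3038 := d16_1 D3896 (iv D3038) (iv F4916)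
theorem F6660 : act 6 n3896 = n3892 := d20_2 D2800 D3896 (iv D3892) D3893 (iv F6655) (iv D3894) (iv D2799)
def n3897 : Q := act 0 n2801
theorem D3897 : act 0 n2801 = n3897 := rfl
theorem F6661 : act 3 n3897 = n3042 := d2_2 (iv F4917) D3897 (iv D3042)
def n3898 : Q := act 2 n2801
theorem D3898 : act 2 n2801 = n3898 := rfl
theorem F6662 : act 1 n3898 = n2803 := d6_1 D3898 (iv D2803) (iv D2245) (iv F4080) D2801
def n3899 : Q := act 5 n2801
theorem D3899 : act 5 n2801 = n3899 := rfl
theorem F6663 : act 1 n3899 = n3857 := d9_1 D3899 (iv D3857) (iv D2773) (iv F4082) D2801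
theorem F6664 : act 3 n3899 = n3044 := d16_1 D3899 (iv D3044) (iv F4917)
def n3900 : Q := act 2 n2802
theorem D3900 : act 2 n2802 = n3900 := rfl
theorem F6665 : act 0 n3900 = n2803 := d1_1 D3900 (iv D2803) D2802
theorem F6666 : act 5 n3900 = n3816 := d13_2 (iv F6504) D3900 (iv D3816)
def n3901 : Q := act 3 n2803
theorem D3901 : act 3 n2803 = n3901 := rfl
def n3902 : Q := act 5 n2803
theorem D3902 : act 5 n2803 = n3902 := rfl
theorem F6667 : act 0 n3902 = n3816 := d4_1 D3902 (iv F6666) F6665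
theorem F6668 : act 2 n3902 = n2804 := d13_1 D3902 (iv D2804) D2803
def n3903 : Q := act 0 n2805
theorem D3903 : act 0 n2805 = n3903 := rfl
theorem F6669 : act 3 n3903 = n3055 := d2_2 (iv F4919) D3903 (iv D3055)
def n3904 : Q := act 2 n2805
theorem D3904 : act 2 n2805 = n3904 := rfl
theorem F6670 : act 1 n3904 = n2807 := d6_1 D3904 (iv D2807) (iv D2247) (iv F4084) D2805
def n3905 : Q := act 6 n2805
theorem D3905 : act 6 n2805 = n3905 := rfl
theorem F6671 : act 1 n3905 = n3854 := d10_1 D3905 (iv D3854) (iv D2772) (iv F4086) D2805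
theorem F6672 : act 3 n3905 = n3057 := d17_1 D3905 (iv D3057) (iv F4919)
def n3906 : Q := act 2 n2806
theorem D3906 : act 2 n2806 = n3906 := rfl
theorem F6673 : act 0 n3906 = n2807 := d1_1 D3906 (iv D2807) D2806
def n3907 : Q := act 6 n2806
theorem D3907 : act 6 n2806 = n3907 := rfl
theorem F6674 : act 0 n3907 = n2808 := d5_1 D3907 (iv D2808) D2806
theorem F6675 : act 1 n3907 = n3343 := d10_1 D3907 (iv D3343) F4570 D3337 (iv F6576)
theorem F6678 : act 5 n3907 = n2898 := d20_1 D3907 (iv D2898) F4167 D2808 (iv F6601) F6602 F5094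
def n3908 : Q := act 3 n2807
theorem D3908 : act 3 n2807 = n3908 := rfl
def n3909 : Q := act 6 n2807
theorem D3909 : act 6 n2807 = n3909 := rfl
theorem F6679 : act 2 n3909 = n2808 := d14_1 D3909 (iv D2808) D2807
def n3910 : Q := act 5 n2810
theorem D3910 : act 5 n2810 = n3910 := rfl
theorem F6681 : act 2 n3910 = n3377 := d13_1 D3910 (iv D3377) (iv F4923)
def n3911 : Q := act 6 n2810
theorem D3911 : act 6 n2810 = n3911 := rfl
def n3912 : Q := act 1 n2811
theorem D3912 : act 1 n2811 = n3912 := rfl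
theorem F6686 : act 4 n3912 = n2828 := d8_2 (iv F4926) D3912 (iv D2828)
theorem F6687 : act 5 n3912 = n3789 := d9_2 D2811 D3912 (iv D3789) (iv D2736) (iv F5639)
def n3913 : Q := act 1 n2812
theorem D3913 : act 1 n2812 = n3913 := rfl
theorem F6689 : act 6 n3913 = n3790 := d10_2 D2812 D3913 (iv D3790) (iv D2737) (iv F5639)
def n3914 : Q := act 5 n2813
theorem D3914 : act 5 n2813 = n3914 := rfl
theorem F6691 : act 2 n3914 = n2814 := d13_1 D3914 (iv D2814) D2813
theorem F6692 : act 3 n3914 = n3364 := d16_1 D3914 (iv D3364) (iv F4932)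
def n3915 : Q := act 6 n2813
theorem D3915 : act 6 n2813 = n3915 := rfl
theorem F6694 : act 2 n3915 = n2815 := d14_1 D3915 (iv D2815) D2813
theorem F6695 : act 3 n3915 = n3365 := d17_1 D3915 (iv D3365) (iv F4932)
def n3916 : Q := act 1 n2814
theorem D3916 : act 1 n2814 = n3916 := rfl
theorem F6696 : act 3 n3916 = n2816 := d7_2 (iv F4937) D3916 (iv D2816)
theorem F6697 : act 5 n3916 = n2819 := d9_2 D2814 D3916 (iv D2819) (iv D2252) (iv F4089)
def n3917 : Q := act 6 n2814
theorem D3917 : act 6 n2814 = n3917 := rfl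
theorem F6699 : act 5 n3917 = n3911 := d22_2 D2814 D3917 (iv D3911) F4922
def n3918 : Q := act 5 n2815
theorem D3918 : act 5 n2815 = n3918 := rfl
theorem F6702 : act 6 n3918 = n3910 := d20_2 D2815 D3918 (iv D3910) D3911 (iv F6699) (iv D3917) (iv D2814)
def n3919 : Q := act 0 n2816
theorem D3919 : act 0 n2816 = n3919 := rfl
theorem F6703 : act 4 n3919 = n2830 := d3_2 (iv F4940) D3919 (iv D2830)
theorem F6704 : act 5 n3919 = n2820 := d4_2 (iv F4941) D3919 (iv D2820)
def n3920 : Q := act 2 n2816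
theorem D3920 : act 2 n2816 = n3920 := rfl
theorem F6705 : act 1 n3920 = n2831 := d6_1 D3920 (iv D2831) (iv D2258) (iv F4090) D2816
theorem F6706 : act 4 n3920 = n2831 := d12_2 (iv F4940) D3920 (iv D2831)
theorem F6707 : act 5 n3920 = n2821 := d13_2 (iv F4941) D3920 (iv D2821)
def n3921 : Q := act 6 n2816
theorem D3921 : act 6 n2816 = n3921 := rfl
theorem F6708 : act 4 n3921 = n2832 := d19_1 D3921 (iv D2832) (iv F4940)
def n3922 : Q := act 1 n2817
theorem D3922 : act 1 n2817 = n3922 := rfl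
theorem F6709 : act 4 n3922 = n2833 := d8_2 (iv F4943) D3922 (iv D2833)
def n3923 : Q := act 1 n2818
theorem D3923 : act 1 n2818 = n3923 := rfl
theorem F6710 : act 4 n3923 = n2834 := d8_2 (iv F4947) D3923 (iv D2834)
theorem F6711 : act 5 n3923 = n2862 := d9_2 D2818 D3923 (iv D2862) (iv D2276) (iv F4092)
def n3924 : Q := act 0 n2819
theorem D3924 : act 0 n2819 = n3924 := rfl
theorem F6712 : act 3 n3924 = n2820 := d2_2 (iv F4949) D3924 (iv D2820)
def n3925 : Q := act 2 n2819
theorem D3925 : act 2 n2819 = n3925 := rfl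
theorem F6713 : act 1 n3925 = n3019 := d6_1 D3925 (iv D3019) (iv D2354) (iv F4095) D2819
def n3926 : Q := act 6 n2819
theorem D3926 : act 6 n2819 = n3926 := rfl
theorem F6714 : act 1 n3926 = n3020 := d10_1 D3926 (iv D3020) (iv D2354) (iv F4097) D2819
theorem F6715 : act 3 n3926 = n2822 := d17_1 D3926 (iv D2822) (iv F4949)
def n3927 : Q := act 1 n2820
theorem D3927 : act 1 n2820 = n3927 := rfl
theorem F6716 : act 4 n3927 = n2835 := d8_2 (iv F4950) D3927 (iv D2835)
def n3928 : Q := act 2 n2820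
theorem D3928 : act 2 n2820 = n3928 := rfl
theorem F6717 : act 0 n3928 = n2821 := d1_1 D3928 (iv D2821) D2820
theorem F6718 : act 4 n3928 = n2836 := d12_2 (iv F4950) D3928 (iv D2836)
def n3929 : Q := act 6 n2820
theorem D3929 : act 6 n2820 = n3929 := rfl
theorem F6719 : act 0 n3929 = n2822 := d5_1 D3929 (iv D2822) D2820
theorem F6720 : act 4 n3929 = n2837 := d19_1 D3929 (iv D2837) (iv F4950)
theorem F6721 : act 5 n3929 = n3921 := d22_2 F6704 D3929 (iv D3921) D3919
def n3930 : Q := act 3 n2821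
theorem D3930 : act 3 n2821 = n3930 := rfl
theorem F6722 : act 1 n3930 = n2823 := d7_1 D3930 (iv D2823) (iv F4951)
def n3931 : Q := act 6 n2821
theorem D3931 : act 6 n2821 = n3931 := rfl
theorem F6723 : act 2 n3931 = n2822 := d14_1 D3931 (iv D2822) D2821
theorem F6724 : act 4 n3931 = n2839 := d19_1 D3931 (iv D2839) (iv F4952)
def n3932 : Q := act 5 n2822
theorem D3932 : act 5 n2822 = n3932 := rfl
theorem F6725 : act 0 n3932 = n3921 := d4_1 D3932 (iv F6721) F6719
theorem F6726 : act 4 n3932 = n2840 := d18_1 D3932 (iv D2840) (iv F4954)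
theorem F6727 : act 6 n3932 = n3919 := d20_2 D2822 D3932 F6704 D3929 F6721 (iv D3921) F4941
def n3933 : Q := act 4 n2823
theorem D3933 : act 4 n2823 = n3933 := rfl
theorem F6728 : act 3 n3933 = n2842 := d15_1 D3933 (iv D2842) (iv D2265) (iv F4099) D2823
theorem F6729 : act 5 n3933 = n2842 := d18_2 (iv F4955) D3933 (iv D2842)
def n3934 : Q := act 1 n2826
theorem D3934 : act 1 n2826 = n3934 := rfl
theorem F6730 : act 4 n3934 = n3789 := d8_2 F5664 D3934 (iv D3789)
theorem F6731 : act 5 n3934 = n2828 := d9_2 D2826 D3934 (iv D2828) (iv D2256) D2255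
def n3935 : Q := act 1 n2827
theorem D3935 : act 1 n2827 = n3935 := rfl
theorem F6732 : act 4 n3935 = n3790 := d8_2 F5660 D3935 (iv D3790)
theorem F6733 : act 6 n3935 = n2829 := d10_2 D2827 D3935 (iv D2829) (iv D2257) D2255
def n3936 : Q := act 0 n2828
theorem D3936 : act 0 n2828 = n3936 := rfl
def n3937 : Q := act 2 n2828
theorem D3937 : act 2 n2828 = n3937 := rfl
def n3938 : Q := act 6 n2828
theorem D3938 : act 6 n2828 = n3938 := rfl
def n3939 : Q := act 0 n2829
theorem D3939 : act 0 n2829 = n3939 := rfl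
def n3940 : Q := act 2 n2829
theorem D3940 : act 2 n2829 = n3940 := rfl
def n3941 : Q := act 5 n2829
theorem D3941 : act 5 n2829 = n3941 := rfl
def n3942 : Q := act 1 n2830
theorem D3942 : act 1 n2830 = n3942 := rfl
def n3943 : Q := act 2 n2830
theorem D3943 : act 2 n2830 = n3943 := rfl
theorem F6734 : act 0 n3943 = n2831 := d1_1 D3943 (iv D2831) D2830
theorem F6735 : act 5 n3943 = n2836 := d13_2 (iv F4956) D3943 (iv D2836)
def n3944 : Q := act 3 n2831
theorem D3944 : act 3 n2831 = n3944 := rfl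
theorem F6736 : act 5 n3944 = n2838 := d16_2 (iv F4957) D3944 (iv D2838)
def n3945 : Q := act 6 n2831
theorem D3945 : act 6 n2831 = n3945 := rfl
def n3946 : Q := act 1 n2832
theorem D3946 : act 1 n2832 = n3946 := rfl
theorem F6738 : act 6 n3946 = n2833 := d10_2 D2832 D3946 (iv D2833) (iv D2259) D2258
def n3947 : Q := act 0 n2833
theorem D3947 : act 0 n2833 = n3947 := rfl
def n3949 : Q := act 5 n2833
theorem D3949 : act 5 n2833 = n3949 := rfl
theorem F6739 : act 1 n3949 = n3941 := d9_1 D3949 (iv D3941) (iv D2829) (iv F4104) D2833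
def n3950 : Q := act 0 n2834
theorem D3950 : act 0 n2834 = n3950 := rfl
theorem F6740 : act 5 n3950 = n3903 := d4_2 (iv F4958) D3950 (iv D3903)
def n3951 : Q := act 2 n2834
theorem D3951 : act 2 n2834 = n3951 := rfl
theorem F6741 : act 5 n3951 = n3904 := d13_2 (iv F4958) D3951 (iv D3904)
def n3952 : Q := act 6 n2834
theorem D3952 : act 6 n2834 = n3952 := rfl
theorem F6742 : act 1 n3952 = n3938 := d10_1 D3952 (iv D3938) (iv D2828) (iv F4106) D2834
def n3953 : Q := act 0 n2835
theorem D3953 : act 0 n2835 = n3953 := rfl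
def n3954 : Q := act 2 n2835
theorem D3954 : act 2 n2835 = n3954 := rfl
def n3955 : Q := act 5 n2835
theorem D3955 : act 5 n2835 = n3955 := rfl
def n3956 : Q := act 6 n2835
theorem D3956 : act 6 n2835 = n3956 := rfl
def n3957 : Q := act 1 n2836
theorem D3957 : act 1 n2836 = n3957 := rfl
def n3958 : Q := act 3 n2836
theorem D3958 : act 3 n2836 = n3958 := rfl
theorem F6743 : act 0 n3958 = n2838 := d2_1 D3958 (iv D2838) (iv F4959)
def n3959 : Q := act 6 n2836
theorem D3959 : act 6 n2836 = n3959 := rfl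
theorem F6745 : act 2 n3959 = n2837 := d14_1 D3959 (iv D2837) D2836
theorem F6746 : act 5 n3959 = n3945 := d22_2 F6735 D3959 (iv D3945) (iv F6734)
def n3960 : Q := act 1 n2837
theorem D3960 : act 1 n2837 = n3960 := rfl
def n3961 : Q := act 2 n2838
theorem D3961 : act 2 n2838 = n3961 := rfl
def n3962 : Q := act 4 n2838
theorem D3962 : act 4 n2838 = n3962 := rfl
theorem F6747 : act 1 n3962 = n2842 := d8_1 D3962 (iv D2842) (iv F4962)
def n3963 : Q := act 6 n2838
theorem D3963 : act 6 n2838 = n3963 := rfl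
theorem F6748 : act 3 n3963 = n2839 := d17_1 D3963 (iv D2839) D2838
def n3964 : Q := act 1 n2839
theorem D3964 : act 1 n2839 = n3964 := rfl
theorem F6749 : act 2 n3964 = n3069 := d6_2 (iv F4963) D3964 (iv D3069) F4292 (iv F4108)
theorem F6750 : act 6 n3964 = n2844 := d10_2 D2839 D3964 (iv D2844) (iv D2266) (iv F4107)
def n3965 : Q := act 5 n2839
theorem D3965 : act 5 n2839 = n3965 := rfl
theorem F6753 : act 6 n3965 = n3943 := d20_2 D2839 D3965 F6735 D3959 F6746 (iv D3945) F4957
def n3966 : Q := act 1 n2840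
theorem D3966 : act 1 n2840 = n3966 := rfl
theorem F6754 : act 5 n3966 = n3071 := d9_2 D2840 D3966 (iv D3071) (iv D2378) (iv F4108)
def n3967 : Q := act 0 n2841
theorem D3967 : act 0 n2841 = n3967 := rfl
def n3970 : Q := act 6 n2842
theorem D3970 : act 6 n2842 = n3970 := rfl
theorem F6755 : act 2 n3970 = n3027 := d14_1 D3970 (iv F5392) F5391
theorem F6756 : act 4 n3970 = n2843 := d19_1 D3970 (iv D2843) D2842
def n3971 : Q := act 1 n2843
theorem D3971 : act 1 n2843 = n3971 := rfl
theorem F6757 : act 3 n3971 = n2844 := d7_2 (iv F4967) D3971 (iv D2844)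
def n3972 : Q := act 0 n2844
theorem D3972 : act 0 n2844 = n3972 := rfl
theorem F6758 : act 2 n3972 = n3099 := d1_2 (iv F4968) D3972 (iv D3099)
def n3973 : Q := act 5 n2844
theorem D3973 : act 5 n2844 = n3973 := rfl
theorem F6759 : act 2 n3973 = n3100 := d13_1 D3973 (iv D3100) (iv F4968)
def n3974 : Q := act 5 n2845
theorem D3974 : act 5 n2845 = n3974 := rfl
theorem F6760 : act 0 n3974 = n2847 := d4_1 D3974 (iv D2847) D2845
theorem F6761 : act 2 n3974 = n2948 := d13_1 D3974 (iv D2948) (iv F4986)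
theorem F6762 : act 4 n3974 = n3892 := d18_1 D3974 (iv D3892) (iv F4969)
def n3975 : Q := act 6 n2845
theorem D3975 : act 6 n2845 = n3975 := rfl
theorem F6763 : act 0 n3975 = n2848 := d5_1 D3975 (iv D2848) D2845
theorem F6764 : act 2 n3975 = n2949 := d14_1 D3975 (iv D2949) (iv F4986)
def n3976 : Q := act 5 n2846
theorem D3976 : act 5 n2846 = n3976 := rfl
theorem F6766 : act 0 n3976 = n2948 := d4_1 D3976 (iv D2948) F4985
theorem F6767 : act 2 n3976 = n2847 := d13_1 D3976 (iv D2847) D2846
theorem F6768 : act 4 n3976 = n3884 := d18_1 D3976 (iv D3884) (iv F4971)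
def n3977 : Q := act 6 n2846
theorem D3977 : act 6 n2846 = n3977 := rfl
theorem F6769 : act 0 n3977 = n2949 := d5_1 D3977 (iv D2949) F4985
theorem F6770 : act 2 n3977 = n2848 := d14_1 D3977 (iv D2848) D2846
def n3978 : Q := act 1 n2847
theorem D3978 : act 1 n2847 = n3978 := rfl
theorem F6772 : act 4 n3978 = n3853 := d8_2 (iv F4972) D3978 F6579
theorem F6773 : act 5 n3978 = n2851 := d9_2 D2847 D3978 (iv D2851) (iv D2269) D2267
def n3979 : Q := act 6 n2847
theorem D3979 : act 6 n2847 = n3979 := rfl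
theorem F6774 : act 4 n3979 = n3894 := d19_1 D3979 (iv D3894) (iv F4972)
theorem F6775 : act 5 n3979 = n3975 := d22_2 D2847 D3979 (iv D3975) (iv D2845)
def n3980 : Q := act 1 n2848
theorem D3980 : act 1 n2848 = n3980 := rfl
theorem F6776 : act 4 n3980 = n3895 := d8_2 (iv F4973) D3980 (iv D3895)
theorem F6777 : act 6 n3980 = n2852 := d10_2 D2848 D3980 (iv D2852) (iv D2270) D2267
def n3981 : Q := act 5 n2848
theorem D3981 : act 5 n2848 = n3981 := rfl
theorem F6778 : act 0 n3981 = n3979 := d4_1 D3981 F6775 F6763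
theorem F6779 : act 4 n3981 = n3896 := d18_1 D3981 (iv D3896) (iv F4973)
theorem F6780 : act 6 n3981 = n3974 := d20_2 D2848 D3981 (iv D3974) D3975 (iv F6775) (iv D3979) (iv D2847)
def n3982 : Q := act 1 n2849
theorem D3982 : act 1 n2849 = n3982 := rfl
theorem F6781 : act 3 n3982 = n2851 := d7_2 (iv F4976) D3982 (iv D2851)
def n3983 : Q := act 1 n2850
theorem D3983 : act 1 n2850 = n3983 := rfl
theorem F6782 : act 3 n3983 = n2852 := d7_2 (iv F4979) D3983 (iv D2852)
def n3984 : Q := act 0 n2851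
theorem D3984 : act 0 n2851 = n3984 := rfl
theorem F6783 : act 4 n3984 = n3852 := d3_2 (iv F4980) D3984 (iv D3852)
def n3985 : Q := act 2 n2851
theorem D3985 : act 2 n2851 = n3985 := rfl
theorem F6784 : act 1 n3985 = n2888 := d6_1 D3985 (iv D2888) (iv D2288) (iv F4115) D2851
theorem F6785 : act 4 n3985 = n3846 := d12_2 (iv F4980) D3985 F6566
def n3986 : Q := act 6 n2851
theorem D3986 : act 6 n2851 = n3986 := rfl
theorem F6786 : act 4 n3986 = n3854 := d19_1 D3986 (iv D3854) (iv F4980)
def n3987 : Q := act 0 n2852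
theorem D3987 : act 0 n2852 = n3987 := rfl
theorem F6787 : act 4 n3987 = n3897 := d3_2 (iv F4981) D3987 (iv D3897)
def n3988 : Q := act 2 n2852
theorem D3988 : act 2 n2852 = n3988 := rfl
theorem F6788 : act 1 n3988 = n2891 := d6_1 D3988 (iv D2891) (iv D2289) (iv F4118) D2852
theorem F6789 : act 4 n3988 = n3898 := d12_2 (iv F4981) D3988 (iv D3898)
def n3989 : Q := act 5 n2852
theorem D3989 : act 5 n2852 = n3989 := rfl
theorem F6790 : act 4 n3989 = n3899 := d18_1 D3989 (iv D3899) (iv F4981)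
def n3990 : Q := act 5 n2853
theorem D3990 : act 5 n2853 = n3990 := rfl
theorem F6792 : act 3 n3990 = n2948 := d16_1 D3990 (iv D2948) (iv F4983)
theorem F6793 : act 4 n3990 = n3914 := d18_1 D3990 (iv D3914) (iv F4984)
def n3991 : Q := act 6 n2853
theorem D3991 : act 6 n2853 = n3991 := rfl
theorem F6794 : act 2 n3991 = n2865 := d14_1 D3991 (iv D2865) (iv F4982)
theorem F6795 : act 3 n3991 = n2949 := d17_1 D3991 (iv D2949) (iv F4983)
theorem F6796 : act 4 n3991 = n3915 := d19_1 D3991 (iv D3915) (iv F4984)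
def n3992 : Q := act 1 n2854
theorem D3992 : act 1 n2854 = n3992 := rfl
theorem F6797 : act 3 n3992 = n2950 := d7_2 (iv F4993) D3992 (iv D2950)
def n3994 : Q := act 0 n2856
theorem D3994 : act 0 n2856 = n3994 := rfl
theorem F6799 : act 3 n3994 = n2859 := d2_2 (iv F4997) D3994 (iv D2859)
theorem F6800 : act 5 n3994 = n2867 := d4_2 (iv F4998) D3994 (iv D2867)
def n3995 : Q := act 2 n2856
theorem D3995 : act 2 n2856 = n3995 := rfl
theorem F6801 : act 5 n3995 = n2868 := d13_2 (iv F4998) D3995 (iv D2868)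
def n3996 : Q := act 6 n2856
theorem D3996 : act 6 n2856 = n3996 := rfl
theorem F6802 : act 3 n3996 = n2860 := d17_1 D3996 (iv D2860) (iv F4997)
def n3997 : Q := act 1 n2857
theorem D3997 : act 1 n2857 = n3997 := rfl
theorem F6803 : act 3 n3997 = n2861 := d7_2 (iv F4999) D3997 (iv D2861)
def n3998 : Q := act 1 n2858
theorem D3998 : act 1 n2858 = n3998 := rfl
theorem F6804 : act 3 n3998 = n2862 := d7_2 (iv F5002) D3998 (iv D2862)
def n3999 : Q := act 1 n2859
theorem D3999 : act 1 n2859 = n3999 := rfl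
theorem F6805 : act 4 n3999 = n3581 := d8_2 (iv F5005) D3999 (iv D3581)
def n4000 : Q := act 1 n2860
theorem D4000 : act 1 n2860 = n4000 := rfl
theorem F6806 : act 4 n4000 = n3582 := d8_2 (iv F5008) D4000 (iv D3582)
theorem F6807 : act 6 n4000 = n2861 := d10_2 D2860 D4000 (iv D2861) (iv D2275) D2274
def n4001 : Q := act 0 n2861
theorem D4001 : act 0 n2861 = n4001 := rfl
theorem F6808 : act 4 n4001 = n3855 := d3_2 (iv F5009) D4001 (iv D3855)
def n4002 : Q := act 2 n2861
theorem D4002 : act 2 n2861 = n4002 := rfl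
theorem F6809 : act 1 n4002 = n2894 := d6_1 D4002 (iv D2894) (iv D2290) (iv F4127) D2861
def n4003 : Q := act 5 n2861
theorem D4003 : act 5 n2861 = n4003 := rfl
theorem F6811 : act 1 n4003 = n3989 := d9_1 D4003 (iv D3989) (iv D2852) (iv F4129) D2861
def n4004 : Q := act 0 n2862
theorem D4004 : act 0 n2862 = n4004 := rfl
theorem F6813 : act 4 n4004 = n3903 := d3_2 (iv F5010) D4004 (iv D3903)
def n4005 : Q := act 2 n2862
theorem D4005 : act 2 n2862 = n4005 := rfl
theorem F6815 : act 4 n4005 = n3904 := d12_2 (iv F5010) D4005 (iv D3904)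
def n4006 : Q := act 6 n2862
theorem D4006 : act 6 n2862 = n4006 := rfl
theorem F6816 : act 1 n4006 = n3986 := d10_1 D4006 (iv D3986) (iv D2851) (iv F4133) D2862
def n4007 : Q := act 5 n2863
theorem D4007 : act 5 n2863 = n4007 := rfl
theorem F6818 : act 0 n4007 = n2864 := d4_1 D4007 (iv D2864) D2863
theorem F6819 : act 3 n4007 = n2996 := d16_1 D4007 (iv D2996) (iv F5011)
theorem F6820 : act 4 n4007 = n3910 := d18_1 D4007 (iv D3910) (iv F5012)
def n4008 : Q := act 6 n2863
theorem D4008 : act 6 n2863 = n4008 := rfl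
def n4009 : Q := act 1 n2864
theorem D4009 : act 1 n2864 = n4009 := rfl
theorem F6824 : act 3 n4009 = n2876 := d7_2 (iv F5013) D4009 F5036
theorem F6825 : act 4 n4009 = n3916 := d8_2 (iv F5014) D4009 (iv D3916)
theorem F6826 : act 5 n4009 = n2866 := d9_2 D2864 D4009 (iv D2866) (iv D2278) D2277
def n4010 : Q := act 6 n2864
theorem D4010 : act 6 n2864 = n4010 := rfl
theorem F6827 : act 3 n4010 = n2998 := d17_1 D4010 (iv D2998) (iv F5013)
theorem F6829 : act 5 n4010 = n4008 := d22_2 D2864 D4010 (iv D4008) (iv D2863)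
def n4011 : Q := act 5 n2865
theorem D4011 : act 5 n2865 = n4011 := rfl
theorem F6831 : act 3 n4011 = n2999 := d16_1 D4011 (iv D2999) (iv F5016)
theorem F6833 : act 6 n4011 = n4007 := d20_2 D2865 D4011 (iv D4007) D4008 (iv F6829) (iv D4010) (iv D2864)
def n4012 : Q := act 0 n2866
theorem D4012 : act 0 n2866 = n4012 := rfl
theorem F6834 : act 3 n4012 = n2874 := d2_2 (iv F5018) D4012 (iv D2874)
theorem F6835 : act 4 n4012 = n3924 := d3_2 (iv F5019) D4012 (iv D3924)
def n4013 : Q := act 2 n2866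
theorem D4013 : act 2 n2866 = n4013 := rfl
theorem F6836 : act 1 n4013 = n2868 := d6_1 D4013 (iv D2868) (iv D2279) (iv F4137) D2866
theorem F6837 : act 4 n4013 = n3925 := d12_2 (iv F5019) D4013 (iv D3925)
def n4014 : Q := act 6 n2866
theorem D4014 : act 6 n2866 = n4014 := rfl
theorem F6838 : act 1 n4014 = n2869 := d10_1 D4014 (iv D2869) (iv D2279) (iv F4140) D2866
theorem F6839 : act 3 n4014 = n2872 := d17_1 D4014 F5028 (iv F5018)
theorem F6840 : act 4 n4014 = n3926 := d19_1 D4014 (iv D3926) (iv F5019)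
def n4015 : Q := act 1 n2867
theorem D4015 : act 1 n2867 = n4015 := rfl
theorem F6841 : act 3 n4015 = n2870 := d7_2 (iv F5020) D4015 (iv D2870)
def n4016 : Q := act 2 n2867
theorem D4016 : act 2 n2867 = n4016 := rfl
theorem F6842 : act 0 n4016 = n2868 := d1_1 D4016 (iv D2868) D2867
def n4017 : Q := act 6 n2867
theorem D4017 : act 6 n2867 = n4017 := rfl
theorem F6843 : act 0 n4017 = n2869 := d5_1 D4017 (iv D2869) D2867
theorem F6844 : act 3 n4017 = n2871 := d17_1 D4017 (iv D2871) (iv F5020)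
theorem F6845 : act 5 n4017 = n3996 := d22_2 F6800 D4017 (iv D3996) D3994
def n4018 : Q := act 3 n2868
theorem D4018 : act 3 n2868 = n4018 := rfl
def n4019 : Q := act 6 n2868
theorem D4019 : act 6 n2868 = n4019 := rfl
theorem F6846 : act 2 n4019 = n2869 := d14_1 D4019 (iv D2869) D2868
def n4020 : Q := act 5 n2869
theorem D4020 : act 5 n2869 = n4020 := rfl
theorem F6848 : act 3 n4020 = n2873 := d16_1 D4020 (iv D2873) (iv F5021)
theorem F6849 : act 6 n4020 = n3994 := d20_2 D2869 D4020 F6800 D4017 F6845 (iv D3996) F4998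
def n4021 : Q := act 0 n2870
theorem D4021 : act 0 n2870 = n4021 := rfl
theorem F6850 : act 4 n4021 = n3678 := d3_2 (iv F5022) D4021 (iv D3678)
def n4022 : Q := act 2 n2870
theorem D4022 : act 2 n2870 = n4022 := rfl
theorem F6851 : act 1 n4022 = n3269 := d6_1 D4022 (iv D3269) (iv D2474) (iv F4142) D2870
def n4023 : Q := act 5 n2870
theorem D4023 : act 5 n2870 = n4023 := rfl
def n4024 : Q := act 6 n2870
theorem D4024 : act 6 n2870 = n4024 := rfl
theorem F6854 : act 4 n4024 = n3680 := d19_1 D4024 (iv D3680) (iv F5022)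
def n4025 : Q := act 1 n2871
theorem D4025 : act 1 n2871 = n4025 := rfl
theorem F6855 : act 4 n4025 = n3681 := d8_2 (iv F5025) D4025 (iv D3681)
def n4026 : Q := act 0 n2872
theorem D4026 : act 0 n2872 = n4026 := rfl
theorem F6856 : act 4 n4026 = n3083 := d3_2 (iv F5027) D4026 F5374
theorem F6857 : act 6 n4026 = n2874 := d5_2 (iv F5028) D4026 (iv D2874)
def n4027 : Q := act 2 n2872
theorem D4027 : act 2 n2872 = n4027 := rfl
theorem F6858 : act 1 n4027 = n3274 := d6_1 D4027 (iv D3274) (iv D2476) (iv F4144) D2872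
theorem F6859 : act 4 n4027 = n3085 := d12_2 (iv F5027) D4027 F5379
theorem F6860 : act 6 n4027 = n2875 := d14_2 (iv F5028) D4027 (iv D2875)
def n4028 : Q := act 5 n2872
theorem D4028 : act 5 n2872 = n4028 := rfl
def n4029 : Q := act 1 n2873
theorem D4029 : act 1 n2873 = n4029 := rfl
theorem F6862 : act 4 n4029 = n3685 := d8_2 (iv F5031) D4029 (iv D3685)
def n4030 : Q := act 1 n2874
theorem D4030 : act 1 n2874 = n4030 := rfl
theorem F6863 : act 4 n4030 = n3081 := d8_2 (iv F5033) D4030 (iv D3081)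
def n4031 : Q := act 2 n2874
theorem D4031 : act 2 n2874 = n4031 := rfl
theorem F6864 : act 0 n4031 = n2875 := d1_1 D4031 (iv D2875) D2874
theorem F6865 : act 4 n4031 = n3082 := d12_2 (iv F5033) D4031 (iv D3082)
def n4032 : Q := act 5 n2874
theorem D4032 : act 5 n2874 = n4032 := rfl
theorem F6866 : act 0 n4032 = n2876 := d4_1 D4032 (iv D2876) D2874
theorem F6867 : act 4 n4032 = n3077 := d18_1 D4032 F5367 (iv F5033)
def n4033 : Q := act 3 n2875
theorem D4033 : act 3 n2875 = n4033 := rfl
theorem F6869 : act 1 n4033 = n2877 := d7_1 D4033 (iv D2877) (iv F5034)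
def n4034 : Q := act 5 n2875
theorem D4034 : act 5 n2875 = n4034 := rfl
theorem F6870 : act 1 n4034 = n3136 := d9_1 D4034 F5482 F4382 (iv F4148) (iv F5034)
theorem F6871 : act 2 n4034 = n2876 := d13_1 D4034 (iv D2876) D2875
theorem F6872 : act 4 n4034 = n3078 := d18_1 D4034 F5369 (iv F5035)
def n4035 : Q := act 6 n2876
theorem D4035 : act 6 n2876 = n4035 := rfl
def n4036 : Q := act 4 n2877
theorem D4036 : act 4 n2877 = n4036 := rfl
theorem F6876 : act 2 n4036 = n3161 := d12_1 D4036 (iv D3161) (iv F5040)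
theorem F6878 : act 5 n4036 = n3161 := d18_2 (iv F5038) D4036 (iv D3161)
theorem F6879 : act 6 n4036 = n3300 := d19_2 (iv F5039) D4036 (iv D3300)
def n4037 : Q := act 5 n2878
theorem D4037 : act 5 n2878 = n4037 := rfl
theorem F6880 : act 0 n4037 = n2881 := d4_1 D4037 (iv D2881) (iv F5041)
theorem F6881 : act 2 n4037 = n2879 := d13_1 D4037 (iv D2879) D2878
theorem F6882 : act 3 n4037 = n3193 := d16_1 D4037 (iv D3193) (iv F5044)
def n4038 : Q := act 6 n2878
theorem D4038 : act 6 n2878 = n4038 := rfl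
theorem F6885 : act 2 n4038 = n2880 := d14_1 D4038 (iv D2880) D2878
theorem F6886 : act 3 n4038 = n3194 := d17_1 D4038 (iv D3194) (iv F5044)
def n4039 : Q := act 1 n2881
theorem D4039 : act 1 n2881 = n4039 := rfl
theorem F6888 : act 4 n4039 = n3886 := d8_2 (iv F5058) D4039 (iv D3886)
def n4040 : Q := act 6 n2881
theorem D4040 : act 6 n2881 = n4040 := rfl
theorem F6889 : act 2 n4040 = n2884 := d14_1 D4040 (iv D2884) (iv F5057)
theorem F6891 : act 5 n4040 = n4038 := d22_2 D2881 D4040 (iv D4038) F5041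
def n4041 : Q := act 1 n2882
theorem D4041 : act 1 n2882 = n4041 := rfl
theorem F6892 : act 4 n4041 = n3888 := d8_2 (iv F5060) D4041 (iv D3888)
def n4042 : Q := act 5 n2882
theorem D4042 : act 5 n2882 = n4042 := rfl
theorem F6894 : act 2 n4042 = n2886 := d13_1 D4042 (iv D2886) (iv F5059)
theorem F6896 : act 6 n4042 = n4037 := d20_2 D2882 D4042 (iv D4037) D4038 (iv F6891) (iv D4040) (iv D2881)
def n4043 : Q := act 2 n2883
theorem D4043 : act 2 n2883 = n4043 := rfl
theorem F6897 : act 4 n4043 = n3848 := d12_2 (iv F5062) D4043 F6567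
theorem F6898 : act 5 n4043 = n2888 := d13_2 (iv F5063) D4043 (iv D2888)
def n4044 : Q := act 2 n2885
theorem D4044 : act 2 n2885 = n4044 := rfl
theorem F6899 : act 4 n4044 = n3891 := d12_2 (iv F5068) D4044 (iv D3891)
theorem F6900 : act 6 n4044 = n2891 := d14_2 (iv F5069) D4044 (iv D2891)
def n4045 : Q := act 2 n2887
theorem D4045 : act 2 n2887 = n4045 := rfl
theorem F6901 : act 0 n4045 = n2888 := d1_1 D4045 (iv D2888) D2887
theorem F6902 : act 4 n4045 = n3844 := d12_2 (iv F5075) D4045 (iv D3844)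
theorem F6903 : act 6 n4045 = n3821 := d14_2 F6523 D4045 (iv D3821)
def n4046 : Q := act 3 n2888
theorem D4046 : act 3 n2888 = n4046 := rfl
def n4047 : Q := act 6 n2888
theorem D4047 : act 6 n2888 = n4047 := rfl
theorem F6904 : act 0 n4047 = n3821 := d5_1 D4047 (iv F6903) F6901
theorem F6905 : act 2 n4047 = n2889 := d14_1 D4047 (iv D2889) D2888
theorem F6906 : act 4 n4047 = n3849 := d19_1 D4047 (iv D3849) (iv F5076)
def n4048 : Q := act 5 n2889
theorem D4048 : act 5 n2889 = n4048 := rfl
theorem F6908 : act 1 n4048 = n2893 := d9_1 D4048 (iv F5908) (iv F6675) F6678 F5097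
theorem F6911 : act 6 n4048 = n3811 := d20_2 D2889 D4048 (iv F6526) (iv F6523) (iv F6520) F6521 F5063
def n4050 : Q := act 2 n2890
theorem D4050 : act 2 n2890 = n4050 := rfl
theorem F6917 : act 0 n4050 = n2891 := d1_1 D4050 (iv D2891) D2890
theorem F6918 : act 4 n4050 = n3900 := d12_2 (iv F5080) D4050 (iv D3900)
def n4051 : Q := act 3 n2891
theorem D4051 : act 3 n2891 = n4051 := rfl
def n4052 : Q := act 5 n2891
theorem D4052 : act 5 n2891 = n4052 := rfl
theorem F6919 : act 2 n4052 = n2892 := d13_1 D4052 (iv D2892) D2891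
theorem F6921 : act 6 n3872 = n4052 := d14_0 F6919 (iv F5896) D3872
def n4053 : Q := act 2 n2893
theorem D4053 : act 2 n2893 = n4053 := rfl
theorem F6922 : act 0 n4053 = n2894 := d1_1 D4053 (iv D2894) D2893
theorem F6923 : act 4 n4053 = n3858 := d12_2 (iv F5085) D4053 (iv D3858)
theorem F6924 : act 6 n4053 = n3339 := d14_2 (iv F5086) D4053 (iv D3339)
def n4054 : Q := act 3 n2894
theorem D4054 : act 3 n2894 = n4054 := rfl
def n4056 : Q := act 2 n2896
theorem D4056 : act 2 n2896 = n4056 := rfl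
theorem F6928 : act 0 n4056 = n2897 := d1_1 D4056 (iv D2897) D2896
theorem F6929 : act 4 n4056 = n3906 := d12_2 (iv F5093) D4056 (iv D3906)
theorem F6930 : act 5 n4056 = n3906 := d13_2 (iv F5094) D4056 (iv D3906)
def n4057 : Q := act 3 n2897
theorem D4057 : act 3 n2897 = n4057 := rfl
theorem F6931 : act 5 n4057 = n3908 := d16_2 (iv F5096) D4057 (iv D3908)
def n4058 : Q := act 6 n2897
theorem D4058 : act 6 n2897 = n4058 := rfl
theorem F6932 : act 2 n4058 = n2898 := d14_1 D4058 (iv D2898) D2897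
theorem F6933 : act 4 n4058 = n3909 := d19_1 D4058 (iv D3909) (iv F5095)
def n4059 : Q := act 5 n2899
theorem D4059 : act 5 n2899 = n4059 := rfl
theorem F6934 : act 0 n4059 = n2901 := d4_1 D4059 (iv D2901) D2899
theorem F6935 : act 2 n4059 = n2908 := d13_1 D4059 (iv D2908) (iv F5100)
theorem F6936 : act 4 n4059 = n2908 := d18_1 D4059 (iv D2908) (iv F5101)
def n4060 : Q := act 6 n2899
theorem D4060 : act 6 n2899 = n4060 := rfl
theorem F6939 : act 4 n4060 = n2909 := d19_1 D4060 (iv D2909) (iv F5101)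
def n4061 : Q := act 2 n2900
theorem D4061 : act 2 n2900 = n4061 := rfl
theorem F6940 : act 1 n4061 = n4061 := d6_1 D4061 (iv D4061) F5103 F4171 (iv F5103)
def n4062 : Q := act 5 n2900
theorem D4062 : act 5 n2900 = n4062 := rfl
theorem F6941 : act 3 n4062 = n2901 := d16_1 D4062 (iv D2901) D2900
def n4063 : Q := act 6 n2900
theorem D4063 : act 6 n2900 = n4063 := rfl
def n4064 : Q := act 1 n2901
theorem D4064 : act 1 n2901 = n4064 := rfl
theorem F6944 : act 5 n4064 = n2905 := d9_2 D2901 D4064 (iv D2905) (iv D2294) D2292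
def n4065 : Q := act 6 n2901
theorem D4065 : act 6 n2901 = n4065 := rfl
theorem F6947 : act 4 n4065 = n2911 := d19_1 D4065 (iv D2911) (iv F5105)
theorem F6948 : act 5 n4065 = n4060 := d22_2 D2901 D4065 (iv D4060) (iv D2899)
def n4066 : Q := act 1 n2902
theorem D4066 : act 1 n2902 = n4066 := rfl
theorem F6950 : act 6 n4066 = n2906 := d10_2 D2902 D4066 (iv D2906) (iv D2295) D2292
def n4067 : Q := act 5 n2902
theorem D4067 : act 5 n2902 = n4067 := rfl
theorem F6954 : act 6 n4067 = n4059 := d20_2 D2902 D4067 (iv D4059) D4060 (iv F6948) (iv D4065) (iv D2901)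
def n4068 : Q := act 1 n2903
theorem D4068 : act 1 n2903 = n4068 := rfl
theorem F6955 : act 3 n4068 = n2905 := d7_2 (iv F5110) D4068 (iv D2905)
def n4069 : Q := act 1 n2904
theorem D4069 : act 1 n2904 = n4069 := rfl
theorem F6956 : act 3 n4069 = n2906 := d7_2 (iv F5113) D4069 (iv D2906)
def n4070 : Q := act 0 n2905
theorem D4070 : act 0 n2905 = n4070 := rfl
theorem F6957 : act 2 n4070 = n3967 := d1_2 (iv F5114) D4070 (iv D3967)
def n4071 : Q := act 6 n2905
theorem D4071 : act 6 n2905 = n4071 := rfl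
def n4072 : Q := act 0 n2906
theorem D4072 : act 0 n2906 = n4072 := rfl
theorem F6961 : act 4 n4072 = n2917 := d3_2 (iv F5116) D4072 (iv D2917)
def n4074 : Q := act 5 n2906
theorem D4074 : act 5 n2906 = n4074 := rfl
def n4076 : Q := act 1 n2908
theorem D4076 : act 1 n2908 = n4076 := rfl
def n4077 : Q := act 1 n2909
theorem D4077 : act 1 n2909 = n4077 := rfl
def n4078 : Q := act 0 n2910
theorem D4078 : act 0 n2910 = n4078 := rfl
theorem F6969 : act 5 n4078 = n2914 := d4_2 (iv F5123) D4078 (iv D2914)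
def n4079 : Q := act 2 n2910
theorem D4079 : act 2 n2910 = n4079 := rfl
theorem F6972 : act 5 n4079 = n2915 := d13_2 (iv F5123) D4079 (iv D2915)
def n4080 : Q := act 6 n2910
theorem D4080 : act 6 n2910 = n4080 := rfl
def n4081 : Q := act 1 n2911
theorem D4081 : act 1 n2911 = n4081 := rfl
def n4082 : Q := act 0 n2912
theorem D4082 : act 0 n2912 = n4082 := rfl
theorem F6973 : act 6 n4082 = n2917 := d5_2 (iv F5125) D4082 (iv D2917)
def n4084 : Q := act 5 n2912
theorem D4084 : act 5 n2912 = n4084 := rfl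
def n4085 : Q := act 1 n2913
theorem D4085 : act 1 n2913 = n4085 := rfl
def n4086 : Q := act 1 n2914
theorem D4086 : act 1 n2914 = n4086 := rfl
def n4087 : Q := act 2 n2914
theorem D4087 : act 2 n2914 = n4087 := rfl
def n4088 : Q := act 6 n2914
theorem D4088 : act 6 n2914 = n4088 := rfl
theorem F6978 : act 5 n4088 = n4080 := d22_2 F6969 D4088 (iv D4080) D4078
def n4090 : Q := act 6 n2915
theorem D4090 : act 6 n2915 = n4090 := rfl
def n4091 : Q := act 5 n2916
theorem D4091 : act 5 n2916 = n4091 := rfl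
theorem F6983 : act 6 n4091 = n4078 := d20_2 D2916 D4091 F6969 D4088 F6978 (iv D4080) F5123
def n4092 : Q := act 1 n2917
theorem D4092 : act 1 n2917 = n4092 := rfl
def n4094 : Q := act 5 n2917
theorem D4094 : act 5 n2917 = n4094 := rfl
theorem F6985 : act 0 n4094 = n2919 := d4_1 D4094 (iv D2919) D2917
theorem F6986 : act 6 n4094 = n4084 := d22_1 D4094 (iv D4084) F5125 D2917
def n4097 : Q := act 6 n2919
theorem D4097 : act 6 n2919 = n4097 := rfl
theorem F6989 : act 0 n4097 = n4084 := d5_1 D4097 (iv F6986) F6985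
theorem F6990 : act 5 n4097 = n4082 := d20_1 D4097 F6973 D4094 F6986 (iv D4084) F5125 D2919
def n4100 : Q := act 5 n2922
theorem D4100 : act 5 n2922 = n4100 := rfl
theorem F6996 : act 0 n4100 = n3884 := d4_1 D4100 (iv D3884) (iv F5135)
theorem F6997 : act 2 n4100 = n3892 := d13_1 D4100 (iv D3892) (iv F5136)
theorem F6998 : act 4 n4100 = n2948 := d18_1 D4100 (iv D2948) (iv F5137)
def n4101 : Q := act 6 n2922
theorem D4101 : act 6 n2922 = n4101 := rfl
theorem F7000 : act 2 n4101 = n3893 := d14_1 D4101 (iv D3893) (iv F5136)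
def n4102 : Q := act 2 n2923
theorem D4102 : act 2 n2923 = n4102 := rfl
theorem F7002 : act 0 n4102 = n2926 := d1_1 D4102 (iv D2926) (iv F5138)
def n4103 : Q := act 5 n2923
theorem D4103 : act 5 n2923 = n4103 := rfl
theorem F7003 : act 0 n4103 = n2928 := d4_1 D4103 (iv D2928) (iv F5138)
def n4104 : Q := act 6 n2923
theorem D4104 : act 6 n2923 = n4104 := rfl
theorem F7005 : act 0 n4104 = n2929 := d5_1 D4104 (iv D2929) (iv F5138)
theorem F7006 : act 3 n4104 = n2925 := d17_1 D4104 (iv D2925) D2923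
def n4105 : Q := act 1 n2924
theorem D4105 : act 1 n2924 = n4105 := rfl
theorem F7007 : act 4 n4105 = n2950 := d8_2 (iv F5141) D4105 (iv D2950)
def n4106 : Q := act 1 n2925
theorem D4106 : act 1 n2925 = n4106 := rfl
theorem F7008 : act 4 n4106 = n2951 := d8_2 (iv F5144) D4106 (iv D2951)
def n4107 : Q := act 3 n2926
theorem D4107 : act 3 n2926 = n4107 := rfl
theorem F7009 : act 1 n4107 = n4107 := d7_1 D4107 (iv D4107) F5145
theorem F7010 : act 2 n4107 = n2927 := d21_2 D2926 D4107 F5147 F4255 (iv D2345) (iv F4187) D2923 F5138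
theorem F7011 : act 4 n2926 = n4107 := d12_0 F7010 (iv D2927) D2926
def n4108 : Q := act 5 n2926
theorem D4108 : act 5 n2926 = n4108 := rfl
theorem F7012 : act 2 n4108 = n2928 := d13_1 D4108 (iv D2928) D2926
def n4109 : Q := act 6 n2926
theorem D4109 : act 6 n2926 = n4109 := rfl
theorem F7013 : act 2 n4109 = n2929 := d14_1 D4109 (iv D2929) D2926
def n4110 : Q := act 5 n2927
theorem D4110 : act 5 n2927 = n4110 := rfl
theorem F7015 : act 4 n4110 = n2928 := d18_1 D4110 (iv D2928) D2927
def n4111 : Q := act 6 n2927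
theorem D4111 : act 6 n2927 = n4111 := rfl
theorem F7016 : act 3 n4111 = n2953 := d17_1 D4111 (iv D2953) (iv F5147)
theorem F7017 : act 4 n4111 = n2929 := d19_1 D4111 (iv D2929) D2927
def n4112 : Q := act 1 n2928
theorem D4112 : act 1 n2928 = n4112 := rfl
theorem F7018 : act 3 n4112 = n2930 := d7_2 (iv F5148) D4112 (iv D2930)
theorem F7019 : act 5 n4112 = n2936 := d9_2 D2928 D4112 (iv D2936) (iv D2309) (iv F4189)
def n4113 : Q := act 6 n2928
theorem D4113 : act 6 n2928 = n4113 := rfl
theorem F7021 : act 5 n4113 = n4104 := d22_2 D2928 D4113 (iv D4104) F5138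
def n4114 : Q := act 1 n2929
theorem D4114 : act 1 n2929 = n4114 := rfl
theorem F7022 : act 3 n4114 = n2932 := d7_2 (iv F5149) D4114 (iv D2932)
theorem F7023 : act 6 n4114 = n2938 := d10_2 D2929 D4114 (iv D2938) (iv D2310) (iv F4189)
def n4115 : Q := act 5 n2929
theorem D4115 : act 5 n2929 = n4115 := rfl
theorem F7025 : act 3 n4115 = n2933 := d16_1 D4115 (iv D2933) (iv F5149)
theorem F7026 : act 6 n4115 = n4103 := d20_2 D2929 D4115 (iv D4103) D4104 (iv F7021) (iv D4113) (iv D2928)
def n4116 : Q := act 0 n2930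
theorem D4116 : act 0 n2930 = n4116 := rfl
theorem F7027 : act 4 n4116 = n2958 := d3_2 (iv F5150) D4116 (iv D2958)
theorem F7028 : act 5 n4116 = n2940 := d4_2 (iv F5151) D4116 (iv D2940)
def n4117 : Q := act 2 n2930
theorem D4117 : act 2 n2930 = n4117 := rfl
theorem F7029 : act 1 n4117 = n3014 := d6_1 D4117 (iv D3014) (iv D2351) (iv F4190) D2930
theorem F7030 : act 4 n4117 = n2959 := d12_2 (iv F5150) D4117 (iv D2959)
theorem F7031 : act 5 n4117 = n2941 := d13_2 (iv F5151) D4117 (iv D2941)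
def n4118 : Q := act 6 n2930
theorem D4118 : act 6 n2930 = n4118 := rfl
def n4119 : Q := act 1 n2931
theorem D4119 : act 1 n2931 = n4119 := rfl
def n4120 : Q := act 0 n2932
theorem D4120 : act 0 n2932 = n4120 := rfl
theorem F7035 : act 4 n4120 = n2962 := d3_2 (iv F5156) D4120 (iv D2962)
theorem F7036 : act 6 n4120 = n2944 := d5_2 (iv F5157) D4120 (iv D2944)
def n4121 : Q := act 5 n2932
theorem D4121 : act 5 n2932 = n4121 := rfl
theorem F7037 : act 2 n4121 = n3140 := d13_1 D4121 (iv D3140) (iv F5155)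
def n4122 : Q := act 1 n2933
theorem D4122 : act 1 n2933 = n4122 := rfl
theorem F7039 : act 4 n4122 = n2964 := d8_2 (iv F5160) D4122 (iv D2964)
def n4123 : Q := act 1 n2934
theorem D4123 : act 1 n2934 = n4123 := rfl
theorem F7040 : act 3 n4123 = n2965 := d7_2 (iv F5163) D4123 (iv D2965)
theorem F7041 : act 4 n4123 = n2936 := d8_2 (iv F5164) D4123 (iv D2936)
def n4124 : Q := act 6 n2934
theorem D4124 : act 6 n2934 = n4124 := rfl
theorem F7042 : act 2 n4124 = n4124 := d14_1 D4124 (iv D4124) F5162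
theorem F7043 : act 3 n4124 = n2966 := d17_1 D4124 (iv D2966) (iv F5163)
theorem F7044 : act 4 n4124 = n2937 := d19_1 D4124 (iv D2937) (iv F5164)
theorem F7045 : act 5 n4124 = n3231 := d22_2 D2934 D4124 (iv D3231) F4439
def n4125 : Q := act 1 n2935
theorem D4125 : act 1 n2935 = n4125 := rfl
theorem F7046 : act 3 n4125 = n2967 := d7_2 (iv F5166) D4125 (iv D2967)
theorem F7047 : act 4 n4125 = n2938 := d8_2 (iv F5167) D4125 (iv D2938)
def n4126 : Q := act 5 n2935
theorem D4126 : act 5 n2935 = n4126 := rfl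
theorem F7051 : act 4 n4126 = n2939 := d18_1 D4126 (iv D2939) (iv F5167)
theorem F7052 : act 6 n4126 = n3230 := d20_2 D2935 D4126 (iv D3230) D3231 (iv F7045) (iv D4124) (iv D2934)
def n4127 : Q := act 0 n2936
theorem D4127 : act 0 n2936 = n4127 := rfl
theorem F7053 : act 3 n4127 = n2940 := d2_2 (iv F5168) D4127 (iv D2940)
def n4128 : Q := act 2 n2936
theorem D4128 : act 2 n2936 = n4128 := rfl
theorem F7054 : act 1 n4128 = n4128 := d6_1 D4128 (iv D4128) (iv D2936) F4196 D2936
def n4129 : Q := act 6 n2936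
theorem D4129 : act 6 n2936 = n4129 := rfl
theorem F7055 : act 3 n4129 = n2942 := d17_1 D4129 (iv D2942) (iv F5168)
def n4130 : Q := act 1 n2937
theorem D4130 : act 1 n2937 = n4130 := rfl
theorem F7056 : act 3 n4130 = n2943 := d7_2 (iv F5170) D4130 (iv D2943)
def n4131 : Q := act 0 n2938
theorem D4131 : act 0 n2938 = n4131 := rfl
theorem F7057 : act 3 n4131 = n2944 := d2_2 (iv F5172) D4131 (iv D2944)
def n4132 : Q := act 2 n2938
theorem D4132 : act 2 n2938 = n4132 := rfl
def n4133 : Q := act 5 n2938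
theorem D4133 : act 5 n2938 = n4133 := rfl
theorem F7059 : act 3 n4133 = n2945 := d16_1 D4133 (iv D2945) (iv F5172)
def n4134 : Q := act 1 n2939
theorem D4134 : act 1 n2939 = n4134 := rfl
theorem F7060 : act 3 n4134 = n2946 := d7_2 (iv F5175) D4134 (iv D2946)
def n4135 : Q := act 1 n2940
theorem D4135 : act 1 n2940 = n4135 := rfl
theorem F7061 : act 4 n4135 = n2977 := d8_2 (iv F5177) D4135 (iv D2977)
def n4136 : Q := act 2 n2940
theorem D4136 : act 2 n2940 = n4136 := rfl
theorem F7062 : act 0 n4136 = n2941 := d1_1 D4136 (iv D2941) D2940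
theorem F7063 : act 4 n4136 = n2978 := d12_2 (iv F5177) D4136 (iv D2978)
def n4137 : Q := act 6 n2940
theorem D4137 : act 6 n2940 = n4137 := rfl
theorem F7064 : act 0 n4137 = n2942 := d5_1 D4137 (iv D2942) D2940
theorem F7065 : act 4 n4137 = n2979 := d19_1 D4137 (iv D2979) (iv F5177)
theorem F7066 : act 5 n4137 = n4118 := d22_2 F7028 D4137 (iv D4118) D4116
def n4138 : Q := act 3 n2941
theorem D4138 : act 3 n2941 = n4138 := rfl
theorem F7067 : act 1 n4138 = n2947 := d7_1 D4138 (iv D2947) (iv F5178)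
def n4139 : Q := act 6 n2941
theorem D4139 : act 6 n2941 = n4139 := rfl
theorem F7068 : act 1 n4139 = n2981 := d10_1 D4139 (iv D2981) F4239 (iv F4212) (iv F5178)
theorem F7069 : act 2 n4139 = n2942 := d14_1 D4139 (iv D2942) D2941
theorem F7070 : act 4 n4139 = n2981 := d19_1 D4139 (iv D2981) (iv F5179)
def n4140 : Q := act 1 n2942
theorem D4140 : act 1 n2942 = n4140 := rfl
theorem F7071 : act 2 n4140 = n2982 := d6_2 F7069 D4140 (iv D2982) (iv F5228) (iv F7068)
theorem F7072 : act 4 n4140 = n2982 := d8_2 (iv F5180) D4140 (iv D2982)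
theorem F7073 : act 6 n4140 = n2943 := d10_2 D2942 D4140 (iv D2943) (iv D2312) D2311
def n4141 : Q := act 5 n2942
theorem D4141 : act 5 n2942 = n4141 := rfl
theorem F7074 : act 0 n4141 = n4118 := d4_1 D4141 (iv F7066) F7064
theorem F7075 : act 4 n4141 = n2983 := d18_1 D4141 (iv D2983) (iv F5180)
theorem F7076 : act 6 n4141 = n4116 := d20_2 D2942 D4141 F7028 D4137 F7066 (iv D4118) F5151
def n4142 : Q := act 0 n2943
theorem D4142 : act 0 n2943 = n4142 := rfl
theorem F7077 : act 2 n4142 = n2984 := d1_2 (iv F5181) D4142 (iv D2984)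
theorem F7078 : act 4 n4142 = n2984 := d3_2 (iv F5182) D4142 (iv D2984)
def n4143 : Q := act 5 n2943
theorem D4143 : act 5 n2943 = n4143 := rfl
theorem F7079 : act 1 n4143 = n4074 := d9_1 D4143 (iv D4074) (iv D2906) (iv F4203) D2943
def n4144 : Q := act 1 n2944
theorem D4144 : act 1 n2944 = n4144 := rfl
theorem F7082 : act 4 n4144 = n2986 := d8_2 (iv F5184) D4144 (iv D2986)
def n4145 : Q := act 5 n2944
theorem D4145 : act 5 n2944 = n4145 := rfl
theorem F7083 : act 0 n4145 = n2945 := d4_1 D4145 (iv D2945) D2944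
theorem F7084 : act 2 n4145 = n3157 := d13_1 D4145 (iv D3157) (iv F5183)
theorem F7085 : act 4 n4145 = n2987 := d18_1 D4145 (iv D2987) (iv F5184)
theorem F7086 : act 6 n4145 = n4121 := d22_1 D4145 (iv D4121) F5157 D2944
def n4146 : Q := act 1 n2945
theorem D4146 : act 1 n2945 = n4146 := rfl
theorem F7087 : act 4 n4146 = n2988 := d8_2 (iv F5186) D4146 (iv D2988)
theorem F7088 : act 5 n4146 = n2946 := d9_2 D2945 D4146 (iv D2946) (iv D2314) D2313
def n4147 : Q := act 6 n2945
theorem D4147 : act 6 n2945 = n4147 := rfl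
theorem F7092 : act 5 n4147 = n4120 := d20_1 D4147 F7036 D4145 F7086 (iv D4121) F5157 D2945
def n4148 : Q := act 0 n2946
theorem D4148 : act 0 n2946 = n4148 := rfl
theorem F7093 : act 4 n4148 = n2990 := d3_2 (iv F5187) D4148 (iv D2990)
def n4149 : Q := act 6 n2946
theorem D4149 : act 6 n2946 = n4149 := rfl
theorem F7094 : act 1 n4149 = n4071 := d10_1 D4149 (iv D4071) (iv D2905) (iv F4209) D2946
def n4150 : Q := act 4 n2947
theorem D4150 : act 4 n2947 = n4150 := rfl
theorem F7096 : act 3 n4150 = n2994 := d15_1 D4150 (iv D2994) (iv D2340) (iv F4210) D2947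
theorem F7097 : act 5 n4150 = n3027 := d18_2 (iv F5188) D4150 (iv D3027)
theorem F7098 : act 6 n4150 = n2994 := d19_2 (iv F5189) D4150 (iv D2994)
def n4151 : Q := act 1 n2948
theorem D4151 : act 1 n2948 = n4151 := rfl
theorem F7099 : act 5 n4151 = n2950 := d9_2 D2948 D4151 (iv D2950) (iv D2317) D2316
def n4152 : Q := act 6 n2948
theorem D4152 : act 6 n2948 = n4152 := rfl
theorem F7100 : act 2 n4152 = n3981 := d14_1 D4152 F6780 F6761
theorem F7101 : act 5 n4152 = n3977 := d22_2 D2948 D4152 (iv D3977) (iv F4985)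
def n4153 : Q := act 1 n2949
theorem D4153 : act 1 n2949 = n4153 := rfl
theorem F7102 : act 6 n4153 = n2951 := d10_2 D2949 D4153 (iv D2951) (iv D2318) D2316
def n4154 : Q := act 5 n2949
theorem D4154 : act 5 n2949 = n4154 := rfl
theorem F7104 : act 2 n4154 = n3979 := d13_1 D4154 F6775 F6764
theorem F7105 : act 6 n4154 = n3976 := d20_2 D2949 D4154 (iv D3976) D3977 (iv F7101) (iv D4152) (iv D2948)
def n4155 : Q := act 0 n2950
theorem D4155 : act 0 n2950 = n4155 := rfl
def n4156 : Q := act 2 n2950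
theorem D4156 : act 2 n2950 = n4156 := rfl
theorem F7106 : act 1 n4156 = n3040 := d6_1 D4156 (iv D3040) (iv D2364) (iv F4214) D2950
def n4157 : Q := act 6 n2950
theorem D4157 : act 6 n2950 = n4157 := rfl
def n4158 : Q := act 0 n2951
theorem D4158 : act 0 n2951 = n4158 := rfl
def n4159 : Q := act 2 n2951
theorem D4159 : act 2 n2951 = n4159 := rfl
theorem F7107 : act 1 n4159 = n3043 := d6_1 D4159 (iv D3043) (iv D2365) (iv F4216) D2951
def n4161 : Q := act 1 n2952
theorem D4161 : act 1 n2952 = n4161 := rfl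
theorem F7108 : act 4 n4161 = n2954 := d8_2 (iv F5190) D4161 (iv D2954)
theorem F7109 : act 5 n4161 = n2965 := d9_2 D2952 D4161 (iv D2965) (iv D2326) (iv F4217)
def n4162 : Q := act 6 n2952
theorem D4162 : act 6 n2952 = n4162 := rfl
theorem F7112 : act 5 n4162 = n3009 := d22_2 D2952 D4162 (iv D3009) F4260
def n4163 : Q := act 1 n2953
theorem D4163 : act 1 n2953 = n4163 := rfl
theorem F7114 : act 6 n4163 = n2967 := d10_2 D2953 D4163 (iv D2967) (iv D2327) (iv F4217)
def n4164 : Q := act 5 n2953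
theorem D4164 : act 5 n2953 = n4164 := rfl
theorem F7118 : act 6 n4164 = n3008 := d20_2 D2953 D4164 (iv D3008) D3009 (iv F7112) (iv D4162) (iv D2952)
def n4165 : Q := act 0 n2954
theorem D4165 : act 0 n2954 = n4165 := rfl
theorem F7119 : act 3 n4165 = n2958 := d2_2 (iv F5192) D4165 (iv D2958)
theorem F7120 : act 5 n4165 = n2969 := d4_2 (iv F5193) D4165 (iv D2969)
def n4166 : Q := act 2 n2954
theorem D4166 : act 2 n2954 = n4166 := rfl
theorem F7121 : act 5 n4166 = n2970 := d13_2 (iv F5193) D4166 (iv D2970)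
def n4167 : Q := act 6 n2954
theorem D4167 : act 6 n2954 = n4167 := rfl
def n4168 : Q := act 1 n2955
theorem D4168 : act 1 n2955 = n4168 := rfl
def n4169 : Q := act 0 n2956
theorem D4169 : act 0 n2956 = n4169 := rfl
theorem F7125 : act 6 n4169 = n2973 := d5_2 (iv F5198) D4169 (iv D2973)
def n4170 : Q := act 2 n2956
theorem D4170 : act 2 n2956 = n4170 := rfl
def n4171 : Q := act 5 n2956
theorem D4171 : act 5 n2956 = n4171 := rfl
def n4172 : Q := act 1 n2957
theorem D4172 : act 1 n2957 = n4172 := rfl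
theorem F7128 : act 3 n4172 = n2964 := d7_2 (iv F5201) D4172 (iv D2964)
def n4173 : Q := act 1 n2958
theorem D4173 : act 1 n2958 = n4173 := rfl
def n4174 : Q := act 2 n2958
theorem D4174 : act 2 n2958 = n4174 := rfl
theorem F7129 : act 0 n4174 = n2959 := d1_1 D4174 (iv D2959) D2958
theorem F7130 : act 5 n4174 = n2978 := d13_2 (iv F5203) D4174 (iv D2978)
def n4175 : Q := act 3 n2959
theorem D4175 : act 3 n2959 = n4175 := rfl
theorem F7131 : act 1 n4175 = n3047 := d7_1 D4175 (iv D3047) (iv F5204)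
theorem F7132 : act 5 n4175 = n2980 := d16_2 (iv F5205) D4175 (iv D2980)
def n4176 : Q := act 6 n2959
theorem D4176 : act 6 n2959 = n4176 := rfl
def n4177 : Q := act 1 n2960
theorem D4177 : act 1 n2960 = n4177 := rfl
theorem F7134 : act 6 n4177 = n2961 := d10_2 D2960 D4177 (iv D2961) (iv D2323) D2322
def n4178 : Q := act 0 n2961
theorem D4178 : act 0 n2961 = n4178 := rfl
def n4181 : Q := act 1 n2962
theorem D4181 : act 1 n2962 = n4181 := rfl
def n4182 : Q := act 1 n2963
theorem D4182 : act 1 n2963 = n4182 := rfl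
theorem F7137 : act 5 n4182 = n2964 := d9_2 D2963 D4182 (iv D2964) (iv D2325) D2324
def n4183 : Q := act 0 n2964
theorem D4183 : act 0 n2964 = n4183 := rfl
def n4184 : Q := act 2 n2964
theorem D4184 : act 2 n2964 = n4184 := rfl
theorem F7138 : act 1 n4184 = n3056 := d6_1 D4184 (iv D3056) (iv D2372) (iv F4226) D2964
def n4185 : Q := act 6 n2964
theorem D4185 : act 6 n2964 = n4185 := rfl
theorem F7139 : act 1 n4185 = n4157 := d10_1 D4185 (iv D4157) (iv D2950) (iv F4227) D2964
def n4186 : Q := act 0 n2965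
theorem D4186 : act 0 n2965 = n4186 := rfl
theorem F7140 : act 4 n4186 = n2969 := d3_2 (iv F5209) D4186 (iv D2969)
def n4187 : Q := act 2 n2965
theorem D4187 : act 2 n2965 = n4187 := rfl
theorem F7141 : act 4 n4187 = n2970 := d12_2 (iv F5209) D4187 (iv D2970)
def n4188 : Q := act 6 n2965
theorem D4188 : act 6 n2965 = n4188 := rfl
theorem F7142 : act 4 n4188 = n2971 := d19_1 D4188 (iv D2971) (iv F5209)
def n4189 : Q := act 1 n2966
theorem D4189 : act 1 n2966 = n4189 := rfl
theorem F7143 : act 4 n4189 = n2972 := d8_2 (iv F5211) D4189 (iv D2972)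
def n4190 : Q := act 0 n2967
theorem D4190 : act 0 n2967 = n4190 := rfl
theorem F7144 : act 4 n4190 = n2973 := d3_2 (iv F5213) D4190 (iv D2973)
def n4191 : Q := act 2 n2967
theorem D4191 : act 2 n2967 = n4191 := rfl
theorem F7145 : act 4 n4191 = n2974 := d12_2 (iv F5213) D4191 (iv D2974)
def n4192 : Q := act 5 n2967
theorem D4192 : act 5 n2967 = n4192 := rfl
def n4193 : Q := act 1 n2968
theorem D4193 : act 1 n2968 = n4193 := rfl
theorem F7147 : act 4 n4193 = n2976 := d8_2 (iv F5216) D4193 (iv D2976)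
def n4194 : Q := act 1 n2969
theorem D4194 : act 1 n2969 = n4194 := rfl
theorem F7148 : act 3 n4194 = n2977 := d7_2 (iv F5218) D4194 (iv D2977)
def n4195 : Q := act 2 n2969
theorem D4195 : act 2 n2969 = n4195 := rfl
def n4196 : Q := act 6 n2969
theorem D4196 : act 6 n2969 = n4196 := rfl
theorem F7150 : act 0 n4196 = n2971 := d5_1 D4196 (iv D2971) D2969
theorem F7151 : act 3 n4196 = n2979 := d17_1 D4196 (iv D2979) (iv F5218)
theorem F7152 : act 5 n4196 = n4167 := d22_2 F7120 D4196 (iv D4167) D4165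
def n4197 : Q := act 3 n2970
theorem D4197 : act 3 n2970 = n4197 := rfl
def n4198 : Q := act 6 n2970
theorem D4198 : act 6 n2970 = n4198 := rfl
theorem F7153 : act 2 n4198 = n2971 := d14_1 D4198 (iv D2971) D2970
def n4199 : Q := act 1 n2971
theorem D4199 : act 1 n2971 = n4199 := rfl
theorem F7154 : act 3 n4199 = n2982 := d7_2 (iv F5219) D4199 (iv D2982)
theorem F7155 : act 6 n4199 = n2972 := d10_2 D2971 D4199 (iv D2972) (iv D2329) D2328
def n4200 : Q := act 5 n2971
theorem D4200 : act 5 n2971 = n4200 := rfl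
theorem F7156 : act 0 n4200 = n4167 := d4_1 D4200 (iv F7152) F7150
theorem F7157 : act 3 n4200 = n2983 := d16_1 D4200 (iv D2983) (iv F5219)
theorem F7158 : act 6 n4200 = n4165 := d20_2 D2971 D4200 F7120 D4196 F7152 (iv D4167) F5193
def n4201 : Q := act 0 n2972
theorem D4201 : act 0 n2972 = n4201 := rfl
theorem F7159 : act 3 n4201 = n2984 := d2_2 (iv F5220) D4201 (iv D2984)
def n4202 : Q := act 2 n2972
theorem D4202 : act 2 n2972 = n4202 := rfl
theorem F7160 : act 1 n4202 = n3266 := d6_1 D4202 (iv D3266) (iv D2473) (iv F4231) D2972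
def n4203 : Q := act 5 n2972
theorem D4203 : act 5 n2972 = n4203 := rfl
theorem F7162 : act 3 n4203 = n2985 := d16_1 D4203 (iv D2985) (iv F5220)
def n4204 : Q := act 1 n2973
theorem D4204 : act 1 n2973 = n4204 := rfl
theorem F7163 : act 3 n4204 = n2986 := d7_2 (iv F5221) D4204 (iv D2986)
def n4205 : Q := act 2 n2973
theorem D4205 : act 2 n2973 = n4205 := rfl
theorem F7164 : act 0 n4205 = n2974 := d1_1 D4205 (iv D2974) D2973
def n4206 : Q := act 5 n2973
theorem D4206 : act 5 n2973 = n4206 := rfl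
theorem F7165 : act 0 n4206 = n2975 := d4_1 D4206 (iv D2975) D2973
theorem F7166 : act 3 n4206 = n2987 := d16_1 D4206 (iv D2987) (iv F5221)
theorem F7167 : act 6 n4206 = n4171 := d22_1 D4206 (iv D4171) F5198 D2973
def n4207 : Q := act 3 n2974
theorem D4207 : act 3 n2974 = n4207 := rfl
def n4208 : Q := act 5 n2974
theorem D4208 : act 5 n2974 = n4208 := rfl
def n4209 : Q := act 1 n2975
theorem D4209 : act 1 n2975 = n4209 := rfl
theorem F7170 : act 5 n4209 = n2976 := d9_2 D2975 D4209 (iv D2976) (iv D2331) D2330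
def n4210 : Q := act 6 n2975
theorem D4210 : act 6 n2975 = n4210 := rfl
theorem F7171 : act 0 n4210 = n4171 := d5_1 D4210 (iv F7167) F7165
theorem F7173 : act 5 n4210 = n4169 := d20_1 D4210 F7125 D4206 F7167 (iv D4171) F5198 D2975
def n4211 : Q := act 0 n2976
theorem D4211 : act 0 n2976 = n4211 := rfl
theorem F7174 : act 3 n4211 = n2990 := d2_2 (iv F5223) D4211 (iv D2990)
def n4212 : Q := act 2 n2976
theorem D4212 : act 2 n2976 = n4212 := rfl
theorem F7175 : act 1 n4212 = n3256 := d6_1 D4212 (iv D3256) (iv D2469) (iv F4236) D2976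
def n4213 : Q := act 6 n2976
theorem D4213 : act 6 n2976 = n4213 := rfl
theorem F7176 : act 1 n4213 = n3236 := d10_1 D4213 (iv D3236) (iv D2460) (iv F4238) D2976
def n4214 : Q := act 0 n2977
theorem D4214 : act 0 n2977 = n4214 := rfl
def n4215 : Q := act 2 n2977
theorem D4215 : act 2 n2977 = n4215 := rfl
def n4216 : Q := act 5 n2977
theorem D4216 : act 5 n2977 = n4216 := rfl
def n4217 : Q := act 6 n2977
theorem D4217 : act 6 n2977 = n4217 := rfl
def n4218 : Q := act 1 n2978
theorem D4218 : act 1 n2978 = n4218 := rfl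
def n4219 : Q := act 3 n2978
theorem D4219 : act 3 n2978 = n4219 := rfl
def n4220 : Q := act 6 n2978
theorem D4220 : act 6 n2978 = n4220 := rfl
theorem F7179 : act 0 n4220 = n2981 := d5_1 D4220 (iv D2981) (iv F5224)
theorem F7180 : act 2 n4220 = n2979 := d14_1 D4220 (iv D2979) D2978
theorem F7181 : act 5 n4220 = n4176 := d22_2 F7130 D4220 (iv D4176) (iv F7129)
def n4221 : Q := act 1 n2979
theorem D4221 : act 1 n2979 = n4221 := rfl
def n4223 : Q := act 4 n2980
theorem D4223 : act 4 n2980 = n4223 := rfl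
theorem F7182 : act 1 n4223 = n2994 := d8_1 D4223 (iv D2994) (iv F5227)
def n4224 : Q := act 6 n2980
theorem D4224 : act 6 n2980 = n4224 := rfl
def n4225 : Q := act 5 n2981
theorem D4225 : act 5 n2981 = n4225 := rfl
theorem F7184 : act 0 n4225 = n4176 := d4_1 D4225 (iv F7181) F7179
theorem F7185 : act 2 n4225 = n2983 := d13_1 D4225 (iv D2983) (iv F5228)
theorem F7186 : act 6 n4225 = n4174 := d20_2 D2981 D4225 F7130 D4220 F7181 (iv D4176) F5205
def n4226 : Q := act 0 n2982
theorem D4226 : act 0 n2982 = n4226 := rfl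
theorem F7187 : act 6 n4226 = n2984 := d5_2 (iv F5229) D4226 (iv D2984)
def n4227 : Q := act 5 n2982
theorem D4227 : act 5 n2982 = n4227 := rfl
def n4228 : Q := act 1 n2983
theorem D4228 : act 1 n2983 = n4228 := rfl
def n4229 : Q := act 1 n2984
theorem D4229 : act 1 n2984 = n4229 := rfl
def n4230 : Q := act 5 n2984
theorem D4230 : act 5 n2984 = n4230 := rfl
theorem F7188 : act 0 n4230 = n2985 := d4_1 D4230 (iv D2985) D2984
theorem F7189 : act 6 n4230 = n4227 := d22_1 D4230 (iv D4227) F5229 D2984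
def n4231 : Q := act 6 n2985
theorem D4231 : act 6 n2985 = n4231 := rfl
theorem F7190 : act 0 n4231 = n4227 := d5_1 D4231 (iv F7189) F7188
theorem F7191 : act 5 n4231 = n4226 := d20_1 D4231 F7187 D4230 F7189 (iv D4227) F5229 D2985
def n4232 : Q := act 0 n2986
theorem D4232 : act 0 n2986 = n4232 := rfl
def n4233 : Q := act 2 n2986
theorem D4233 : act 2 n2986 = n4233 := rfl
theorem F7192 : act 1 n4233 = n3443 := d6_1 D4233 (iv D3443) (iv D2563) (iv F4240) D2986
def n4234 : Q := act 5 n2986
theorem D4234 : act 5 n2986 = n4234 := rfl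
def n4235 : Q := act 6 n2986
theorem D4235 : act 6 n2986 = n4235 := rfl
def n4236 : Q := act 1 n2987
theorem D4236 : act 1 n2987 = n4236 := rfl
def n4237 : Q := act 0 n2988
theorem D4237 : act 0 n2988 = n4237 := rfl
theorem F7193 : act 5 n4237 = n2990 := d4_2 (iv F5236) D4237 (iv D2990)
def n4238 : Q := act 6 n2988
theorem D4238 : act 6 n2988 = n4238 := rfl
def n4239 : Q := act 1 n2989
theorem D4239 : act 1 n2989 = n4239 := rfl
def n4240 : Q := act 1 n2990
theorem D4240 : act 1 n2990 = n4240 := rfl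
def n4241 : Q := act 6 n2990
theorem D4241 : act 6 n2990 = n4241 := rfl
theorem F7195 : act 5 n4241 = n4238 := d22_2 F7193 D4241 (iv D4238) D4237
def n4242 : Q := act 5 n2991
theorem D4242 : act 5 n2991 = n4242 := rfl
theorem F7197 : act 6 n4242 = n4237 := d20_2 D2991 D4242 F7193 D4241 F7195 (iv D4238) F5236
def n4243 : Q := act 0 n2992
theorem D4243 : act 0 n2992 = n4243 := rfl
def n4244 : Q := act 3 n2992
theorem D4244 : act 3 n2992 = n4244 := rfl
theorem F7198 : act 1 n4244 = n2993 := d7_1 D4244 (iv D2993) D2992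
def n4245 : Q := act 5 n2992
theorem D4245 : act 5 n2992 = n4245 := rfl
theorem F7199 : act 1 n4245 = n3091 := d9_1 D4245 (iv D3091) (iv D2387) (iv F4243) D2992
def n4246 : Q := act 6 n2992
theorem D4246 : act 6 n2992 = n4246 := rfl
def n4247 : Q := act 4 n2993
theorem D4247 : act 4 n2993 = n4247 := rfl
theorem F7200 : act 0 n4247 = n2994 := d3_1 D4247 (iv D2994) (iv F5241)
theorem F7201 : act 2 n4247 = n3933 := d12_1 D4247 (iv D3933) (iv F5242)
theorem F7202 : act 5 n4247 = n3093 := d18_2 (iv F5243) D4247 (iv D3093)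
def n4248 : Q := act 1 n2996
theorem D4248 : act 1 n2996 = n4248 := rfl
theorem F7203 : act 4 n4248 = n3076 := d8_2 (iv F5248) D4248 (iv D3076)
def n4249 : Q := act 1 n2997
theorem D4249 : act 1 n2997 = n4249 := rfl
theorem F7204 : act 4 n4249 = n3053 := d8_2 (iv F5251) D4249 (iv D3053)
def n4250 : Q := act 1 n2998
theorem D4250 : act 1 n2998 = n4250 := rfl
theorem F7205 : act 4 n4250 = n3080 := d8_2 (iv F5253) D4250 (iv D3080)
def n4251 : Q := act 1 n2999
theorem D4251 : act 1 n2999 = n4251 := rfl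
theorem F7206 : act 4 n4251 = n3054 := d8_2 (iv F5257) D4251 (iv D3054)
theorem F7207 : act 5 n4251 = n3017 := d9_2 D2999 D4251 (iv D3017) (iv D2353) (iv F4249)
def n4252 : Q := act 5 n3000
theorem D4252 : act 5 n3000 = n4252 := rfl
theorem F7209 : act 3 n4252 = n3001 := d16_1 D4252 (iv D3001) D3000
theorem F7210 : act 4 n4252 = n3127 := d18_1 D4252 (iv D3127) (iv F5260)
def n4253 : Q := act 6 n3000
theorem D4253 : act 6 n3000 = n4253 := rfl
theorem F7211 : act 2 n4253 = n3130 := d14_1 D4253 (iv D3130) (iv F5261)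
theorem F7212 : act 3 n4253 = n3002 := d17_1 D4253 (iv D3002) D3000
def n4254 : Q := act 1 n3001
theorem D4254 : act 1 n3001 = n4254 := rfl
theorem F7214 : act 4 n4254 = n3035 := d8_2 (iv F5262) D4254 (iv D3035)
theorem F7215 : act 5 n4254 = n3005 := d9_2 D3001 D4254 (iv D3005) (iv D2346) D2344
def n4255 : Q := act 6 n3001
theorem D4255 : act 6 n3001 = n4255 := rfl
theorem F7218 : act 5 n4255 = n3034 := d22_2 D3001 D4255 (iv D3034) (iv F4988)
def n4256 : Q := act 1 n3002
theorem D4256 : act 1 n3002 = n4256 := rfl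
theorem F7219 : act 4 n4256 = n3037 := d8_2 (iv F5263) D4256 (iv D3037)
theorem F7220 : act 6 n4256 = n3006 := d10_2 D3002 D4256 (iv D3006) (iv D2347) D2344
def n4257 : Q := act 5 n3002
theorem D4257 : act 5 n3002 = n4257 := rfl
theorem F7224 : act 6 n4257 = n3033 := d20_2 D3002 D4257 (iv D3033) D3034 (iv F7218) (iv D4255) (iv D3001)
def n4258 : Q := act 1 n3003
theorem D4258 : act 1 n3003 = n4258 := rfl
theorem F7225 : act 3 n4258 = n3005 := d7_2 (iv F5266) D4258 (iv D3005)
theorem F7226 : act 4 n4258 = n3982 := d8_2 (iv F5267) D4258 (iv D3982)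
def n4259 : Q := act 1 n3004
theorem D4259 : act 1 n3004 = n4259 := rfl
theorem F7227 : act 3 n4259 = n3006 := d7_2 (iv F5270) D4259 (iv D3006)
theorem F7228 : act 4 n4259 = n3983 := d8_2 (iv F5271) D4259 (iv D3983)
def n4260 : Q := act 0 n3005
theorem D4260 : act 0 n3005 = n4260 := rfl
theorem F7229 : act 4 n4260 = n3039 := d3_2 (iv F5272) D4260 (iv D3039)
def n4261 : Q := act 2 n3005
theorem D4261 : act 2 n3005 = n4261 := rfl
theorem F7230 : act 4 n4261 = n3040 := d12_2 (iv F5272) D4261 (iv D3040)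
def n4262 : Q := act 6 n3005
theorem D4262 : act 6 n3005 = n4262 := rfl
theorem F7231 : act 4 n4262 = n3041 := d19_1 D4262 (iv D3041) (iv F5272)
def n4263 : Q := act 0 n3006
theorem D4263 : act 0 n3006 = n4263 := rfl
theorem F7232 : act 4 n4263 = n3042 := d3_2 (iv F5273) D4263 (iv D3042)
def n4264 : Q := act 2 n3006
theorem D4264 : act 2 n3006 = n4264 := rfl
theorem F7233 : act 4 n4264 = n3043 := d12_2 (iv F5273) D4264 (iv D3043)
def n4265 : Q := act 5 n3006
theorem D4265 : act 5 n3006 = n4265 := rfl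
theorem F7234 : act 4 n4265 = n3044 := d18_1 D4265 (iv D3044) (iv F5273)
def n4266 : Q := act 2 n3007
theorem D4266 : act 2 n3007 = n4266 := rfl
theorem F7235 : act 0 n4266 = n4107 := d1_1 D4266 F7010 (iv F5274)
theorem F7236 : act 1 n4266 = n3355 := d6_1 D4266 (iv D3355) F4582 D2526 (iv F5275)
theorem F7237 : act 3 n4266 = n4102 := d11_2 D3007 D4266 (iv D4102) (iv D2923) F4187 D2345 (iv F4255) (iv F5147) (iv F7010) (iv D4107) (iv D2926) (iv D2305) F2794 D1823 D2348
theorem F7238 : act 4 n4266 = n4102 := d12_2 (iv F5276) D4266 (iv D4102)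
def n4267 : Q := act 5 n3007
theorem D4267 : act 5 n3007 = n4267 := rfl
theorem F7239 : act 0 n4267 = n4110 := d4_1 D4267 (iv D4110) (iv F5274)
def n4268 : Q := act 6 n3007
theorem D4268 : act 6 n3007 = n4268 := rfl
def n4269 : Q := act 1 n3008
theorem D4269 : act 1 n3008 = n4269 := rfl
def n4271 : Q := act 0 n3010
theorem D4271 : act 0 n3010 = n4271 := rfl
theorem F7247 : act 3 n4271 = n3013 := d2_2 (iv F5283) D4271 (iv D3013)
theorem F7248 : act 4 n4271 = n3994 := d3_2 (iv F5284) D4271 (iv D3994)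
theorem F7249 : act 5 n4271 = n3018 := d4_2 (iv F5285) D4271 (iv D3018)
def n4272 : Q := act 2 n3010
theorem D4272 : act 2 n3010 = n4272 := rfl
theorem F7251 : act 5 n4272 = n3019 := d13_2 (iv F5285) D4272 (iv D3019)
def n4273 : Q := act 6 n3010
theorem D4273 : act 6 n3010 = n4273 := rfl
theorem F7252 : act 3 n4273 = n3015 := d17_1 D4273 (iv D3015) (iv F5283)
theorem F7253 : act 4 n4273 = n3996 := d19_1 D4273 (iv D3996) (iv F5284)
def n4274 : Q := act 1 n3011
theorem D4274 : act 1 n3011 = n4274 := rfl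
theorem F7254 : act 3 n4274 = n3016 := d7_2 (iv F5286) D4274 (iv D3016)
theorem F7255 : act 4 n4274 = n3997 := d8_2 (iv F5287) D4274 (iv D3997)
def n4275 : Q := act 1 n3012
theorem D4275 : act 1 n3012 = n4275 := rfl
theorem F7256 : act 3 n4275 = n3017 := d7_2 (iv F5290) D4275 (iv D3017)
theorem F7257 : act 4 n4275 = n3998 := d8_2 (iv F5291) D4275 (iv D3998)
def n4276 : Q := act 1 n3013
theorem D4276 : act 1 n3013 = n4276 := rfl
theorem F7258 : act 4 n4276 = n3045 := d8_2 (iv F5293) D4276 (iv D3045)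
def n4277 : Q := act 2 n3013
theorem D4277 : act 2 n3013 = n4277 := rfl
theorem F7259 : act 0 n4277 = n3014 := d1_1 D4277 (iv D3014) D3013
theorem F7260 : act 4 n4277 = n3046 := d12_2 (iv F5293) D4277 (iv D3046)
theorem F7261 : act 5 n4277 = n3022 := d13_2 (iv F5294) D4277 (iv D3022)
def n4278 : Q := act 3 n3014
theorem D4278 : act 3 n3014 = n4278 := rfl
theorem F7262 : act 5 n4278 = n3024 := d16_2 (iv F5296) D4278 (iv D3024)
def n4279 : Q := act 6 n3014
theorem D4279 : act 6 n3014 = n4279 := rfl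
theorem F7263 : act 2 n4279 = n3015 := d14_1 D4279 (iv D3015) D3014
def n4280 : Q := act 1 n3015
theorem D4280 : act 1 n3015 = n4280 := rfl
theorem F7266 : act 6 n4280 = n3016 := d10_2 D3015 D4280 (iv D3016) (iv D2352) D2351
def n4281 : Q := act 0 n3016
theorem D4281 : act 0 n3016 = n4281 := rfl
theorem F7267 : act 4 n4281 = n3050 := d3_2 (iv F5298) D4281 (iv D3050)
def n4283 : Q := act 5 n3016
theorem D4283 : act 5 n3016 = n4283 := rfl
theorem F7269 : act 1 n4283 = n4265 := d9_1 D4283 (iv D4265) (iv D3006) (iv F4269) D3016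
def n4284 : Q := act 0 n3017
theorem D4284 : act 0 n3017 = n4284 := rfl
theorem F7271 : act 4 n4284 = n3055 := d3_2 (iv F5299) D4284 (iv D3055)
def n4285 : Q := act 2 n3017
theorem D4285 : act 2 n3017 = n4285 := rfl
theorem F7272 : act 4 n4285 = n3056 := d12_2 (iv F5299) D4285 (iv D3056)
def n4286 : Q := act 6 n3017
theorem D4286 : act 6 n3017 = n4286 := rfl
theorem F7273 : act 1 n4286 = n4262 := d10_1 D4286 (iv D4262) (iv D3005) (iv F4272) D3017
theorem F7274 : act 4 n4286 = n3057 := d19_1 D4286 (iv D3057) (iv F5299)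
def n4287 : Q := act 1 n3018
theorem D4287 : act 1 n3018 = n4287 := rfl
theorem F7275 : act 3 n4287 = n3021 := d7_2 (iv F5300) D4287 (iv D3021)
def n4288 : Q := act 2 n3018
theorem D4288 : act 2 n3018 = n4288 := rfl
theorem F7277 : act 0 n4288 = n3019 := d1_1 D4288 (iv D3019) D3018
theorem F7278 : act 4 n4288 = n4016 := d12_2 (iv F5301) D4288 (iv D4016)
def n4289 : Q := act 6 n3018
theorem D4289 : act 6 n3018 = n4289 := rfl
theorem F7279 : act 0 n4289 = n3020 := d5_1 D4289 (iv D3020) D3018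
theorem F7280 : act 3 n4289 = n3023 := d17_1 D4289 (iv D3023) (iv F5300)
theorem F7281 : act 4 n4289 = n4017 := d19_1 D4289 (iv D4017) (iv F5301)
theorem F7282 : act 5 n4289 = n4273 := d22_2 F7249 D4289 (iv D4273) D4271
def n4290 : Q := act 3 n3019
theorem D4290 : act 3 n3019 = n4290 := rfl
def n4291 : Q := act 6 n3019
theorem D4291 : act 6 n3019 = n4291 := rfl
theorem F7283 : act 2 n4291 = n3020 := d14_1 D4291 (iv D3020) D3019
def n4292 : Q := act 5 n3020
theorem D4292 : act 5 n3020 = n4292 := rfl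
theorem F7285 : act 0 n4292 = n4273 := d4_1 D4292 (iv F7282) F7279
theorem F7286 : act 3 n4292 = n3026 := d16_1 D4292 (iv D3026) (iv F5303)
theorem F7287 : act 4 n4292 = n4020 := d18_1 D4292 (iv D4020) (iv F5304)
theorem F7288 : act 6 n4292 = n4271 := d20_2 D3020 D4292 F7249 D4289 F7282 (iv D4273) F5285
def n4293 : Q := act 0 n3021
theorem D4293 : act 0 n3021 = n4293 := rfl
theorem F7289 : act 1 n4293 = n4021 := d0_2 D3021 D4293 (iv D4021) (iv D2870) (iv D2280) (iv D1532) (iv F3799) D1827 D2355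
theorem F7290 : act 4 n4293 = n3058 := d3_2 (iv F5305) D4293 (iv D3058)
def n4294 : Q := act 2 n3021
theorem D4294 : act 2 n3021 = n4294 := rfl
theorem F7291 : act 4 n4294 = n3059 := d12_2 (iv F5305) D4294 (iv D3059)
def n4295 : Q := act 5 n3021
theorem D4295 : act 5 n3021 = n4295 := rfl
def n4296 : Q := act 6 n3021
theorem D4296 : act 6 n3021 = n4296 := rfl
theorem F7293 : act 4 n4296 = n3061 := d19_1 D4296 (iv D3061) (iv F5305)
def n4297 : Q := act 1 n3022
theorem D4297 : act 1 n3022 = n4297 := rfl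
theorem F7294 : act 4 n4297 = n3062 := d8_2 (iv F5307) D4297 (iv D3062)
def n4298 : Q := act 3 n3022
theorem D4298 : act 3 n3022 = n4298 := rfl
theorem F7295 : act 0 n4298 = n3024 := d2_1 D4298 (iv D3024) (iv F5306)
def n4299 : Q := act 6 n3022
theorem D4299 : act 6 n3022 = n4299 := rfl
theorem F7296 : act 0 n4299 = n3025 := d5_1 D4299 (iv D3025) (iv F5306)
theorem F7297 : act 2 n4299 = n3023 := d14_1 D4299 (iv D3023) D3022
theorem F7298 : act 4 n4299 = n3064 := d19_1 D4299 (iv D3064) (iv F5307)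
theorem F7299 : act 5 n4299 = n4279 := d22_2 F7261 D4299 (iv D4279) (iv F7259)
def n4300 : Q := act 1 n3023
theorem D4300 : act 1 n3023 = n4300 := rfl
theorem F7300 : act 4 n4300 = n3065 := d8_2 (iv F5309) D4300 (iv D3065)
def n4301 : Q := act 2 n3024
theorem D4301 : act 2 n3024 = n4301 := rfl
def n4302 : Q := act 4 n3024
theorem D4302 : act 4 n3024 = n4302 := rfl
theorem F7301 : act 1 n4302 = n3027 := d8_1 D4302 (iv D3027) (iv F5311)
theorem F7302 : act 3 n4302 = n3067 := d15_1 D4302 (iv D3067) (iv D2376) (iv F4277) D3024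
def n4303 : Q := act 6 n3024
theorem D4303 : act 6 n3024 = n4303 := rfl
theorem F7303 : act 3 n4303 = n3025 := d17_1 D4303 (iv D3025) D3024
def n4304 : Q := act 5 n3025
theorem D4304 : act 5 n3025 = n4304 := rfl
theorem F7304 : act 0 n4304 = n4279 := d4_1 D4304 (iv F7299) F7296
theorem F7305 : act 2 n4304 = n3026 := d13_1 D4304 (iv D3026) (iv F5312)
theorem F7306 : act 4 n4304 = n3070 := d18_1 D4304 (iv D3070) (iv F5313)
theorem F7307 : act 6 n4304 = n4277 := d20_2 D3025 D4304 F7261 D4299 F7299 (iv D4279) F5296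
def n4305 : Q := act 1 n3026
theorem D4305 : act 1 n3026 = n4305 := rfl
theorem F7308 : act 4 n4305 = n3071 := d8_2 (iv F5315) D4305 (iv D3071)
def n4306 : Q := act 0 n3028
theorem D4306 : act 0 n3028 = n4306 := rfl
def n4307 : Q := act 3 n3028
theorem D4307 : act 3 n3028 = n4307 := rfl
theorem F7309 : act 1 n4307 = n3029 := d7_1 D4307 (iv D3029) D3028
def n4308 : Q := act 5 n3028
theorem D4308 : act 5 n3028 = n4308 := rfl
def n4310 : Q := act 4 n3029
theorem D4310 : act 4 n3029 = n4310 := rfl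
theorem F7311 : act 0 n4310 = n3970 := d3_1 D4310 F6756 (iv F5318)
theorem F7312 : act 2 n4310 = n3096 := d12_1 D4310 F5398 (iv F5319)
theorem F7313 : act 6 n4310 = n3095 := d19_2 (iv F5320) D4310 (iv D3095)
def n4311 : Q := act 1 n3030
theorem D4311 : act 1 n3030 = n4311 := rfl
def n4312 : Q := act 1 n3031
theorem D4312 : act 1 n3031 = n4312 := rfl
def n4313 : Q := act 5 n3032
theorem D4313 : act 5 n3032 = n4313 := rfl
theorem F7315 : act 3 n4313 = n3033 := d16_1 D4313 (iv D3033) D3032
def n4314 : Q := act 6 n3032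
theorem D4314 : act 6 n3032 = n4314 := rfl
theorem F7316 : act 0 n4314 = n4253 := d5_1 D4314 (iv D4253) (iv F5325)
def n4315 : Q := act 1 n3033
theorem D4315 : act 1 n3033 = n4315 := rfl
theorem F7318 : act 4 n4315 = n4311 := d8_2 (iv F5328) D4315 (iv D4311)
def n4316 : Q := act 1 n3034
theorem D4316 : act 1 n3034 = n4316 := rfl
theorem F7319 : act 4 n4316 = n4312 := d8_2 (iv F5331) D4316 (iv D4312)
def n4317 : Q := act 0 n3035
theorem D4317 : act 0 n3035 = n4317 := rfl
theorem F7320 : act 5 n4317 = n3039 := d4_2 (iv F5332) D4317 (iv D3039)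
theorem F7321 : act 2 n4317 = n3942 := d23_1 (iv F7320) (iv D3942) (iv D2830) F4103 D2262 F4107 (iv F4109) (iv F4185) (iv D2302) (iv D1695) F1365 (iv D430) D429 D885 D1739 D2317 F4214 D2364 D3039
def n4318 : Q := act 2 n3035
theorem D4318 : act 2 n3035 = n4318 := rfl
theorem F7322 : act 0 n4318 = n3942 := d1_1 D4318 (iv F7321) (iv D4317)
theorem F7323 : act 5 n4318 = n3040 := d13_2 (iv F5332) D4318 (iv D3040)
def n4319 : Q := act 6 n3035
theorem D4319 : act 6 n3035 = n4319 := rfl
def n4320 : Q := act 1 n3036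
theorem D4320 : act 1 n3036 = n4320 := rfl
def n4321 : Q := act 0 n3037
theorem D4321 : act 0 n3037 = n4321 := rfl
theorem F7324 : act 6 n4321 = n3042 := d5_2 (iv F5334) D4321 (iv D3042)
def n4322 : Q := act 2 n3037
theorem D4322 : act 2 n3037 = n4322 := rfl
theorem F7325 : act 6 n4322 = n3043 := d14_2 (iv F5334) D4322 (iv D3043)
def n4323 : Q := act 5 n3037
theorem D4323 : act 5 n3037 = n4323 := rfl
def n4324 : Q := act 1 n3038
theorem D4324 : act 1 n3038 = n4324 := rfl
def n4325 : Q := act 1 n3039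
theorem D4325 : act 1 n3039 = n4325 := rfl
def n4326 : Q := act 2 n3039
theorem D4326 : act 2 n3039 = n4326 := rfl
theorem F7326 : act 0 n4326 = n3040 := d1_1 D4326 (iv D3040) D3039
theorem F7327 : act 5 n4326 = n3942 := d13_2 F7320 D4326 (iv F7321)
theorem F7328 : act 1 n3955 = n4326 := d9_5 F7327 (iv D3942) F4956 D2835 D3955
def n4327 : Q := act 6 n3039
theorem D4327 : act 6 n3039 = n4327 := rfl
theorem F7329 : act 0 n4327 = n3041 := d5_1 D4327 (iv D3041) D3039
theorem F7330 : act 5 n4327 = n4319 := d22_2 F7320 D4327 (iv D4319) D4317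
def n4328 : Q := act 3 n3040
theorem D4328 : act 3 n3040 = n4328 := rfl
def n4329 : Q := act 6 n3040
theorem D4329 : act 6 n3040 = n4329 := rfl
theorem F7331 : act 2 n4329 = n3041 := d14_1 D4329 (iv D3041) D3040
def n4330 : Q := act 5 n3041
theorem D4330 : act 5 n3041 = n4330 := rfl
theorem F7332 : act 0 n4330 = n4319 := d4_1 D4330 (iv F7330) F7329
theorem F7333 : act 6 n4330 = n4317 := d20_2 D3041 D4330 F7320 D4327 F7330 (iv D4319) F5332
def n4331 : Q := act 1 n3042
theorem D4331 : act 1 n3042 = n4331 := rfl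
def n4332 : Q := act 2 n3042
theorem D4332 : act 2 n3042 = n4332 := rfl
theorem F7334 : act 0 n4332 = n3043 := d1_1 D4332 (iv D3043) D3042
def n4333 : Q := act 5 n3042
theorem D4333 : act 5 n3042 = n4333 := rfl
theorem F7335 : act 0 n4333 = n3044 := d4_1 D4333 (iv D3044) D3042
theorem F7336 : act 6 n4333 = n4323 := d22_1 D4333 (iv D4323) F5334 D3042
def n4334 : Q := act 3 n3043
theorem D4334 : act 3 n3043 = n4334 := rfl
def n4336 : Q := act 6 n3044
theorem D4336 : act 6 n3044 = n4336 := rfl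
theorem F7338 : act 0 n4336 = n4323 := d5_1 D4336 (iv F7336) F7335
theorem F7339 : act 5 n4336 = n4321 := d20_1 D4336 F7324 D4333 F7336 (iv D4323) F5334 D3044
def n4337 : Q := act 0 n3045
theorem D4337 : act 0 n3045 = n4337 := rfl
def n4338 : Q := act 2 n3045
theorem D4338 : act 2 n3045 = n4338 := rfl
def n4339 : Q := act 5 n3045
theorem D4339 : act 5 n3045 = n4339 := rfl
theorem F7340 : act 1 n4339 = n3060 := d9_1 D4339 (iv D3060) (iv D2373) (iv F4281) D3045
def n4340 : Q := act 6 n3045
theorem D4340 : act 6 n3045 = n4340 := rfl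
def n4341 : Q := act 1 n3046
theorem D4341 : act 1 n3046 = n4341 := rfl
def n4342 : Q := act 3 n3046
theorem D4342 : act 3 n3046 = n4342 := rfl
theorem F7341 : act 0 n4342 = n3047 := d2_1 D4342 (iv D3047) (iv F5337)
theorem F7342 : act 5 n4342 = n3063 := d16_2 (iv F5338) D4342 (iv D3063)
theorem F7343 : act 2 n4342 = n3563 := d21_2 D3046 D4342 (iv D3563) (iv D2626) F3961 D2159 (iv F3973) D2366
def n4343 : Q := act 2 n3047
theorem D4343 : act 2 n3047 = n4343 := rfl
theorem F7344 : act 0 n4343 = n3563 := d1_1 D4343 (iv F7343) F7341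
theorem F7345 : act 3 n4343 = n3562 := d11_2 D3047 D4343 (iv D3562) F4709 D2634 (iv F4721) D3046 D4342 F7343 (iv D3563) (iv D2626) F3961 D2159 (iv F3973) D2367
theorem F7346 : act 5 n4343 = n3066 := d13_2 (iv F5339) D4343 (iv D3066)
def n4344 : Q := act 4 n3047
theorem D4344 : act 4 n3047 = n4344 := rfl
theorem F7347 : act 5 n4344 = n3067 := d18_2 (iv F5339) D4344 (iv D3067)
def n4345 : Q := act 6 n3047
theorem D4345 : act 6 n3047 = n4345 := rfl
def n4346 : Q := act 1 n3048
theorem D4346 : act 1 n3048 = n4346 := rfl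
def n4347 : Q := act 0 n3049
theorem D4347 : act 0 n3049 = n4347 := rfl
theorem F7349 : act 6 n4347 = n3050 := d5_2 (iv F5341) D4347 (iv D3050)
def n4349 : Q := act 5 n3049
theorem D4349 : act 5 n3049 = n4349 := rfl
def n4350 : Q := act 1 n3050
theorem D4350 : act 1 n3050 = n4350 := rfl
def n4352 : Q := act 5 n3050
theorem D4352 : act 5 n3050 = n4352 := rfl
theorem F7352 : act 0 n4352 = n3052 := d4_1 D4352 (iv D3052) D3050
theorem F7353 : act 6 n4352 = n4349 := d22_1 D4352 (iv D4349) F5341 D3050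
def n4356 : Q := act 0 n3053
theorem D4356 : act 0 n3053 = n4356 := rfl
theorem F7357 : act 3 n4356 = n3939 := d2_2 (iv F5343) D4356 (iv D3939)
def n4357 : Q := act 2 n3053
theorem D4357 : act 2 n3053 = n4357 := rfl
theorem F7358 : act 1 n4357 = n3374 := d6_1 D4357 (iv D3374) (iv D2531) (iv F4283) D3053
def n4358 : Q := act 5 n3053
theorem D4358 : act 5 n3053 = n4358 := rfl
def n4359 : Q := act 6 n3053
theorem D4359 : act 6 n3053 = n4359 := rfl
theorem F7360 : act 1 n4359 = n3075 := d10_1 D4359 (iv D3075) (iv D2379) (iv F4285) D3053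
theorem F7361 : act 3 n4359 = n3935 := d17_1 D4359 F6733 (iv F5343)
def n4360 : Q := act 0 n3054
theorem D4360 : act 0 n3054 = n4360 := rfl
theorem F7362 : act 3 n4360 = n3950 := d2_2 (iv F5344) D4360 (iv D3950)
theorem F7363 : act 5 n4360 = n3055 := d4_2 (iv F5345) D4360 (iv D3055)
def n4361 : Q := act 2 n3054
theorem D4361 : act 2 n3054 = n4361 := rfl
theorem F7364 : act 1 n4361 = n3408 := d6_1 D4361 (iv D3408) (iv D2548) (iv F4286) D3054
theorem F7365 : act 5 n4361 = n3056 := d13_2 (iv F5345) D4361 (iv D3056)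
def n4362 : Q := act 6 n3054
theorem D4362 : act 6 n3054 = n4362 := rfl
def n4363 : Q := act 1 n3055
theorem D4363 : act 1 n3055 = n4363 := rfl
def n4364 : Q := act 2 n3055
theorem D4364 : act 2 n3055 = n4364 := rfl
theorem F7367 : act 0 n4364 = n3056 := d1_1 D4364 (iv D3056) D3055
def n4365 : Q := act 6 n3055
theorem D4365 : act 6 n3055 = n4365 := rfl
theorem F7368 : act 0 n4365 = n3057 := d5_1 D4365 (iv D3057) D3055
theorem F7369 : act 5 n4365 = n4362 := d22_2 F7363 D4365 (iv D4362) D4360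
def n4366 : Q := act 3 n3056
theorem D4366 : act 3 n3056 = n4366 := rfl
def n4367 : Q := act 6 n3056
theorem D4367 : act 6 n3056 = n4367 := rfl
theorem F7370 : act 2 n4367 = n3057 := d14_1 D4367 (iv D3057) D3056
def n4368 : Q := act 5 n3057
theorem D4368 : act 5 n3057 = n4368 := rfl
theorem F7372 : act 6 n4368 = n4360 := d20_2 D3057 D4368 F7363 D4365 F7369 (iv D4362) F5345
def n4369 : Q := act 2 n3058
theorem D4369 : act 2 n3058 = n4369 := rfl
theorem F7373 : act 0 n4369 = n3059 := d1_1 D4369 (iv D3059) D3058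
def n4370 : Q := act 5 n3058
theorem D4370 : act 5 n3058 = n4370 := rfl
theorem F7374 : act 0 n4370 = n3060 := d4_1 D4370 (iv D3060) D3058
def n4371 : Q := act 6 n3058
theorem D4371 : act 6 n3058 = n4371 := rfl
theorem F7375 : act 0 n4371 = n3061 := d5_1 D4371 (iv D3061) D3058
def n4372 : Q := act 1 n3059
theorem D4372 : act 1 n3059 = n4372 := rfl
theorem F7376 : act 2 n4372 = n3062 := d6_2 D3059 D4372 (iv D3062) (iv D2374) D2373
def n4373 : Q := act 3 n3059
theorem D4373 : act 3 n3059 = n4373 := rfl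
def n4374 : Q := act 5 n3059
theorem D4374 : act 5 n3059 = n4374 := rfl
theorem F7377 : act 2 n4374 = n3060 := d13_1 D4374 (iv D3060) D3059
def n4375 : Q := act 6 n3059
theorem D4375 : act 6 n3059 = n4375 := rfl
theorem F7378 : act 2 n4375 = n3061 := d14_1 D4375 (iv D3061) D3059
def n4376 : Q := act 6 n3060
theorem D4376 : act 6 n3060 = n4376 := rfl
theorem F7379 : act 5 n4376 = n4371 := d22_2 D3060 D4376 (iv D4371) (iv D3058)
def n4377 : Q := act 1 n3061
theorem D4377 : act 1 n3061 = n4377 := rfl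
theorem F7380 : act 6 n4377 = n3065 := d10_2 D3061 D4377 (iv D3065) (iv D2375) D2373
def n4378 : Q := act 5 n3061
theorem D4378 : act 5 n3061 = n4378 := rfl
theorem F7382 : act 6 n4378 = n4370 := d20_2 D3061 D4378 (iv D4370) D4371 (iv F7379) (iv D4376) (iv D3060)
def n4379 : Q := act 0 n3062
theorem D4379 : act 0 n3062 = n4379 := rfl
def n4380 : Q := act 3 n3062
theorem D4380 : act 3 n3062 = n4380 := rfl
theorem F7383 : act 1 n4380 = n3063 := d7_1 D4380 (iv D3063) D3062
def n4381 : Q := act 5 n3062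
theorem D4381 : act 5 n3062 = n4381 := rfl
def n4382 : Q := act 6 n3062
theorem D4382 : act 6 n3062 = n4382 := rfl
def n4383 : Q := act 4 n3063
theorem D4383 : act 4 n3063 = n4383 := rfl
theorem F7384 : act 0 n4383 = n3067 := d3_1 D4383 (iv D3067) (iv F5347)
theorem F7385 : act 2 n4383 = n3632 := d12_1 D4383 (iv D3632) (iv F5348)
def n4384 : Q := act 6 n3063
theorem D4384 : act 6 n3063 = n4384 := rfl
theorem F7389 : act 5 n4384 = n4345 := d22_2 F7342 D4384 (iv D4345) (iv F7341)
def n4385 : Q := act 1 n3064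
theorem D4385 : act 1 n3064 = n4385 := rfl
def n4386 : Q := act 0 n3065
theorem D4386 : act 0 n3065 = n4386 := rfl
def n4387 : Q := act 2 n3065
theorem D4387 : act 2 n3065 = n4387 := rfl
def n4388 : Q := act 5 n3065
theorem D4388 : act 5 n3065 = n4388 := rfl
theorem F7390 : act 1 n4388 = n4349 := d9_1 D4388 (iv D4349) (iv D3049) (iv F4290) D3065
def n4389 : Q := act 1 n3066
theorem D4389 : act 1 n3066 = n4389 := rfl
theorem F7391 : act 2 n4389 = n3094 := d6_2 D3066 D4389 (iv D3094) (iv D2389) (iv F4291)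
theorem F7392 : act 3 n4389 = n3629 := d7_2 (iv F5353) D4389 (iv D3629)
def n4390 : Q := act 4 n3066
theorem D4390 : act 4 n3066 = n4390 := rfl
theorem F7393 : act 0 n4390 = n3632 := d3_1 D4390 (iv D3632) (iv F5352)
def n4392 : Q := act 6 n3067
theorem D4392 : act 6 n3067 = n4392 := rfl
theorem F7398 : act 4 n4392 = n3068 := d19_1 D4392 (iv D3068) D3067
def n4393 : Q := act 1 n3068
theorem D4393 : act 1 n3068 = n4393 := rfl
theorem F7399 : act 3 n4393 = n3069 := d7_2 (iv F5355) D4393 (iv D3069)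
theorem F7400 : act 6 n4393 = n3097 := d10_2 D3068 D4393 (iv D3097) (iv D2391) (iv F4291)
def n4395 : Q := act 0 n3069
theorem D4395 : act 0 n3069 = n4395 := rfl
theorem F7404 : act 6 n4395 = n3099 := d5_2 (iv F5356) D4395 (iv D3099)
def n4396 : Q := act 5 n3069
theorem D4396 : act 5 n3069 = n4396 := rfl
def n4397 : Q := act 1 n3070
theorem D4397 : act 1 n3070 = n4397 := rfl
def n4398 : Q := act 0 n3071
theorem D4398 : act 0 n3071 = n4398 := rfl
def n4399 : Q := act 2 n3071
theorem D4399 : act 2 n3071 = n4399 := rfl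
def n4400 : Q := act 6 n3071
theorem D4400 : act 6 n3071 = n4400 := rfl
theorem F7405 : act 1 n4400 = n4340 := d10_1 D4400 (iv D4340) (iv D3045) (iv F4294) D3071
def n4401 : Q := act 1 n3074
theorem D4401 : act 1 n3074 = n4401 := rfl
theorem F7406 : act 3 n4401 = n3934 := d7_2 (iv F5363) D4401 (iv D3934)
theorem F7407 : act 5 n4401 = n3076 := d9_2 D3074 D4401 (iv D3076) (iv D2380) D2379
def n4402 : Q := act 6 n3074
theorem D4402 : act 6 n3074 = n4402 := rfl
theorem F7408 : act 2 n4402 = n3180 := d14_1 D4402 F5556 (iv F5655)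
theorem F7411 : act 5 n4402 = n3172 := d22_2 D3074 D4402 (iv D3172) F5645
def n4403 : Q := act 5 n3075
theorem D4403 : act 5 n3075 = n4403 := rfl
theorem F7413 : act 2 n4403 = n3178 := d13_1 D4403 F5551 (iv F5656)
theorem F7414 : act 3 n4403 = n3315 := d16_1 D4403 F5834 (iv F5364)
theorem F7416 : act 6 n4403 = n3171 := d20_2 D3075 D4403 (iv D3171) D3172 (iv F7411) (iv D4402) (iv D3074)
def n4404 : Q := act 0 n3076
theorem D4404 : act 0 n3076 = n4404 := rfl
theorem F7417 : act 3 n4404 = n3936 := d2_2 (iv F5365) D4404 (iv D3936)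
theorem F7418 : act 5 n4404 = n4156 := d23_4 D2106 (iv F4297) D3076 D4404 (iv D4156) (iv D2950) F4213 (iv D1741) F1420 (iv D454) (iv F3736) (iv F958) (iv D590) (iv D290) (iv F507) (iv D276) D275 D554 D1136
theorem F7419 : act 0 n4401 = n4156 := d4_3 (iv F7418) (iv D4404) (iv F7407)
theorem F7420 : act 2 n4155 = n4401 := d1_0 F7419 (iv D4156) D4155
theorem F7421 : act 2 n4404 = n4151 := d23_5 D3168 (iv F5655) D4401 F7419 (iv F7418) (iv D4151) (iv F6766) (iv D3976) (iv D2846) (iv D2267) (iv D1524) D1526 F2479 F1246 (iv F1697) (iv D1061) (iv F1630) D2020 D2427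
def n4405 : Q := act 2 n3076
theorem D4405 : act 2 n3076 = n4405 := rfl
theorem F7422 : act 0 n4405 = n4151 := d1_1 D4405 (iv F7421) (iv D4404)
theorem F7423 : act 1 n4405 = n3371 := d6_1 D4405 (iv D3371) (iv D2530) (iv F4297) D3076
theorem F7424 : act 5 n4405 = n4155 := d13_2 F7407 D4405 F7420
def n4406 : Q := act 6 n3076
theorem D4406 : act 6 n3076 = n4406 := rfl
theorem F7425 : act 1 n4406 = n4362 := d10_1 D4406 (iv D4362) (iv D3054) (iv F4299) D3076
theorem F7426 : act 3 n4406 = n3938 := d17_1 D4406 (iv D3938) (iv F5365)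
def n4407 : Q := act 1 n3077
theorem D4407 : act 1 n3077 = n4407 := rfl
theorem F7427 : act 3 n4407 = n3942 := d7_2 (iv F5366) D4407 (iv D3942)
def n4408 : Q := act 2 n3077
theorem D4408 : act 2 n3077 = n4408 := rfl
theorem F7428 : act 0 n4408 = n3078 := d1_1 D4408 (iv D3078) D3077
theorem F7429 : act 5 n4408 = n3082 := d13_2 (iv F5367) D4408 (iv D3082)
def n4409 : Q := act 3 n3078
theorem D4409 : act 3 n3078 = n4409 := rfl
theorem F7430 : act 1 n4409 = n3399 := d7_1 D4409 (iv D3399) (iv F5368)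
theorem F7431 : act 5 n4409 = n3084 := d16_2 (iv F5369) D4409 (iv D3084)
def n4410 : Q := act 6 n3078
theorem D4410 : act 6 n3078 = n4410 := rfl
theorem F7432 : act 2 n4410 = n3079 := d14_1 D4410 (iv D3079) D3078
def n4411 : Q := act 1 n3079
theorem D4411 : act 1 n3079 = n4411 := rfl
theorem F7433 : act 3 n4411 = n3946 := d7_2 (iv F5370) D4411 (iv D3946)
theorem F7434 : act 6 n4411 = n3080 := d10_2 D3079 D4411 (iv D3080) (iv D2382) D2381
def n4412 : Q := act 0 n3080
theorem D4412 : act 0 n3080 = n4412 := rfl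
theorem F7435 : act 3 n4412 = n3947 := d2_2 (iv F5371) D4412 (iv D3947)
def n4413 : Q := act 2 n3080
theorem D4413 : act 2 n3080 = n4413 := rfl
theorem F7436 : act 1 n4413 = n3403 := d6_1 D4413 (iv D3403) (iv D2545) (iv F4303) D3080
def n4414 : Q := act 5 n3080
theorem D4414 : act 5 n3080 = n4414 := rfl
theorem F7437 : act 1 n4414 = n4358 := d9_1 D4414 (iv D4358) (iv D3053) (iv F4305) D3080
def n4415 : Q := act 0 n3081
theorem D4415 : act 0 n3081 = n4415 := rfl
theorem F7439 : act 1 n4415 = n3953 := d0_2 D3081 D4415 (iv D3953) (iv D2835) (iv D2261) (iv D1487) (iv F1491) D1864 D2383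
theorem F7440 : act 3 n4415 = n3953 := d2_2 (iv F5372) D4415 (iv D3953)
def n4416 : Q := act 2 n3081
theorem D4416 : act 2 n3081 = n4416 := rfl
def n4417 : Q := act 5 n3081
theorem D4417 : act 5 n3081 = n4417 := rfl
theorem F7441 : act 3 n4417 = n3955 := d16_1 D4417 (iv D3955) (iv F5372)
def n4418 : Q := act 6 n3081
theorem D4418 : act 6 n3081 = n4418 := rfl
theorem F7442 : act 3 n4418 = n3956 := d17_1 D4418 (iv D3956) (iv F5372)
def n4419 : Q := act 1 n3082
theorem D4419 : act 1 n3082 = n4419 := rfl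
def n4420 : Q := act 3 n3082
theorem D4420 : act 3 n3082 = n4420 := rfl
theorem F7443 : act 0 n4420 = n3084 := d2_1 D4420 (iv D3084) (iv F5373)
def n4421 : Q := act 6 n3082
theorem D4421 : act 6 n3082 = n4421 := rfl
theorem F7444 : act 0 n4421 = n3085 := d5_1 D4421 (iv D3085) (iv F5373)
theorem F7445 : act 2 n4421 = n3083 := d14_1 D4421 (iv D3083) D3082
theorem F7446 : act 5 n4421 = n4410 := d22_2 F7429 D4421 (iv D4410) (iv F7428)
def n4422 : Q := act 1 n3083
theorem D4422 : act 1 n3083 = n4422 := rfl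
theorem F7447 : act 3 n4422 = n3960 := d7_2 (iv F5375) D4422 (iv D3960)
def n4423 : Q := act 2 n3084
theorem D4423 : act 2 n3084 = n4423 := rfl
def n4424 : Q := act 4 n3084
theorem D4424 : act 4 n3084 = n4424 := rfl
theorem F7448 : act 1 n4424 = n3105 := d8_1 D4424 (iv D3105) (iv F5377)
def n4425 : Q := act 6 n3084
theorem D4425 : act 6 n3084 = n4425 := rfl
theorem F7449 : act 1 n4425 = n3688 := d10_1 D4425 F6348 F4781 (iv F4329) (iv F5377)
theorem F7450 : act 3 n4425 = n3085 := d17_1 D4425 (iv D3085) D3084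
def n4426 : Q := act 5 n3085
theorem D4426 : act 5 n3085 = n4426 := rfl
theorem F7453 : act 6 n4426 = n4408 := d20_2 D3085 D4426 F7429 D4421 F7446 (iv D4410) F5369
def n4428 : Q := act 0 n3087
theorem D4428 : act 0 n3087 = n4428 := rfl
theorem F7456 : act 2 n4428 = n3089 := d1_2 (iv F5383) D4428 (iv D3089)
def n4429 : Q := act 3 n3087
theorem D4429 : act 3 n3087 = n4429 := rfl
def n4430 : Q := act 5 n3087
theorem D4430 : act 5 n3087 = n4430 := rfl
theorem F7459 : act 1 n4430 = n4308 := d9_1 D4430 (iv D4308) (iv D3028) (iv F4311) D3087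
theorem F7460 : act 2 n4430 = n3091 := d13_1 D4430 (iv D3091) (iv F5383)
def n4431 : Q := act 6 n3087
theorem D4431 : act 6 n3087 = n4431 := rfl
theorem F7462 : act 1 n4431 = n3931 := d10_1 D4431 (iv D3931) F4951 (iv F4312) D3087
theorem F7463 : act 2 n4431 = n3092 := d14_1 D4431 (iv D3092) (iv F5383)
theorem F7464 : act 4 n4431 = n3964 := d19_1 D4431 F6750 (iv F5384)
def n4432 : Q := act 4 n3088
theorem D4432 : act 4 n3088 = n4432 := rfl
theorem F7465 : act 3 n4432 = n3970 := d15_1 D4432 F6756 F4967 (iv F4310) D3088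
theorem F7466 : act 5 n4432 = n4310 := d18_2 (iv F5385) D4432 (iv D4310)
def n4433 : Q := act 1 n3089
theorem D4433 : act 1 n3089 = n4433 := rfl
def n4434 : Q := act 3 n3089
theorem D4434 : act 3 n3089 = n4434 := rfl
theorem F7468 : act 0 n4434 = n3090 := d2_1 D4434 (iv D3090) D3089
def n4435 : Q := act 5 n3089
theorem D4435 : act 5 n3089 = n4435 := rfl
theorem F7469 : act 0 n4435 = n3091 := d4_1 D4435 (iv D3091) D3089
def n4436 : Q := act 6 n3089
theorem D4436 : act 6 n3089 = n4436 := rfl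
theorem F7470 : act 0 n4436 = n3092 := d5_1 D4436 (iv D3092) D3089
theorem F7471 : act 4 n4436 = n4395 := d19_1 D4436 F7404 F5404
def n4437 : Q := act 2 n3090
theorem D4437 : act 2 n3090 = n4437 := rfl
theorem F7472 : act 1 n4437 = n3961 := d6_1 D4437 (iv D3961) F4962 (iv F4315) (iv F5387)
def n4438 : Q := act 4 n3090
theorem D4438 : act 4 n3090 = n4438 := rfl
theorem F7473 : act 1 n4438 = n3093 := d8_1 D4438 (iv D3093) (iv F5387)
def n4439 : Q := act 5 n3090
theorem D4439 : act 5 n3090 = n4439 := rfl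
theorem F7474 : act 3 n4439 = n3091 := d16_1 D4439 (iv D3091) D3090
def n4440 : Q := act 6 n3090
theorem D4440 : act 6 n3090 = n4440 := rfl
theorem F7475 : act 1 n4440 = n4303 := d10_1 D4440 (iv D4303) F5311 (iv F4314) (iv F5387)
theorem F7476 : act 3 n4440 = n3092 := d17_1 D4440 (iv D3092) D3090
def n4441 : Q := act 6 n3091
theorem D4441 : act 6 n3091 = n4441 := rfl
theorem F7477 : act 5 n4441 = n4436 := d22_2 D3091 D4441 (iv D4436) (iv D3089)
def n4442 : Q := act 5 n3092
theorem D4442 : act 5 n3092 = n4442 := rfl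
theorem F7478 : act 0 n4442 = n4441 := d4_1 D4442 F7477 F7470
theorem F7479 : act 4 n4442 = n4396 := d18_1 D4442 (iv D4396) (iv F5389)
theorem F7480 : act 6 n4442 = n4435 := d20_2 D3092 D4442 (iv D4435) D4436 (iv F7477) (iv D4441) (iv D3091)
def n4443 : Q := act 0 n3094
theorem D4443 : act 0 n3094 = n4443 := rfl
theorem F7481 : act 3 n4443 = n3967 := d2_2 (iv F5393) D4443 (iv D3967)
def n4447 : Q := act 1 n3096
theorem D4447 : act 1 n3096 = n4447 := rfl
theorem F7485 : act 3 n4447 = n4438 := d7_2 (iv F5397) D4447 F7473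
theorem F7486 : act 4 n4447 = n3097 := d8_2 (iv F5398) D4447 (iv D3097)
def n4448 : Q := act 5 n3096
theorem D4448 : act 5 n3096 = n4448 := rfl
theorem F7487 : act 0 n4448 = n4150 := d4_1 D4448 F7097 (iv F5396)
theorem F7488 : act 2 n4448 = n4432 := d13_1 D4448 F7466 F7312
theorem F7489 : act 3 n4448 = n4247 := d16_1 D4448 F7202 (iv F5397)
theorem F7490 : act 4 n4448 = n3098 := d18_1 D4448 (iv D3098) (iv F5398)
theorem F7491 : act 6 n4448 = n4247 := d20_2 D3096 D4448 F7202 F5392 (iv F7097) F7098 F5244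
def n4449 : Q := act 0 n3097
theorem D4449 : act 0 n3097 = n4449 := rfl
theorem F7492 : act 3 n4449 = n3099 := d2_2 (iv F5399) D4449 (iv D3099)
def n4450 : Q := act 2 n3097
theorem D4450 : act 2 n3097 = n4450 := rfl
def n4451 : Q := act 5 n3097
theorem D4451 : act 5 n3097 = n4451 := rfl
theorem F7493 : act 3 n4451 = n3100 := d16_1 D4451 (iv D3100) (iv F5399)
def n4452 : Q := act 1 n3098
theorem D4452 : act 1 n3098 = n4452 := rfl
theorem F7494 : act 3 n4452 = n3101 := d7_2 (iv F5402) D4452 (iv D3101)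
def n4453 : Q := act 1 n3099
theorem D4453 : act 1 n3099 = n4453 := rfl
theorem F7495 : act 4 n4453 = n4433 := d8_2 (iv F5404) D4453 (iv D4433)
def n4454 : Q := act 5 n3099
theorem D4454 : act 5 n3099 = n4454 := rfl
theorem F7496 : act 0 n4454 = n3100 := d4_1 D4454 (iv D3100) D3099
theorem F7497 : act 4 n4454 = n4435 := d18_1 D4454 (iv D4435) (iv F5404)
theorem F7498 : act 6 n4454 = n4396 := d22_1 D4454 (iv D4396) F5356 D3099
def n4455 : Q := act 1 n3100
theorem D4455 : act 1 n3100 = n4455 := rfl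
theorem F7499 : act 4 n4455 = n4245 := d8_2 (iv F5405) D4455 F7199
theorem F7500 : act 5 n4455 = n3101 := d9_2 D3100 D4455 (iv D3101) (iv D2393) D2392
def n4456 : Q := act 6 n3100
theorem D4456 : act 6 n3100 = n4456 := rfl
theorem F7501 : act 0 n4456 = n4396 := d5_1 D4456 (iv F7498) F7496
theorem F7502 : act 4 n4456 = n4441 := d19_1 D4456 (iv D4441) (iv F5405)
theorem F7503 : act 5 n4456 = n4395 := d20_1 D4456 F7404 D4454 F7498 (iv D4396) F5356 D3100
def n4457 : Q := act 0 n3101
theorem D4457 : act 0 n3101 = n4457 := rfl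
theorem F7504 : act 4 n4457 = n4243 := d3_2 (iv F5406) D4457 (iv D4243)
def n4458 : Q := act 6 n3101
theorem D4458 : act 6 n3101 = n4458 := rfl
theorem F7505 : act 1 n4458 = n4246 := d10_1 D4458 (iv D4246) (iv D2992) (iv F4324) D3101
theorem F7506 : act 4 n4458 = n4246 := d19_1 D4458 (iv D4246) (iv F5406)
def n4459 : Q := act 0 n3102
theorem D4459 : act 0 n3102 = n4459 := rfl
theorem F7507 : act 2 n4459 = n4457 := d1_2 (iv F5407) D4459 (iv D4457)
def n4460 : Q := act 3 n3102
theorem D4460 : act 3 n3102 = n4460 := rfl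
def n4461 : Q := act 5 n3102
theorem D4461 : act 5 n3102 = n4461 := rfl
theorem F7510 : act 2 n4461 = n4455 := d13_1 D4461 F7500 (iv F5407)
def n4462 : Q := act 6 n3102
theorem D4462 : act 6 n3102 = n4462 := rfl
theorem F7511 : act 1 n4462 = n3745 := d10_1 D4462 (iv D3745) (iv D2706) (iv F4327) D3102
theorem F7512 : act 2 n4462 = n4458 := d14_1 D4462 (iv D4458) (iv F5407)
def n4484 : Q := act 2 n3118
theorem D4484 : act 2 n3118 = n4484 := rfl
theorem F7556 : act 1 n4484 = n3122 := d6_1 D4484 F5454 F5451 (iv D3121) (iv F5446)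
theorem F7557 : act 3 n3356 = n4484 := d7_0 F7556 F5455 (iv F5937)
def n4487 : Q := act 1 n3119
theorem D4487 : act 1 n3119 = n4487 := rfl
theorem F7562 : act 5 n4487 = n3125 := d9_2 D3119 D4487 (iv D3125) (iv D2404) D2402
def n4488 : Q := act 6 n3119
theorem D4488 : act 6 n3119 = n4488 := rfl
theorem F7564 : act 4 n4488 = n3360 := d19_1 D4488 (iv D3360) (iv F5447)
theorem F7565 : act 5 n4488 = n3354 := d22_2 D3119 D4488 (iv D3354) F5649
def n4489 : Q := act 1 n3120
theorem D4489 : act 1 n3120 = n4489 := rfl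
theorem F7567 : act 6 n4489 = n3126 := d10_2 D3120 D4489 (iv D3126) (iv D2405) D2402
def n4490 : Q := act 5 n3120
theorem D4490 : act 5 n3120 = n4490 := rfl
theorem F7570 : act 4 n4490 = n3362 := d18_1 D4490 (iv D3362) (iv F5448)
theorem F7571 : act 6 n4490 = n3353 := d20_2 D3120 D4490 (iv D3353) D3354 (iv F7565) (iv D4488) (iv D3119)
def n4491 : Q := act 5 n3121
theorem D4491 : act 5 n3121 = n4491 := rfl
theorem F7573 : act 2 n4491 = n3123 := d13_1 D4491 (iv D3123) D3121
theorem F7574 : act 3 n4491 = n3974 := d16_1 D4491 (iv D3974) (iv F5450)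
def n4492 : Q := act 6 n3121
theorem D4492 : act 6 n3121 = n4492 := rfl
theorem F7576 : act 0 n4492 = n3128 := d5_1 D4492 (iv D3128) (iv F5449)
def n4493 : Q := act 5 n3122
theorem D4493 : act 5 n3122 = n4493 := rfl
theorem F7580 : act 0 n4493 = n3129 := d4_1 D4493 (iv D3129) (iv F5453)
theorem F7581 : act 2 n4493 = n4313 := d13_1 D4493 (iv D4313) (iv F5454)
theorem F7582 : act 3 n4493 = n3366 := d16_1 D4493 (iv D3366) (iv F5455)
theorem F7583 : act 4 n4493 = n3123 := d18_1 D4493 (iv D3123) D3122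
def n4494 : Q := act 6 n3122
theorem D4494 : act 6 n3122 = n4494 := rfl
theorem F7584 : act 0 n4494 = n3130 := d5_1 D4494 (iv D3130) (iv F5453)
def n4495 : Q := act 1 n3123
theorem D4495 : act 1 n3123 = n4495 := rfl
theorem F7588 : act 3 n4495 = n3125 := d7_2 (iv F5457) D4495 (iv D3125)
def n4497 : Q := act 0 n3125
theorem D4497 : act 0 n3125 = n4497 := rfl
theorem F7590 : act 4 n4497 = n3370 := d3_2 (iv F5460) D4497 (iv D3370)
def n4498 : Q := act 2 n3125
theorem D4498 : act 2 n3125 = n4498 := rfl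
theorem F7591 : act 4 n4498 = n3371 := d12_2 (iv F5460) D4498 (iv D3371)
def n4499 : Q := act 6 n3125
theorem D4499 : act 6 n3125 = n4499 := rfl
theorem F7592 : act 4 n4499 = n3372 := d19_1 D4499 (iv D3372) (iv F5460)
def n4500 : Q := act 0 n3126
theorem D4500 : act 0 n3126 = n4500 := rfl
theorem F7593 : act 4 n4500 = n3373 := d3_2 (iv F5461) D4500 (iv D3373)
def n4501 : Q := act 2 n3126
theorem D4501 : act 2 n3126 = n4501 := rfl
theorem F7594 : act 4 n4501 = n3374 := d12_2 (iv F5461) D4501 (iv D3374)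
def n4502 : Q := act 5 n3126
theorem D4502 : act 5 n3126 = n4502 := rfl
def n4503 : Q := act 1 n3127
theorem D4503 : act 1 n3127 = n4503 := rfl
theorem F7596 : act 3 n4503 = n3978 := d7_2 (iv F5463) D4503 (iv D3978)
theorem F7597 : act 5 n4503 = n3982 := d9_2 D3127 D4503 (iv D3982) (iv D2849) (iv F4356)
def n4504 : Q := act 6 n3127
theorem D4504 : act 6 n3127 = n4504 := rfl
theorem F7598 : act 2 n4504 = n3132 := d14_1 D4504 (iv D3132) (iv F5462)
theorem F7599 : act 3 n4504 = n3979 := d17_1 D4504 (iv D3979) (iv F5463)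
def n4506 : Q := act 5 n3128
theorem D4506 : act 5 n3128 = n4506 := rfl
theorem F7604 : act 2 n4506 = n3134 := d13_1 D4506 (iv D3134) (iv F5464)
def n4507 : Q := act 1 n3129
theorem D4507 : act 1 n3129 = n4507 := rfl
theorem F7607 : act 3 n4507 = n3385 := d7_2 (iv F5466) D4507 (iv D3385)
theorem F7608 : act 4 n4507 = n3131 := d8_2 (iv F5467) D4507 (iv D3131)
theorem F7609 : act 5 n4507 = n3142 := d9_2 D3129 D4507 (iv D3142) (iv D2414) (iv F4358)
def n4508 : Q := act 6 n3129
theorem D4508 : act 6 n3129 = n4508 := rfl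
theorem F7610 : act 3 n4508 = n3386 := d17_1 D4508 (iv D3386) (iv F5466)
theorem F7612 : act 5 n4508 = n4494 := d22_2 D3129 D4508 (iv D4494) F5453
def n4509 : Q := act 1 n3130
theorem D4509 : act 1 n3130 = n4509 := rfl
theorem F7613 : act 3 n4509 = n3387 := d7_2 (iv F5468) D4509 (iv D3387)
theorem F7615 : act 6 n4509 = n3143 := d10_2 D3130 D4509 (iv D3143) (iv D2415) (iv F4358)
def n4510 : Q := act 5 n3130
theorem D4510 : act 5 n3130 = n4510 := rfl
theorem F7616 : act 0 n4510 = n4508 := d4_1 D4510 F7612 F7584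
theorem F7617 : act 3 n4510 = n3388 := d16_1 D4510 (iv D3388) (iv F5468)
theorem F7618 : act 4 n4510 = n3134 := d18_1 D4510 (iv D3134) (iv F5469)
theorem F7619 : act 6 n4510 = n4493 := d20_2 D3130 D4510 (iv D4493) D4494 (iv F7612) (iv D4508) (iv D3129)
def n4511 : Q := act 0 n3131
theorem D4511 : act 0 n3131 = n4511 := rfl
theorem F7620 : act 3 n4511 = n3135 := d2_2 (iv F5470) D4511 (iv D3135)
theorem F7621 : act 5 n4511 = n3144 := d4_2 (iv F5471) D4511 (iv D3144)
def n4512 : Q := act 2 n3131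
theorem D4512 : act 2 n3131 = n4512 := rfl
theorem F7622 : act 5 n4512 = n3145 := d13_2 (iv F5471) D4512 (iv D3145)
def n4513 : Q := act 6 n3131
theorem D4513 : act 6 n3131 = n4513 := rfl
def n4515 : Q := act 0 n3133
theorem D4515 : act 0 n3133 = n4515 := rfl
theorem F7625 : act 3 n4515 = n3139 := d2_2 (iv F5474) D4515 (iv D3139)
theorem F7626 : act 6 n4515 = n3147 := d5_2 (iv F5475) D4515 (iv D3147)
def n4517 : Q := act 5 n3133
theorem D4517 : act 5 n3133 = n4517 := rfl
def n4518 : Q := act 1 n3134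
theorem D4518 : act 1 n3134 = n4518 := rfl
theorem F7629 : act 3 n4518 = n3141 := d7_2 (iv F5477) D4518 (iv D3141)
def n4519 : Q := act 1 n3135
theorem D4519 : act 1 n3135 = n4519 := rfl
theorem F7630 : act 4 n4519 = n3397 := d8_2 (iv F5479) D4519 (iv D3397)
def n4520 : Q := act 2 n3135
theorem D4520 : act 2 n3135 = n4520 := rfl
theorem F7631 : act 0 n4520 = n3136 := d1_1 D4520 (iv D3136) D3135
theorem F7633 : act 5 n4520 = n3151 := d13_2 (iv F5480) D4520 (iv D3151)
def n4521 : Q := act 3 n3136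
theorem D4521 : act 3 n3136 = n4521 := rfl
theorem F7634 : act 5 n4521 = n3153 := d16_2 (iv F5482) D4521 (iv D3153)
def n4522 : Q := act 6 n3136
theorem D4522 : act 6 n3136 = n4522 := rfl
theorem F7635 : act 2 n4522 = n3137 := d14_1 D4522 (iv D3137) D3136
def n4523 : Q := act 1 n3137
theorem D4523 : act 1 n3137 = n4523 := rfl
theorem F7638 : act 6 n4523 = n3138 := d10_2 D3137 D4523 (iv D3138) (iv D2411) D2410
def n4524 : Q := act 0 n3138
theorem D4524 : act 0 n3138 = n4524 := rfl
theorem F7639 : act 4 n4524 = n3402 := d3_2 (iv F5484) D4524 (iv D3402)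
def n4525 : Q := act 2 n3138
theorem D4525 : act 2 n3138 = n4525 := rfl
def n4526 : Q := act 5 n3138
theorem D4526 : act 5 n3138 = n4526 := rfl
theorem F7641 : act 1 n4526 = n4502 := d9_1 D4526 (iv D4502) (iv D3126) (iv F4365) D3138
def n4527 : Q := act 1 n3139
theorem D4527 : act 1 n3139 = n4527 := rfl
theorem F7643 : act 4 n4527 = n3405 := d8_2 (iv F5485) D4527 (iv D3405)
def n4528 : Q := act 1 n3140
theorem D4528 : act 1 n3140 = n4528 := rfl
theorem F7645 : act 5 n4528 = n3141 := d9_2 D3140 D4528 (iv D3141) (iv D2413) D2412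
def n4529 : Q := act 0 n3141
theorem D4529 : act 0 n3141 = n4529 := rfl
theorem F7646 : act 4 n4529 = n3407 := d3_2 (iv F5488) D4529 (iv D3407)
def n4530 : Q := act 2 n3141
theorem D4530 : act 2 n3141 = n4530 := rfl
theorem F7647 : act 4 n4530 = n3408 := d12_2 (iv F5488) D4530 (iv D3408)
def n4531 : Q := act 6 n3141
theorem D4531 : act 6 n3141 = n4531 := rfl
theorem F7648 : act 1 n4531 = n4499 := d10_1 D4531 (iv D4499) (iv D3125) (iv F4370) D3141
theorem F7649 : act 4 n4531 = n3409 := d19_1 D4531 (iv D3409) (iv F5488)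
def n4532 : Q := act 0 n3142
theorem D4532 : act 0 n3142 = n4532 := rfl
theorem F7650 : act 3 n4532 = n3410 := d2_2 (iv F5489) D4532 (iv D3410)
theorem F7651 : act 4 n4532 = n3144 := d3_2 (iv F5490) D4532 (iv D3144)
def n4533 : Q := act 2 n3142
theorem D4533 : act 2 n3142 = n4533 := rfl
theorem F7652 : act 1 n4533 = n4187 := d6_1 D4533 (iv D4187) (iv D2965) (iv F4372) D3142
theorem F7653 : act 4 n4533 = n3145 := d12_2 (iv F5490) D4533 (iv D3145)
def n4534 : Q := act 6 n3142
theorem D4534 : act 6 n3142 = n4534 := rfl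
theorem F7654 : act 3 n4534 = n3412 := d17_1 D4534 (iv D3412) (iv F5489)
theorem F7655 : act 4 n4534 = n3146 := d19_1 D4534 (iv D3146) (iv F5490)
def n4535 : Q := act 0 n3143
theorem D4535 : act 0 n3143 = n4535 := rfl
theorem F7656 : act 3 n4535 = n3413 := d2_2 (iv F5491) D4535 (iv D3413)
def n4536 : Q := act 2 n3143
theorem D4536 : act 2 n3143 = n4536 := rfl
theorem F7658 : act 1 n4536 = n4191 := d6_1 D4536 (iv D4191) (iv D2967) (iv F4376) D3143
def n4537 : Q := act 5 n3143
theorem D4537 : act 5 n3143 = n4537 := rfl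
theorem F7661 : act 4 n4537 = n3149 := d18_1 D4537 (iv D3149) (iv F5492)
def n4538 : Q := act 1 n3144
theorem D4538 : act 1 n3144 = n4538 := rfl
theorem F7662 : act 3 n4538 = n3150 := d7_2 (iv F5493) D4538 (iv D3150)
def n4539 : Q := act 2 n3144
theorem D4539 : act 2 n3144 = n4539 := rfl
theorem F7663 : act 0 n4539 = n3145 := d1_1 D4539 (iv D3145) D3144
def n4540 : Q := act 6 n3144
theorem D4540 : act 6 n3144 = n4540 := rfl
theorem F7664 : act 0 n4540 = n3146 := d5_1 D4540 (iv D3146) D3144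
theorem F7665 : act 3 n4540 = n3152 := d17_1 D4540 (iv D3152) (iv F5493)
theorem F7666 : act 5 n4540 = n4513 := d22_2 F7621 D4540 (iv D4513) D4511
def n4541 : Q := act 3 n3145
theorem D4541 : act 3 n3145 = n4541 := rfl
theorem F7667 : act 1 n4541 = n4197 := d7_1 D4541 (iv D4197) (iv F5494)
def n4542 : Q := act 6 n3145
theorem D4542 : act 6 n3145 = n4542 := rfl
theorem F7668 : act 2 n4542 = n3146 := d14_1 D4542 (iv D3146) D3145
def n4543 : Q := act 5 n3146
theorem D4543 : act 5 n3146 = n4543 := rfl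
theorem F7669 : act 0 n4543 = n4513 := d4_1 D4543 (iv F7666) F7664
theorem F7671 : act 6 n4543 = n4511 := d20_2 D3146 D4543 F7621 D4540 F7666 (iv D4513) F5471
def n4544 : Q := act 1 n3147
theorem D4544 : act 1 n3147 = n4544 := rfl
theorem F7672 : act 3 n4544 = n3156 := d7_2 (iv F5496) D4544 (iv D3156)
def n4545 : Q := act 2 n3147
theorem D4545 : act 2 n3147 = n4545 := rfl
def n4546 : Q := act 5 n3147
theorem D4546 : act 5 n3147 = n4546 := rfl
theorem F7674 : act 0 n4546 = n3149 := d4_1 D4546 (iv D3149) D3147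
theorem F7675 : act 3 n4546 = n3157 := d16_1 D4546 (iv D3157) (iv F5496)
theorem F7676 : act 6 n4546 = n4517 := d22_1 D4546 (iv D4517) F5475 D3147
def n4547 : Q := act 3 n3148
theorem D4547 : act 3 n3148 = n4547 := rfl
def n4548 : Q := act 5 n3148
theorem D4548 : act 5 n3148 = n4548 := rfl
theorem F7678 : act 2 n4548 = n3149 := d13_1 D4548 (iv D3149) D3148
def n4549 : Q := act 6 n3149
theorem D4549 : act 6 n3149 = n4549 := rfl
theorem F7681 : act 5 n4549 = n4515 := d20_1 D4549 F7626 D4546 F7676 (iv D4517) F5475 D3149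
def n4550 : Q := act 0 n3150
theorem D4550 : act 0 n3150 = n4550 := rfl
theorem F7682 : act 1 n4550 = n3268 := d0_2 D3150 D4550 (iv D3268) (iv D2474) (iv D2042) (iv D1037) (iv F1587) D1997 D2418
theorem F7683 : act 4 n4550 = n3428 := d3_2 (iv F5499) D4550 (iv D3428)
def n4551 : Q := act 2 n3150
theorem D4551 : act 2 n3150 = n4551 := rfl
theorem F7684 : act 4 n4551 = n3429 := d12_2 (iv F5499) D4551 (iv D3429)
def n4552 : Q := act 5 n3150
theorem D4552 : act 5 n3150 = n4552 := rfl
theorem F7685 : act 4 n4552 = n3430 := d18_1 D4552 (iv D3430) (iv F5499)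
def n4553 : Q := act 6 n3150
theorem D4553 : act 6 n3150 = n4553 := rfl
theorem F7686 : act 4 n4553 = n3431 := d19_1 D4553 (iv D3431) (iv F5499)
def n4554 : Q := act 1 n3151
theorem D4554 : act 1 n3151 = n4554 := rfl
theorem F7687 : act 4 n4554 = n3432 := d8_2 (iv F5501) D4554 (iv D3432)
def n4555 : Q := act 3 n3151
theorem D4555 : act 3 n3151 = n4555 := rfl
theorem F7688 : act 0 n4555 = n3153 := d2_1 D4555 (iv D3153) (iv F5500)
def n4556 : Q := act 6 n3151
theorem D4556 : act 6 n3151 = n4556 := rfl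
theorem F7689 : act 0 n4556 = n3154 := d5_1 D4556 (iv D3154) (iv F5500)
theorem F7690 : act 2 n4556 = n3152 := d14_1 D4556 (iv D3152) D3151
theorem F7691 : act 4 n4556 = n3434 := d19_1 D4556 (iv D3434) (iv F5501)
theorem F7692 : act 5 n4556 = n4522 := d22_2 F7633 D4556 (iv D4522) (iv F7631)
def n4557 : Q := act 1 n3152
theorem D4557 : act 1 n3152 = n4557 := rfl
theorem F7693 : act 4 n4557 = n3435 := d8_2 (iv F5503) D4557 (iv D3435)
def n4558 : Q := act 2 n3153
theorem D4558 : act 2 n3153 = n4558 := rfl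
def n4559 : Q := act 4 n3153
theorem D4559 : act 4 n3153 = n4559 := rfl
theorem F7694 : act 1 n4559 = n3161 := d8_1 D4559 (iv D3161) (iv F5505)
theorem F7695 : act 3 n4559 = n3437 := d15_1 D4559 (iv D3437) (iv D2560) (iv F4383) D3153
def n4560 : Q := act 6 n3153
theorem D4560 : act 6 n3153 = n4560 := rfl
theorem F7696 : act 3 n4560 = n3154 := d17_1 D4560 (iv D3154) D3153
def n4561 : Q := act 1 n3154
theorem D4561 : act 1 n3154 = n4561 := rfl
theorem F7697 : act 4 n4561 = n3439 := d8_2 (iv F5507) D4561 (iv D3439)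
theorem F7698 : act 6 n4561 = n3163 := d10_2 D3154 D4561 (iv D3163) (iv D2425) (iv F4382)
def n4562 : Q := act 5 n3154
theorem D4562 : act 5 n3154 = n4562 := rfl
theorem F7699 : act 0 n4562 = n4522 := d4_1 D4562 (iv F7692) F7689
theorem F7700 : act 2 n4562 = n3155 := d13_1 D4562 (iv D3155) (iv F5506)
theorem F7702 : act 6 n4562 = n4520 := d20_2 D3154 D4562 F7633 D4556 F7692 (iv D4522) F5482
def n4563 : Q := act 1 n3155
theorem D4563 : act 1 n3155 = n4563 := rfl
theorem F7703 : act 4 n4563 = n3441 := d8_2 (iv F5509) D4563 (iv D3441)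
def n4564 : Q := act 0 n3156
theorem D4564 : act 0 n3156 = n4564 := rfl
theorem F7704 : act 1 n4564 = n3283 := d0_2 D3156 D4564 (iv D3283) (iv D2481) (iv D2045) (iv D1039) (iv F1590) D1998 D2421
theorem F7705 : act 4 n4564 = n3442 := d3_2 (iv F5511) D4564 (iv D3442)
def n4565 : Q := act 2 n3156
theorem D4565 : act 2 n3156 = n4565 := rfl
theorem F7706 : act 4 n4565 = n3443 := d12_2 (iv F5511) D4565 (iv D3443)
def n4566 : Q := act 5 n3156
theorem D4566 : act 5 n3156 = n4566 := rfl
theorem F7707 : act 4 n4566 = n3444 := d18_1 D4566 (iv D3444) (iv F5511)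
def n4567 : Q := act 6 n3156
theorem D4567 : act 6 n3156 = n4567 := rfl
theorem F7708 : act 4 n4567 = n3445 := d19_1 D4567 (iv D3445) (iv F5511)
def n4568 : Q := act 1 n3157
theorem D4568 : act 1 n3157 = n4568 := rfl
theorem F7709 : act 4 n4568 = n3446 := d8_2 (iv F5513) D4568 (iv D3446)
def n4569 : Q := act 1 n3158
theorem D4569 : act 1 n3158 = n4569 := rfl
theorem F7710 : act 4 n4569 = n3447 := d8_2 (iv F5516) D4569 (iv D3447)
def n4570 : Q := act 0 n3159
theorem D4570 : act 0 n3159 = n4570 := rfl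
theorem F7711 : act 2 n4570 = n4306 := d1_2 (iv F5518) D4570 (iv D4306)
theorem F7712 : act 4 n4570 = n3450 := d3_2 (iv F5519) D4570 (iv D3450)
def n4571 : Q := act 3 n3159
theorem D4571 : act 3 n3159 = n4571 := rfl
theorem F7713 : act 1 n4571 = n3160 := d7_1 D4571 (iv D3160) D3159
def n4572 : Q := act 5 n3159
theorem D4572 : act 5 n3159 = n4572 := rfl
theorem F7714 : act 2 n4572 = n4308 := d13_1 D4572 (iv D4308) (iv F5518)
def n4573 : Q := act 6 n3159
theorem D4573 : act 6 n3159 = n4573 := rfl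
theorem F7717 : act 4 n4573 = n3453 := d19_1 D4573 (iv D3453) (iv F5519)
def n4574 : Q := act 4 n3160
theorem D4574 : act 4 n3160 = n4574 := rfl
theorem F7719 : act 3 n4574 = n3454 := d15_1 D4574 (iv D3454) (iv D2568) (iv F4388) D3160
def n4575 : Q := act 6 n3161
theorem D4575 : act 6 n3161 = n4575 := rfl
theorem F7722 : act 4 n4575 = n3162 := d19_1 D4575 (iv D3162) D3161
def n4576 : Q := act 1 n3162
theorem D4576 : act 1 n3162 = n4576 := rfl
theorem F7723 : act 3 n4576 = n3163 := d7_2 (iv F5523) D4576 (iv D3163)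
def n4577 : Q := act 0 n3163
theorem D4577 : act 0 n3163 = n4577 := rfl
theorem F7724 : act 4 n4577 = n3460 := d3_2 (iv F5524) D4577 (iv D3460)
def n4578 : Q := act 5 n3163
theorem D4578 : act 5 n3163 = n4578 := rfl
def n4579 : Q := act 0 n3164
theorem D4579 : act 0 n3164 = n4579 := rfl
theorem F7726 : act 2 n4579 = n4243 := d1_2 (iv F5525) D4579 (iv D4243)
theorem F7727 : act 4 n4579 = n4459 := d3_2 (iv F5526) D4579 (iv D4459)
def n4580 : Q := act 3 n3164
theorem D4580 : act 3 n3164 = n4580 := rfl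
theorem F7728 : act 1 n4580 = n3165 := d7_1 D4580 (iv D3165) D3164
def n4581 : Q := act 5 n3164
theorem D4581 : act 5 n3164 = n4581 := rfl
theorem F7729 : act 1 n4581 = n4572 := d9_1 D4581 (iv D4572) (iv D3159) (iv F4393) D3164
theorem F7730 : act 2 n4581 = n4245 := d13_1 D4581 (iv D4245) (iv F5525)
def n4582 : Q := act 6 n3164
theorem D4582 : act 6 n3164 = n4582 := rfl
theorem F7732 : act 2 n4582 = n4246 := d14_1 D4582 (iv D4246) (iv F5525)
def n4583 : Q := act 4 n3165
theorem D4583 : act 4 n3165 = n4583 := rfl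
theorem F7735 : act 2 n4583 = n4574 := d12_1 D4583 (iv D4574) (iv F5528)
theorem F7737 : act 5 n4583 = n4574 := d18_2 (iv F5529) D4583 (iv D4574)
def n4584 : Q := act 1 n3168
theorem D4584 : act 1 n3168 = n4584 := rfl
def n4585 : Q := act 1 n3169
theorem D4585 : act 1 n3169 = n4585 := rfl
theorem F7739 : act 4 n4585 = n3484 := d8_2 (iv F5536) D4585 (iv D3484)
def n4586 : Q := act 1 n3171
theorem D4586 : act 1 n3171 = n4586 := rfl
theorem F7742 : act 5 n4586 = n3314 := d9_2 D3171 D4586 (iv D3314) (iv D2503) (iv F4395)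
def n4587 : Q := act 1 n3172
theorem D4587 : act 1 n3172 = n4587 := rfl
theorem F7743 : act 3 n4587 = n3316 := d7_2 (iv F5638) D4587 (iv D3316)
theorem F7744 : act 4 n4587 = n3490 := d8_2 (iv F5541) D4587 (iv D3490)
theorem F7745 : act 6 n4587 = n3316 := d10_2 D3172 D4587 (iv D3316) (iv D2504) (iv F4395)
def n4588 : Q := act 5 n3174
theorem D4588 : act 5 n3174 = n4588 := rfl
theorem F7747 : act 4 n4588 = n3175 := d18_1 D4588 (iv D3175) D3174
def n4590 : Q := act 1 n3175
theorem D4590 : act 1 n3175 = n4590 := rfl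
theorem F7750 : act 3 n4590 = n3177 := d7_2 (iv F5546) D4590 (iv D3177)
theorem F7751 : act 5 n4590 = n3183 := d9_2 D3175 D4590 (iv D3183) (iv D2433) (iv F4397)
def n4594 : Q := act 0 n3177
theorem D4594 : act 0 n3177 = n4594 := rfl
theorem F7761 : act 4 n4594 = n3502 := d3_2 (iv F5548) D4594 (iv D3502)
theorem F7762 : act 5 n4594 = n3185 := d4_2 (iv F5549) D4594 (iv D3185)
theorem F7763 : act 2 n4594 = n4341 := d23_1 (iv F7762) (iv D4341) F5337 F4282 (iv D1859) (iv D938) (iv F3784) F958 (iv D314) (iv D163) (iv F241) F243 D139 D259 D516 D1061 (iv F3284) D2435 D3185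
theorem F7764 : act 1 n4338 = n4594 := d6_5 F7763 (iv D4341) (iv D3046) D3045 D4338
def n4595 : Q := act 2 n3177
theorem D4595 : act 2 n3177 = n4595 := rfl
theorem F7765 : act 0 n4595 = n4341 := d1_1 D4595 (iv F7763) (iv D4594)
theorem F7767 : act 5 n4595 = n3186 := d13_2 (iv F5549) D4595 (iv D3186)
def n4596 : Q := act 6 n3177
theorem D4596 : act 6 n3177 = n4596 := rfl
def n4597 : Q := act 1 n3178
theorem D4597 : act 1 n3178 = n4597 := rfl
theorem F7769 : act 4 n4597 = n3505 := d8_2 (iv F5550) D4597 (iv D3505)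
def n4598 : Q := act 0 n3179
theorem D4598 : act 0 n3179 = n4598 := rfl
theorem F7770 : act 4 n4598 = n3506 := d3_2 (iv F5552) D4598 (iv D3506)
theorem F7771 : act 6 n4598 = n3188 := d5_2 (iv F5553) D4598 (iv D3188)
def n4599 : Q := act 2 n3179
theorem D4599 : act 2 n3179 = n4599 := rfl
theorem F7773 : act 6 n4599 = n3189 := d14_2 (iv F5553) D4599 (iv D3189)
def n4600 : Q := act 5 n3179
theorem D4600 : act 5 n3179 = n4600 := rfl
def n4601 : Q := act 1 n3180
theorem D4601 : act 1 n3180 = n4601 := rfl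
def n4602 : Q := act 1 n3181
theorem D4602 : act 1 n3181 = n4602 := rfl
theorem F7776 : act 3 n4602 = n3517 := d7_2 (iv F5558) D4602 (iv D3517)
theorem F7777 : act 4 n4602 = n3183 := d8_2 (iv F5559) D4602 (iv D3183)
def n4604 : Q := act 0 n3183
theorem D4604 : act 0 n3183 = n4604 := rfl
def n4605 : Q := act 2 n3183
theorem D4605 : act 2 n3183 = n4605 := rfl
def n4606 : Q := act 6 n3183
theorem D4606 : act 6 n3183 = n4606 := rfl
theorem F7781 : act 3 n4606 = n3187 := d17_1 D4606 (iv D3187) (iv F5563)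
def n4610 : Q := act 1 n3185
theorem D4610 : act 1 n3185 = n4610 := rfl
theorem F7784 : act 4 n4610 = n3525 := d8_2 (iv F5565) D4610 (iv D3525)
def n4611 : Q := act 2 n3185
theorem D4611 : act 2 n3185 = n4611 := rfl
theorem F7785 : act 0 n4611 = n3186 := d1_1 D4611 (iv D3186) D3185
theorem F7786 : act 4 n4611 = n3526 := d12_2 (iv F5565) D4611 (iv D3526)
theorem F7787 : act 5 n4611 = n4341 := d13_2 F7762 D4611 (iv F7763)
theorem F7788 : act 1 n4381 = n4611 := d9_5 F7787 (iv D4341) F5338 D3062 D4381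
def n4612 : Q := act 6 n3185
theorem D4612 : act 6 n3185 = n4612 := rfl
theorem F7789 : act 0 n4612 = n3187 := d5_1 D4612 (iv D3187) D3185
theorem F7791 : act 5 n4612 = n4596 := d22_2 F7762 D4612 (iv D4596) D4594
def n4613 : Q := act 3 n3186
theorem D4613 : act 3 n3186 = n4613 := rfl
theorem F7792 : act 1 n4613 = n3329 := d7_1 D4613 (iv D3329) (iv F5566)
def n4614 : Q := act 6 n3186
theorem D4614 : act 6 n3186 = n4614 := rfl
def n4615 : Q := act 5 n3187
theorem D4615 : act 5 n3187 = n4615 := rfl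
theorem F7795 : act 0 n4615 = n4596 := d4_1 D4615 (iv F7791) F7789
theorem F7796 : act 4 n4615 = n3530 := d18_1 D4615 (iv D3530) (iv F5568)
theorem F7797 : act 6 n4615 = n4594 := d20_2 D3187 D4615 F7762 D4612 F7791 (iv D4596) F5549
def n4616 : Q := act 1 n3188
theorem D4616 : act 1 n3188 = n4616 := rfl
theorem F7798 : act 4 n4616 = n3531 := d8_2 (iv F5569) D4616 (iv D3531)
def n4617 : Q := act 2 n3188
theorem D4617 : act 2 n3188 = n4617 := rfl
theorem F7799 : act 0 n4617 = n3189 := d1_1 D4617 (iv D3189) D3188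
theorem F7800 : act 4 n4617 = n3532 := d12_2 (iv F5569) D4617 (iv D3532)
def n4618 : Q := act 5 n3188
theorem D4618 : act 5 n3188 = n4618 := rfl
theorem F7802 : act 4 n4618 = n3533 := d18_1 D4618 (iv D3533) (iv F5569)
theorem F7803 : act 6 n4618 = n4600 := d22_1 D4618 (iv D4600) F5553 D3188
def n4619 : Q := act 3 n3189
theorem D4619 : act 3 n3189 = n4619 := rfl
theorem F7804 : act 1 n4619 = n3335 := d7_1 D4619 (iv D3335) (iv F5570)
def n4620 : Q := act 5 n3189
theorem D4620 : act 5 n3189 = n4620 := rfl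
theorem F7805 : act 2 n4620 = n3190 := d13_1 D4620 (iv D3190) D3189
theorem F7806 : act 4 n4620 = n3535 := d18_1 D4620 (iv D3535) (iv F5571)
def n4621 : Q := act 6 n3190
theorem D4621 : act 6 n3190 = n4621 := rfl
theorem F7808 : act 4 n4621 = n3536 := d19_1 D4621 (iv D3536) (iv F5572)
theorem F7809 : act 5 n4621 = n4598 := d20_1 D4621 F7771 D4618 F7803 (iv D4600) F5553 D3190
def n4622 : Q := act 1 n3191
theorem D4622 : act 1 n3191 = n4622 := rfl
theorem F7810 : act 5 n4622 = n3195 := d9_2 D3191 D4622 (iv D3195) (iv D2439) D2437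
def n4624 : Q := act 1 n3192
theorem D4624 : act 1 n3192 = n4624 := rfl
theorem F7814 : act 6 n4624 = n3197 := d10_2 D3192 D4624 (iv D3197) (iv D2440) D2437
def n4626 : Q := act 1 n3193
theorem D4626 : act 1 n3193 = n4626 := rfl
def n4627 : Q := act 6 n3193
theorem D4627 : act 6 n3193 = n4627 := rfl
theorem F7820 : act 2 n4627 = n3200 := d14_1 D4627 (iv D3200) (iv F5575)
theorem F7823 : act 5 n4627 = n3538 := d22_2 D3193 D4627 (iv D3538) F4683
def n4628 : Q := act 1 n3194
theorem D4628 : act 1 n3194 = n4628 := rfl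
theorem F7824 : act 4 n4628 = n3197 := d8_2 (iv F5578) D4628 (iv D3197)
def n4629 : Q := act 5 n3194
theorem D4629 : act 5 n3194 = n4629 := rfl
theorem F7825 : act 0 n4629 = n4627 := d4_1 D4629 F7823 F6167
theorem F7826 : act 2 n4629 = n3202 := d13_1 D4629 (iv D3202) (iv F5577)
theorem F7829 : act 6 n4629 = n3537 := d20_2 D3194 D4629 (iv D3537) D3538 (iv F7823) (iv D4627) (iv D3193)
def n4633 : Q := act 1 n3196
theorem D4633 : act 1 n3196 = n4633 := rfl
theorem F7831 : act 3 n4633 = n3552 := d7_2 (iv F5580) D4633 (iv D3552)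
def n4634 : Q := act 0 n3197
theorem D4634 : act 0 n3197 = n4634 := rfl
def n4635 : Q := act 2 n3197
theorem D4635 : act 2 n3197 = n4635 := rfl
theorem F7832 : act 1 n4635 = n3208 := d6_1 D4635 (iv D3208) (iv D2445) (iv F4411) D3197
def n4636 : Q := act 5 n3197
theorem D4636 : act 5 n3197 = n4636 := rfl
def n4637 : Q := act 1 n3198
theorem D4637 : act 1 n3198 = n4637 := rfl
def n4638 : Q := act 0 n3199
theorem D4638 : act 0 n3199 = n4638 := rfl
theorem F7834 : act 3 n4638 = n3553 := d2_2 (iv F5586) D4638 (iv D3553)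
theorem F7835 : act 4 n4638 = n3203 := d3_2 (iv F5587) D4638 (iv D3203)
theorem F7836 : act 5 n4638 = n3240 := d4_2 (iv F5588) D4638 (iv D3240)
def n4639 : Q := act 2 n3199
theorem D4639 : act 2 n3199 = n4639 := rfl
theorem F7838 : act 5 n4639 = n3241 := d13_2 (iv F5588) D4639 (iv D3241)
def n4640 : Q := act 6 n3199
theorem D4640 : act 6 n3199 = n4640 := rfl
theorem F7839 : act 3 n4640 = n3555 := d17_1 D4640 (iv D3555) (iv F5586)
def n4641 : Q := act 1 n3200
theorem D4641 : act 1 n3200 = n4641 := rfl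
theorem F7841 : act 3 n4641 = n3556 := d7_2 (iv F5589) D4641 (iv D3556)
def n4642 : Q := act 0 n3201
theorem D4642 : act 0 n3201 = n4642 := rfl
theorem F7843 : act 3 n4642 = n3557 := d2_2 (iv F5592) D4642 (iv D3557)
theorem F7844 : act 4 n4642 = n3207 := d3_2 (iv F5593) D4642 (iv D3207)
theorem F7845 : act 6 n4642 = n3244 := d5_2 (iv F5594) D4642 (iv D3244)
def n4643 : Q := act 2 n3201
theorem D4643 : act 2 n3201 = n4643 := rfl
theorem F7846 : act 4 n4643 = n3208 := d12_2 (iv F5593) D4643 (iv D3208)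
theorem F7847 : act 6 n4643 = n3245 := d14_2 (iv F5594) D4643 (iv D3245)
def n4644 : Q := act 5 n3201
theorem D4644 : act 5 n3201 = n4644 := rfl
theorem F7848 : act 3 n4644 = n3559 := d16_1 D4644 (iv D3559) (iv F5592)
def n4645 : Q := act 1 n3202
theorem D4645 : act 1 n3202 = n4645 := rfl
def n4646 : Q := act 1 n3203
theorem D4646 : act 1 n3203 = n4646 := rfl
theorem F7852 : act 3 n4646 = n3211 := d7_2 (iv F5599) D4646 (iv D3211)
def n4647 : Q := act 2 n3203
theorem D4647 : act 2 n3203 = n4647 := rfl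
theorem F7853 : act 0 n4647 = n3204 := d1_1 D4647 (iv D3204) D3203
theorem F7854 : act 5 n4647 = n3249 := d13_2 (iv F5600) D4647 (iv D3249)
def n4648 : Q := act 3 n3204
theorem D4648 : act 3 n3204 = n4648 := rfl
theorem F7855 : act 5 n4648 = n3251 := d16_2 (iv F5601) D4648 (iv D3251)
def n4649 : Q := act 6 n3204
theorem D4649 : act 6 n3204 = n4649 := rfl
def n4650 : Q := act 1 n3205
theorem D4650 : act 1 n3205 = n4650 := rfl
theorem F7857 : act 3 n4650 = n3212 := d7_2 (iv F5602) D4650 (iv D3212)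
def n4651 : Q := act 0 n3206
theorem D4651 : act 0 n3206 = n4651 := rfl
theorem F7859 : act 3 n4651 = n3213 := d2_2 (iv F5603) D4651 (iv D3213)
def n4654 : Q := act 1 n3207
theorem D4654 : act 1 n3207 = n4654 := rfl
theorem F7862 : act 3 n4654 = n3216 := d7_2 (iv F5604) D4654 (iv D3216)
def n4655 : Q := act 2 n3207
theorem D4655 : act 2 n3207 = n4655 := rfl
theorem F7863 : act 0 n4655 = n3208 := d1_1 D4655 (iv D3208) D3207
theorem F7864 : act 6 n4655 = n3259 := d14_2 (iv F5605) D4655 (iv D3259)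
def n4656 : Q := act 3 n3208
theorem D4656 : act 3 n3208 = n4656 := rfl
theorem F7865 : act 6 n4656 = n3261 := d17_2 (iv F5606) D4656 (iv D3261)
def n4657 : Q := act 5 n3208
theorem D4657 : act 5 n3208 = n4657 := rfl
theorem F7866 : act 2 n4657 = n3209 := d13_1 D4657 (iv D3209) D3208
def n4658 : Q := act 1 n3209
theorem D4658 : act 1 n3209 = n4658 := rfl
theorem F7867 : act 3 n4658 = n3217 := d7_2 (iv F5607) D4658 (iv D3217)
theorem F7868 : act 5 n4658 = n3210 := d9_2 D3209 D4658 (iv D3210) (iv D2446) D2445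
def n4659 : Q := act 0 n3210
theorem D4659 : act 0 n3210 = n4659 := rfl
theorem F7869 : act 3 n4659 = n3218 := d2_2 (iv F5608) D4659 (iv D3218)
def n4661 : Q := act 6 n3210
theorem D4661 : act 6 n3210 = n4661 := rfl
theorem F7870 : act 1 n4661 = n4606 := d10_1 D4661 (iv D4606) (iv D3183) (iv F4424) D3210
def n4662 : Q := act 0 n3211
theorem D4662 : act 0 n3211 = n4662 := rfl
theorem F7872 : act 4 n4662 = n3577 := d3_2 (iv F5609) D4662 (iv D3577)
def n4663 : Q := act 2 n3211
theorem D4663 : act 2 n3211 = n4663 := rfl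
theorem F7873 : act 4 n4663 = n3578 := d12_2 (iv F5609) D4663 (iv D3578)
def n4664 : Q := act 5 n3211
theorem D4664 : act 5 n3211 = n4664 := rfl
theorem F7874 : act 1 n4664 = n3270 := d9_1 D4664 (iv D3270) (iv D2474) (iv F4426) D3211
def n4665 : Q := act 6 n3211
theorem D4665 : act 6 n3211 = n4665 := rfl
def n4666 : Q := act 0 n3212
theorem D4666 : act 0 n3212 = n4666 := rfl
theorem F7877 : act 4 n4666 = n3583 := d3_2 (iv F5610) D4666 (iv D3583)
theorem F7878 : act 6 n4666 = n3213 := d5_2 (iv F5611) D4666 (iv D3213)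
def n4667 : Q := act 2 n3212
theorem D4667 : act 2 n3212 = n4667 := rfl
theorem F7880 : act 6 n4667 = n3214 := d14_2 (iv F5611) D4667 (iv D3214)
def n4668 : Q := act 5 n3212
theorem D4668 : act 5 n3212 = n4668 := rfl
def n4669 : Q := act 1 n3213
theorem D4669 : act 1 n3213 = n4669 := rfl
theorem F7882 : act 4 n4669 = n3586 := d8_2 (iv F5612) D4669 (iv D3586)
def n4670 : Q := act 2 n3213
theorem D4670 : act 2 n3213 = n4670 := rfl
theorem F7883 : act 0 n4670 = n3214 := d1_1 D4670 (iv D3214) D3213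
def n4671 : Q := act 5 n3213
theorem D4671 : act 5 n3213 = n4671 := rfl
theorem F7885 : act 0 n4671 = n3215 := d4_1 D4671 (iv D3215) D3213
theorem F7887 : act 6 n4671 = n4668 := d22_1 D4671 (iv D4668) F5611 D3213
def n4672 : Q := act 3 n3214
theorem D4672 : act 3 n3214 = n4672 := rfl
theorem F7888 : act 1 n4672 = n3341 := d7_1 D4672 (iv D3341) (iv F5613)
def n4673 : Q := act 5 n3214
theorem D4673 : act 5 n3214 = n4673 := rfl
theorem F7889 : act 2 n4673 = n3215 := d13_1 D4673 (iv D3215) D3214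
def n4674 : Q := act 6 n3215
theorem D4674 : act 6 n3215 = n4674 := rfl
theorem F7891 : act 0 n4674 = n4668 := d5_1 D4674 (iv F7887) F7885
def n4675 : Q := act 0 n3216
theorem D4675 : act 0 n3216 = n4675 := rfl
theorem F7894 : act 4 n4675 = n3592 := d3_2 (iv F5617) D4675 (iv D3592)
def n4676 : Q := act 2 n3216
theorem D4676 : act 2 n3216 = n4676 := rfl
theorem F7896 : act 4 n4676 = n3593 := d12_2 (iv F5617) D4676 (iv D3593)
def n4677 : Q := act 5 n3216
theorem D4677 : act 5 n3216 = n4677 := rfl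
theorem F7897 : act 4 n4677 = n3594 := d18_1 D4677 (iv D3594) (iv F5617)
def n4678 : Q := act 6 n3216
theorem D4678 : act 6 n3216 = n4678 := rfl
theorem F7898 : act 1 n4678 = n3286 := d10_1 D4678 (iv D3286) (iv D2481) (iv F4431) D3216
theorem F7899 : act 4 n4678 = n3595 := d19_1 D4678 (iv D3595) (iv F5617)
def n4679 : Q := act 0 n3217
theorem D4679 : act 0 n3217 = n4679 := rfl
theorem F7900 : act 4 n4679 = n3596 := d3_2 (iv F5618) D4679 (iv D3596)
theorem F7901 : act 5 n4679 = n3218 := d4_2 (iv F5619) D4679 (iv D3218)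
def n4681 : Q := act 6 n3217
theorem D4681 : act 6 n3217 = n4681 := rfl
def n4682 : Q := act 1 n3218
theorem D4682 : act 1 n3218 = n4682 := rfl
def n4684 : Q := act 6 n3218
theorem D4684 : act 6 n3218 = n4684 := rfl
theorem F7909 : act 0 n4684 = n3220 := d5_1 D4684 (iv D3220) D3218
theorem F7911 : act 5 n4684 = n4681 := d22_2 F7901 D4684 (iv D4681) D4679
def n4687 : Q := act 5 n3220
theorem D4687 : act 5 n3220 = n4687 := rfl
theorem F7915 : act 0 n4687 = n4681 := d4_1 D4687 (iv F7911) F7909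
def n4688 : Q := act 1 n3221
theorem D4688 : act 1 n3221 = n4688 := rfl
theorem F7920 : act 5 n4688 = n4626 := d9_2 D3221 D4688 (iv D4626) (iv D3193) (iv F4936)
def n4689 : Q := act 1 n3222
theorem D4689 : act 1 n3222 = n4689 := rfl
theorem F7921 : act 3 n4689 = n4077 := d7_2 (iv F5629) D4689 (iv D4077)
theorem F7922 : act 4 n4689 = n4624 := d8_2 (iv F5630) D4689 (iv D4624)
theorem F7923 : act 6 n4689 = n4628 := d10_2 D3222 D4689 (iv D4628) (iv D3194) (iv F4936)
def n4690 : Q := act 2 n3223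
theorem D4690 : act 2 n3223 = n4690 := rfl
theorem F7924 : act 0 n4690 = n3492 := d1_1 D4690 F6110 (iv F5631)
theorem F7925 : act 1 n4690 = n4690 := d6_1 D4690 (iv D4690) F5632 F4440 (iv F5632)
theorem F7926 : act 4 n4690 = n4061 := d12_2 (iv F5633) D4690 (iv D4061)
theorem F7927 : act 3 n4690 = n4061 := d21_1 D4690 (iv D4061) (iv D2900) F4168 (iv F3305) (iv F4408) (iv F4666) (iv F5631)
def n4691 : Q := act 5 n3223
theorem D4691 : act 5 n3223 = n4691 := rfl
theorem F7928 : act 0 n4691 = n3511 := d4_1 D4691 (iv D3511) (iv F5631)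
def n4692 : Q := act 6 n3223
theorem D4692 : act 6 n3223 = n4692 := rfl
theorem F7931 : act 0 n4692 = n3512 := d5_1 D4692 (iv D3512) (iv F5631)
def n4694 : Q := act 1 n3225
theorem D4694 : act 1 n3225 = n4694 := rfl
theorem F7937 : act 6 n4694 = n3233 := d10_2 D3225 D4694 (iv D3233) (iv D2459) (iv F4436)
def n4695 : Q := act 0 n3226
theorem D4695 : act 0 n3226 = n4695 := rfl
theorem F7938 : act 3 n4695 = n4078 := d2_2 (iv F5671) D4695 (iv D4078)
theorem F7939 : act 5 n4695 = n3234 := d4_2 (iv F5672) D4695 (iv D3234)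
def n4697 : Q := act 6 n3226
theorem D4697 : act 6 n3226 = n4697 := rfl
def n4698 : Q := act 1 n3227
theorem D4698 : act 1 n3227 = n4698 := rfl
theorem F7942 : act 3 n4698 = n4081 := d7_2 (iv F5673) D4698 (iv D4081)
def n4701 : Q := act 5 n3228
theorem D4701 : act 5 n3228 = n4701 := rfl
def n4702 : Q := act 1 n3229
theorem D4702 : act 1 n3229 = n4702 := rfl
def n4703 : Q := act 1 n3230
theorem D4703 : act 1 n3230 = n4703 := rfl
theorem F7948 : act 3 n4703 = n3232 := d7_2 (iv F5682) D4703 (iv D3232)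
theorem F7949 : act 4 n4703 = n4068 := d8_2 (iv F5683) D4703 (iv D4068)
def n4704 : Q := act 1 n3231
theorem D4704 : act 1 n3231 = n4704 := rfl
theorem F7950 : act 3 n4704 = n3233 := d7_2 (iv F5686) D4704 (iv D3233)
def n4706 : Q := act 2 n3232
theorem D4706 : act 2 n3232 = n4706 := rfl
theorem F7953 : act 1 n4706 = n3241 := d6_1 D4706 (iv D3241) (iv D2462) (iv F4443) D3232
def n4711 : Q := act 1 n3234
theorem D4711 : act 1 n3234 = n4711 := rfl
theorem F7960 : act 3 n4711 = n4086 := d7_2 (iv F5690) D4711 (iv D4086)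
def n4713 : Q := act 6 n3234
theorem D4713 : act 6 n3234 = n4713 := rfl
theorem F7964 : act 5 n4713 = n4697 := d22_2 F7939 D4713 (iv D4697) D4695
def n4715 : Q := act 6 n3235
theorem D4715 : act 6 n3235 = n4715 := rfl
def n4716 : Q := act 5 n3236
theorem D4716 : act 5 n3236 = n4716 := rfl
theorem F7969 : act 6 n4716 = n4695 := d20_2 D3236 D4716 F7939 D4713 F7964 (iv D4697) F5672
def n4717 : Q := act 1 n3237
theorem D4717 : act 1 n3237 = n4717 := rfl
def n4719 : Q := act 5 n3237
theorem D4719 : act 5 n3237 = n4719 := rfl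
theorem F7972 : act 0 n4719 = n3239 := d4_1 D4719 (iv D3239) D3237
theorem F7974 : act 6 n4719 = n4701 := d22_1 D4719 (iv D4701) F5676 D3237
def n4720 : Q := act 3 n3238
theorem D4720 : act 3 n3238 = n4720 := rfl
def n4721 : Q := act 5 n3238
theorem D4721 : act 5 n3238 = n4721 := rfl
theorem F7976 : act 2 n4721 = n3239 := d13_1 D4721 (iv D3239) D3238
def n4722 : Q := act 6 n3239
theorem D4722 : act 6 n3239 = n4722 := rfl
theorem F7977 : act 0 n4722 = n4701 := d5_1 D4722 (iv F7974) F7972
theorem F7978 : act 3 n4722 = n4097 := d17_1 D4722 (iv D4097) (iv F5695)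
def n4723 : Q := act 1 n3240
theorem D4723 : act 1 n3240 = n4723 := rfl
theorem F7980 : act 3 n4723 = n3605 := d7_2 (iv F5696) D4723 (iv D3605)
def n4724 : Q := act 2 n3240
theorem D4724 : act 2 n3240 = n4724 := rfl
theorem F7982 : act 0 n4724 = n3241 := d1_1 D4724 (iv D3241) D3240
theorem F7983 : act 4 n4724 = n3249 := d12_2 (iv F5697) D4724 (iv D3249)
def n4725 : Q := act 6 n3240
theorem D4725 : act 6 n3240 = n4725 := rfl
theorem F7984 : act 0 n4725 = n3242 := d5_1 D4725 (iv D3242) D3240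
theorem F7985 : act 3 n4725 = n3607 := d17_1 D4725 (iv D3607) (iv F5696)
theorem F7986 : act 4 n4725 = n3250 := d19_1 D4725 (iv D3250) (iv F5697)
theorem F7987 : act 5 n4725 = n4640 := d22_2 F7836 D4725 (iv D4640) D4638
def n4726 : Q := act 3 n3241
theorem D4726 : act 3 n3241 = n4726 := rfl
def n4727 : Q := act 6 n3241
theorem D4727 : act 6 n3241 = n4727 := rfl
theorem F7988 : act 2 n4727 = n3242 := d14_1 D4727 (iv D3242) D3241
theorem F7989 : act 4 n4727 = n3252 := d19_1 D4727 (iv D3252) (iv F5698)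
def n4728 : Q := act 1 n3242
theorem D4728 : act 1 n3242 = n4728 := rfl
theorem F7990 : act 3 n4728 = n3610 := d7_2 (iv F5699) D4728 (iv D3610)
theorem F7991 : act 4 n4728 = n3253 := d8_2 (iv F5700) D4728 (iv D3253)
theorem F7992 : act 6 n4728 = n3243 := d10_2 D3242 D4728 (iv D3243) (iv D2463) D2462
def n4729 : Q := act 5 n3242
theorem D4729 : act 5 n3242 = n4729 := rfl
theorem F7995 : act 4 n4729 = n3254 := d18_1 D4729 (iv D3254) (iv F5700)
theorem F7996 : act 6 n4729 = n4638 := d20_2 D3242 D4729 F7836 D4725 F7987 (iv D4640) F5588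
def n4730 : Q := act 0 n3243
theorem D4730 : act 0 n3243 = n4730 := rfl
theorem F7997 : act 3 n4730 = n3612 := d2_2 (iv F5701) D4730 (iv D3612)
theorem F7998 : act 4 n4730 = n3255 := d3_2 (iv F5702) D4730 (iv D3255)
def n4731 : Q := act 2 n3243
theorem D4731 : act 2 n3243 = n4731 := rfl
theorem F7999 : act 4 n4731 = n3256 := d12_2 (iv F5702) D4731 (iv D3256)
def n4732 : Q := act 5 n3243
theorem D4732 : act 5 n3243 = n4732 := rfl
theorem F8000 : act 1 n4732 = n4537 := d9_1 D4732 (iv D4537) (iv D3143) (iv F4454) D3243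
theorem F8002 : act 4 n4732 = n3257 := d18_1 D4732 (iv D3257) (iv F5702)
def n4734 : Q := act 2 n3244
theorem D4734 : act 2 n3244 = n4734 := rfl
def n4735 : Q := act 5 n3244
theorem D4735 : act 5 n3244 = n4735 := rfl
theorem F8010 : act 6 n4735 = n4644 := d22_1 D4735 (iv D4644) F5594 D3244
def n4737 : Q := act 5 n3245
theorem D4737 : act 5 n3245 = n4737 := rfl
theorem F8012 : act 4 n4737 = n3262 := d18_1 D4737 (iv D3262) (iv F5705)
def n4738 : Q := act 1 n3246
theorem D4738 : act 1 n3246 = n4738 := rfl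
theorem F8015 : act 5 n4738 = n3247 := d9_2 D3246 D4738 (iv D3247) (iv D2465) D2464
def n4740 : Q := act 0 n3247
theorem D4740 : act 0 n3247 = n4740 := rfl
theorem F8020 : act 3 n4740 = n3622 := d2_2 (iv F5708) D4740 (iv D3622)
theorem F8021 : act 4 n4740 = n3265 := d3_2 (iv F5709) D4740 (iv D3265)
def n4741 : Q := act 2 n3247
theorem D4741 : act 2 n3247 = n4741 := rfl
theorem F8022 : act 4 n4741 = n3266 := d12_2 (iv F5709) D4741 (iv D3266)
def n4742 : Q := act 6 n3247
theorem D4742 : act 6 n3247 = n4742 := rfl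
theorem F8023 : act 1 n4742 = n4534 := d10_1 D4742 (iv D4534) (iv D3142) (iv F4460) D3247
theorem F8024 : act 3 n4742 = n3624 := d17_1 D4742 (iv D3624) (iv F5708)
theorem F8025 : act 4 n4742 = n3267 := d19_1 D4742 (iv D3267) (iv F5709)
def n4743 : Q := act 0 n3248
theorem D4743 : act 0 n3248 = n4743 := rfl
def n4747 : Q := act 1 n3249
theorem D4747 : act 1 n3249 = n4747 := rfl
def n4748 : Q := act 3 n3249
theorem D4748 : act 3 n3249 = n4748 := rfl
theorem F8029 : act 0 n4748 = n3251 := d2_1 D4748 (iv D3251) (iv F5711)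
theorem F8030 : act 2 n4748 = n4018 := d21_2 D3249 D4748 (iv D4018) (iv D2868) F4141 F2488 (iv F3318) D2466
def n4749 : Q := act 6 n3249
theorem D4749 : act 6 n3249 = n4749 := rfl
theorem F8032 : act 2 n4749 = n3250 := d14_1 D4749 (iv D3250) D3249
theorem F8033 : act 5 n4749 = n4649 := d22_2 F7854 D4749 (iv D4649) (iv F7853)
def n4750 : Q := act 1 n3250
theorem D4750 : act 1 n3250 = n4750 := rfl
theorem F8034 : act 3 n4750 = n3272 := d7_2 (iv F5713) D4750 (iv D3272)
def n4751 : Q := act 2 n3251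
theorem D4751 : act 2 n3251 = n4751 := rfl
theorem F8035 : act 0 n4751 = n4018 := d1_1 D4751 (iv F8030) F8029
theorem F8036 : act 3 n4751 = n4016 := d11_2 D3251 D4751 (iv D4016) F5020 F4142 (iv F4461) D3249 D4748 F8030 (iv D4018) (iv D2868) F4141 F2488 (iv F3318) D2467
def n4753 : Q := act 6 n3251
theorem D4753 : act 6 n3251 = n4753 := rfl
theorem F8037 : act 3 n4753 = n3252 := d17_1 D4753 (iv D3252) D3251
def n4754 : Q := act 1 n3252
theorem D4754 : act 1 n3252 = n4754 := rfl
def n4755 : Q := act 5 n3252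
theorem D4755 : act 5 n3252 = n4755 := rfl
theorem F8039 : act 2 n4755 = n3254 := d13_1 D4755 (iv D3254) (iv F5715)
theorem F8040 : act 6 n4755 = n4647 := d20_2 D3252 D4755 F7854 D4749 F8033 (iv D4649) F5601
def n4756 : Q := act 0 n3253
theorem D4756 : act 0 n3253 = n4756 := rfl
theorem F8041 : act 3 n4756 = n3273 := d2_2 (iv F5716) D4756 (iv D3273)
theorem F8042 : act 6 n4756 = n3255 := d5_2 (iv F5717) D4756 (iv D3255)
def n4757 : Q := act 2 n3253
theorem D4757 : act 2 n3253 = n4757 := rfl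
theorem F8043 : act 6 n4757 = n3256 := d14_2 (iv F5717) D4757 (iv D3256)
def n4758 : Q := act 5 n3253
theorem D4758 : act 5 n3253 = n4758 := rfl
theorem F8044 : act 3 n4758 = n3275 := d16_1 D4758 (iv D3275) (iv F5716)
def n4759 : Q := act 1 n3254
theorem D4759 : act 1 n3254 = n4759 := rfl
theorem F8045 : act 3 n4759 = n3276 := d7_2 (iv F5719) D4759 (iv D3276)
def n4760 : Q := act 1 n3255
theorem D4760 : act 1 n3255 = n4760 := rfl
theorem F8046 : act 3 n4760 = n3277 := d7_2 (iv F5721) D4760 (iv D3277)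
def n4761 : Q := act 2 n3255
theorem D4761 : act 2 n3255 = n4761 := rfl
theorem F8047 : act 0 n4761 = n3256 := d1_1 D4761 (iv D3256) D3255
def n4762 : Q := act 5 n3255
theorem D4762 : act 5 n3255 = n4762 := rfl
theorem F8048 : act 0 n4762 = n3257 := d4_1 D4762 (iv D3257) D3255
theorem F8050 : act 6 n4762 = n4758 := d22_1 D4762 (iv D4758) F5717 D3255
def n4763 : Q := act 3 n3256
theorem D4763 : act 3 n3256 = n4763 := rfl
def n4764 : Q := act 5 n3256
theorem D4764 : act 5 n3256 = n4764 := rfl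
theorem F8051 : act 2 n4764 = n3257 := d13_1 D4764 (iv D3257) D3256
def n4765 : Q := act 6 n3257
theorem D4765 : act 6 n3257 = n4765 := rfl
theorem F8052 : act 0 n4765 = n4758 := d5_1 D4765 (iv F8050) F8048
theorem F8054 : act 5 n4765 = n4756 := d20_1 D4765 F8042 D4762 F8050 (iv D4758) F5717 D3257
def n4768 : Q := act 5 n3258
theorem D4768 : act 5 n3258 = n4768 := rfl
theorem F8056 : act 3 n4768 = n3285 := d16_1 D4768 (iv D3285) (iv F5724)
def n4776 : Q := act 1 n3262
theorem D4776 : act 1 n3262 = n4776 := rfl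
def n4778 : Q := act 0 n3263
theorem D4778 : act 0 n3263 = n4778 := rfl
theorem F8068 : act 3 n4778 = n3288 := d2_2 (iv F5730) D4778 (iv D3288)
theorem F8069 : act 5 n4778 = n3265 := d4_2 (iv F5731) D4778 (iv D3265)
def n4779 : Q := act 2 n3263
theorem D4779 : act 2 n3263 = n4779 := rfl
theorem F8070 : act 5 n4779 = n3266 := d13_2 (iv F5731) D4779 (iv D3266)
def n4780 : Q := act 6 n3263
theorem D4780 : act 6 n3263 = n4780 := rfl
def n4781 : Q := act 1 n3264
theorem D4781 : act 1 n3264 = n4781 := rfl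
theorem F8072 : act 3 n4781 = n3291 := d7_2 (iv F5733) D4781 (iv D3291)
def n4782 : Q := act 1 n3265
theorem D4782 : act 1 n3265 = n4782 := rfl
def n4783 : Q := act 2 n3265
theorem D4783 : act 2 n3265 = n4783 := rfl
def n4784 : Q := act 6 n3265
theorem D4784 : act 6 n3265 = n4784 := rfl
theorem F8077 : act 5 n4784 = n4780 := d22_2 F8069 D4784 (iv D4780) D4778
def n4785 : Q := act 3 n3266
theorem D4785 : act 3 n3266 = n4785 := rfl
def n4786 : Q := act 6 n3266
theorem D4786 : act 6 n3266 = n4786 := rfl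
theorem F8078 : act 2 n4786 = n3267 := d14_1 D4786 (iv D3267) D3266
def n4787 : Q := act 5 n3267
theorem D4787 : act 5 n3267 = n4787 := rfl
theorem F8080 : act 3 n4787 = n3297 := d16_1 D4787 (iv D3297) (iv F5737)
theorem F8081 : act 6 n4787 = n4778 := d20_2 D3267 D4787 F8069 D4784 F8077 (iv D4780) F5731
def n4788 : Q := act 2 n3268
theorem D4788 : act 2 n3268 = n4788 := rfl
theorem F8082 : act 0 n4788 = n3269 := d1_1 D4788 (iv D3269) D3268
def n4790 : Q := act 6 n3268
theorem D4790 : act 6 n3268 = n4790 := rfl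
theorem F8086 : act 0 n4790 = n3271 := d5_1 D4790 (iv D3271) D3268
theorem F8087 : act 4 n4790 = n3670 := d19_1 D4790 (iv D3670) (iv F5738)
def n4792 : Q := act 5 n3269
theorem D4792 : act 5 n3269 = n4792 := rfl
theorem F8088 : act 2 n4792 = n3270 := d13_1 D4792 (iv D3270) D3269
theorem F8089 : act 4 n4792 = n3673 := d18_1 D4792 (iv D3673) (iv F5739)
def n4794 : Q := act 6 n3270
theorem D4794 : act 6 n3270 = n4794 := rfl
theorem F8093 : act 5 n4794 = n4790 := d22_2 D3270 D4794 (iv D4790) (iv D3268)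
def n4795 : Q := act 1 n3271
theorem D4795 : act 1 n3271 = n4795 := rfl
theorem F8094 : act 4 n4795 = n3676 := d8_2 (iv F5741) D4795 (iv D3676)
theorem F8095 : act 6 n4795 = n3272 := d10_2 D3271 D4795 (iv D3272) (iv D2475) D2474
def n4796 : Q := act 5 n3271
theorem D4796 : act 5 n3271 = n4796 := rfl
theorem F8096 : act 0 n4796 = n4794 := d4_1 D4796 F8093 F8086
def n4797 : Q := act 0 n3272
theorem D4797 : act 0 n3272 = n4797 := rfl
theorem F8099 : act 4 n4797 = n3682 := d3_2 (iv F5742) D4797 (iv D3682)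
def n4798 : Q := act 2 n3272
theorem D4798 : act 2 n3272 = n4798 := rfl
def n4799 : Q := act 5 n3272
theorem D4799 : act 5 n3272 = n4799 := rfl
theorem F8101 : act 1 n4799 = n4668 := d9_1 D4799 (iv D4668) (iv D3212) (iv F4470) D3272
theorem F8102 : act 4 n4799 = n3684 := d18_1 D4799 (iv D3684) (iv F5742)
def n4800 : Q := act 1 n3273
theorem D4800 : act 1 n3273 = n4800 := rfl
theorem F8103 : act 4 n4800 = n3686 := d8_2 (iv F5743) D4800 (iv D3686)
def n4801 : Q := act 2 n3273
theorem D4801 : act 2 n3273 = n4801 := rfl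
theorem F8104 : act 0 n4801 = n3274 := d1_1 D4801 (iv D3274) D3273
theorem F8105 : act 4 n4801 = n3687 := d12_2 (iv F5743) D4801 (iv D3687)
theorem F8106 : act 6 n4801 = n3278 := d14_2 (iv F5744) D4801 (iv D3278)
def n4802 : Q := act 3 n3274
theorem D4802 : act 3 n3274 = n4802 := rfl
theorem F8107 : act 6 n4802 = n3280 := d17_2 (iv F5746) D4802 (iv D3280)
def n4803 : Q := act 5 n3274
theorem D4803 : act 5 n3274 = n4803 := rfl
theorem F8108 : act 2 n4803 = n3275 := d13_1 D4803 (iv D3275) D3274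
theorem F8109 : act 4 n4803 = n3689 := d18_1 D4803 (iv D3689) (iv F5745)
def n4804 : Q := act 1 n3275
theorem D4804 : act 1 n3275 = n4804 := rfl
theorem F8111 : act 5 n4804 = n3276 := d9_2 D3275 D4804 (iv D3276) (iv D2477) D2476
def n4805 : Q := act 0 n3276
theorem D4805 : act 0 n3276 = n4805 := rfl
theorem F8112 : act 4 n4805 = n3691 := d3_2 (iv F5748) D4805 (iv D3691)
def n4806 : Q := act 2 n3276
theorem D4806 : act 2 n3276 = n4806 := rfl
def n4807 : Q := act 6 n3276
theorem D4807 : act 6 n3276 = n4807 := rfl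
theorem F8114 : act 1 n4807 = n4665 := d10_1 D4807 (iv D4665) (iv D3211) (iv F4475) D3276
def n4808 : Q := act 0 n3277
theorem D4808 : act 0 n3277 = n4808 := rfl
theorem F8116 : act 4 n4808 = n3694 := d3_2 (iv F5749) D4808 (iv D3694)
def n4809 : Q := act 2 n3277
theorem D4809 : act 2 n3277 = n4809 := rfl
theorem F8117 : act 4 n4809 = n3695 := d12_2 (iv F5749) D4809 (iv D3695)
def n4810 : Q := act 5 n3277
theorem D4810 : act 5 n3277 = n4810 := rfl
theorem F8118 : act 4 n4810 = n3696 := d18_1 D4810 (iv D3696) (iv F5749)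
def n4811 : Q := act 6 n3277
theorem D4811 : act 6 n3277 = n4811 := rfl
def n4812 : Q := act 1 n3278
theorem D4812 : act 1 n3278 = n4812 := rfl
theorem F8120 : act 4 n4812 = n3698 := d8_2 (iv F5751) D4812 (iv D3698)
def n4813 : Q := act 3 n3278
theorem D4813 : act 3 n3278 = n4813 := rfl
theorem F8121 : act 0 n4813 = n3280 := d2_1 D4813 (iv D3280) (iv F5750)
def n4814 : Q := act 5 n3278
theorem D4814 : act 5 n3278 = n4814 := rfl
theorem F8122 : act 0 n4814 = n3281 := d4_1 D4814 (iv D3281) (iv F5750)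
theorem F8123 : act 2 n4814 = n3279 := d13_1 D4814 (iv D3279) D3278
theorem F8124 : act 4 n4814 = n3700 := d18_1 D4814 (iv D3700) (iv F5751)
theorem F8125 : act 6 n4814 = n4803 := d22_1 D4814 (iv D4803) F5746 (iv F5750)
def n4816 : Q := act 2 n3280
theorem D4816 : act 2 n3280 = n4816 := rfl
def n4817 : Q := act 4 n3280
theorem D4817 : act 4 n3280 = n4817 := rfl
theorem F8127 : act 1 n4817 = n3300 := d8_1 D4817 (iv D3300) (iv F5755)
def n4818 : Q := act 5 n3280
theorem D4818 : act 5 n3280 = n4818 := rfl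
theorem F8129 : act 3 n4818 = n3281 := d16_1 D4818 (iv D3281) D3280
def n4819 : Q := act 1 n3281
theorem D4819 : act 1 n3281 = n4819 := rfl
theorem F8130 : act 2 n4819 = n4146 := d6_2 (iv F5756) D4819 (iv D4146) F5185 (iv F4479)
theorem F8131 : act 4 n4819 = n3705 := d8_2 (iv F5757) D4819 (iv D3705)
theorem F8132 : act 5 n4819 = n3302 := d9_2 D3281 D4819 (iv D3302) (iv D2490) (iv F4477)
def n4820 : Q := act 6 n3281
theorem D4820 : act 6 n3281 = n4820 := rfl
theorem F8133 : act 0 n4820 = n4803 := d5_1 D4820 (iv F8125) F8122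
theorem F8134 : act 2 n4820 = n3282 := d14_1 D4820 (iv D3282) (iv F5756)
theorem F8135 : act 4 n4820 = n3706 := d19_1 D4820 (iv D3706) (iv F5757)
def n4821 : Q := act 1 n3282
theorem D4821 : act 1 n3282 = n4821 := rfl
theorem F8138 : act 6 n4821 = n4569 := d10_2 D3282 D4821 (iv D4569) (iv D3158) (iv F4479)
def n4822 : Q := act 2 n3283
theorem D4822 : act 2 n3283 = n4822 := rfl
def n4823 : Q := act 5 n3283
theorem D4823 : act 5 n3283 = n4823 := rfl
theorem F8142 : act 4 n4823 = n3709 := d18_1 D4823 (iv D3709) (iv F5761)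
def n4824 : Q := act 6 n3283
theorem D4824 : act 6 n3283 = n4824 := rfl
theorem F8143 : act 0 n4824 = n3286 := d5_1 D4824 (iv D3286) D3283
def n4828 : Q := act 1 n3285
theorem D4828 : act 1 n3285 = n4828 := rfl
theorem F8151 : act 5 n4828 = n3287 := d9_2 D3285 D4828 (iv D3287) (iv D2482) D2481
def n4829 : Q := act 6 n3285
theorem D4829 : act 6 n3285 = n4829 := rfl
theorem F8153 : act 5 n4829 = n4824 := d22_2 D3285 D4829 (iv D4824) (iv D3283)
def n4830 : Q := act 5 n3286
theorem D4830 : act 5 n3286 = n4830 := rfl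
theorem F8154 : act 0 n4830 = n4829 := d4_1 D4830 F8153 F8143
theorem F8156 : act 6 n4830 = n4823 := d20_2 D3286 D4830 (iv D4823) D4824 (iv F8153) (iv D4829) (iv D3285)
def n4832 : Q := act 2 n3287
theorem D4832 : act 2 n3287 = n4832 := rfl
theorem F8159 : act 4 n4832 = n3718 := d12_2 (iv F5766) D4832 (iv D3718)
def n4833 : Q := act 6 n3287
theorem D4833 : act 6 n3287 = n4833 := rfl
theorem F8160 : act 1 n4833 = n4681 := d10_1 D4833 (iv D4681) (iv D3217) (iv F4485) D3287
theorem F8161 : act 4 n4833 = n3719 := d19_1 D4833 (iv D3719) (iv F5766)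
def n4834 : Q := act 1 n3288
theorem D4834 : act 1 n3288 = n4834 := rfl
theorem F8162 : act 4 n4834 = n3720 := d8_2 (iv F5767) D4834 (iv D3720)
def n4835 : Q := act 2 n3288
theorem D4835 : act 2 n3288 = n4835 := rfl
theorem F8163 : act 0 n4835 = n3289 := d1_1 D4835 (iv D3289) D3288
theorem F8165 : act 5 n4835 = n3293 := d13_2 (iv F5768) D4835 (iv D3293)
def n4836 : Q := act 3 n3289
theorem D4836 : act 3 n3289 = n4836 := rfl
theorem F8167 : act 5 n4836 = n3295 := d16_2 (iv F5771) D4836 (iv D3295)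
def n4838 : Q := act 1 n3290
theorem D4838 : act 1 n3290 = n4838 := rfl
theorem F8171 : act 6 n4838 = n3291 := d10_2 D3290 D4838 (iv D3291) (iv D2484) D2483
def n4839 : Q := act 0 n3291
theorem D4839 : act 0 n3291 = n4839 := rfl
theorem F8172 : act 4 n4839 = n3725 := d3_2 (iv F5773) D4839 (iv D3725)
def n4841 : Q := act 5 n3291
theorem D4841 : act 5 n3291 = n4841 := rfl
theorem F8175 : act 1 n4841 = n4677 := d9_1 D4841 (iv D4677) (iv D3216) (iv F4491) D3291
theorem F8176 : act 4 n4841 = n3727 := d18_1 D4841 (iv D3727) (iv F5773)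
def n4842 : Q := act 0 n3292
theorem D4842 : act 0 n3292 = n4842 := rfl
theorem F8177 : act 1 n4842 = n4808 := d0_2 D3292 D4842 (iv D4808) (iv D3277) (iv D2478) (iv D2044) (iv F1648) D2047 D2485
def n4843 : Q := act 2 n3292
theorem D4843 : act 2 n3292 = n4843 := rfl
theorem F8179 : act 4 n4843 = n3729 := d12_2 (iv F5774) D4843 (iv D3729)
def n4844 : Q := act 5 n3292
theorem D4844 : act 5 n3292 = n4844 := rfl
def n4846 : Q := act 1 n3293
theorem D4846 : act 1 n3293 = n4846 := rfl
def n4847 : Q := act 3 n3293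
theorem D4847 : act 3 n3293 = n4847 := rfl
theorem F8183 : act 0 n4847 = n3295 := d2_1 D4847 (iv D3295) (iv F5775)
def n4849 : Q := act 1 n3294
theorem D4849 : act 1 n3294 = n4849 := rfl
theorem F8188 : act 4 n4849 = n3735 := d8_2 (iv F5778) D4849 (iv D3735)
def n4850 : Q := act 2 n3295
theorem D4850 : act 2 n3295 = n4850 := rfl
def n4855 : Q := act 1 n3297
theorem D4855 : act 1 n3297 = n4855 := rfl
theorem F8199 : act 4 n4855 = n3741 := d8_2 (iv F5784) D4855 (iv D3741)
theorem F8200 : act 5 n4855 = n4563 := d9_2 D3297 D4855 (iv D4563) (iv D3155) (iv F4495)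
def n4856 : Q := act 0 n3298
theorem D4856 : act 0 n3298 = n4856 := rfl
theorem F8201 : act 2 n4856 = n3742 := d1_2 (iv F5786) D4856 (iv D3742)
theorem F8202 : act 4 n4856 = n3742 := d3_2 (iv F5787) D4856 (iv D3742)
def n4857 : Q := act 3 n3298
theorem D4857 : act 3 n3298 = n4857 := rfl
theorem F8203 : act 1 n4857 = n3299 := d7_1 D4857 (iv D3299) D3298
def n4858 : Q := act 5 n3298
theorem D4858 : act 5 n3298 = n4858 := rfl
theorem F8204 : act 1 n4858 = n4578 := d9_1 D4858 (iv D4578) (iv D3163) (iv F4499) D3298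
def n4859 : Q := act 6 n3298
theorem D4859 : act 6 n3298 = n4859 := rfl
theorem F8207 : act 1 n4859 = n4582 := d10_1 D4859 (iv D4582) (iv D3164) (iv F4500) D3298
theorem F8208 : act 2 n4859 = n3745 := d14_1 D4859 (iv D3745) (iv F5786)
def n4860 : Q := act 4 n3299
theorem D4860 : act 4 n3299 = n4860 := rfl
theorem F8212 : act 5 n4860 = n4575 := d18_2 (iv F5789) D4860 F7722
theorem F8213 : act 6 n4860 = n4583 := d19_2 (iv F5790) D4860 (iv D4583)
def n4861 : Q := act 5 n3300
theorem D4861 : act 5 n3300 = n4861 := rfl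
theorem F8216 : act 3 n4861 = n3749 := d16_1 D4861 (iv D3749) (iv F5791)
theorem F8217 : act 4 n4861 = n3301 := d18_1 D4861 (iv D3301) D3300
theorem F8218 : act 6 n4861 = n4574 := d20_2 F6879 D4861 (iv F7737) (iv F8213) F8212 (iv D4575) (iv F6878)
def n4862 : Q := act 1 n3301
theorem D4862 : act 1 n3301 = n4862 := rfl
theorem F8219 : act 3 n4862 = n3302 := d7_2 (iv F5794) D4862 (iv D3302)
def n4863 : Q := act 0 n3302
theorem D4863 : act 0 n3302 = n4863 := rfl
theorem F8221 : act 4 n4863 = n3751 := d3_2 (iv F5797) D4863 (iv D3751)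
def n4864 : Q := act 6 n3302
theorem D4864 : act 6 n3302 = n4864 := rfl
theorem F8223 : act 2 n4864 = n4149 := d14_1 D4864 (iv D4149) (iv F5796)
def n4867 : Q := act 0 n3305
theorem D4867 : act 0 n3305 = n4867 := rfl
theorem F8231 : act 4 n4867 = n3758 := d3_2 (iv F5805) D4867 (iv D3758)
def n4868 : Q := act 5 n3305
theorem D4868 : act 5 n3305 = n4868 := rfl
theorem F8233 : act 2 n4868 = n4578 := d13_1 D4868 (iv D4578) (iv F5804)
def n4878 : Q := act 2 n3312
theorem D4878 : act 2 n3312 = n4878 := rfl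
theorem F8253 : act 5 n4878 = n3792 := d13_2 (iv F5827) D4878 (iv D3792)
def n4880 : Q := act 0 n3314
theorem D4880 : act 0 n3314 = n4880 := rfl
theorem F8257 : act 4 n4880 = n3803 := d3_2 (iv F5831) D4880 (iv D3803)
def n4881 : Q := act 2 n3314
theorem D4881 : act 2 n3314 = n4881 := rfl
theorem F8258 : act 1 n4881 = n3319 := d6_1 D4881 (iv D3319) (iv D2505) (iv F4540) D3314
def n4882 : Q := act 6 n3314
theorem D4882 : act 6 n3314 = n4882 := rfl
theorem F8260 : act 4 n4882 = n3805 := d19_1 D4882 (iv D3805) (iv F5831)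
def n4883 : Q := act 1 n3315
theorem D4883 : act 1 n3315 = n4883 := rfl
theorem F8261 : act 4 n4883 = n3806 := d8_2 (iv F5833) D4883 (iv D3806)
def n4884 : Q := act 0 n3316
theorem D4884 : act 0 n3316 = n4884 := rfl
theorem F8262 : act 4 n4884 = n3807 := d3_2 (iv F5835) D4884 (iv D3807)
def n4885 : Q := act 2 n3316
theorem D4885 : act 2 n3316 = n4885 := rfl
theorem F8263 : act 1 n4885 = n3323 := d6_1 D4885 (iv D3323) (iv D2507) (iv F4542) D3316
theorem F8264 : act 4 n4885 = n3808 := d12_2 (iv F5835) D4885 (iv D3808)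
def n4886 : Q := act 5 n3316
theorem D4886 : act 5 n3316 = n4886 := rfl
theorem F8265 : act 4 n4886 = n3809 := d18_1 D4886 (iv D3809) (iv F5835)
def n4887 : Q := act 1 n3317
theorem D4887 : act 1 n3317 = n4887 := rfl
theorem F8266 : act 4 n4887 = n3810 := d8_2 (iv F5838) D4887 (iv D3810)
def n4888 : Q := act 2 n3318
theorem D4888 : act 2 n3318 = n4888 := rfl
theorem F8269 : act 5 n4888 = n3327 := d13_2 (iv F5842) D4888 (iv D3327)
theorem F8270 : act 6 n4888 = n3861 := d14_2 F5902 D4888 (iv D3861)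
def n4889 : Q := act 3 n3319
theorem D4889 : act 3 n3319 = n4889 := rfl
theorem F8271 : act 5 n4889 = n3329 := d16_2 (iv F5844) D4889 (iv D3329)
def n4890 : Q := act 6 n3319
theorem D4890 : act 6 n3319 = n4890 := rfl
theorem F8273 : act 2 n4890 = n3320 := d14_1 D4890 (iv D3320) D3319
def n4891 : Q := act 2 n3321
theorem D4891 : act 2 n3321 = n4891 := rfl
theorem F8275 : act 0 n4891 = n4052 := d1_1 D4891 F6919 F6507
theorem F8277 : act 5 n4891 = n4050 := d13_2 (iv F6506) D4891 (iv D4050)
def n4892 : Q := act 2 n3322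
theorem D4892 : act 2 n3322 = n4892 := rfl
theorem F8278 : act 0 n4892 = n3323 := d1_1 D4892 (iv D3323) D3322
theorem F8279 : act 4 n4892 = n3817 := d12_2 (iv F5850) D4892 (iv D3817)
theorem F8280 : act 6 n4892 = n3333 := d14_2 (iv F5851) D4892 (iv D3333)
def n4893 : Q := act 3 n3323
theorem D4893 : act 3 n3323 = n4893 := rfl
theorem F8281 : act 6 n4893 = n3335 := d17_2 (iv F5853) D4893 (iv D3335)
def n4894 : Q := act 5 n3323
theorem D4894 : act 5 n3323 = n4894 := rfl
theorem F8283 : act 4 n4894 = n3819 := d18_1 D4894 (iv D3819) (iv F5852)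
def n4896 : Q := act 2 n3326
theorem D4896 : act 2 n3326 = n4896 := rfl
theorem F8287 : act 4 n4896 = n3823 := d12_2 (iv F5859) D4896 (iv D3823)
def n4897 : Q := act 1 n3327
theorem D4897 : act 1 n3327 = n4897 := rfl
theorem F8288 : act 4 n4897 = n3825 := d8_2 (iv F5861) D4897 (iv D3825)
def n4898 : Q := act 3 n3327
theorem D4898 : act 3 n3327 = n4898 := rfl
def n4899 : Q := act 6 n3327
theorem D4899 : act 6 n3327 = n4899 := rfl
theorem F8291 : act 2 n4899 = n3328 := d14_1 D4899 (iv D3328) D3327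
def n4901 : Q := act 4 n3329
theorem D4901 : act 4 n3329 = n4901 := rfl
theorem F8294 : act 3 n4901 = n3829 := d15_1 D4901 (iv D3829) (iv D2759) (iv F4559) D3329
def n4902 : Q := act 6 n3329
theorem D4902 : act 6 n3329 = n4902 := rfl
theorem F8295 : act 3 n4902 = n3330 := d17_1 D4902 (iv D3330) D3329
def n4904 : Q := act 2 n3332
theorem D4904 : act 2 n3332 = n4904 := rfl
def n4905 : Q := act 1 n3333
theorem D4905 : act 1 n3333 = n4905 := rfl
def n4906 : Q := act 3 n3333
theorem D4906 : act 3 n3333 = n4906 := rfl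
def n4907 : Q := act 5 n3333
theorem D4907 : act 5 n3333 = n4907 := rfl
theorem F8302 : act 0 n4907 = n3336 := d4_1 D4907 (iv D3336) (iv F5875)
theorem F8304 : act 4 n4907 = n3837 := d18_1 D4907 (iv D3837) (iv F5876)
theorem F8305 : act 6 n4907 = n4894 := d22_1 D4907 (iv D4894) F5853 (iv F5875)
def n4908 : Q := act 2 n3335
theorem D4908 : act 2 n3335 = n4908 := rfl
def n4909 : Q := act 4 n3335
theorem D4909 : act 4 n3335 = n4909 := rfl
theorem F8306 : act 3 n4909 = n3839 := d15_1 D4909 (iv D3839) (iv D2765) (iv F4564) D3335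
def n4910 : Q := act 5 n3335
theorem D4910 : act 5 n3335 = n4910 := rfl
theorem F8307 : act 3 n4910 = n3336 := d16_1 D4910 (iv D3336) D3335
def n4911 : Q := act 1 n3336
theorem D4911 : act 1 n3336 = n4911 := rfl
theorem F8308 : act 4 n4911 = n3841 := d8_2 (iv F5882) D4911 (iv D3841)
def n4912 : Q := act 6 n3336
theorem D4912 : act 6 n3336 = n4912 := rfl
theorem F8309 : act 0 n4912 = n4894 := d5_1 D4912 (iv F8305) F8302
theorem F8310 : act 2 n4912 = n3337 := d14_1 D4912 (iv D3337) (iv F5881)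
theorem F8311 : act 4 n4912 = n3842 := d19_1 D4912 (iv D3842) (iv F5882)
theorem F8312 : act 5 n4912 = n4892 := d20_1 D4912 F8280 D4907 F8305 (iv D4894) F5853 D3336
def n4913 : Q := act 1 n3339
theorem D4913 : act 1 n3339 = n4913 := rfl
def n4914 : Q := act 3 n3339
theorem D4914 : act 3 n3339 = n4914 := rfl
def n4915 : Q := act 5 n3339
theorem D4915 : act 5 n3339 = n4915 := rfl
theorem F8315 : act 0 n4915 = n3342 := d4_1 D4915 (iv D3342) (iv F5889)
theorem F8316 : act 2 n4915 = n3340 := d13_1 D4915 (iv D3340) D3339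
def n4918 : Q := act 5 n3341
theorem D4918 : act 5 n3341 = n4918 := rfl
theorem F8320 : act 3 n4918 = n3342 := d16_1 D4918 (iv D3342) D3341
def n4919 : Q := act 1 n3342
theorem D4919 : act 1 n3342 = n4919 := rfl
theorem F8321 : act 2 n4919 = n4911 := d6_2 (iv F5903) D4919 (iv D4911) F5881 (iv F4570)
theorem F8322 : act 4 n4919 = n3868 := d8_2 (iv F5904) D4919 (iv D3868)
def n4920 : Q := act 6 n3342
theorem D4920 : act 6 n3342 = n4920 := rfl
theorem F8324 : act 2 n4920 = n3343 := d14_1 D4920 (iv D3343) (iv F5903)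
def n4921 : Q := act 2 n3344
theorem D4921 : act 2 n3344 = n4921 := rfl
theorem F8327 : act 4 n4921 = n3872 := d12_2 (iv F5910) D4921 (iv D3872)
theorem F8328 : act 6 n4921 = n3902 := d14_2 F5911 D4921 F6668
def n4922 : Q := act 1 n3345
theorem D4922 : act 1 n3345 = n4922 := rfl
theorem F8329 : act 4 n4922 = n3874 := d8_2 (iv F5913) D4922 (iv D3874)
def n4929 : Q := act 2 n3349
theorem D4929 : act 2 n3349 = n4929 := rfl
theorem F8342 : act 0 n4929 = n3355 := d1_1 D4929 (iv D3355) (iv F5923)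
def n4930 : Q := act 4 n3349
theorem D4930 : act 4 n3349 = n4930 := rfl
theorem F8343 : act 0 n4930 = n3356 := d3_1 D4930 (iv D3356) (iv F5923)
theorem F8344 : act 1 n4930 = n3480 := d8_1 D4930 (iv D3480) (iv F5924)
def n4932 : Q := act 6 n3349
theorem D4932 : act 6 n3349 = n4932 := rfl
def n4934 : Q := act 1 n3351
theorem D4934 : act 1 n3351 = n4934 := rfl
theorem F8350 : act 6 n4934 = n3484 := d10_2 D3351 D4934 (iv D3484) (iv D2585) (iv F4581)
def n4935 : Q := act 2 n3352
theorem D4935 : act 2 n3352 = n4935 := rfl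
theorem F8352 : act 1 n4935 = n3485 := d6_1 D4935 (iv D3485) F4655 D2740 (iv F5930)
theorem F8353 : act 3 n4930 = n4935 := d7_0 F8352 (iv F6098) (iv F8344)
def n4938 : Q := act 1 n3353
theorem D4938 : act 1 n3353 = n4938 := rfl
theorem F8360 : act 5 n4938 = n4584 := d9_2 D3353 D4938 (iv D4584) (iv D3168) (iv F5650)
def n4939 : Q := act 1 n3354
theorem D4939 : act 1 n3354 = n4939 := rfl
def n4940 : Q := act 3 n3355
theorem D4940 : act 3 n3355 = n4940 := rfl
theorem F8363 : act 1 n4940 = n4102 := d7_1 D4940 (iv F7237) F7236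
theorem F8364 : act 2 n4940 = n3356 := d21_2 D3355 D4940 F7557 (iv D4484) (iv D3118) (iv F5651) D3349 F5923
theorem F8365 : act 4 n3355 = n4940 := d25_0 (iv D4940) (iv D3355) (iv D2523) D2522 F5650 (iv F5654) (iv D2740) (iv D2216) (iv D1274) (iv D629) (iv F863) (iv F1630) D2021 (iv F3955) (iv F4589) (iv D2532) (iv D2108) (iv D1137) F3821 (iv D939) F766 (iv D362) (iv D185) F228 F146 (iv D37) (iv D19) (iv D11) F24 D11 D18 D33 D57 F3562 F227 (iv D60) F103 F75 F51 F38 F21 F22 (iv F38) (iv F51) (iv F75) D53 (iv F151) (iv F227) (iv F3562) (iv D57) F88 D37 F105 (iv F153) D108 D197 D384 F654 D636 (iv F3823) (iv F1420) (iv D885) D886 (iv F1586) (iv D1009) (iv D491) F3625 (iv D445) F431 D226 D448 D922 D1823 D2348 D3007 D4266 F7236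
def n4941 : Q := act 5 n3355
theorem D4941 : act 5 n3355 = n4941 := rfl
theorem F8366 : act 2 n4941 = n3357 := d13_1 D4941 (iv D3357) D3355
def n4942 : Q := act 6 n3355
theorem D4942 : act 6 n3355 = n4942 := rfl
theorem F8367 : act 2 n4942 = n3358 := d14_1 D4942 (iv D3358) D3355
def n4944 : Q := act 6 n3356
theorem D4944 : act 6 n3356 = n4944 := rfl
theorem F8369 : act 4 n4944 = n3358 := d19_1 D4944 (iv D3358) D3356
def n4945 : Q := act 1 n3357
theorem D4945 : act 1 n3357 = n4945 := rfl
theorem F8371 : act 5 n4945 = n3368 := d9_2 D3357 D4945 (iv D3368) (iv D2528) (iv F4582)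
def n4946 : Q := act 6 n3357
theorem D4946 : act 6 n3357 = n4946 := rfl
theorem F8372 : act 3 n4946 = n3360 := d17_1 D4946 (iv D3360) (iv F5938)
theorem F8373 : act 5 n4946 = n4932 := d22_2 D3357 D4946 (iv D4932) F5923
def n4947 : Q := act 1 n3358
theorem D4947 : act 1 n3358 = n4947 := rfl
theorem F8374 : act 3 n4947 = n3361 := d7_2 (iv F5939) D4947 (iv D3361)
theorem F8375 : act 6 n4947 = n3369 := d10_2 D3358 D4947 (iv D3369) (iv D2529) (iv F4582)
def n4949 : Q := act 0 n3359
theorem D4949 : act 0 n3359 = n4949 := rfl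
theorem F8379 : act 5 n4949 = n3370 := d4_2 (iv F5940) D4949 (iv D3370)
def n4950 : Q := act 2 n3359
theorem D4950 : act 2 n3359 = n4950 := rfl
theorem F8380 : act 5 n4950 = n3371 := d13_2 (iv F5940) D4950 (iv D3371)
def n4951 : Q := act 6 n3359
theorem D4951 : act 6 n3359 = n4951 := rfl
def n4952 : Q := act 1 n3360
theorem D4952 : act 1 n3360 = n4952 := rfl
def n4953 : Q := act 0 n3361
theorem D4953 : act 0 n3361 = n4953 := rfl
theorem F8381 : act 6 n4953 = n3373 := d5_2 (iv F5942) D4953 (iv D3373)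
def n4954 : Q := act 2 n3361
theorem D4954 : act 2 n3361 = n4954 := rfl
theorem F8382 : act 6 n4954 = n3374 := d14_2 (iv F5942) D4954 (iv D3374)
def n4955 : Q := act 5 n3361
theorem D4955 : act 5 n3361 = n4955 := rfl
def n4956 : Q := act 1 n3362
theorem D4956 : act 1 n3362 = n4956 := rfl
def n4957 : Q := act 5 n3363
theorem D4957 : act 5 n3363 = n4957 := rfl
theorem F8383 : act 0 n4957 = n3379 := d4_1 D4957 (iv D3379) (iv F5945)
theorem F8385 : act 3 n4957 = n4100 := d16_1 D4957 (iv D4100) (iv F5948)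
theorem F8386 : act 4 n4957 = n3364 := d18_1 D4957 (iv D3364) D3363
def n4958 : Q := act 6 n3363
theorem D4958 : act 6 n3363 = n4958 := rfl
theorem F8390 : act 4 n4958 = n3365 := d19_1 D4958 (iv D3365) D3363
def n4959 : Q := act 1 n3364
theorem D4959 : act 1 n3364 = n4959 := rfl
def n4960 : Q := act 1 n3365
theorem D4960 : act 1 n3365 = n4960 := rfl
def n4961 : Q := act 1 n3366
theorem D4961 : act 1 n3366 = n4961 := rfl
theorem F8391 : act 4 n4961 = n3368 := d8_2 (iv F5954) D4961 (iv D3368)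
def n4962 : Q := act 1 n3367
theorem D4962 : act 1 n3367 = n4962 := rfl
theorem F8392 : act 4 n4962 = n3369 := d8_2 (iv F5956) D4962 (iv D3369)
def n4963 : Q := act 0 n3368
theorem D4963 : act 0 n3368 = n4963 := rfl
theorem F8393 : act 3 n4963 = n3370 := d2_2 (iv F5957) D4963 (iv D3370)
def n4964 : Q := act 2 n3368
theorem D4964 : act 2 n3368 = n4964 := rfl
def n4965 : Q := act 6 n3368
theorem D4965 : act 6 n3368 = n4965 := rfl
theorem F8394 : act 3 n4965 = n3372 := d17_1 D4965 (iv D3372) (iv F5957)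
def n4966 : Q := act 0 n3369
theorem D4966 : act 0 n3369 = n4966 := rfl
theorem F8395 : act 3 n4966 = n3373 := d2_2 (iv F5958) D4966 (iv D3373)
def n4967 : Q := act 2 n3369
theorem D4967 : act 2 n3369 = n4967 := rfl
def n4968 : Q := act 5 n3369
theorem D4968 : act 5 n3369 = n4968 := rfl
theorem F8396 : act 3 n4968 = n3375 := d16_1 D4968 (iv D3375) (iv F5958)
def n4969 : Q := act 1 n3370
theorem D4969 : act 1 n3370 = n4969 := rfl
def n4970 : Q := act 2 n3370
theorem D4970 : act 2 n3370 = n4970 := rfl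
theorem F8397 : act 0 n4970 = n3371 := d1_1 D4970 (iv D3371) D3370
def n4971 : Q := act 6 n3370
theorem D4971 : act 6 n3370 = n4971 := rfl
theorem F8398 : act 0 n4971 = n3372 := d5_1 D4971 (iv D3372) D3370
theorem F8399 : act 5 n4971 = n4951 := d22_2 F8379 D4971 (iv D4951) D4949
def n4972 : Q := act 3 n3371
theorem D4972 : act 3 n3371 = n4972 := rfl
def n4973 : Q := act 6 n3371
theorem D4973 : act 6 n3371 = n4973 := rfl
def n4974 : Q := act 5 n3372
theorem D4974 : act 5 n3372 = n4974 := rfl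
theorem F8401 : act 0 n4974 = n4951 := d4_1 D4974 (iv F8399) F8398
theorem F8402 : act 6 n4974 = n4949 := d20_2 D3372 D4974 F8379 D4971 F8399 (iv D4951) F5940
def n4975 : Q := act 1 n3373
theorem D4975 : act 1 n3373 = n4975 := rfl
def n4976 : Q := act 2 n3373
theorem D4976 : act 2 n3373 = n4976 := rfl
def n4977 : Q := act 5 n3373
theorem D4977 : act 5 n3373 = n4977 := rfl
theorem F8404 : act 0 n4977 = n3375 := d4_1 D4977 (iv D3375) D3373
theorem F8405 : act 6 n4977 = n4955 := d22_1 D4977 (iv D4955) F5942 D3373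
def n4978 : Q := act 3 n3374
theorem D4978 : act 3 n3374 = n4978 := rfl
def n4979 : Q := act 5 n3374
theorem D4979 : act 5 n3374 = n4979 := rfl
theorem F8406 : act 2 n4979 = n3375 := d13_1 D4979 (iv D3375) D3374
def n4980 : Q := act 6 n3375
theorem D4980 : act 6 n3375 = n4980 := rfl
theorem F8407 : act 0 n4980 = n4955 := d5_1 D4980 (iv F8405) F8404
theorem F8408 : act 5 n4980 = n4953 := d20_1 D4980 F8381 D4977 F8405 (iv D4955) F5942 D3375
def n4981 : Q := act 5 n3376
theorem D4981 : act 5 n3376 = n4981 := rfl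
theorem F8412 : act 4 n4981 = n3377 := d18_1 D4981 (iv D3377) D3376
def n4982 : Q := act 6 n3376
theorem D4982 : act 6 n3376 = n4982 := rfl
def n4983 : Q := act 1 n3377
theorem D4983 : act 1 n3377 = n4983 := rfl
theorem F8417 : act 3 n4983 = n3381 := d7_2 (iv F5963) D4983 (iv D3381)
theorem F8418 : act 5 n4983 = n3539 := d9_2 D3377 D4983 (iv D3539) (iv D2612) (iv F4589)
def n4984 : Q := act 6 n3377
theorem D4984 : act 6 n3377 = n4984 := rfl
theorem F8419 : act 2 n4984 = n3918 := d14_1 D4984 F6702 F6681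
def n4987 : Q := act 1 n3379
theorem D4987 : act 1 n3379 = n4987 := rfl
theorem F8428 : act 4 n4987 = n3381 := d8_2 (iv F5966) D4987 (iv D3381)
theorem F8429 : act 5 n4987 = n3541 := d9_2 D3379 D4987 (iv D3541) (iv D2615) (iv F4590)
def n4988 : Q := act 6 n3379
theorem D4988 : act 6 n3379 = n4988 := rfl
theorem F8430 : act 2 n4988 = n3386 := d14_1 D4988 (iv D3386) (iv F5965)
theorem F8431 : act 4 n4988 = n3382 := d19_1 D4988 (iv D3382) (iv F5966)
def n4989 : Q := act 1 n3380
theorem D4989 : act 1 n3380 = n4989 := rfl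
theorem F8433 : act 4 n4989 = n3383 := d8_2 (iv F5968) D4989 (iv D3383)
theorem F8434 : act 6 n4989 = n3543 := d10_2 D3380 D4989 (iv D3543) (iv D2616) (iv F4590)
def n4990 : Q := act 5 n3380
theorem D4990 : act 5 n3380 = n4990 := rfl
theorem F8437 : act 4 n4990 = n3384 := d18_1 D4990 (iv D3384) (iv F5968)
def n4991 : Q := act 0 n3381
theorem D4991 : act 0 n3381 = n4991 := rfl
theorem F8439 : act 5 n4991 = n3545 := d4_2 (iv F5969) D4991 (iv D3545)
def n4992 : Q := act 2 n3381
theorem D4992 : act 2 n3381 = n4992 := rfl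
theorem F8440 : act 1 n4992 = n3390 := d6_1 D4992 (iv D3390) (iv D2538) (iv F4592) D3381
theorem F8441 : act 5 n4992 = n3546 := d13_2 (iv F5969) D4992 (iv D3546)
def n4993 : Q := act 6 n3381
theorem D4993 : act 6 n3381 = n4993 := rfl
def n4994 : Q := act 1 n3382
theorem D4994 : act 1 n3382 = n4994 := rfl
def n4995 : Q := act 0 n3383
theorem D4995 : act 0 n3383 = n4995 := rfl
def n4997 : Q := act 5 n3383
theorem D4997 : act 5 n3383 = n4997 := rfl
def n4998 : Q := act 1 n3384
theorem D4998 : act 1 n3384 = n4998 := rfl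
def n4999 : Q := act 0 n3385
theorem D4999 : act 0 n3385 = n4999 := rfl
theorem F8445 : act 4 n4999 = n3389 := d3_2 (iv F5976) D4999 (iv D3389)
theorem F8446 : act 5 n4999 = n3410 := d4_2 (iv F5977) D4999 (iv D3410)
def n5000 : Q := act 2 n3385
theorem D5000 : act 2 n3385 = n5000 := rfl
def n5001 : Q := act 6 n3385
theorem D5001 : act 6 n3385 = n5001 := rfl
def n5002 : Q := act 1 n3386
theorem D5002 : act 1 n3386 = n5002 := rfl
def n5003 : Q := act 0 n3387
theorem D5003 : act 0 n3387 = n5003 := rfl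
theorem F8451 : act 4 n5003 = n3393 := d3_2 (iv F5980) D5003 (iv D3393)
def n5004 : Q := act 2 n3387
theorem D5004 : act 2 n3387 = n5004 := rfl
theorem F8453 : act 4 n5004 = n3394 := d12_2 (iv F5980) D5004 (iv D3394)
theorem F8454 : act 6 n5004 = n3414 := d14_2 (iv F5981) D5004 (iv D3414)
def n5006 : Q := act 1 n3388
theorem D5006 : act 1 n3388 = n5006 := rfl
theorem F8456 : act 4 n5006 = n3396 := d8_2 (iv F5983) D5006 (iv D3396)
def n5007 : Q := act 1 n3389
theorem D5007 : act 1 n3389 = n5007 := rfl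
theorem F8457 : act 3 n5007 = n3397 := d7_2 (iv F5985) D5007 (iv D3397)
def n5008 : Q := act 2 n3389
theorem D5008 : act 2 n3389 = n5008 := rfl
theorem F8458 : act 0 n5008 = n3390 := d1_1 D5008 (iv D3390) D3389
theorem F8459 : act 5 n5008 = n3417 := d13_2 (iv F5986) D5008 (iv D3417)
def n5009 : Q := act 3 n3390
theorem D5009 : act 3 n3390 = n5009 := rfl
theorem F8460 : act 5 n5009 = n3419 := d16_2 (iv F5987) D5009 (iv D3419)
def n5010 : Q := act 6 n3390
theorem D5010 : act 6 n3390 = n5010 := rfl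
def n5011 : Q := act 1 n3391
theorem D5011 : act 1 n3391 = n5011 := rfl
theorem F8463 : act 6 n5011 = n3392 := d10_2 D3391 D5011 (iv D3392) (iv D2539) D2538
def n5014 : Q := act 5 n3392
theorem D5014 : act 5 n3392 = n5014 := rfl
theorem F8465 : act 1 n5014 = n4968 := d9_1 D5014 (iv D4968) (iv D3369) (iv F4599) D3392
def n5015 : Q := act 1 n3393
theorem D5015 : act 1 n3393 = n5015 := rfl
theorem F8467 : act 3 n5015 = n3405 := d7_2 (iv F5990) D5015 (iv D3405)
def n5016 : Q := act 2 n3393
theorem D5016 : act 2 n3393 = n5016 := rfl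
theorem F8469 : act 6 n5016 = n3423 := d14_2 (iv F5991) D5016 (iv D3423)
def n5019 : Q := act 1 n3395
theorem D5019 : act 1 n3395 = n5019 := rfl
theorem F8473 : act 5 n5019 = n3396 := d9_2 D3395 D5019 (iv D3396) (iv D2541) D2540
def n5020 : Q := act 0 n3396
theorem D5020 : act 0 n3396 = n5020 := rfl
theorem F8474 : act 3 n5020 = n3407 := d2_2 (iv F5994) D5020 (iv D3407)
def n5022 : Q := act 6 n3396
theorem D5022 : act 6 n3396 = n5022 := rfl
theorem F8475 : act 1 n5022 = n4965 := d10_1 D5022 (iv D4965) (iv D3368) (iv F4604) D3396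
def n5023 : Q := act 0 n3397
theorem D5023 : act 0 n3397 = n5023 := rfl
def n5024 : Q := act 2 n3397
theorem D5024 : act 2 n3397 = n5024 := rfl
def n5025 : Q := act 5 n3397
theorem D5025 : act 5 n3397 = n5025 := rfl
theorem F8477 : act 1 n5025 = n3430 := d9_1 D5025 (iv D3430) (iv D2557) (iv F4605) D3397
def n5026 : Q := act 6 n3397
theorem D5026 : act 6 n3397 = n5026 := rfl
def n5027 : Q := act 1 n3398
theorem D5027 : act 1 n3398 = n5027 := rfl
def n5028 : Q := act 3 n3398
theorem D5028 : act 3 n3398 = n5028 := rfl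
theorem F8478 : act 0 n5028 = n3399 := d2_1 D5028 (iv D3399) (iv F5995)
theorem F8479 : act 5 n5028 = n3433 := d16_2 (iv F5996) D5028 (iv D3433)
def n5029 : Q := act 2 n3399
theorem D5029 : act 2 n3399 = n5029 := rfl
theorem F8480 : act 5 n5029 = n3436 := d13_2 (iv F5997) D5029 (iv D3436)
def n5033 : Q := act 0 n3401
theorem D5033 : act 0 n3401 = n5033 := rfl
theorem F8483 : act 6 n5033 = n3402 := d5_2 (iv F5999) D5033 (iv D3402)
def n5035 : Q := act 5 n3401
theorem D5035 : act 5 n3401 = n5035 := rfl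
def n5036 : Q := act 1 n3402
theorem D5036 : act 1 n3402 = n5036 := rfl
def n5038 : Q := act 5 n3402
theorem D5038 : act 5 n3402 = n5038 := rfl
theorem F8487 : act 6 n5038 = n5035 := d22_1 D5038 (iv D5035) F5999 D3402
theorem F8488 : act 1 n3601 = n5038 := d24_14 F8487 (iv D5035) (iv D3401) (iv D2544) F3910 (iv D1143) (iv F955) (iv D588) D587 (iv F1940) D2163 D2641 D3598 (iv F6236)
theorem F8489 : act 5 n5036 = n3719 := d9_4 (iv F6236) F8488 (iv D5038) D5036 F6375
def n5039 : Q := act 3 n3403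
theorem D5039 : act 3 n3403 = n5039 := rfl
def n5041 : Q := act 6 n3404
theorem D5041 : act 6 n3404 = n5041 := rfl
theorem F8492 : act 5 n5041 = n5033 := d20_1 D5041 F8483 D5038 F8487 (iv D5035) F5999 D3404
def n5042 : Q := act 0 n3405
theorem D5042 : act 0 n3405 = n5042 := rfl
def n5043 : Q := act 2 n3405
theorem D5043 : act 2 n3405 = n5043 := rfl
def n5044 : Q := act 5 n3405
theorem D5044 : act 5 n3405 = n5044 := rfl
def n5045 : Q := act 6 n3405
theorem D5045 : act 6 n3405 = n5045 := rfl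
theorem F8493 : act 1 n5045 = n3445 := d10_1 D5045 (iv D3445) (iv D2563) (iv F4607) D3405
def n5046 : Q := act 0 n3406
theorem D5046 : act 0 n3406 = n5046 := rfl
theorem F8494 : act 5 n5046 = n3407 := d4_2 (iv F6001) D5046 (iv D3407)
def n5047 : Q := act 2 n3406
theorem D5047 : act 2 n3406 = n5047 := rfl
theorem F8495 : act 5 n5047 = n3408 := d13_2 (iv F6001) D5047 (iv D3408)
def n5048 : Q := act 6 n3406
theorem D5048 : act 6 n3406 = n5048 := rfl
def n5049 : Q := act 1 n3407
theorem D5049 : act 1 n3407 = n5049 := rfl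
def n5050 : Q := act 2 n3407
theorem D5050 : act 2 n3407 = n5050 := rfl
theorem F8496 : act 0 n5050 = n3408 := d1_1 D5050 (iv D3408) D3407
def n5051 : Q := act 6 n3407
theorem D5051 : act 6 n3407 = n5051 := rfl
theorem F8497 : act 0 n5051 = n3409 := d5_1 D5051 (iv D3409) D3407
theorem F8498 : act 5 n5051 = n5048 := d22_2 F8494 D5051 (iv D5048) D5046
theorem F8499 : act 1 n5051 = n3588 := d24_2 D5048 (iv F8498) F6224 (iv D3585) (iv D2636) (iv D2160) F1936 (iv D585) D586 F951 D1144 (iv F3912) D2547 D3406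
theorem F8500 : act 6 n3684 = n5049 := d10_4 D5051 F8499 F6224 (iv F6344) (iv D5049)
def n5052 : Q := act 3 n3408
theorem D5052 : act 3 n3408 = n5052 := rfl
def n5053 : Q := act 6 n3408
theorem D5053 : act 6 n3408 = n5053 := rfl
theorem F8501 : act 2 n5053 = n3409 := d14_1 D5053 (iv D3409) D3408
def n5054 : Q := act 5 n3409
theorem D5054 : act 5 n3409 = n5054 := rfl
def n5055 : Q := act 1 n3410
theorem D5055 : act 1 n3410 = n5055 := rfl
theorem F8504 : act 4 n5055 = n3416 := d8_2 (iv F6003) D5055 (iv D3416)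
def n5056 : Q := act 2 n3410
theorem D5056 : act 2 n3410 = n5056 := rfl
theorem F8505 : act 0 n5056 = n3411 := d1_1 D5056 (iv D3411) D3410
def n5057 : Q := act 6 n3410
theorem D5057 : act 6 n3410 = n5057 := rfl
theorem F8508 : act 4 n5057 = n3418 := d19_1 D5057 (iv D3418) (iv F6003)
theorem F8509 : act 5 n5057 = n5001 := d22_2 F8446 D5057 (iv D5001) D4999
def n5058 : Q := act 3 n3411
theorem D5058 : act 3 n3411 = n5058 := rfl
theorem F8510 : act 1 n5058 = n3608 := d7_1 D5058 (iv D3608) (iv F6004)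
def n5060 : Q := act 5 n3412
theorem D5060 : act 5 n3412 = n5060 := rfl
theorem F8514 : act 4 n5060 = n3421 := d18_1 D5060 (iv D3421) (iv F6006)
theorem F8515 : act 6 n5060 = n4999 := d20_2 D3412 D5060 F8446 D5057 F8509 (iv D5001) F5977
def n5061 : Q := act 1 n3413
theorem D5061 : act 1 n3413 = n5061 := rfl
theorem F8516 : act 4 n5061 = n3422 := d8_2 (iv F6007) D5061 (iv D3422)
def n5063 : Q := act 5 n3413
theorem D5063 : act 5 n3413 = n5063 := rfl
theorem F8519 : act 0 n5063 = n3415 := d4_1 D5063 (iv D3415) D3413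
def n5065 : Q := act 5 n3414
theorem D5065 : act 5 n3414 = n5065 := rfl
theorem F8523 : act 2 n5065 = n3415 := d13_1 D5065 (iv D3415) D3414
def n5066 : Q := act 6 n3415
theorem D5066 : act 6 n3415 = n5066 := rfl
theorem F8526 : act 4 n5066 = n3427 := d19_1 D5066 (iv D3427) (iv F6010)
def n5067 : Q := act 0 n3416
theorem D5067 : act 0 n3416 = n5067 := rfl
theorem F8528 : act 1 n5067 = n3625 := d0_2 D3416 D5067 (iv D3625) (iv D2653) (iv D2169) (iv D1192) (iv F1856) D2118 D2551
theorem F8529 : act 3 n5067 = n3428 := d2_2 (iv F6011) D5067 (iv D3428)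
def n5068 : Q := act 2 n3416
theorem D5068 : act 2 n3416 = n5068 := rfl
def n5069 : Q := act 5 n3416
theorem D5069 : act 5 n3416 = n5069 := rfl
theorem F8530 : act 3 n5069 = n3430 := d16_1 D5069 (iv D3430) (iv F6011)
def n5070 : Q := act 6 n3416
theorem D5070 : act 6 n3416 = n5070 := rfl
theorem F8531 : act 3 n5070 = n3431 := d17_1 D5070 (iv D3431) (iv F6011)
def n5071 : Q := act 1 n3417
theorem D5071 : act 1 n3417 = n5071 := rfl
def n5072 : Q := act 3 n3417
theorem D5072 : act 3 n3417 = n5072 := rfl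
theorem F8532 : act 0 n5072 = n3419 := d2_1 D5072 (iv D3419) (iv F6012)
def n5073 : Q := act 6 n3417
theorem D5073 : act 6 n3417 = n5073 := rfl
theorem F8533 : act 0 n5073 = n3420 := d5_1 D5073 (iv D3420) (iv F6012)
theorem F8534 : act 2 n5073 = n3418 := d14_1 D5073 (iv D3418) D3417
theorem F8535 : act 5 n5073 = n5010 := d22_2 F8459 D5073 (iv D5010) (iv F8458)
def n5074 : Q := act 1 n3418
theorem D5074 : act 1 n3418 = n5074 := rfl
theorem F8536 : act 3 n5074 = n3435 := d7_2 (iv F6014) D5074 (iv D3435)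
def n5075 : Q := act 2 n3419
theorem D5075 : act 2 n3419 = n5075 := rfl
def n5076 : Q := act 4 n3419
theorem D5076 : act 4 n3419 = n5076 := rfl
theorem F8537 : act 1 n5076 = n3632 := d8_1 D5076 (iv D3632) (iv F6016)
def n5077 : Q := act 6 n3419
theorem D5077 : act 6 n3419 = n5077 := rfl
def n5078 : Q := act 1 n3420
theorem D5078 : act 1 n3420 = n5078 := rfl
theorem F8539 : act 6 n5078 = n3634 := d10_2 D3420 D5078 (iv D3634) (iv D2657) (iv F4611)
def n5079 : Q := act 5 n3420
theorem D5079 : act 5 n3420 = n5079 := rfl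
theorem F8541 : act 2 n5079 = n3421 := d13_1 D5079 (iv D3421) (iv F6017)
theorem F8542 : act 6 n5079 = n5008 := d20_2 D3420 D5079 F8459 D5073 F8535 (iv D5010) F5987
def n5080 : Q := act 1 n3421
theorem D5080 : act 1 n3421 = n5080 := rfl
def n5081 : Q := act 0 n3422
theorem D5081 : act 0 n3422 = n5081 := rfl
theorem F8544 : act 1 n5081 = n3646 := d0_2 D3422 D5081 (iv D3646) (iv D2663) (iv D2173) (iv D1194) (iv F1859) D2119 D2554
def n5083 : Q := act 5 n3422
theorem D5083 : act 5 n3422 = n5083 := rfl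
theorem F8546 : act 3 n5083 = n3444 := d16_1 D5083 (iv D3444) (iv F6021)
def n5084 : Q := act 6 n3422
theorem D5084 : act 6 n3422 = n5084 := rfl
def n5086 : Q := act 3 n3423
theorem D5086 : act 3 n3423 = n5086 := rfl
theorem F8549 : act 2 n5086 = n4207 := d21_2 D3423 D5086 (iv D4207) (iv D2974) F4234 F3902 (iv F3922) D2554
def n5088 : Q := act 1 n3424
theorem D5088 : act 1 n3424 = n5088 := rfl
theorem F8553 : act 3 n5088 = n3446 := d7_2 (iv F6024) D5088 (iv D3446)
def n5089 : Q := act 2 n3425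
theorem D5089 : act 2 n3425 = n5089 := rfl
theorem F8555 : act 3 n5089 = n4205 := d11_2 D3425 D5089 (iv D4205) F5221 F4240 (iv F4613) D3423 D5086 F8549 (iv D4207) (iv D2974) F4234 F3902 (iv F3922) D2555
def n5091 : Q := act 5 n3425
theorem D5091 : act 5 n3425 = n5091 := rfl
def n5092 : Q := act 1 n3426
theorem D5092 : act 1 n3426 = n5092 := rfl
theorem F8558 : act 5 n5092 = n3656 := d9_2 D3426 D5092 (iv D3656) (iv D2667) (iv F4614)
def n5094 : Q := act 1 n3427
theorem D5094 : act 1 n3427 = n5094 := rfl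
theorem F8562 : act 3 n5094 = n3447 := d7_2 (iv F6029) D5094 (iv D3447)
def n5095 : Q := act 2 n3428
theorem D5095 : act 2 n3428 = n5095 := rfl
theorem F8563 : act 0 n5095 = n3429 := d1_1 D5095 (iv D3429) D3428
def n5096 : Q := act 5 n3428
theorem D5096 : act 5 n3428 = n5096 := rfl
theorem F8564 : act 0 n5096 = n3430 := d4_1 D5096 (iv D3430) D3428
def n5097 : Q := act 6 n3428
theorem D5097 : act 6 n3428 = n5097 := rfl
theorem F8565 : act 0 n5097 = n3431 := d5_1 D5097 (iv D3431) D3428
def n5098 : Q := act 1 n3429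
theorem D5098 : act 1 n3429 = n5098 := rfl
theorem F8566 : act 2 n5098 = n3432 := d6_2 D3429 D5098 (iv D3432) (iv D2558) D2557
def n5099 : Q := act 3 n3429
theorem D5099 : act 3 n3429 = n5099 := rfl
def n5100 : Q := act 5 n3429
theorem D5100 : act 5 n3429 = n5100 := rfl
theorem F8567 : act 2 n5100 = n3430 := d13_1 D5100 (iv D3430) D3429
def n5101 : Q := act 6 n3429
theorem D5101 : act 6 n3429 = n5101 := rfl
theorem F8568 : act 2 n5101 = n3431 := d14_1 D5101 (iv D3431) D3429
def n5102 : Q := act 6 n3430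
theorem D5102 : act 6 n3430 = n5102 := rfl
theorem F8569 : act 5 n5102 = n5097 := d22_2 D3430 D5102 (iv D5097) (iv D3428)
def n5103 : Q := act 1 n3431
theorem D5103 : act 1 n3431 = n5103 := rfl
theorem F8570 : act 6 n5103 = n3435 := d10_2 D3431 D5103 (iv D3435) (iv D2559) D2557
def n5104 : Q := act 5 n3431
theorem D5104 : act 5 n3431 = n5104 := rfl
theorem F8571 : act 0 n5104 = n5102 := d4_1 D5104 F8569 F8565
theorem F8572 : act 6 n5104 = n5096 := d20_2 D3431 D5104 (iv D5096) D5097 (iv F8569) (iv D5102) (iv D3430)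
def n5105 : Q := act 0 n3432
theorem D5105 : act 0 n3432 = n5105 := rfl
def n5106 : Q := act 3 n3432
theorem D5106 : act 3 n3432 = n5106 := rfl
theorem F8573 : act 1 n5106 = n3433 := d7_1 D5106 (iv D3433) D3432
def n5107 : Q := act 5 n3432
theorem D5107 : act 5 n3432 = n5107 := rfl
def n5108 : Q := act 6 n3432
theorem D5108 : act 6 n3432 = n5108 := rfl
def n5109 : Q := act 2 n3433
theorem D5109 : act 2 n3433 = n5109 := rfl
theorem F8574 : act 0 n5109 = n3436 := d1_1 D5109 (iv D3436) (iv F6032)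
theorem F8575 : act 3 n5109 = n5075 := d21_1 D5109 (iv D5075) (iv D3419) (iv D2552) F3921 D2121 D2560 (iv F6032)
def n5110 : Q := act 4 n3433
theorem D5110 : act 4 n3433 = n5110 := rfl
def n5111 : Q := act 6 n3433
theorem D5111 : act 6 n3433 = n5111 := rfl
theorem F8578 : act 3 n5111 = n3434 := d17_1 D5111 (iv D3434) D3433
def n5112 : Q := act 1 n3434
theorem D5112 : act 1 n3434 = n5112 := rfl
def n5113 : Q := act 0 n3435
theorem D5113 : act 0 n3435 = n5113 := rfl
def n5114 : Q := act 2 n3435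
theorem D5114 : act 2 n3435 = n5114 := rfl
def n5115 : Q := act 5 n3435
theorem D5115 : act 5 n3435 = n5115 := rfl
theorem F8580 : act 1 n5115 = n5035 := d9_1 D5115 (iv D5035) (iv D3401) (iv F4618) D3435
theorem F8581 : act 6 n3599 = n5115 := d10_0 F8580 (iv F8487) (iv F8488) (iv D3601) D3599
def n5116 : Q := act 1 n3436
theorem D5116 : act 1 n3436 = n5116 := rfl
theorem F8582 : act 2 n5116 = n3455 := d6_2 D3436 D5116 (iv D3455) (iv D2569) (iv F4619)
def n5117 : Q := act 3 n3436
theorem D5117 : act 3 n3436 = n5117 := rfl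
theorem F8584 : act 2 n5117 = n5072 := d11_1 D5117 (iv D5072) (iv D3417) F4610 D2558 D3433 D5109 F8575 (iv D5075) (iv D3419) (iv D2552) F3921 D2121 D2560 D3436
def n5118 : Q := act 4 n3436
theorem D5118 : act 4 n3436 = n5118 := rfl
theorem F8585 : act 2 n5118 = n3437 := d12_1 D5118 (iv D3437) D3436
def n5119 : Q := act 6 n3436
theorem D5119 : act 6 n3436 = n5119 := rfl
theorem F8586 : act 2 n5119 = n3438 := d14_1 D5119 (iv D3438) D3436
def n5120 : Q := act 6 n3437
theorem D5120 : act 6 n3437 = n5120 := rfl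
theorem F8587 : act 4 n5120 = n3438 := d19_1 D5120 (iv D3438) D3437
def n5121 : Q := act 1 n3438
theorem D5121 : act 1 n3438 = n5121 := rfl
theorem F8588 : act 3 n5121 = n3439 := d7_2 (iv F6037) D5121 (iv D3439)
def n5122 : Q := act 5 n3438
theorem D5122 : act 5 n3438 = n5122 := rfl
theorem F8591 : act 3 n5122 = n3440 := d16_1 D5122 (iv D3440) (iv F6037)
def n5123 : Q := act 0 n3439
theorem D5123 : act 0 n3439 = n5123 := rfl
theorem F8593 : act 6 n5123 = n3460 := d5_2 (iv F6038) D5123 (iv D3460)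
def n5124 : Q := act 5 n3439
theorem D5124 : act 5 n3439 = n5124 := rfl
def n5126 : Q := act 0 n3441
theorem D5126 : act 0 n3441 = n5126 := rfl
def n5128 : Q := act 6 n3441
theorem D5128 : act 6 n3441 = n5128 := rfl
theorem F8594 : act 1 n5128 = n5026 := d10_1 D5128 (iv D5026) (iv D3397) (iv F4622) D3441
def n5129 : Q := act 2 n3442
theorem D5129 : act 2 n3442 = n5129 := rfl
theorem F8595 : act 0 n5129 = n3443 := d1_1 D5129 (iv D3443) D3442
def n5130 : Q := act 5 n3442
theorem D5130 : act 5 n3442 = n5130 := rfl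
theorem F8596 : act 0 n5130 = n3444 := d4_1 D5130 (iv D3444) D3442
def n5131 : Q := act 6 n3442
theorem D5131 : act 6 n3442 = n5131 := rfl
theorem F8597 : act 0 n5131 = n3445 := d5_1 D5131 (iv D3445) D3442
def n5133 : Q := act 5 n3443
theorem D5133 : act 5 n3443 = n5133 := rfl
theorem F8598 : act 2 n5133 = n3444 := d13_1 D5133 (iv D3444) D3443
def n5134 : Q := act 6 n3443
theorem D5134 : act 6 n3443 = n5134 := rfl
theorem F8599 : act 2 n5134 = n3445 := d14_1 D5134 (iv D3445) D3443
def n5135 : Q := act 1 n3444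
theorem D5135 : act 1 n3444 = n5135 := rfl
theorem F8600 : act 5 n5135 = n3446 := d9_2 D3444 D5135 (iv D3446) (iv D2564) D2563
def n5136 : Q := act 6 n3444
theorem D5136 : act 6 n3444 = n5136 := rfl
theorem F8601 : act 5 n5136 = n5131 := d22_2 D3444 D5136 (iv D5131) (iv D3442)
def n5137 : Q := act 5 n3445
theorem D5137 : act 5 n3445 = n5137 := rfl
theorem F8603 : act 6 n5137 = n5130 := d20_2 D3445 D5137 (iv D5130) D5131 (iv F8601) (iv D5136) (iv D3444)
def n5138 : Q := act 0 n3446
theorem D5138 : act 0 n3446 = n5138 := rfl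
def n5139 : Q := act 2 n3446
theorem D5139 : act 2 n3446 = n5139 := rfl
def n5140 : Q := act 6 n3446
theorem D5140 : act 6 n3446 = n5140 := rfl
theorem F8604 : act 1 n5140 = n5048 := d10_1 D5140 (iv D5048) (iv D3406) (iv F4624) D3446
theorem F8605 : act 5 n3586 = n5140 := d9_0 F8604 (iv F8498) F8499 (iv D3588) D3586
def n5141 : Q := act 0 n3447
theorem D5141 : act 0 n3447 = n5141 := rfl
def n5142 : Q := act 2 n3447
theorem D5142 : act 2 n3447 = n5142 := rfl
def n5143 : Q := act 5 n3447
theorem D5143 : act 5 n3447 = n5143 := rfl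
theorem F8606 : act 1 n5143 = n5044 := d9_1 D5143 (iv D5044) (iv D3405) (iv F4626) D3447
def n5144 : Q := act 0 n3448
theorem D5144 : act 0 n3448 = n5144 := rfl
theorem F8607 : act 2 n5144 = n3450 := d1_2 (iv F6043) D5144 (iv D3450)
theorem F8608 : act 4 n5144 = n4306 := d3_2 (iv F6044) D5144 (iv D4306)
def n5145 : Q := act 3 n3448
theorem D5145 : act 3 n3448 = n5145 := rfl
theorem F8609 : act 1 n5145 = n3449 := d7_1 D5145 (iv D3449) D3448
def n5146 : Q := act 5 n3448
theorem D5146 : act 5 n3448 = n5146 := rfl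
theorem F8610 : act 1 n5146 = n3973 := d9_1 D5146 (iv D3973) (iv D2844) (iv F4629) D3448
def n5147 : Q := act 6 n3448
theorem D5147 : act 6 n3448 = n5147 := rfl
theorem F8613 : act 1 n5147 = n4090 := d10_1 D5147 (iv D4090) F5128 (iv F4630) D3448
theorem F8614 : act 2 n5147 = n3453 := d14_1 D5147 (iv D3453) (iv F6043)
def n5148 : Q := act 4 n3449
theorem D5148 : act 4 n3449 = n5148 := rfl
theorem F8617 : act 2 n5148 = n4150 := d12_1 D5148 (iv D4150) (iv F6046)
theorem F8619 : act 5 n5148 = n3970 := d18_2 (iv F6047) D5148 F6756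
def n5149 : Q := act 1 n3450
theorem D5149 : act 1 n3450 = n5149 := rfl
def n5152 : Q := act 6 n3450
theorem D5152 : act 6 n3450 = n5152 := rfl
def n5170 : Q := act 1 n3460
theorem D5170 : act 1 n3460 = n5170 := rfl
def n5171 : Q := act 5 n3460
theorem D5171 : act 5 n3460 = n5171 := rfl
theorem F8638 : act 0 n5171 = n3461 := d4_1 D5171 (iv D3461) D3460
theorem F8639 : act 6 n5171 = n5124 := d22_1 D5171 (iv D5124) F6038 D3460
def n5172 : Q := act 6 n3461
theorem D5172 : act 6 n3461 = n5172 := rfl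
theorem F8641 : act 5 n5172 = n5123 := d20_1 D5172 F8593 D5171 F8639 (iv D5124) F6038 D3461
def n5204 : Q := act 5 n3476
theorem D5204 : act 5 n3476 = n5204 := rfl
theorem F8690 : act 2 n5204 = n4588 := d13_1 D5204 (iv D4588) F6083
def n5206 : Q := act 1 n3477
theorem D5206 : act 1 n3477 = n5206 := rfl
theorem F8697 : act 4 n5206 = n4401 := d8_2 (iv F6086) D5206 (iv D4401)
theorem F8698 : act 5 n5206 = n4248 := d9_2 D3477 D5206 (iv D4248) (iv D2996) (iv F5647)
def n5208 : Q := act 1 n3479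
theorem D5208 : act 1 n3479 = n5208 := rfl
theorem F8701 : act 0 n5208 = n5208 := d0_1 D5208 (iv D5208) F6090 D3492 (iv F7924) F7925 F7924 (iv D3492) (iv F6090)
def n5209 : Q := act 3 n3479
theorem D5209 : act 3 n3479 = n5209 := rfl
theorem F8702 : act 0 n5209 = n3493 := d2_1 D5209 (iv D3493) (iv F6090)
theorem F8703 : act 2 n5209 = n3480 := d11_1 D5209 F6098 (iv D3485) (iv D2586) (iv D2138) D2139 D2589 D3493 F6111 (iv F5545) F6083 (iv D3476) (iv D2582) D2583 D3479
theorem F8704 : act 4 n3479 = n5209 := d12_0 F8703 (iv D3480) D3479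
def n5210 : Q := act 5 n3479
theorem D5210 : act 5 n3479 = n5210 := rfl
theorem F8705 : act 0 n5210 = n3494 := d4_1 D5210 (iv D3494) (iv F6090)
theorem F8706 : act 2 n5210 = n3481 := d13_1 D5210 (iv D3481) D3479
def n5211 : Q := act 6 n3479
theorem D5211 : act 6 n3479 = n5211 := rfl
theorem F8707 : act 0 n5211 = n3495 := d5_1 D5211 (iv D3495) (iv F6090)
theorem F8708 : act 2 n5211 = n3482 := d14_1 D5211 (iv D3482) D3479
def n5212 : Q := act 5 n3480
theorem D5212 : act 5 n3480 = n5212 := rfl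
theorem F8709 : act 0 n5212 = n3496 := d4_1 D5212 (iv D3496) (iv F6091)
theorem F8710 : act 4 n5212 = n3481 := d18_1 D5212 (iv D3481) D3480
def n5213 : Q := act 6 n3480
theorem D5213 : act 6 n3480 = n5213 := rfl
theorem F8712 : act 4 n5213 = n3482 := d19_1 D5213 (iv D3482) D3480
def n5214 : Q := act 1 n3481
theorem D5214 : act 1 n3481 = n5214 := rfl
theorem F8713 : act 3 n5214 = n3483 := d7_2 (iv F6093) D5214 (iv D3483)
def n5216 : Q := act 0 n3483
theorem D5216 : act 0 n3483 = n5216 := rfl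
def n5217 : Q := act 2 n3483
theorem D5217 : act 2 n3483 = n5217 := rfl
def n5218 : Q := act 6 n3483
theorem D5218 : act 6 n3483 = n5218 := rfl
def n5219 : Q := act 0 n3484
theorem D5219 : act 0 n3484 = n5219 := rfl
def n5220 : Q := act 2 n3484
theorem D5220 : act 2 n3484 = n5220 := rfl
def n5221 : Q := act 5 n3484
theorem D5221 : act 5 n3484 = n5221 := rfl
def n5228 : Q := act 0 n3488
theorem D5228 : act 0 n3488 = n5228 := rfl
theorem F8736 : act 5 n5228 = n3803 := d4_2 (iv F6103) D5228 (iv D3803)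
def n5229 : Q := act 2 n3488
theorem D5229 : act 2 n3488 = n5229 := rfl
theorem F8737 : act 1 n5229 = n3503 := d6_1 D5229 (iv D3503) (iv D2593) (iv F4656) D3488
def n5230 : Q := act 6 n3488
theorem D5230 : act 6 n3488 = n5230 := rfl
def n5231 : Q := act 1 n3489
theorem D5231 : act 1 n3489 = n5231 := rfl
def n5232 : Q := act 0 n3490
theorem D5232 : act 0 n3490 = n5232 := rfl
theorem F8739 : act 6 n5232 = n3807 := d5_2 (iv F6106) D5232 (iv D3807)
def n5233 : Q := act 2 n3490
theorem D5233 : act 2 n3490 = n5233 := rfl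
theorem F8740 : act 1 n5233 = n3507 := d6_1 D5233 (iv D3507) (iv D2595) (iv F4657) D3490
theorem F8741 : act 6 n5233 = n3808 := d14_2 (iv F6106) D5233 (iv D3808)
def n5234 : Q := act 5 n3490
theorem D5234 : act 5 n3490 = n5234 := rfl
def n5235 : Q := act 1 n3491
theorem D5235 : act 1 n3491 = n5235 := rfl
def n5236 : Q := act 3 n3492
theorem D5236 : act 3 n3492 = n5236 := rfl
theorem F8742 : act 0 n5236 = n4061 := d2_1 D5236 (iv F7927) F7924
theorem F8743 : act 1 n5236 = n3493 := d7_1 D5236 (iv D3493) D3492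
theorem F8744 : act 2 n5236 = n3510 := d11_1 D5236 F6132 F5100 (iv F4435) F4934 D3223 D4690 F7927 (iv D4061) (iv D2900) F4168 (iv F3305) (iv F4408) (iv F4666) (iv F6110)
theorem F8745 : act 4 n3492 = n5236 := d25_0 (iv D5236) F6110 F4666 F4408 (iv D2032) F1638 (iv D860) (iv D417) F408 F3566 D445 D916 (iv F3733) (iv D1528) (iv F2478) (iv D1525) F1217 F654 D636 F1015 (iv F3802) (iv D229) (iv D122) F165 F113 (iv D25) (iv D13) (iv D7) F15 D7 D12 D21 D40 D66 D119 (iv F3522) F183 F127 (iv F183) (iv F257) D208 F3521 F257 F183 F127 F3574 (iv F264) (iv D119) (iv D66) (iv D40) F62 D25 F70 (iv F125) D78 D139 D259 F487 (iv F515) D579 D1182 (iv F3906) D2532 (iv F4923) (iv D2810) F4087 D2255 (iv F4295) (iv F5646) (iv F5654) (iv D2740) (iv F4655) (iv D2586) (iv D2138) D2139 D2589 D3492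
def n5237 : Q := act 5 n3492
theorem D5237 : act 5 n3492 = n5237 := rfl
theorem F8746 : act 2 n5237 = n3511 := d13_1 D5237 (iv D3511) (iv F6110)
def n5238 : Q := act 6 n3492
theorem D5238 : act 6 n3492 = n5238 := rfl
theorem F8747 : act 2 n5238 = n3512 := d14_1 D5238 (iv D3512) (iv F6110)
def n5239 : Q := act 5 n3493
theorem D5239 : act 5 n3493 = n5239 := rfl
theorem F8748 : act 2 n5239 = n3496 := d13_1 D5239 (iv D3496) (iv F6111)
theorem F8749 : act 3 n5239 = n3494 := d16_1 D5239 (iv D3494) D3493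
theorem F8750 : act 4 n5239 = n3494 := d18_1 D5239 (iv D3494) F6112
def n5240 : Q := act 6 n3493
theorem D5240 : act 6 n3493 = n5240 := rfl
theorem F8752 : act 3 n5240 = n3495 := d17_1 D5240 (iv D3495) D3493
theorem F8753 : act 4 n5240 = n3495 := d19_1 D5240 (iv D3495) F6112
def n5241 : Q := act 1 n3494
theorem D5241 : act 1 n3494 = n5241 := rfl
def n5242 : Q := act 6 n3494
theorem D5242 : act 6 n3494 = n5242 := rfl
theorem F8755 : act 5 n5242 = n5211 := d22_2 D3494 D5242 (iv D5211) F6090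
def n5243 : Q := act 1 n3495
theorem D5243 : act 1 n3495 = n5243 := rfl
def n5244 : Q := act 5 n3495
theorem D5244 : act 5 n3495 = n5244 := rfl
theorem F8757 : act 2 n5244 = n3501 := d13_1 D5244 (iv D3501) (iv F6114)
theorem F8758 : act 6 n5244 = n5210 := d20_2 D3495 D5244 (iv D5210) D5211 (iv F8755) (iv D5242) (iv D3494)
def n5245 : Q := act 1 n3496
theorem D5245 : act 1 n3496 = n5245 := rfl
theorem F8760 : act 5 n5245 = n3517 := d9_2 D3496 D5245 (iv D3517) (iv D2601) (iv F4658)
def n5246 : Q := act 6 n3496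
theorem D5246 : act 6 n3496 = n5246 := rfl
theorem F8762 : act 5 n5246 = n5213 := d22_2 D3496 D5246 (iv D5213) F6091
def n5248 : Q := act 5 n3497
theorem D5248 : act 5 n3497 = n5248 := rfl
theorem F8766 : act 4 n5248 = n3501 := d18_1 D5248 (iv D3501) (iv F6116)
theorem F8767 : act 6 n5248 = n5212 := d20_2 D3497 D5248 (iv D5212) D5213 (iv F8762) (iv D5246) (iv D3496)
def n5249 : Q := act 0 n3498
theorem D5249 : act 0 n3498 = n5249 := rfl
theorem F8768 : act 3 n5249 = n3502 := d2_2 (iv F6117) D5249 (iv D3502)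
theorem F8769 : act 5 n5249 = n3519 := d4_2 (iv F6118) D5249 (iv D3519)
def n5250 : Q := act 2 n3498
theorem D5250 : act 2 n3498 = n5250 := rfl
theorem F8770 : act 5 n5250 = n3520 := d13_2 (iv F6118) D5250 (iv D3520)
def n5253 : Q := act 0 n3500
theorem D5253 : act 0 n3500 = n5253 := rfl
theorem F8773 : act 3 n5253 = n3506 := d2_2 (iv F6121) D5253 (iv D3506)
theorem F8774 : act 6 n5253 = n3522 := d5_2 (iv F6122) D5253 (iv D3522)
def n5254 : Q := act 2 n3500
theorem D5254 : act 2 n3500 = n5254 := rfl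
theorem F8775 : act 6 n5254 = n3523 := d14_2 (iv F6122) D5254 (iv D3523)
def n5255 : Q := act 5 n3500
theorem D5255 : act 5 n3500 = n5255 := rfl
theorem F8776 : act 3 n5255 = n3508 := d16_1 D5255 (iv D3508) (iv F6121)
def n5256 : Q := act 1 n3501
theorem D5256 : act 1 n3501 = n5256 := rfl
theorem F8777 : act 3 n5256 = n3509 := d7_2 (iv F6124) D5256 (iv D3509)
def n5257 : Q := act 1 n3502
theorem D5257 : act 1 n3502 = n5257 := rfl
theorem F8778 : act 4 n5257 = n4338 := d8_2 F7761 D5257 F7764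
theorem F8779 : act 2 n4276 = n5257 := d12_3 F8778 (iv D4338) (iv F7258)
theorem F8780 : act 5 n5023 = n5257 := d23_0 (iv F8779) (iv D4276) (iv D3013) F4267 D2356 F4276 F3888 D2393 F4322 F3860 (iv D1878) F3791 D1146 (iv F3923) (iv F4616) (iv F5996) (iv D3398) D3397 D5023
theorem F8781 : act 0 n5257 = n5025 := d4_1 F8780 (iv D5025) D5023
theorem F8782 : act 1 n5096 = n5216 := d0_4 D5257 F8781 F8477 (iv F8564) (iv D5216) (iv D3483) F4653 D2593 D3502
def n5258 : Q := act 2 n3502
theorem D5258 : act 2 n3502 = n5258 := rfl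
theorem F8783 : act 0 n5258 = n3503 := d1_1 D5258 (iv D3503) D3502
theorem F8784 : act 1 n5258 = n4277 := d6_1 D5258 (iv D4277) D4276 F8779 (iv D5257)
theorem F8786 : act 5 n5258 = n3526 := d13_2 (iv F6126) D5258 (iv D3526)
def n5260 : Q := act 6 n3503
theorem D5260 : act 6 n3503 = n5260 := rfl
def n5261 : Q := act 1 n3504
theorem D5261 : act 1 n3504 = n5261 := rfl
theorem F8789 : act 6 n5261 = n3505 := d10_2 D3504 D5261 (iv D3505) (iv D2594) D2593
def n5262 : Q := act 0 n3505
theorem D5262 : act 0 n3505 = n5262 := rfl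
def n5263 : Q := act 2 n3505
theorem D5263 : act 2 n3505 = n5263 := rfl
def n5264 : Q := act 5 n3505
theorem D5264 : act 5 n3505 = n5264 := rfl
theorem F8790 : act 1 n5264 = n5221 := d9_1 D5264 (iv D5221) (iv D3484) (iv F4662) D3505
def n5265 : Q := act 1 n3506
theorem D5265 : act 1 n3506 = n5265 := rfl
def n5266 : Q := act 2 n3506
theorem D5266 : act 2 n3506 = n5266 := rfl
theorem F8792 : act 6 n5266 = n3532 := d14_2 (iv F6128) D5266 (iv D3532)
def n5267 : Q := act 3 n3507
theorem D5267 : act 3 n3507 = n5267 := rfl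
theorem F8793 : act 6 n5267 = n3534 := d17_2 (iv F6129) D5267 (iv D3534)
def n5268 : Q := act 5 n3507
theorem D5268 : act 5 n3507 = n5268 := rfl
def n5269 : Q := act 1 n3508
theorem D5269 : act 1 n3508 = n5269 := rfl
theorem F8795 : act 5 n5269 = n3509 := d9_2 D3508 D5269 (iv D3509) (iv D2596) D2595
def n5270 : Q := act 0 n3509
theorem D5270 : act 0 n3509 = n5270 := rfl
def n5272 : Q := act 6 n3509
theorem D5272 : act 6 n3509 = n5272 := rfl
theorem F8796 : act 1 n5272 = n5218 := d10_1 D5272 (iv D5218) (iv D3483) (iv F4665) D3509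
def n5273 : Q := act 5 n3510
theorem D5273 : act 5 n3510 = n5273 := rfl
theorem F8797 : act 0 n5273 = n4062 := d4_1 D5273 (iv D4062) (iv F6130)
def n5274 : Q := act 6 n3510
theorem D5274 : act 6 n3510 = n5274 := rfl
theorem F8800 : act 0 n5274 = n4063 := d5_1 D5274 (iv D4063) (iv F6130)
theorem F8801 : act 3 n5274 = n4060 := d17_1 D5274 (iv D4060) (iv F6132)
theorem F8802 : act 4 n5274 = n3512 := d19_1 D5274 (iv D3512) D3510
def n5275 : Q := act 1 n3511
theorem D5275 : act 1 n3511 = n5275 := rfl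
theorem F8804 : act 5 n5275 = n3515 := d9_2 D3511 D5275 (iv D3515) (iv D2599) D2597
def n5277 : Q := act 1 n3512
theorem D5277 : act 1 n3512 = n5277 := rfl
theorem F8808 : act 6 n5277 = n3516 := d10_2 D3512 D5277 (iv D3516) (iv D2600) D2597
def n5278 : Q := act 5 n3512
theorem D5278 : act 5 n3512 = n5278 := rfl
def n5279 : Q := act 1 n3513
theorem D5279 : act 1 n3513 = n5279 := rfl
theorem F8812 : act 4 n5279 = n3515 := d8_2 (iv F6137) D5279 (iv D3515)
def n5283 : Q := act 6 n3515
theorem D5283 : act 6 n3515 = n5283 := rfl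
def n5284 : Q := act 0 n3516
theorem D5284 : act 0 n3516 = n5284 := rfl
theorem F8817 : act 3 n5284 = n4634 := d2_2 (iv F6142) D5284 (iv D4634)
def n5285 : Q := act 2 n3516
theorem D5285 : act 2 n3516 = n5285 := rfl
theorem F8818 : act 1 n5285 = n3523 := d6_1 D5285 (iv D3523) (iv D2604) (iv F4673) D3516
def n5286 : Q := act 5 n3516
theorem D5286 : act 5 n3516 = n5286 := rfl
theorem F8819 : act 3 n5286 = n4636 := d16_1 D5286 (iv D4636) (iv F6142)
def n5287 : Q := act 0 n3517
theorem D5287 : act 0 n3517 = n5287 := rfl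
theorem F8820 : act 4 n5287 = n3519 := d3_2 (iv F6143) D5287 (iv D3519)
def n5288 : Q := act 2 n3517
theorem D5288 : act 2 n3517 = n5288 := rfl
theorem F8821 : act 4 n5288 = n3520 := d12_2 (iv F6143) D5288 (iv D3520)
def n5289 : Q := act 6 n3517
theorem D5289 : act 6 n3517 = n5289 := rfl
def n5292 : Q := act 5 n3518
theorem D5292 : act 5 n3518 = n5292 := rfl
theorem F8825 : act 4 n5292 = n3524 := d18_1 D5292 (iv D3524) (iv F6144)
def n5293 : Q := act 1 n3519
theorem D5293 : act 1 n3519 = n5293 := rfl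
theorem F8826 : act 3 n5293 = n3525 := d7_2 (iv F6145) D5293 (iv D3525)
def n5295 : Q := act 6 n3519
theorem D5295 : act 6 n3519 = n5295 := rfl
theorem F8829 : act 3 n5295 = n3527 := d17_1 D5295 (iv D3527) (iv F6145)
def n5297 : Q := act 6 n3520
theorem D5297 : act 6 n3520 = n5297 := rfl
theorem F8831 : act 2 n5297 = n3521 := d14_1 D5297 (iv D3521) D3520
def n5298 : Q := act 5 n3521
theorem D5298 : act 5 n3521 = n5298 := rfl
theorem F8833 : act 3 n5298 = n3530 := d16_1 D5298 (iv D3530) (iv F6146)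
def n5299 : Q := act 1 n3522
theorem D5299 : act 1 n3522 = n5299 := rfl
theorem F8835 : act 3 n5299 = n3531 := d7_2 (iv F6147) D5299 (iv D3531)
def n5300 : Q := act 2 n3522
theorem D5300 : act 2 n3522 = n5300 := rfl
theorem F8836 : act 0 n5300 = n3523 := d1_1 D5300 (iv D3523) D3522
def n5301 : Q := act 5 n3522
theorem D5301 : act 5 n3522 = n5301 := rfl
theorem F8837 : act 0 n5301 = n3524 := d4_1 D5301 (iv D3524) D3522
theorem F8838 : act 3 n5301 = n3533 := d16_1 D5301 (iv D3533) (iv F6147)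
theorem F8839 : act 6 n5301 = n5255 := d22_1 D5301 (iv D5255) F6122 D3522
def n5302 : Q := act 3 n3523
theorem D5302 : act 3 n3523 = n5302 := rfl
def n5303 : Q := act 5 n3523
theorem D5303 : act 5 n3523 = n5303 := rfl
theorem F8840 : act 2 n5303 = n3524 := d13_1 D5303 (iv D3524) D3523
def n5304 : Q := act 6 n3524
theorem D5304 : act 6 n3524 = n5304 := rfl
theorem F8842 : act 3 n5304 = n3536 := d17_1 D5304 (iv D3536) (iv F6148)
theorem F8843 : act 5 n5304 = n5253 := d20_1 D5304 F8774 D5301 F8839 (iv D5255) F6122 D3524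
def n5305 : Q := act 0 n3525
theorem D5305 : act 0 n3525 = n5305 := rfl
theorem F8844 : act 1 n5305 = n3577 := d0_2 D3525 D5305 (iv D3577) (iv D2633) (iv D2158) (iv D1186) (iv F1929) D2146 D2605
def n5306 : Q := act 2 n3525
theorem D5306 : act 2 n3525 = n5306 := rfl
def n5307 : Q := act 5 n3525
theorem D5307 : act 5 n3525 = n5307 := rfl
theorem F8845 : act 1 n5307 = n5023 := d9_1 D5307 F8780 (iv D5257) F6126 D3525
theorem F8846 : act 0 n4969 = n5307 := d0_9 F8845 (iv D5023) (iv D3397) (iv D2542) (iv D2112) (iv F3904) D2530 D3370 D4969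
theorem F8847 : act 5 n5305 = n4969 := d4_0 F8846 (iv D5307) D5305
def n5308 : Q := act 6 n3525
theorem D5308 : act 6 n3525 = n5308 := rfl
def n5309 : Q := act 1 n3526
theorem D5309 : act 1 n3526 = n5309 := rfl
theorem F8848 : act 4 n5309 = n4381 := d8_2 F7786 D5309 F7788
theorem F8849 : act 5 n5309 = n4297 := d9_2 F8786 D5309 (iv D4297) (iv F7261) (iv F8784)
def n5310 : Q := act 3 n3526
theorem D5310 : act 3 n3526 = n5310 := rfl
def n5311 : Q := act 6 n3526
theorem D5311 : act 6 n3526 = n5311 := rfl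
theorem F8853 : act 5 n5311 = n5260 := d22_2 F8786 D5311 (iv D5260) (iv F8783)
def n5312 : Q := act 1 n3527
theorem D5312 : act 1 n3527 = n5312 := rfl
def n5314 : Q := act 4 n3528
theorem D5314 : act 4 n3528 = n5314 := rfl
def n5316 : Q := act 1 n3529
theorem D5316 : act 1 n3529 = n5316 := rfl
theorem F8856 : act 6 n5316 = n3831 := d10_2 D3529 D5316 (iv D3831) (iv D2760) (iv F4681)
def n5317 : Q := act 5 n3529
theorem D5317 : act 5 n3529 = n5317 := rfl
theorem F8859 : act 6 n5317 = n5258 := d20_2 D3529 D5317 F8786 D5311 F8853 (iv D5260) F6127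
def n5318 : Q := act 1 n3530
theorem D5318 : act 1 n3530 = n5318 := rfl
def n5319 : Q := act 0 n3531
theorem D5319 : act 0 n3531 = n5319 := rfl
theorem F8860 : act 1 n5319 = n3592 := d0_2 D3531 D5319 (iv D3592) (iv D2640) (iv D2162) (iv D1188) (iv F1931) D2147 D2608
def n5320 : Q := act 2 n3531
theorem D5320 : act 2 n3531 = n5320 := rfl
def n5321 : Q := act 5 n3531
theorem D5321 : act 5 n3531 = n5321 := rfl
def n5322 : Q := act 6 n3531
theorem D5322 : act 6 n3531 = n5322 := rfl
def n5323 : Q := act 1 n3532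
theorem D5323 : act 1 n3532 = n5323 := rfl
def n5324 : Q := act 3 n3532
theorem D5324 : act 3 n3532 = n5324 := rfl
theorem F8861 : act 0 n5324 = n3534 := d2_1 D5324 (iv D3534) (iv F6156)
def n5325 : Q := act 5 n3532
theorem D5325 : act 5 n3532 = n5325 := rfl
theorem F8864 : act 6 n5325 = n5268 := d22_1 D5325 (iv D5268) F6129 (iv F6156)
def n5326 : Q := act 1 n3533
theorem D5326 : act 1 n3533 = n5326 := rfl
def n5327 : Q := act 2 n3534
theorem D5327 : act 2 n3534 = n5327 := rfl
def n5330 : Q := act 1 n3535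
theorem D5330 : act 1 n3535 = n5330 := rfl
theorem F8867 : act 5 n5330 = n3841 := d9_2 D3535 D5330 (iv D3841) (iv D2766) (iv F4682)
def n5331 : Q := act 6 n3535
theorem D5331 : act 6 n3535 = n5331 := rfl
theorem F8869 : act 2 n5331 = n3536 := d14_1 D5331 (iv D3536) (iv F6160)
def n5332 : Q := act 1 n3536
theorem D5332 : act 1 n3536 = n5332 := rfl
def n5333 : Q := act 1 n3537
theorem D5333 : act 1 n3537 = n5333 := rfl
theorem F8872 : act 4 n5333 = n3539 := d8_2 (iv F6166) D5333 (iv D3539)
def n5334 : Q := act 1 n3538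
theorem D5334 : act 1 n3538 = n5334 := rfl
theorem F8873 : act 3 n5334 = n4041 := d7_2 (iv F6169) D5334 (iv D4041)
theorem F8874 : act 4 n5334 = n3540 := d8_2 (iv F6170) D5334 (iv D3540)
def n5335 : Q := act 0 n3539
theorem D5335 : act 0 n3539 = n5335 := rfl
theorem F8875 : act 3 n5335 = n3545 := d2_2 (iv F6171) D5335 (iv D3545)
def n5336 : Q := act 2 n3539
theorem D5336 : act 2 n3539 = n5336 := rfl
theorem F8876 : act 1 n5336 = n4605 := d6_1 D5336 (iv D4605) (iv D3183) (iv F4686) D3539
def n5337 : Q := act 6 n3539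
theorem D5337 : act 6 n3539 = n5337 := rfl
def n5338 : Q := act 0 n3540
theorem D5338 : act 0 n3540 = n5338 := rfl
theorem F8878 : act 3 n5338 = n3549 := d2_2 (iv F6172) D5338 (iv D3549)
def n5341 : Q := act 0 n3541
theorem D5341 : act 0 n3541 = n5341 := rfl
theorem F8881 : act 4 n5341 = n3545 := d3_2 (iv F6173) D5341 (iv D3545)
def n5342 : Q := act 2 n3541
theorem D5342 : act 2 n3541 = n5342 := rfl
theorem F8882 : act 1 n5342 = n3554 := d6_1 D5342 (iv D3554) (iv D2621) (iv F4691) D3541
theorem F8883 : act 4 n5342 = n3546 := d12_2 (iv F6173) D5342 (iv D3546)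
def n5343 : Q := act 6 n3541
theorem D5343 : act 6 n3541 = n5343 := rfl
def n5344 : Q := act 1 n3542
theorem D5344 : act 1 n3542 = n5344 := rfl
theorem F8885 : act 4 n5344 = n3548 := d8_2 (iv F6175) D5344 (iv D3548)
def n5345 : Q := act 0 n3543
theorem D5345 : act 0 n3543 = n5345 := rfl
theorem F8886 : act 4 n5345 = n3549 := d3_2 (iv F6177) D5345 (iv D3549)
def n5346 : Q := act 2 n3543
theorem D5346 : act 2 n3543 = n5346 := rfl
theorem F8887 : act 1 n5346 = n3558 := d6_1 D5346 (iv D3558) (iv D2623) (iv F4693) D3543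
theorem F8888 : act 4 n5346 = n3550 := d12_2 (iv F6177) D5346 (iv D3550)
def n5348 : Q := act 1 n3544
theorem D5348 : act 1 n3544 = n5348 := rfl
theorem F8890 : act 4 n5348 = n3552 := d8_2 (iv F6180) D5348 (iv D3552)
def n5349 : Q := act 1 n3545
theorem D5349 : act 1 n3545 = n5349 := rfl
def n5350 : Q := act 2 n3545
theorem D5350 : act 2 n3545 = n5350 := rfl
theorem F8891 : act 0 n5350 = n3546 := d1_1 D5350 (iv D3546) D3545
def n5351 : Q := act 6 n3545
theorem D5351 : act 6 n3545 = n5351 := rfl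
theorem F8893 : act 5 n5351 = n4993 := d22_2 F8439 D5351 (iv D4993) D4991
def n5352 : Q := act 3 n3546
theorem D5352 : act 3 n3546 = n5352 := rfl
theorem F8894 : act 1 n5352 = n3563 := d7_1 D5352 (iv D3563) (iv F6182)
def n5353 : Q := act 6 n3546
theorem D5353 : act 6 n3546 = n5353 := rfl
def n5354 : Q := act 1 n3547
theorem D5354 : act 1 n3547 = n5354 := rfl
theorem F8896 : act 6 n5354 = n3548 := d10_2 D3547 D5354 (iv D3548) (iv D2618) D2617
def n5356 : Q := act 0 n3548
theorem D5356 : act 0 n3548 = n5356 := rfl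
def n5357 : Q := act 2 n3548
theorem D5357 : act 2 n3548 = n5357 := rfl
theorem F8899 : act 1 n5357 = n3567 := d6_1 D5357 (iv D3567) (iv D2628) (iv F4695) D3548
def n5358 : Q := act 5 n3548
theorem D5358 : act 5 n3548 = n5358 := rfl
theorem F8900 : act 1 n5358 = n5286 := d9_1 D5358 (iv D5286) (iv D3516) (iv F4696) D3548
def n5359 : Q := act 1 n3549
theorem D5359 : act 1 n3549 = n5359 := rfl
def n5364 : Q := act 1 n3551
theorem D5364 : act 1 n3551 = n5364 := rfl
theorem F8906 : act 5 n5364 = n3552 := d9_2 D3551 D5364 (iv D3552) (iv D2620) D2619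
def n5366 : Q := act 0 n3552
theorem D5366 : act 0 n3552 = n5366 := rfl
def n5368 : Q := act 6 n3552
theorem D5368 : act 6 n3552 = n5368 := rfl
theorem F8910 : act 1 n5368 = n5283 := d10_1 D5368 (iv D5283) (iv D3515) (iv F4699) D3552
def n5369 : Q := act 1 n3553
theorem D5369 : act 1 n3553 = n5369 := rfl
theorem F8911 : act 4 n5369 = n3561 := d8_2 (iv F6184) D5369 (iv D3561)
def n5370 : Q := act 2 n3553
theorem D5370 : act 2 n3553 = n5370 := rfl
theorem F8912 : act 0 n5370 = n3554 := d1_1 D5370 (iv D3554) D3553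
theorem F8913 : act 4 n5370 = n3562 := d12_2 (iv F6184) D5370 (iv D3562)
theorem F8914 : act 5 n5370 = n3606 := d13_2 (iv F6185) D5370 (iv D3606)
def n5371 : Q := act 3 n3554
theorem D5371 : act 3 n3554 = n5371 := rfl
theorem F8915 : act 5 n5371 = n3608 := d16_2 (iv F6187) D5371 (iv D3608)
def n5372 : Q := act 6 n3554
theorem D5372 : act 6 n3554 = n5372 := rfl
theorem F8916 : act 2 n5372 = n3555 := d14_1 D5372 (iv D3555) D3554
def n5373 : Q := act 1 n3555
theorem D5373 : act 1 n3555 = n5373 := rfl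
theorem F8918 : act 4 n5373 = n3565 := d8_2 (iv F6188) D5373 (iv D3565)
theorem F8919 : act 6 n5373 = n3556 := d10_2 D3555 D5373 (iv D3556) (iv D2622) D2621
def n5374 : Q := act 0 n3556
theorem D5374 : act 0 n3556 = n5374 := rfl
theorem F8920 : act 4 n5374 = n3566 := d3_2 (iv F6189) D5374 (iv D3566)
def n5375 : Q := act 2 n3556
theorem D5375 : act 2 n3556 = n5375 := rfl
theorem F8921 : act 4 n5375 = n3567 := d12_2 (iv F6189) D5375 (iv D3567)
def n5376 : Q := act 5 n3556
theorem D5376 : act 5 n3556 = n5376 := rfl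
theorem F8922 : act 1 n5376 = n5292 := d9_1 D5376 (iv D5292) (iv D3518) (iv F4703) D3556
theorem F8923 : act 4 n5376 = n3568 := d18_1 D5376 (iv D3568) (iv F6189)
def n5377 : Q := act 1 n3557
theorem D5377 : act 1 n3557 = n5377 := rfl
theorem F8924 : act 4 n5377 = n3569 := d8_2 (iv F6190) D5377 (iv D3569)
def n5378 : Q := act 2 n3557
theorem D5378 : act 2 n3557 = n5378 := rfl
theorem F8926 : act 4 n5378 = n3570 := d12_2 (iv F6190) D5378 (iv D3570)
def n5380 : Q := act 5 n3558
theorem D5380 : act 5 n3558 = n5380 := rfl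
theorem F8929 : act 2 n5380 = n3559 := d13_1 D5380 (iv D3559) D3558
theorem F8930 : act 4 n5380 = n3572 := d18_1 D5380 (iv D3572) (iv F6192)
def n5384 : Q := act 6 n3560
theorem D5384 : act 6 n3560 = n5384 := rfl
theorem F8935 : act 1 n5384 = n5289 := d10_1 D5384 (iv D5289) (iv D3517) (iv F4708) D3560
def n5385 : Q := act 0 n3561
theorem D5385 : act 0 n3561 = n5385 := rfl
theorem F8937 : act 3 n5385 = n3577 := d2_2 (iv F6196) D5385 (iv D3577)
def n5387 : Q := act 5 n3561
theorem D5387 : act 5 n3561 = n5387 := rfl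
theorem F8938 : act 1 n5387 = n3627 := d9_1 D5387 (iv D3627) (iv D2653) (iv F4710) D3561
def n5388 : Q := act 6 n3561
theorem D5388 : act 6 n3561 = n5388 := rfl
def n5389 : Q := act 1 n3562
theorem D5389 : act 1 n3562 = n5389 := rfl
def n5390 : Q := act 4 n3563
theorem D5390 : act 4 n3563 = n5390 := rfl
theorem F8941 : act 5 n5390 = n3632 := d18_2 (iv F6199) D5390 (iv D3632)
def n5391 : Q := act 6 n3563
theorem D5391 : act 6 n3563 = n5391 := rfl
theorem F8943 : act 3 n5391 = n3564 := d17_1 D5391 (iv D3564) D3563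
def n5392 : Q := act 1 n3564
theorem D5392 : act 1 n3564 = n5392 := rfl
def n5393 : Q := act 0 n3565
theorem D5393 : act 0 n3565 = n5393 := rfl
theorem F8946 : act 6 n5393 = n3566 := d5_2 (iv F6202) D5393 (iv D3566)
def n5394 : Q := act 2 n3565
theorem D5394 : act 2 n3565 = n5394 := rfl
theorem F8947 : act 6 n5394 = n3567 := d14_2 (iv F6202) D5394 (iv D3567)
def n5395 : Q := act 5 n3565
theorem D5395 : act 5 n3565 = n5395 := rfl
def n5396 : Q := act 1 n3566
theorem D5396 : act 1 n3566 = n5396 := rfl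
theorem F8949 : act 3 n5396 = n3586 := d7_2 (iv F6203) D5396 (iv D3586)
def n5397 : Q := act 2 n3566
theorem D5397 : act 2 n3566 = n5397 := rfl
theorem F8950 : act 0 n5397 = n3567 := d1_1 D5397 (iv D3567) D3566
def n5398 : Q := act 5 n3566
theorem D5398 : act 5 n3566 = n5398 := rfl
theorem F8951 : act 0 n5398 = n3568 := d4_1 D5398 (iv D3568) D3566
theorem F8953 : act 6 n5398 = n5395 := d22_1 D5398 (iv D5395) F6202 D3566
def n5399 : Q := act 3 n3567
theorem D5399 : act 3 n3567 = n5399 := rfl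
def n5400 : Q := act 5 n3567
theorem D5400 : act 5 n3567 = n5400 := rfl
theorem F8954 : act 2 n5400 = n3568 := d13_1 D5400 (iv D3568) D3567
def n5401 : Q := act 6 n3568
theorem D5401 : act 6 n3568 = n5401 := rfl
def n5402 : Q := act 0 n3569
theorem D5402 : act 0 n3569 = n5402 := rfl
theorem F8958 : act 3 n5402 = n3592 := d2_2 (iv F6206) D5402 (iv D3592)
def n5403 : Q := act 2 n3569
theorem D5403 : act 2 n3569 = n5403 := rfl
def n5404 : Q := act 5 n3569
theorem D5404 : act 5 n3569 = n5404 := rfl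
def n5405 : Q := act 6 n3569
theorem D5405 : act 6 n3569 = n5405 := rfl
theorem F8961 : act 3 n5405 = n3595 := d17_1 D5405 (iv D3595) (iv F6206)
def n5406 : Q := act 1 n3570
theorem D5406 : act 1 n3570 = n5406 := rfl
def n5411 : Q := act 0 n3573
theorem D5411 : act 0 n3573 = n5411 := rfl
theorem F8968 : act 5 n5411 = n3574 := d4_2 (iv F6212) D5411 (iv D3574)
def n5413 : Q := act 6 n3573
theorem D5413 : act 6 n3573 = n5413 := rfl
def n5414 : Q := act 1 n3574
theorem D5414 : act 1 n3574 = n5414 := rfl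
theorem F8971 : act 3 n5414 = n3599 := d7_2 (iv F6213) D5414 (iv D3599)
def n5416 : Q := act 6 n3574
theorem D5416 : act 6 n3574 = n5416 := rfl
theorem F8973 : act 0 n5416 = n3576 := d5_1 D5416 (iv D3576) D3574
theorem F8975 : act 5 n5416 = n5413 := d22_2 F8968 D5416 (iv D5413) D5411
def n5419 : Q := act 5 n3576
theorem D5419 : act 5 n3576 = n5419 := rfl
theorem F8977 : act 0 n5419 = n5413 := d4_1 D5419 (iv F8975) F8973
def n5420 : Q := act 2 n3577
theorem D5420 : act 2 n3577 = n5420 := rfl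
theorem F8980 : act 0 n5420 = n3578 := d1_1 D5420 (iv D3578) D3577
def n5421 : Q := act 5 n3577
theorem D5421 : act 5 n3577 = n5421 := rfl
theorem F8981 : act 0 n5421 = n3579 := d4_1 D5421 (iv D3579) D3577
theorem F8982 : act 1 n5421 = n4949 := d9_1 D5421 F8379 D4969 (iv F8847) F8844
def n5422 : Q := act 6 n3577
theorem D5422 : act 6 n3577 = n5422 := rfl
theorem F8984 : act 1 n5137 = n5422 := d24_14 (iv D5422) D5421 F8982 (iv F8402) (iv D4974) (iv F6002) (iv D3409) (iv F6001) (iv D3406) (iv F4624) (iv D2564) D2563 D3445 D5137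
def n5423 : Q := act 1 n3578
theorem D5423 : act 1 n3578 = n5423 := rfl
theorem F8985 : act 2 n5423 = n3581 := d6_2 D3578 D5423 (iv D3581) (iv D2634) D2633
def n5425 : Q := act 5 n3578
theorem D5425 : act 5 n3578 = n5425 := rfl
theorem F8986 : act 2 n5425 = n3579 := d13_1 D5425 (iv D3579) D3578
def n5427 : Q := act 6 n3579
theorem D5427 : act 6 n3579 = n5427 := rfl
theorem F8988 : act 5 n5427 = n5422 := d22_2 D3579 D5427 (iv D5422) (iv D3577)
def n5428 : Q := act 5 n3580
theorem D5428 : act 5 n3580 = n5428 := rfl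
theorem F8990 : act 6 n5428 = n5421 := d20_2 D3580 D5428 (iv D5421) D5422 (iv F8988) (iv D5427) (iv D3579)
def n5429 : Q := act 0 n3581
theorem D5429 : act 0 n3581 = n5429 := rfl
theorem F8991 : act 3 n5429 = n4337 := d2_2 (iv F6217) D5429 (iv D4337)
def n5430 : Q := act 5 n3581
theorem D5430 : act 5 n3581 = n5430 := rfl
theorem F8992 : act 1 n5430 = n3679 := d9_1 D5430 (iv D3679) (iv D2677) (iv F4720) D3581
def n5431 : Q := act 6 n3581
theorem D5431 : act 6 n3581 = n5431 := rfl
theorem F8994 : act 3 n5431 = n4340 := d17_1 D5431 (iv D4340) (iv F6217)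
def n5432 : Q := act 0 n3582
theorem D5432 : act 0 n3582 = n5432 := rfl
theorem F8996 : act 6 n5432 = n3855 := d5_2 (iv F6219) D5432 (iv D3855)
def n5433 : Q := act 2 n3582
theorem D5433 : act 2 n3582 = n5433 := rfl
theorem F8997 : act 1 n5433 = n3584 := d6_1 D5433 (iv D3584) (iv D2636) (iv F4722) D3582
def n5434 : Q := act 5 n3582
theorem D5434 : act 5 n3582 = n5434 := rfl
def n5435 : Q := act 1 n3583
theorem D5435 : act 1 n3583 = n5435 := rfl
def n5436 : Q := act 2 n3583
theorem D5436 : act 2 n3583 = n5436 := rfl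
theorem F9000 : act 0 n5436 = n3584 := d1_1 D5436 (iv D3584) D3583
theorem F9001 : act 6 n5436 = n3587 := d14_2 (iv F6220) D5436 (iv D3587)
def n5437 : Q := act 3 n3584
theorem D5437 : act 3 n3584 = n5437 := rfl
theorem F9002 : act 6 n5437 = n3589 := d17_2 (iv F6221) D5437 (iv D3589)
def n5438 : Q := act 5 n3584
theorem D5438 : act 5 n3584 = n5438 := rfl
def n5439 : Q := act 0 n3586
theorem D5439 : act 0 n3586 = n5439 := rfl
theorem F9004 : act 6 n5135 = n5439 := d22_3 F8605 (iv D5140) (iv F8600) (iv D5439)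
def n5440 : Q := act 2 n3586
theorem D5440 : act 2 n3586 = n5440 := rfl
def n5441 : Q := act 6 n3586
theorem D5441 : act 6 n3586 = n5441 := rfl
theorem F9005 : act 0 n5441 = n5135 := d5_1 D5441 F9004 (iv D5439)
theorem F9006 : act 5 n5138 = n5441 := d22_0 (iv D5441) F8605 (iv D5140) D5138
theorem F9007 : act 2 n5441 = n4568 := d23_1 F9006 (iv D4568) F5512 (iv D2422) (iv F4204) (iv D2313) (iv F4175) (iv F4203) F4201 F3792 (iv F1429) (iv D892) (iv F1422) D1748 D2336 D2987 F5234 D3446 D5138
theorem F9009 : act 6 n4568 = n5440 := d14_2 D5441 F9007 (iv D5440)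
theorem F9010 : act 4 n5440 = n5140 := d19_1 F9009 (iv D5140) (iv F7709)
theorem F9011 : act 2 n5140 = n4669 := d12_1 F9010 F7882 D5440
theorem F9012 : act 5 n4669 = n5440 := d18_0 F9010 (iv F8605) (iv F7882)
theorem F9013 : act 6 n4669 = n5139 := d14_2 D5140 F9011 (iv D5139)
def n5442 : Q := act 1 n3587
theorem D5442 : act 1 n3587 = n5442 := rfl
def n5443 : Q := act 3 n3587
theorem D5443 : act 3 n3587 = n5443 := rfl
theorem F9014 : act 0 n5443 = n3589 := d2_1 D5443 (iv D3589) (iv F6222)
def n5444 : Q := act 5 n3587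
theorem D5444 : act 5 n3587 = n5444 := rfl
theorem F9015 : act 0 n5444 = n3590 := d4_1 D5444 (iv D3590) (iv F6222)
theorem F9016 : act 2 n5444 = n3588 := d13_1 D5444 (iv D3588) D3587
def n5445 : Q := act 2 n3589
theorem D5445 : act 2 n3589 = n5445 := rfl
def n5446 : Q := act 4 n3589
theorem D5446 : act 4 n3589 = n5446 := rfl
theorem F9018 : act 1 n5446 = n3866 := d8_1 D5446 (iv D3866) (iv F6225)
def n5447 : Q := act 5 n3589
theorem D5447 : act 5 n3589 = n5447 := rfl
theorem F9019 : act 3 n5447 = n3590 := d16_1 D5447 (iv D3590) D3589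
def n5448 : Q := act 1 n3590
theorem D5448 : act 1 n3590 = n5448 := rfl
theorem F9020 : act 2 n5448 = n5330 := d6_2 (iv F6226) D5448 (iv D5330) F6160 (iv F4726)
theorem F9021 : act 5 n5448 = n3868 := d9_2 D3590 D5448 (iv D3868) (iv D2781) (iv F4725)
def n5449 : Q := act 6 n3590
theorem D5449 : act 6 n3590 = n5449 := rfl
def n5450 : Q := act 1 n3591
theorem D5450 : act 1 n3591 = n5450 := rfl
theorem F9025 : act 6 n5450 = n5332 := d10_2 D3591 D5450 (iv D5332) (iv D3536) (iv F4726)
def n5451 : Q := act 2 n3592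
theorem D5451 : act 2 n3592 = n5451 := rfl
def n5452 : Q := act 5 n3592
theorem D5452 : act 5 n3592 = n5452 := rfl
def n5453 : Q := act 6 n3592
theorem D5453 : act 6 n3592 = n5453 := rfl
theorem F9028 : act 0 n5453 = n3595 := d5_1 D5453 (iv D3595) D3592
def n5454 : Q := act 3 n3593
theorem D5454 : act 3 n3593 = n5454 := rfl
def n5456 : Q := act 6 n3593
theorem D5456 : act 6 n3593 = n5456 := rfl
theorem F9031 : act 2 n5456 = n3595 := d14_1 D5456 (iv D3595) D3593
def n5457 : Q := act 6 n3594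
theorem D5457 : act 6 n3594 = n5457 := rfl
theorem F9032 : act 5 n5457 = n5453 := d22_2 D3594 D5457 (iv D5453) (iv D3592)
def n5458 : Q := act 5 n3595
theorem D5458 : act 5 n3595 = n5458 := rfl
theorem F9033 : act 0 n5458 = n5457 := d4_1 D5458 F9032 F9028
theorem F9034 : act 6 n5458 = n5452 := d20_2 D3595 D5458 (iv D5452) D5453 (iv F9032) (iv D5457) (iv D3594)
def n5459 : Q := act 1 n3596
theorem D5459 : act 1 n3596 = n5459 := rfl
def n5463 : Q := act 0 n3599
theorem D5463 : act 0 n3599 = n5463 := rfl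
theorem F9040 : act 1 n5463 = n5439 := d0_2 D3599 D5463 (iv D5439) (iv D3586) (iv D2637) (iv D2161) (iv F1941) D2164 D2642
theorem F9041 : act 5 n5463 = n5103 := d22_0 F8570 D5115 (iv F8581) D5463
def n5464 : Q := act 2 n3599
theorem D5464 : act 2 n3599 = n5464 := rfl
def n5465 : Q := act 5 n3599
theorem D5465 : act 5 n3599 = n5465 := rfl
theorem F9042 : act 0 n5465 = n5103 := d4_1 D5465 (iv F9041) (iv D5463)
theorem F9043 : act 6 n5465 = n5113 := d22_3 D5115 (iv F8581) D5465 (iv D5113)
def n5474 : Q := act 1 n3604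
theorem D5474 : act 1 n3604 = n5474 := rfl
theorem F9055 : act 5 n5474 = n5318 := d9_2 D3604 D5474 (iv D5318) (iv D3530) (iv F4729)
def n5475 : Q := act 0 n3605
theorem D5475 : act 0 n3605 = n5475 := rfl
theorem F9056 : act 4 n5475 = n3625 := d3_2 (iv F6241) D5475 (iv D3625)
def n5476 : Q := act 2 n3605
theorem D5476 : act 2 n3605 = n5476 := rfl
theorem F9057 : act 4 n5476 = n3626 := d12_2 (iv F6241) D5476 (iv D3626)
def n5477 : Q := act 5 n3605
theorem D5477 : act 5 n3605 = n5477 := rfl
def n5478 : Q := act 6 n3605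
theorem D5478 : act 6 n3605 = n5478 := rfl
theorem F9059 : act 4 n5478 = n3628 := d19_1 D5478 (iv D3628) (iv F6241)
def n5479 : Q := act 1 n3606
theorem D5479 : act 1 n3606 = n5479 := rfl
def n5480 : Q := act 3 n3606
theorem D5480 : act 3 n3606 = n5480 := rfl
theorem F9061 : act 0 n5480 = n3608 := d2_1 D5480 (iv D3608) (iv F6242)
def n5481 : Q := act 6 n3606
theorem D5481 : act 6 n3606 = n5481 := rfl
theorem F9063 : act 2 n5481 = n3607 := d14_1 D5481 (iv D3607) D3606
def n5482 : Q := act 1 n3607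
theorem D5482 : act 1 n3607 = n5482 := rfl
def n5483 : Q := act 2 n3608
theorem D5483 : act 2 n3608 = n5483 := rfl
def n5484 : Q := act 4 n3608
theorem D5484 : act 4 n3608 = n5484 := rfl
theorem F9067 : act 3 n5484 = n3632 := d15_1 D5484 (iv D3632) (iv D2656) (iv F4731) D3608
def n5485 : Q := act 6 n3608
theorem D5485 : act 6 n3608 = n5485 := rfl
def n5486 : Q := act 1 n3609
theorem D5486 : act 1 n3609 = n5486 := rfl
theorem F9069 : act 4 n5486 = n3634 := d8_2 (iv F6248) D5486 (iv D3634)
def n5488 : Q := act 0 n3610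
theorem D5488 : act 0 n3610 = n5488 := rfl
theorem F9074 : act 4 n5488 = n3636 := d3_2 (iv F6249) D5488 (iv D3636)
theorem F9075 : act 6 n5488 = n3612 := d5_2 (iv F6250) D5488 (iv D3612)
def n5489 : Q := act 2 n3610
theorem D5489 : act 2 n3610 = n5489 := rfl
def n5490 : Q := act 5 n3610
theorem D5490 : act 5 n3610 = n5490 := rfl
theorem F9078 : act 4 n5490 = n3638 := d18_1 D5490 (iv D3638) (iv F6249)
def n5492 : Q := act 1 n3612
theorem D5492 : act 1 n3612 = n5492 := rfl
theorem F9080 : act 4 n5492 = n3640 := d8_2 (iv F6254) D5492 (iv D3640)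
def n5493 : Q := act 2 n3612
theorem D5493 : act 2 n3612 = n5493 := rfl
theorem F9081 : act 0 n5493 = n3613 := d1_1 D5493 (iv D3613) D3612
theorem F9082 : act 4 n5493 = n3641 := d12_2 (iv F6254) D5493 (iv D3641)
def n5494 : Q := act 5 n3612
theorem D5494 : act 5 n3612 = n5494 := rfl
theorem F9083 : act 0 n5494 = n3614 := d4_1 D5494 (iv D3614) D3612
theorem F9084 : act 4 n5494 = n3642 := d18_1 D5494 (iv D3642) (iv F6254)
def n5497 : Q := act 6 n3614
theorem D5497 : act 6 n3614 = n5497 := rfl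
theorem F9089 : act 4 n5497 = n3645 := d19_1 D5497 (iv D3645) (iv F6257)
def n5505 : Q := act 1 n3617
theorem D5505 : act 1 n3617 = n5505 := rfl
theorem F9101 : act 4 n5505 = n3653 := d8_2 (iv F6262) D5505 (iv D3653)
def n5511 : Q := act 0 n3620
theorem D5511 : act 0 n3620 = n5511 := rfl
theorem F9109 : act 4 n5511 = n3658 := d3_2 (iv F6266) D5511 (iv D3658)
theorem F9110 : act 5 n5511 = n3622 := d4_2 (iv F6267) D5511 (iv D3622)
def n5512 : Q := act 2 n3620
theorem D5512 : act 2 n3620 = n5512 := rfl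
theorem F9111 : act 4 n5512 = n3659 := d12_2 (iv F6266) D5512 (iv D3659)
def n5513 : Q := act 6 n3620
theorem D5513 : act 6 n3620 = n5513 := rfl
theorem F9113 : act 4 n5513 = n3660 := d19_1 D5513 (iv D3660) (iv F6266)
def n5515 : Q := act 1 n3622
theorem D5515 : act 1 n3622 = n5515 := rfl
def n5516 : Q := act 2 n3622
theorem D5516 : act 2 n3622 = n5516 := rfl
theorem F9116 : act 0 n5516 = n3623 := d1_1 D5516 (iv D3623) D3622
theorem F9117 : act 4 n5516 = n3663 := d12_2 (iv F6271) D5516 (iv D3663)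
def n5517 : Q := act 6 n3622
theorem D5517 : act 6 n3622 = n5517 := rfl
theorem F9118 : act 0 n5517 = n3624 := d5_1 D5517 (iv D3624) D3622
theorem F9120 : act 5 n5517 = n5513 := d22_2 F9110 D5517 (iv D5513) D5511
def n5519 : Q := act 6 n3623
theorem D5519 : act 6 n3623 = n5519 := rfl
theorem F9123 : act 4 n5519 = n3666 := d19_1 D5519 (iv D3666) (iv F6273)
def n5520 : Q := act 5 n3624
theorem D5520 : act 5 n3624 = n5520 := rfl
theorem F9124 : act 0 n5520 = n5513 := d4_1 D5520 (iv F9120) F9118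
theorem F9125 : act 4 n5520 = n3667 := d18_1 D5520 (iv D3667) (iv F6275)
def n5521 : Q := act 2 n3625
theorem D5521 : act 2 n3625 = n5521 := rfl
theorem F9127 : act 0 n5521 = n3626 := d1_1 D5521 (iv D3626) D3625
def n5522 : Q := act 5 n3625
theorem D5522 : act 5 n3625 = n5522 := rfl
theorem F9128 : act 0 n5522 = n3627 := d4_1 D5522 (iv D3627) D3625
def n5523 : Q := act 6 n3625
theorem D5523 : act 6 n3625 = n5523 := rfl
theorem F9130 : act 0 n5523 = n3628 := d5_1 D5523 (iv D3628) D3625
theorem F9131 : act 3 n5523 = n3670 := d17_1 D5523 (iv D3670) (iv F6276)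
def n5524 : Q := act 1 n3626
theorem D5524 : act 1 n3626 = n5524 := rfl
theorem F9132 : act 2 n5524 = n3629 := d6_2 D3626 D5524 (iv D3629) (iv D2654) D2653
def n5525 : Q := act 3 n3626
theorem D5525 : act 3 n3626 = n5525 := rfl
def n5526 : Q := act 5 n3626
theorem D5526 : act 5 n3626 = n5526 := rfl
theorem F9133 : act 2 n5526 = n3627 := d13_1 D5526 (iv D3627) D3626
def n5527 : Q := act 6 n3626
theorem D5527 : act 6 n3626 = n5527 := rfl
theorem F9134 : act 2 n5527 = n3628 := d14_1 D5527 (iv D3628) D3626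
def n5528 : Q := act 6 n3627
theorem D5528 : act 6 n3627 = n5528 := rfl
theorem F9136 : act 5 n5528 = n5523 := d22_2 D3627 D5528 (iv D5523) (iv D3625)
def n5529 : Q := act 1 n3628
theorem D5529 : act 1 n3628 = n5529 := rfl
theorem F9138 : act 6 n5529 = n3631 := d10_2 D3628 D5529 (iv D3631) (iv D2655) D2653
def n5530 : Q := act 5 n3628
theorem D5530 : act 5 n3628 = n5530 := rfl
theorem F9139 : act 0 n5530 = n5528 := d4_1 D5530 F9136 F9130
def n5531 : Q := act 0 n3629
theorem D5531 : act 0 n3629 = n5531 := rfl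
def n5535 : Q := act 0 n3631
theorem D5535 : act 0 n3631 = n5535 := rfl
def n5537 : Q := act 5 n3631
theorem D5537 : act 5 n3631 = n5537 := rfl
theorem F9143 : act 1 n5537 = n5395 := d9_1 D5537 (iv D5395) (iv D3565) (iv F4742) D3631
theorem F9144 : act 3 n5537 = n3684 := d16_1 D5537 (iv D3684) (iv F6282)
def n5538 : Q := act 6 n3632
theorem D5538 : act 6 n3632 = n5538 := rfl
def n5541 : Q := act 0 n3634
theorem D5541 : act 0 n3634 = n5541 := rfl
def n5543 : Q := act 5 n3634
theorem D5543 : act 5 n3634 = n5543 := rfl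
def n5544 : Q := act 1 n3635
theorem D5544 : act 1 n3635 = n5544 := rfl
def n5545 : Q := act 1 n3636
theorem D5545 : act 1 n3636 = n5545 := rfl
theorem F9152 : act 3 n5545 = n3686 := d7_2 (iv F6287) D5545 (iv D3686)
def n5546 : Q := act 2 n3636
theorem D5546 : act 2 n3636 = n5546 := rfl
theorem F9154 : act 6 n5546 = n3641 := d14_2 (iv F6288) D5546 (iv D3641)
def n5547 : Q := act 3 n3637
theorem D5547 : act 3 n3637 = n5547 := rfl
def n5548 : Q := act 5 n3637
theorem D5548 : act 5 n3637 = n5548 := rfl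
theorem F9156 : act 2 n5548 = n3638 := d13_1 D5548 (iv D3638) D3637
def n5549 : Q := act 1 n3638
theorem D5549 : act 1 n3638 = n5549 := rfl
theorem F9158 : act 5 n5549 = n3639 := d9_2 D3638 D5549 (iv D3639) (iv D2659) D2658
def n5550 : Q := act 0 n3639
theorem D5550 : act 0 n3639 = n5550 := rfl
theorem F9159 : act 3 n5550 = n3691 := d2_2 (iv F6291) D5550 (iv D3691)
def n5552 : Q := act 6 n3639
theorem D5552 : act 6 n3639 = n5552 := rfl
theorem F9160 : act 1 n5552 = n5388 := d10_1 D5552 (iv D5388) (iv D3561) (iv F4748) D3639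
def n5553 : Q := act 0 n3640
theorem D5553 : act 0 n3640 = n5553 := rfl
def n5554 : Q := act 2 n3640
theorem D5554 : act 2 n3640 = n5554 := rfl
def n5555 : Q := act 5 n3640
theorem D5555 : act 5 n3640 = n5555 := rfl
theorem F9163 : act 3 n5555 = n3696 := d16_1 D5555 (iv D3696) (iv F6292)
def n5556 : Q := act 6 n3640
theorem D5556 : act 6 n3640 = n5556 := rfl
def n5557 : Q := act 1 n3641
theorem D5557 : act 1 n3641 = n5557 := rfl
def n5558 : Q := act 3 n3641
theorem D5558 : act 3 n3641 = n5558 := rfl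
def n5559 : Q := act 5 n3641
theorem D5559 : act 5 n3641 = n5559 := rfl
theorem F9166 : act 0 n5559 = n3644 := d4_1 D5559 (iv D3644) (iv F6293)
def n5560 : Q := act 1 n3642
theorem D5560 : act 1 n3642 = n5560 := rfl
theorem F9169 : act 3 n5560 = n3701 := d7_2 (iv F6295) D5560 (iv D3701)
def n5564 : Q := act 1 n3644
theorem D5564 : act 1 n3644 = n5564 := rfl
theorem F9171 : act 2 n5564 = n5092 := d6_2 (iv F6297) D5564 (iv D5092) F6027 (iv F4750)
def n5566 : Q := act 1 n3645
theorem D5566 : act 1 n3645 = n5566 := rfl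
theorem F9176 : act 6 n5566 = n5094 := d10_2 D3645 D5566 (iv D5094) (iv D3427) (iv F4750)
def n5568 : Q := act 5 n3646
theorem D5568 : act 5 n3646 = n5568 := rfl
theorem F9179 : act 3 n5568 = n3709 := d16_1 D5568 (iv D3709) (iv F6301)
def n5569 : Q := act 6 n3646
theorem D5569 : act 6 n3646 = n5569 := rfl
def n5575 : Q := act 6 n3648
theorem D5575 : act 6 n3648 = n5575 := rfl
theorem F9188 : act 5 n5575 = n5569 := d22_2 D3648 D5575 (iv D5569) (iv D3646)
def n5576 : Q := act 5 n3649
theorem D5576 : act 5 n3649 = n5576 := rfl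
theorem F9190 : act 3 n5576 = n3716 := d16_1 D5576 (iv D3716) (iv F6303)
theorem F9191 : act 6 n5576 = n5568 := d20_2 D3649 D5576 (iv D5568) D5569 (iv F9188) (iv D5575) (iv D3648)
def n5585 : Q := act 2 n3653
theorem D5585 : act 2 n3653 = n5585 := rfl
def n5586 : Q := act 6 n3653
theorem D5586 : act 6 n3653 = n5586 := rfl
theorem F9200 : act 1 n5586 = n5413 := d10_1 D5586 (iv D5413) (iv D3573) (iv F4756) D3653
def n5588 : Q := act 1 n3655
theorem D5588 : act 1 n3655 = n5588 := rfl
def n5591 : Q := act 2 n3656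
theorem D5591 : act 2 n3656 = n5591 := rfl
theorem F9208 : act 1 n5591 = n3659 := d6_1 D5591 (iv D3659) (iv D2668) (iv F4757) D3656
theorem F9209 : act 5 n5591 = n5564 := d13_2 F8558 D5591 F9171
def n5594 : Q := act 1 n3658
theorem D5594 : act 1 n3658 = n5594 := rfl
theorem F9210 : act 3 n5594 = n3720 := d7_2 (iv F6314) D5594 (iv D3720)
def n5595 : Q := act 2 n3658
theorem D5595 : act 2 n3658 = n5595 := rfl
theorem F9211 : act 0 n5595 = n3659 := d1_1 D5595 (iv D3659) D3658
theorem F9212 : act 5 n5595 = n3663 := d13_2 (iv F6315) D5595 (iv D3663)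
def n5597 : Q := act 6 n3659
theorem D5597 : act 6 n3659 = n5597 := rfl
def n5598 : Q := act 1 n3660
theorem D5598 : act 1 n3660 = n5598 := rfl
theorem F9216 : act 6 n5598 = n3661 := d10_2 D3660 D5598 (iv D3661) (iv D2669) D2668
def n5599 : Q := act 0 n3661
theorem D5599 : act 0 n3661 = n5599 := rfl
theorem F9217 : act 3 n5599 = n3725 := d2_2 (iv F6318) D5599 (iv D3725)
def n5602 : Q := act 0 n3662
theorem D5602 : act 0 n3662 = n5602 := rfl
theorem F9220 : act 1 n5602 = n5553 := d0_2 D3662 D5602 (iv D5553) (iv D3640) (iv D2660) (iv D2172) (iv F1950) D2176 D2670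
theorem F9221 : act 3 n5602 = n3728 := d2_2 (iv F6319) D5602 (iv D3728)
def n5603 : Q := act 2 n3662
theorem D5603 : act 2 n3662 = n5603 := rfl
def n5604 : Q := act 5 n3662
theorem D5604 : act 5 n3662 = n5604 := rfl
def n5605 : Q := act 6 n3662
theorem D5605 : act 6 n3662 = n5605 := rfl
theorem F9223 : act 3 n5605 = n3731 := d17_1 D5605 (iv D3731) (iv F6319)
def n5607 : Q := act 3 n3663
theorem D5607 : act 3 n3663 = n5607 := rfl
theorem F9224 : act 0 n5607 = n3665 := d2_1 D5607 (iv D3665) (iv F6320)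
def n5608 : Q := act 6 n3663
theorem D5608 : act 6 n3663 = n5608 := rfl
theorem F9225 : act 0 n5608 = n3666 := d5_1 D5608 (iv D3666) (iv F6320)
theorem F9227 : act 5 n5608 = n5597 := d22_2 F9212 D5608 (iv D5597) (iv F9211)
def n5613 : Q := act 1 n3666
theorem D5613 : act 1 n3666 = n5613 := rfl
theorem F9231 : act 2 n5613 = n5078 := d6_2 (iv F6325) D5613 (iv D5078) F6017 (iv F4765)
def n5614 : Q := act 5 n3666
theorem D5614 : act 5 n3666 = n5614 := rfl
theorem F9234 : act 2 n5614 = n3667 := d13_1 D5614 (iv D3667) (iv F6325)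
theorem F9235 : act 6 n5614 = n5595 := d20_2 D3666 D5614 F9212 D5608 F9227 (iv D5597) F6316
def n5615 : Q := act 1 n3667
theorem D5615 : act 1 n3667 = n5615 := rfl
theorem F9236 : act 3 n5615 = n3741 := d7_2 (iv F6327) D5615 (iv D3741)
theorem F9237 : act 5 n5615 = n5080 := d9_2 D3667 D5615 (iv D5080) (iv D3421) (iv F4765)
def n5616 : Q := act 1 n3668
theorem D5616 : act 1 n3668 = n5616 := rfl
def n5619 : Q := act 6 n3668
theorem D5619 : act 6 n3668 = n5619 := rfl
theorem F9242 : act 2 n5619 = n3670 := d14_1 D5619 (iv D3670) D3668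
def n5621 : Q := act 1 n3670
theorem D5621 : act 1 n3670 = n5621 := rfl
def n5622 : Q := act 0 n3671
theorem D5622 : act 0 n3671 = n5622 := rfl
theorem F9245 : act 2 n5622 = n3678 := d1_2 (iv F6332) D5622 (iv D3678)
def n5625 : Q := act 6 n3671
theorem D5625 : act 6 n3671 = n5625 := rfl
theorem F9248 : act 2 n5625 = n3680 := d14_1 D5625 (iv D3680) (iv F6332)
def n5630 : Q := act 1 n3673
theorem D5630 : act 1 n3673 = n5630 := rfl
def n5631 : Q := act 6 n3673
theorem D5631 : act 6 n3673 = n5631 := rfl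
theorem F9251 : act 2 n5631 = n3675 := d14_1 D5631 (iv D3675) (iv F6333)
def n5632 : Q := act 1 n3674
theorem D5632 : act 1 n3674 = n5632 := rfl
def n5633 : Q := act 5 n3674
theorem D5633 : act 5 n3674 = n5633 := rfl
theorem F9254 : act 2 n5633 = n3677 := d13_1 D5633 (iv D3677) (iv F6334)
def n5634 : Q := act 1 n3675
theorem D5634 : act 1 n3675 = n5634 := rfl
def n5635 : Q := act 0 n3676
theorem D5635 : act 0 n3676 = n5635 := rfl
theorem F9256 : act 6 n5635 = n3682 := d5_2 (iv F6336) D5635 (iv D3682)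
theorem F9257 : act 5 n5635 = n5049 := d22_0 (iv F8500) (iv D3684) (iv F6336) D5635
def n5636 : Q := act 2 n3676
theorem D5636 : act 2 n3676 = n5636 := rfl
theorem F9258 : act 6 n5636 = n3683 := d14_2 (iv F6336) D5636 (iv D3683)
def n5637 : Q := act 5 n3676
theorem D5637 : act 5 n3676 = n5637 := rfl
def n5638 : Q := act 1 n3677
theorem D5638 : act 1 n3677 = n5638 := rfl
def n5639 : Q := act 5 n3678
theorem D5639 : act 5 n3678 = n5639 := rfl
theorem F9260 : act 0 n5639 = n3679 := d4_1 D5639 (iv D3679) D3678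
def n5640 : Q := act 6 n3678
theorem D5640 : act 6 n3678 = n5640 := rfl
theorem F9262 : act 0 n5640 = n3680 := d5_1 D5640 (iv D3680) D3678
def n5641 : Q := act 6 n3679
theorem D5641 : act 6 n3679 = n5641 := rfl
theorem F9265 : act 5 n5641 = n5640 := d22_2 D3679 D5641 (iv D5640) (iv D3678)
def n5642 : Q := act 1 n3680
theorem D5642 : act 1 n3680 = n5642 := rfl
theorem F9266 : act 3 n5642 = n4377 := d7_2 (iv F6342) D5642 (iv D4377)
theorem F9267 : act 6 n5642 = n3681 := d10_2 D3680 D5642 (iv D3681) (iv D2678) D2677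
def n5643 : Q := act 5 n3680
theorem D5643 : act 5 n3680 = n5643 := rfl
theorem F9270 : act 6 n5643 = n5639 := d20_2 D3680 D5643 (iv D5639) D5640 (iv F9265) (iv D5641) (iv D3679)
def n5644 : Q := act 0 n3681
theorem D5644 : act 0 n3681 = n5644 := rfl
theorem F9271 : act 3 n5644 = n4386 := d2_2 (iv F6343) D5644 (iv D4386)
def n5645 : Q := act 2 n3681
theorem D5645 : act 2 n3681 = n5645 := rfl
theorem F9272 : act 1 n5645 = n3683 := d6_1 D5645 (iv D3683) (iv D2679) (iv F4769) D3681
def n5646 : Q := act 5 n3681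
theorem D5646 : act 5 n3681 = n5646 := rfl
theorem F9273 : act 1 n5646 = n5434 := d9_1 D5646 (iv D5434) (iv D3582) (iv F4771) D3681
theorem F9274 : act 3 n5646 = n4388 := d16_1 D5646 (iv D4388) (iv F6343)
def n5647 : Q := act 1 n3682
theorem D5647 : act 1 n3682 = n5647 := rfl
def n5648 : Q := act 2 n3682
theorem D5648 : act 2 n3682 = n5648 := rfl
def n5649 : Q := act 5 n3682
theorem D5649 : act 5 n3682 = n5649 := rfl
theorem F9276 : act 0 n5649 = n3684 := d4_1 D5649 (iv D3684) D3682
theorem F9277 : act 6 n5649 = n5637 := d20_2 F9256 D5649 (iv D5637) F6336 D3684 F8500 (iv F9257)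
theorem F9278 : act 1 n3715 = n5649 := d24_14 F9277 (iv D5637) (iv D3676) (iv D2676) D2675 (iv F6216) D5427 F8988 (iv F8984) F8603 (iv D5130) F6042 D3710 (iv F6371)
def n5650 : Q := act 3 n3683
theorem D5650 : act 3 n3683 = n5650 := rfl
def n5652 : Q := act 0 n3685
theorem D5652 : act 0 n3685 = n5652 := rfl
theorem F9280 : act 3 n5652 = n4398 := d2_2 (iv F6345) D5652 (iv D4398)
def n5655 : Q := act 0 n3686
theorem D5655 : act 0 n3686 = n5655 := rfl
def n5656 : Q := act 2 n3686
theorem D5656 : act 2 n3686 = n5656 := rfl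
def n5657 : Q := act 5 n3686
theorem D5657 : act 5 n3686 = n5657 := rfl
def n5658 : Q := act 6 n3686
theorem D5658 : act 6 n3686 = n5658 := rfl
theorem F9284 : act 1 n5658 = n3697 := d10_1 D5658 (iv D3697) (iv D2685) (iv F4776) D3686
def n5659 : Q := act 1 n3687
theorem D5659 : act 1 n3687 = n5659 := rfl
def n5660 : Q := act 3 n3687
theorem D5660 : act 3 n3687 = n5660 := rfl
theorem F9285 : act 0 n5660 = n3688 := d2_1 D5660 (iv D3688) (iv F6346)
theorem F9286 : act 6 n5660 = n3699 := d17_2 (iv F6347) D5660 (iv D3699)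
def n5661 : Q := act 2 n3688
theorem D5661 : act 2 n3688 = n5661 := rfl
theorem F9287 : act 6 n5661 = n3702 := d14_2 (iv F6348) D5661 (iv D3702)
def n5662 : Q := act 4 n3688
theorem D5662 : act 4 n3688 = n5662 := rfl
theorem F9288 : act 6 n5662 = n3703 := d19_2 (iv F6348) D5662 (iv D3703)
def n5663 : Q := act 5 n3688
theorem D5663 : act 5 n3688 = n5663 := rfl
theorem F9289 : act 3 n5663 = n3689 := d16_1 D5663 (iv D3689) D3688
def n5664 : Q := act 1 n3689
theorem D5664 : act 1 n3689 = n5664 := rfl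
def n5665 : Q := act 0 n3690
theorem D5665 : act 0 n3690 = n5665 := rfl
theorem F9290 : act 5 n5665 = n3691 := d4_2 (iv F6350) D5665 (iv D3691)
def n5666 : Q := act 2 n3690
theorem D5666 : act 2 n3690 = n5666 := rfl
theorem F9291 : act 5 n5666 = n3692 := d13_2 (iv F6350) D5666 (iv D3692)
def n5667 : Q := act 6 n3690
theorem D5667 : act 6 n3690 = n5667 := rfl
def n5668 : Q := act 1 n3691
theorem D5668 : act 1 n3691 = n5668 := rfl
def n5669 : Q := act 2 n3691
theorem D5669 : act 2 n3691 = n5669 := rfl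
theorem F9292 : act 0 n5669 = n3692 := d1_1 D5669 (iv D3692) D3691
def n5670 : Q := act 6 n3691
theorem D5670 : act 6 n3691 = n5670 := rfl
theorem F9293 : act 0 n5670 = n3693 := d5_1 D5670 (iv D3693) D3691
theorem F9294 : act 5 n5670 = n5667 := d22_2 F9290 D5670 (iv D5667) D5665
theorem F9295 : act 1 n5670 = n5041 := d24_2 D5667 (iv F9294) (iv D5041) (iv D3404) (iv D2545) (iv D2113) (iv D1138) (iv D554) D557 (iv F951) D1199 (iv F3997) D2683 D3690
theorem E1580 : n5668 = n4980 := ((c10_5 D5670 F9295 (iv D5041) F6000 D4980 (iv D5668))).symm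
theorem F9296 : act 1 n4980 = n3691 := (sb E1580 (iv D5668))
theorem F9297 : act 1 n5665 = n5457 := d24_5 (iv F8483) (iv F8492) (iv F9295) (iv D5670) (iv F9290) (iv D5457) (iv D3594) (iv D2640) F3975 D2187 D2695 D3719 (iv F8489) (iv D5036)
theorem F9298 : act 1 n5453 = n4953 := d9_3 (iv F9290) F9297 F9032 (iv F8408) F9296
theorem F9299 : act 6 n4975 = n5319 := d10_4 D5453 F9298 F8381 D4975 F8860
theorem F9300 : act 1 n5452 = n5102 := d24_5 D4980 F8408 (iv F9298) (iv D5453) D5452 (iv D5102) (iv D3430) (iv D2557) D2559 F4618 D3401 F5999 D3404 F6000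
theorem F9301 : act 0 n5322 = n4975 := d5_3 F9299 (iv D5319) D5322
theorem F9302 : act 1 n5042 = n5322 := d0_0 F9301 (iv D4975) (iv D3373) (iv D2531) F3905 D2114 D2546 D3405 D5042
theorem F9303 : act 6 n5265 = n5042 := d10_0 F9302 (iv D5322) (iv D3531) (iv F6128) D5265
theorem F9304 : act 0 n5045 = n5265 := d5_3 F9303 (iv D5042) D5045
theorem F9305 : act 5 n5042 = n5634 := d24_1 F9303 (iv D5634) (iv D3675) (iv D2675) (iv D2177) D2179 F3994 D2636 F4724 D2639 F4726 D3536 F6162 D5265
theorem F9306 : act 0 n5634 = n5044 := d4_1 F9305 (iv D5044) D5042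
theorem F9307 : act 5 n5621 = n5322 := d9_4 F9305 (iv D5634) F6335 D5621 (iv F9302)
theorem F9308 : act 1 n5219 = n5131 := d0_8 (iv F8493) F9304 (iv D5265) (iv D3506) (iv D2595) (iv F4654) D3484 D5219 F8597
def n5673 : Q := act 5 n3693
theorem D5673 : act 5 n3693 = n5673 := rfl
theorem F9310 : act 0 n5673 = n5667 := d4_1 D5673 (iv F9294) F9293
theorem F9311 : act 6 n5673 = n5665 := d20_2 D3693 D5673 F9290 D5670 F9294 (iv D5667) F6350
def n5674 : Q := act 2 n3694
theorem D5674 : act 2 n3694 = n5674 := rfl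
theorem F9312 : act 0 n5674 = n3695 := d1_1 D5674 (iv D3695) D3694
def n5676 : Q := act 6 n3694
theorem D5676 : act 6 n3694 = n5676 := rfl
def n5677 : Q := act 1 n3695
theorem D5677 : act 1 n3695 = n5677 := rfl
theorem F9315 : act 2 n5677 = n3698 := d6_2 D3695 D5677 (iv D3698) (iv D2686) D2685
def n5678 : Q := act 3 n3695
theorem D5678 : act 3 n3695 = n5678 := rfl
def n5679 : Q := act 5 n3695
theorem D5679 : act 5 n3695 = n5679 := rfl
def n5680 : Q := act 6 n3695
theorem D5680 : act 6 n3695 = n5680 := rfl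
theorem F9317 : act 2 n5680 = n3697 := d14_1 D5680 (iv D3697) D3695
def n5681 : Q := act 1 n3696
theorem D5681 : act 1 n3696 = n5681 := rfl
theorem F9318 : act 5 n5681 = n3701 := d9_2 D3696 D5681 (iv D3701) (iv D2687) D2685
theorem F9319 : act 6 n5269 = n5681 := d24_0 F9318 (iv D3701) F4780 (iv D2683) (iv D2181) (iv D1198) (iv F1936) (iv D1186) D1187 F1938 D2147 (iv F4663) D3508 D5269
theorem F9320 : act 0 n5272 = n3701 := d22_4 (iv F9318) (iv F9319) F8795 D5272
theorem F9321 : act 6 n3701 = n5270 := d5_2 D5272 F9320 (iv D5270)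
theorem F9322 : act 1 n5270 = n5667 := d10_1 F9321 (iv D5667) (iv D3690) (iv F4780) D3701
theorem F9323 : act 6 n3696 = n5326 := d10_2 F9319 (iv D5681) (iv D5326) F6158 D5269
theorem F9324 : act 5 n5326 = n5676 := d22_2 D3696 F9323 (iv D5676) (iv D3694)
theorem F9325 : act 1 n5676 = n5321 := d9_1 F9324 (iv D5321) (iv D3531) D3533 D5326
def n5682 : Q := act 5 n3697
theorem D5682 : act 5 n3697 = n5682 := rfl
theorem F9328 : act 1 n5682 = n4971 := d24_2 D3697 D5682 (iv D4971) (iv F8379) (iv F8982) (iv F8990) (iv D5428) (iv F6351) (iv D3693) (iv F6350) (iv D3690) (iv F4780) (iv D2687) D2685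
def n5683 : Q := act 0 n3698
theorem D5683 : act 0 n3698 = n5683 := rfl
def n5684 : Q := act 3 n3698
theorem D5684 : act 3 n3698 = n5684 := rfl
theorem F9329 : act 1 n5684 = n3699 := d7_1 D5684 (iv D3699) D3698
def n5685 : Q := act 5 n3698
theorem D5685 : act 5 n3698 = n5685 := rfl
def n5686 : Q := act 6 n3698
theorem D5686 : act 6 n3698 = n5686 := rfl
def n5687 : Q := act 2 n3699
theorem D5687 : act 2 n3699 = n5687 := rfl
theorem F9330 : act 0 n5687 = n3702 := d1_1 D5687 (iv D3702) (iv F6352)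
def n5688 : Q := act 4 n3699
theorem D5688 : act 4 n3699 = n5688 := rfl
theorem F9332 : act 0 n5688 = n3703 := d3_1 D5688 (iv D3703) (iv F6352)
def n5689 : Q := act 5 n3699
theorem D5689 : act 5 n3699 = n5689 := rfl
theorem F9334 : act 3 n5689 = n3700 := d16_1 D5689 (iv D3700) D3699
def n5690 : Q := act 1 n3700
theorem D5690 : act 1 n3700 = n5690 := rfl
def n5691 : Q := act 2 n3701
theorem D5691 : act 2 n3701 = n5691 := rfl
def n5693 : Q := act 3 n3702
theorem D5693 : act 3 n3702 = n5693 := rfl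
def n5694 : Q := act 4 n3702
theorem D5694 : act 4 n3702 = n5694 := rfl
theorem F9339 : act 2 n5694 = n3703 := d12_1 D5694 (iv D3703) D3702
def n5695 : Q := act 5 n3702
theorem D5695 : act 5 n3702 = n5695 := rfl
theorem F9340 : act 2 n5695 = n3704 := d13_1 D5695 (iv D3704) D3702
def n5696 : Q := act 5 n3703
theorem D5696 : act 5 n3703 = n5696 := rfl
theorem F9341 : act 4 n5696 = n3704 := d18_1 D5696 (iv D3704) D3703
def n5697 : Q := act 1 n3704
theorem D5697 : act 1 n3704 = n5697 := rfl
theorem F9342 : act 3 n5697 = n3705 := d7_2 (iv F6357) D5697 (iv D3705)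
theorem F9343 : act 5 n5697 = n3750 := d9_2 D3704 D5697 (iv D3750) (iv D2710) (iv F4781)
def n5698 : Q := act 6 n3704
theorem D5698 : act 6 n3704 = n5698 := rfl
theorem F9345 : act 3 n5698 = n3706 := d17_1 D5698 (iv D3706) (iv F6357)
def n5699 : Q := act 0 n3705
theorem D5699 : act 0 n3705 = n5699 := rfl
theorem F9348 : act 5 n5699 = n3751 := d4_2 (iv F6359) D5699 (iv D3751)
def n5700 : Q := act 6 n3705
theorem D5700 : act 6 n3705 = n5700 := rfl
def n5701 : Q := act 1 n3706
theorem D5701 : act 1 n3706 = n5701 := rfl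
def n5702 : Q := act 0 n3707
theorem D5702 : act 0 n3707 = n5702 := rfl
theorem F9350 : act 6 n5702 = n5141 := d5_2 (iv F6363) D5702 (iv D5141)
def n5703 : Q := act 2 n3707
theorem D5703 : act 2 n3707 = n5703 := rfl
theorem F9351 : act 6 n5703 = n5142 := d14_2 (iv F6363) D5703 (iv D5142)
def n5704 : Q := act 5 n3707
theorem D5704 : act 5 n3707 = n5704 := rfl
theorem F9352 : act 1 n5704 = n5657 := d9_1 D5704 (iv D5657) (iv D3686) (iv F4784) D3707
theorem F9353 : act 6 n5474 = n5704 := d24_0 (iv D5704) (iv D3707) (iv D2690) (iv D2185) (iv D1199) (iv D586) (iv D288) D286 D581 D1189 D2164 D2644 D3604 D5474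
theorem F9354 : act 6 n5657 = n5459 := d10_2 F9353 F9352 (iv D5459) (iv F6240) D5474
theorem E1581 : n5318 = n5141 := ((c22_5 (iv F9055) F9353 (iv D5704) F6363 D5141)).symm
theorem F9355 : act 1 n5141 = n3530 := (sb E1581 (iv D5318))
theorem F9356 : act 5 n5141 = n5474 := (sb E1581 (iv F9055))
theorem F9357 : act 0 n5474 = n5143 := d22_4 (iv D5143) (iv F6363) D5704 (iv F9353)
theorem F9358 : act 0 n5638 = n3719 := d0_7 D5474 F9357 F8606 (iv F9306) (iv D5634) (iv F6337) D5638 F6375 (iv F6239)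
theorem F9359 : act 6 n3717 = n5638 := d5_0 F9358 (iv D3719) D3717
def n5708 : Q := act 6 n3708
theorem D5708 : act 6 n3708 = n5708 := rfl
theorem F9363 : act 0 n5708 = n3713 := d5_1 D5708 (iv D3713) (iv F6364)
theorem F9364 : act 2 n5708 = n3710 := d14_1 D5708 (iv D3710) D3708
def n5709 : Q := act 1 n3709
theorem D5709 : act 1 n3709 = n5709 := rfl
def n5710 : Q := act 1 n3710
theorem D5710 : act 1 n3710 = n5710 := rfl
theorem F9365 : act 0 n5710 = n4934 := d0_1 D5710 (iv D4934) F5927 D3361 D4953 (iv F9298) F9028 F6230 (iv F6366)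
theorem F9366 : act 5 n5710 = n5647 := d9_2 F6371 D5710 (iv D5647) D5649 (iv F9278)
theorem F9367 : act 6 n5710 = n5219 := d10_2 D3710 D5710 F9308 (iv D5131) F6042
theorem F9368 : act 6 n5221 = n5647 := d22_1 D5221 (iv F9366) F9367 (iv D5219)
theorem F9369 : act 6 n5709 = n5307 := d24_6 F9368 (iv F9366) (iv D5710) (iv D3710) D3709 D5709 (iv D5307) (iv D3525) D3527 F6151 D5261 F8789 D5264 F8790
def n5716 : Q := act 6 n3712
theorem D5716 : act 6 n3712 = n5716 := rfl
theorem F9375 : act 5 n5716 = n5708 := d22_2 D3712 D5716 (iv D5708) F6364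
def n5717 : Q := act 1 n3713
theorem D5717 : act 1 n3713 = n5717 := rfl
def n5718 : Q := act 5 n3713
theorem D5718 : act 5 n3713 = n5718 := rfl
theorem F9377 : act 0 n5718 = n5716 := d4_1 D5718 F9375 F9363
theorem F9378 : act 2 n5718 = n3716 := d13_1 D5718 (iv D3716) (iv F6369)
def n5719 : Q := act 0 n3714
theorem D5719 : act 0 n3714 = n5719 := rfl
theorem F9380 : act 5 n5719 = n3717 := d4_2 (iv F6370) D5719 (iv D3717)
theorem F9381 : act 6 n5036 = n5719 := d22_3 F6370 D3719 (iv F8489) (iv D5719)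
def n5721 : Q := act 6 n3714
theorem D5721 : act 6 n3714 = n5721 := rfl
theorem F9384 : act 1 n5721 = n5637 := d10_1 D5721 (iv F9277) (iv F9278) (iv D3715) D3714
theorem F9385 : act 5 n5721 = n5638 := d20_1 D5721 (iv F9359) (iv F9380) (iv F9381) F8489 (iv D3719) (iv F6370)
def n5722 : Q := act 1 n3716
theorem D5722 : act 1 n3716 = n5722 := rfl
theorem F9386 : act 6 n5722 = n5023 := d10_2 (iv F6373) D5722 (iv F8845) (iv F9369) (iv D5709)
theorem F9387 : act 0 n5026 = n5722 := d5_3 F9386 (iv D5023) D5026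
theorem F9388 : act 0 n5450 = n5128 := d0_9 F8594 F9387 (iv D5722) F6372 F9278 F9276 F6344 (iv F6227) D5450
theorem E1582 : n5332 = n5126 := ((c5_4 (iv F9025) F9388 (iv D5128) D5126)).symm
theorem F9389 : act 1 n5126 = n3536 := (sb E1582 (iv D5332))
theorem F9390 : act 6 n5126 = n5450 := (sb E1582 (iv F9025))
def n5723 : Q := act 1 n3717
theorem D5723 : act 1 n3717 = n5723 := rfl
theorem F9392 : act 5 n5218 = n5723 := d24_1 D5218 (iv D5723) F9359 (iv F9385) F9384 (iv F9277) (iv D5649) D5647 (iv F9368) (iv D5221) (iv D3484) (iv D2585) D2584 D3483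
def n5724 : Q := act 2 n3717
theorem D5724 : act 2 n3717 = n5724 := rfl
def n5726 : Q := act 6 n3718
theorem D5726 : act 6 n3718 = n5726 := rfl
theorem F9395 : act 2 n5726 = n3719 := d14_1 D5726 (iv D3719) D3718
def n5727 : Q := act 0 n3720
theorem D5727 : act 0 n3720 = n5727 := rfl
def n5728 : Q := act 2 n3720
theorem D5728 : act 2 n3720 = n5728 := rfl
def n5729 : Q := act 5 n3720
theorem D5729 : act 5 n3720 = n5729 := rfl
theorem F9396 : act 1 n5729 = n3730 := d9_1 D5729 (iv D3730) (iv D2700) (iv F4786) D3720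
def n5730 : Q := act 6 n3720
theorem D5730 : act 6 n3720 = n5730 := rfl
def n5731 : Q := act 1 n3721
theorem D5731 : act 1 n3721 = n5731 := rfl
def n5732 : Q := act 3 n3721
theorem D5732 : act 3 n3721 = n5732 := rfl
theorem F9397 : act 0 n5732 = n3722 := d2_1 D5732 (iv D3722) (iv F6376)
theorem F9398 : act 5 n5732 = n3733 := d16_2 (iv F6377) D5732 (iv D3733)
def n5735 : Q := act 6 n3722
theorem D5735 : act 6 n3722 = n5735 := rfl
def n5739 : Q := act 5 n3724
theorem D5739 : act 5 n3724 = n5739 := rfl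
def n5740 : Q := act 1 n3725
theorem D5740 : act 1 n3725 = n5740 := rfl
def n5741 : Q := act 2 n3725
theorem D5741 : act 2 n3725 = n5741 := rfl
theorem F9406 : act 0 n5741 = n3726 := d1_1 D5741 (iv D3726) D3725
def n5742 : Q := act 5 n3725
theorem D5742 : act 5 n3725 = n5742 := rfl
theorem F9407 : act 0 n5742 = n3727 := d4_1 D5742 (iv D3727) D3725
theorem F9408 : act 6 n5742 = n5739 := d22_1 D5742 (iv D5739) F6381 D3725
theorem F9409 : act 1 n5054 = n5742 := d24_14 F9408 (iv D5739) (iv D3724) (iv D2698) F4005 (iv D1202) F955 (iv D556) D554 D1139 D2115 D2548 D3409 D5054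
theorem E1583 : n5740 = n4974 := (c9_4 D5054 F9409 (iv D5742) D5740 (iv D4974) (iv F6002))
theorem F9410 : act 1 n4974 = n3725 := (sb E1583 (iv D5740))
def n5744 : Q := act 5 n3726
theorem D5744 : act 5 n3726 = n5744 := rfl
theorem F9413 : act 2 n5744 = n3727 := d13_1 D5744 (iv D3727) D3726
def n5745 : Q := act 6 n3727
theorem D5745 : act 6 n3727 = n5745 := rfl
theorem F9414 : act 0 n5745 = n5739 := d5_1 D5745 (iv F9408) F9407
theorem F9415 : act 1 n5745 = n5673 := d10_1 D5745 F9311 F9297 (iv D5457) (iv F6383)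
theorem F9417 : act 1 n5262 = n5739 := d0_8 F9415 F9310 (iv F9322) (iv D5270) (iv D3509) F4664 D3505 D5262 (iv F9414)
theorem F9418 : act 5 n3735 = n5262 := d9_0 F9417 (iv D5739) (iv D3724) (iv F4791) D3735
theorem F9419 : act 0 n5264 = n3735 := d4_3 F9418 (iv D5262) D5264
def n5746 : Q := act 2 n3728
theorem D5746 : act 2 n3728 = n5746 := rfl
theorem F9420 : act 0 n5746 = n3729 := d1_1 D5746 (iv D3729) D3728
def n5747 : Q := act 5 n3728
theorem D5747 : act 5 n3728 = n5747 := rfl
theorem F9421 : act 0 n5747 = n3730 := d4_1 D5747 (iv D3730) D3728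
theorem F9422 : act 6 n5312 = n5747 := d24_0 (iv D5747) F6384 D5676 (iv F9324) (iv D5326) F6158 (iv D3508) (iv D2595) (iv D2141) D2140 D2593 D3504 (iv F6151) D5312
theorem F9423 : act 1 n5747 = n5308 := d10_1 F9422 (iv D5308) (iv D3525) D3527 D5312
theorem F9424 : act 5 n3731 = n5312 := d22_2 (iv D3730) D3731 F9422 F9421
def n5749 : Q := act 1 n3729
theorem D5749 : act 1 n3729 = n5749 := rfl
def n5750 : Q := act 3 n3729
theorem D5750 : act 3 n3729 = n5750 := rfl
def n5751 : Q := act 5 n3729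
theorem D5751 : act 5 n3729 = n5751 := rfl
theorem F9427 : act 2 n5751 = n3730 := d13_1 D5751 (iv D3730) D3729
def n5753 : Q := act 6 n3730
theorem D5753 : act 6 n3730 = n5753 := rfl
theorem F9431 : act 1 n4977 = n5753 := d24_14 (iv D5753) (iv D3730) (iv D2700) D2702 F4791 D3724 F6381 D3727 F6383 D5457 F9032 F9298 F8381 D4977
def n5761 : Q := act 6 n3733
theorem D5761 : act 6 n3733 = n5761 := rfl
theorem F9440 : act 5 n5761 = n5735 := d22_2 F9398 D5761 (iv D5735) (iv F9397)
def n5769 : Q := act 1 n3738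
theorem D5769 : act 1 n3738 = n5769 := rfl
theorem F9448 : act 6 n5769 = n3757 := d10_2 D3738 D5769 (iv D3757) (iv D2714) (iv F4792)
def n5770 : Q := act 5 n3738
theorem D5770 : act 5 n3738 = n5770 := rfl
theorem F9451 : act 6 n5770 = n5732 := d20_2 D3738 D5770 F9398 D5761 F9440 (iv D5735) F6379
def n5773 : Q := act 1 n3740
theorem D5773 : act 1 n3740 = n5773 := rfl
def n5774 : Q := act 0 n3741
theorem D5774 : act 0 n3741 = n5774 := rfl
theorem F9455 : act 5 n5774 = n5126 := d4_2 (iv F6396) D5774 (iv D5126)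
def n5776 : Q := act 6 n3741
theorem D5776 : act 6 n3741 = n5776 := rfl
theorem F9457 : act 1 n5776 = n5730 := d10_1 D5776 (iv D5730) (iv D3720) (iv F4795) D3741
theorem F9458 : act 5 n5776 = n5450 := d22_2 (iv F6396) D5776 (iv F9390) (iv D5126)
theorem F9459 : act 5 n5435 = n5730 := d9_4 F9458 (iv D5450) F6228 D5435 (iv F9457)
def n5777 : Q := act 1 n3742
theorem D5777 : act 1 n3742 = n5777 := rfl
def n5778 : Q := act 3 n3742
theorem D5778 : act 3 n3742 = n5778 := rfl
theorem F9460 : act 0 n5778 = n3743 := d2_1 D5778 (iv D3743) D3742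
def n5780 : Q := act 6 n3742
theorem D5780 : act 6 n3742 = n5780 := rfl
theorem F9462 : act 0 n5780 = n3745 := d5_1 D5780 (iv D3745) D3742
def n5792 : Q := act 1 n3749
theorem D5792 : act 1 n3749 = n5792 := rfl
theorem F9471 : act 4 n5792 = n3750 := d8_2 (iv F6403) D5792 (iv D3750)
def n5793 : Q := act 0 n3750
theorem D5793 : act 0 n3750 = n5793 := rfl
theorem F9472 : act 3 n5793 = n3751 := d2_2 (iv F6405) D5793 (iv D3751)
def n5794 : Q := act 2 n3750
theorem D5794 : act 2 n3750 = n5794 := rfl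
def n5795 : Q := act 6 n3750
theorem D5795 : act 6 n3750 = n5795 := rfl
theorem F9474 : act 3 n5795 = n3752 := d17_1 D5795 (iv D3752) (iv F6405)
def n5796 : Q := act 1 n3751
theorem D5796 : act 1 n3751 = n5796 := rfl
def n5797 : Q := act 6 n3751
theorem D5797 : act 6 n3751 = n5797 := rfl
theorem F9475 : act 0 n5797 = n3752 := d5_1 D5797 (iv D3752) D3751
theorem F9477 : act 5 n5797 = n5700 := d22_2 F9348 D5797 (iv D5700) D5699
def n5798 : Q := act 5 n3752
theorem D5798 : act 5 n3752 = n5798 := rfl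
theorem F9480 : act 6 n5798 = n5699 := d20_2 D3752 D5798 F9348 D5797 F9477 (iv D5700) F6359
def n5807 : Q := act 0 n3757
theorem D5807 : act 0 n3757 = n5807 := rfl
theorem F9492 : act 3 n5807 = n3758 := d2_2 (iv F6415) D5807 (iv D3758)
def n5808 : Q := act 2 n3757
theorem D5808 : act 2 n3757 = n5808 := rfl
def n5810 : Q := act 1 n3758
theorem D5810 : act 1 n3758 = n5810 := rfl
def n5811 : Q := act 5 n3758
theorem D5811 : act 5 n3758 = n5811 := rfl
theorem F9495 : act 2 n5811 = n5171 := d13_1 D5811 (iv D5171) (iv F6416)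
def n5843 : Q := act 2 n3772
theorem D5843 : act 2 n3772 = n5843 := rfl
theorem F9551 : act 1 n5843 = n4850 := d6_1 D5843 (iv D4850) F5780 (iv F4827) (iv F6436)
def n5869 : Q := act 1 n3787
theorem D5869 : act 1 n3787 = n5869 := rfl
theorem F9603 : act 3 n5869 = n3789 := d7_2 (iv F6476) D5869 (iv D3789)
def n5871 : Q := act 0 n3789
theorem D5871 : act 0 n3789 = n5871 := rfl
def n5873 : Q := act 6 n3789
theorem D5873 : act 6 n3789 = n5873 := rfl
def n5874 : Q := act 0 n3790
theorem D5874 : act 0 n3790 = n5874 := rfl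
def n5875 : Q := act 2 n3790
theorem D5875 : act 2 n3790 = n5875 := rfl
theorem F9606 : act 1 n5875 = n3795 := d6_1 D5875 (iv D3795) (iv D2739) (iv F4861) D3790
def n5876 : Q := act 5 n3790
theorem D5876 : act 5 n3790 = n5876 := rfl
def n5877 : Q := act 2 n3791
theorem D5877 : act 2 n3791 = n5877 := rfl
theorem F9607 : act 0 n5877 = n3792 := d1_1 D5877 (iv D3792) D3791
theorem F9608 : act 6 n5877 = n4896 := d14_2 F6529 D5877 (iv D4896)
def n5878 : Q := act 3 n3792
theorem D5878 : act 3 n3792 = n5878 := rfl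
def n5879 : Q := act 6 n3792
theorem D5879 : act 6 n3792 = n5879 := rfl
theorem F9609 : act 0 n5879 = n4896 := d5_1 D5879 (iv F9608) F9607
theorem F9610 : act 2 n5879 = n3793 := d14_1 D5879 (iv D3793) D3792
theorem F9611 : act 5 n3823 = n5879 := d13_0 F9610 F6515 D3823
def n5881 : Q := act 5 n3795
theorem D5881 : act 5 n3795 = n5881 := rfl
theorem F9612 : act 2 n5881 = n3796 := d13_1 D5881 (iv D3796) D3795
def n5884 : Q := act 0 n3799
theorem D5884 : act 0 n3799 = n5884 := rfl
theorem F9616 : act 3 n5884 = n3803 := d2_2 (iv F6486) D5884 (iv D3803)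
def n5886 : Q := act 6 n3799
theorem D5886 : act 6 n3799 = n5886 := rfl
def n5887 : Q := act 1 n3800
theorem D5887 : act 1 n3800 = n5887 := rfl
theorem F9618 : act 3 n5887 = n3806 := d7_2 (iv F6487) D5887 (iv D3806)
def n5892 : Q := act 1 n3803
theorem D5892 : act 1 n3803 = n5892 := rfl
def n5893 : Q := act 2 n3803
theorem D5893 : act 2 n3803 = n5893 := rfl
theorem F9622 : act 0 n5893 = n3804 := d1_1 D5893 (iv D3804) D3803
def n5894 : Q := act 6 n3803
theorem D5894 : act 6 n3803 = n5894 := rfl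
theorem F9623 : act 0 n5894 = n3805 := d5_1 D5894 (iv D3805) D3803
theorem F9624 : act 5 n5894 = n5230 := d22_2 F8736 D5894 (iv D5230) D5228
def n5895 : Q := act 3 n3804
theorem D5895 : act 3 n3804 = n5895 := rfl
theorem F9625 : act 1 n5895 = n3813 := d7_1 D5895 (iv D3813) (iv F6493)
def n5896 : Q := act 6 n3804
theorem D5896 : act 6 n3804 = n5896 := rfl
theorem F9626 : act 2 n5896 = n3805 := d14_1 D5896 (iv D3805) D3804
def n5897 : Q := act 1 n3805
theorem D5897 : act 1 n3805 = n5897 := rfl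
theorem F9627 : act 6 n5897 = n3806 := d10_2 D3805 D5897 (iv D3806) (iv D2745) D2744
def n5898 : Q := act 5 n3805
theorem D5898 : act 5 n3805 = n5898 := rfl
theorem F9628 : act 0 n5898 = n5230 := d4_1 D5898 (iv F9624) F9623
def n5899 : Q := act 0 n3806
theorem D5899 : act 0 n3806 = n5899 := rfl
def n5900 : Q := act 2 n3806
theorem D5900 : act 2 n3806 = n5900 := rfl
theorem F9630 : act 1 n5900 = n3816 := d6_1 D5900 (iv D3816) (iv D2751) (iv F4864) D3806
def n5901 : Q := act 5 n3806
theorem D5901 : act 5 n3806 = n5901 := rfl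
theorem F9631 : act 1 n5901 = n5876 := d9_1 D5901 (iv D5876) (iv D3790) (iv F4865) D3806
def n5903 : Q := act 2 n3807
theorem D5903 : act 2 n3807 = n5903 := rfl
theorem F9632 : act 0 n5903 = n3808 := d1_1 D5903 (iv D3808) D3807
def n5904 : Q := act 5 n3807
theorem D5904 : act 5 n3807 = n5904 := rfl
theorem F9633 : act 0 n5904 = n3809 := d4_1 D5904 (iv D3809) D3807
def n5905 : Q := act 3 n3808
theorem D5905 : act 3 n3808 = n5905 := rfl
theorem F9635 : act 1 n5905 = n3818 := d7_1 D5905 (iv D3818) (iv F6494)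
def n5906 : Q := act 5 n3808
theorem D5906 : act 5 n3808 = n5906 := rfl
theorem F9636 : act 2 n5906 = n3809 := d13_1 D5906 (iv D3809) D3808
def n5907 : Q := act 1 n3809
theorem D5907 : act 1 n3809 = n5907 := rfl
theorem F9637 : act 5 n5907 = n3810 := d9_2 D3809 D5907 (iv D3810) (iv D2747) D2746
def n5909 : Q := act 0 n3810
theorem D5909 : act 0 n3810 = n5909 := rfl
def n5910 : Q := act 2 n3810
theorem D5910 : act 2 n3810 = n5910 := rfl
theorem F9640 : act 1 n5910 = n3821 := d6_1 D5910 (iv D3821) (iv D2755) (iv F4867) D3810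
def n5911 : Q := act 6 n3810
theorem D5911 : act 6 n3810 = n5911 := rfl
theorem F9641 : act 1 n5911 = n5873 := d10_1 D5911 (iv D5873) (iv D3789) (iv F4868) D3810
def n5912 : Q := act 2 n3811
theorem D5912 : act 2 n3811 = n5912 := rfl
theorem F9642 : act 0 n5912 = n4043 := d1_1 D5912 (iv D4043) F6527
theorem F9643 : act 5 n5912 = n4045 := d13_2 F6526 D5912 (iv D4045)
def n5913 : Q := act 1 n3812
theorem D5913 : act 1 n3812 = n5913 := rfl
theorem F9644 : act 0 n5913 = n4455 := d23_3 (iv F4869) D3812 D5913 F7500 (iv F5407) (iv D3102) F4325 (iv F3897) (iv D1146) (iv D558) F507 (iv D151) D150 D286 D578 D1180 F1930 D1277 D2223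
theorem F9645 : act 5 n4457 = n5913 := d4_0 F9644 F7500 D4457
def n5914 : Q := act 3 n3812
theorem D5914 : act 3 n3812 = n5914 := rfl
theorem F9647 : act 5 n5914 = n3826 := d16_2 (iv F6496) D5914 (iv D3826)
def n5916 : Q := act 4 n3813
theorem D5916 : act 4 n3813 = n5916 := rfl
theorem F9649 : act 5 n5916 = n3829 := d18_2 (iv F6497) D5916 (iv D3829)
def n5917 : Q := act 6 n3813
theorem D5917 : act 6 n3813 = n5917 := rfl
theorem F9650 : act 3 n5917 = n3814 := d17_1 D5917 (iv D3814) D3813
def n5918 : Q := act 1 n3814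
theorem D5918 : act 1 n3814 = n5918 := rfl
def n5919 : Q := act 2 n3815
theorem D5919 : act 2 n3815 = n5919 := rfl
theorem F9652 : act 5 n5919 = n3891 := d13_2 F6501 D5919 (iv D3891)
theorem F9653 : act 6 n5919 = n3816 := d14_2 (iv F6500) D5919 (iv D3816)
def n5920 : Q := act 3 n3816
theorem D5920 : act 3 n3816 = n5920 := rfl
def n5922 : Q := act 3 n3817
theorem D5922 : act 3 n3817 = n5922 := rfl
theorem F9654 : act 0 n5922 = n3818 := d2_1 D5922 (iv D3818) (iv F6516)
theorem F9655 : act 6 n5922 = n3836 := d17_2 (iv F6517) D5922 (iv D3836)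
def n5924 : Q := act 4 n3818
theorem D5924 : act 4 n3818 = n5924 := rfl
theorem F9657 : act 6 n5924 = n3839 := d19_2 (iv F6518) D5924 (iv D3839)
def n5925 : Q := act 5 n3818
theorem D5925 : act 5 n3818 = n5925 := rfl
def n5926 : Q := act 1 n3819
theorem D5926 : act 1 n3819 = n5926 := rfl
def n5927 : Q := act 2 n3820
theorem D5927 : act 2 n3820 = n5927 := rfl
theorem F9659 : act 5 n5927 = n3821 := d13_2 (iv F6520) D5927 (iv D3821)
theorem F9660 : act 6 n5927 = n4043 := d14_2 (iv F6521) D5927 (iv D4043)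
def n5928 : Q := act 3 n3821
theorem D5928 : act 3 n3821 = n5928 := rfl
def n5929 : Q := act 2 n3822
theorem D5929 : act 2 n3822 = n5929 := rfl
theorem F9661 : act 0 n5929 = n3823 := d1_1 D5929 (iv D3823) D3822
theorem F9663 : act 5 n5929 = n4896 := d13_2 (iv F6535) D5929 (iv D4896)
theorem F9664 : act 6 n5929 = n4878 := d14_2 F6536 D5929 (iv D4878)
def n5930 : Q := act 1 n3823
theorem D5930 : act 1 n3823 = n5930 := rfl
theorem F9665 : act 2 n5930 = n3825 := d6_2 D3823 D5930 (iv D3825) (iv D2757) D2756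
def n5931 : Q := act 3 n3823
theorem D5931 : act 3 n3823 = n5931 := rfl
def n5932 : Q := act 6 n3823
theorem D5932 : act 6 n3823 = n5932 := rfl
theorem F9667 : act 2 n5932 = n3824 := d14_1 D5932 (iv D3824) D3823
def n5933 : Q := act 0 n3825
theorem D5933 : act 0 n3825 = n5933 := rfl
def n5934 : Q := act 3 n3825
theorem D5934 : act 3 n3825 = n5934 := rfl
theorem F9670 : act 1 n5934 = n3826 := d7_1 D5934 (iv D3826) D3825
def n5935 : Q := act 5 n3825
theorem D5935 : act 5 n3825 = n5935 := rfl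
theorem F9671 : act 1 n5935 = n4457 := d9_1 D5935 F9645 (iv D5913) F6496 D3825
def n5936 : Q := act 6 n3825
theorem D5936 : act 6 n3825 = n5936 := rfl
def n5937 : Q := act 2 n3826
theorem D5937 : act 2 n3826 = n5937 := rfl
def n5938 : Q := act 4 n3826
theorem D5938 : act 4 n3826 = n5938 := rfl
theorem F9674 : act 0 n5938 = n3829 := d3_1 D5938 (iv D3829) (iv F6542)
def n5939 : Q := act 6 n3826
theorem D5939 : act 6 n3826 = n5939 := rfl
theorem F9676 : act 3 n5939 = n3827 := d17_1 D5939 (iv D3827) D3826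
def n5940 : Q := act 1 n3827
theorem D5940 : act 1 n3827 = n5940 := rfl
def n5943 : Q := act 4 n3828
theorem D5943 : act 4 n3828 = n5943 := rfl
theorem F9680 : act 2 n5943 = n3829 := d12_1 D5943 (iv D3829) D3828
def n5945 : Q := act 6 n3829
theorem D5945 : act 6 n3829 = n5945 := rfl
def n5947 : Q := act 5 n3830
theorem D5947 : act 5 n3830 = n5947 := rfl
theorem F9685 : act 3 n5947 = n3832 := d16_1 D5947 (iv D3832) (iv F6546)
def n5948 : Q := act 0 n3831
theorem D5948 : act 0 n3831 = n5948 := rfl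
def n5949 : Q := act 5 n3831
theorem D5949 : act 5 n3831 = n5949 := rfl
def n5950 : Q := act 1 n3832
theorem D5950 : act 1 n3832 = n5950 := rfl
theorem F9687 : act 2 n5950 = n4913 := d6_2 (iv F6548) D5950 (iv D4913) (iv D3339) (iv F5897)
def n5951 : Q := act 1 n3833
theorem D5951 : act 1 n3833 = n5951 := rfl
theorem F9688 : act 2 n5951 = n3835 := d6_2 D3833 D5951 (iv D3835) (iv D2763) D2762
def n5953 : Q := act 5 n3833
theorem D5953 : act 5 n3833 = n5953 := rfl
theorem F9691 : act 2 n5953 = n3834 := d13_1 D5953 (iv D3834) D3833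
def n5955 : Q := act 3 n3835
theorem D5955 : act 3 n3835 = n5955 := rfl
theorem F9692 : act 1 n5955 = n3836 := d7_1 D5955 (iv D3836) D3835
def n5956 : Q := act 5 n3835
theorem D5956 : act 5 n3835 = n5956 := rfl
def n5957 : Q := act 6 n3835
theorem D5957 : act 6 n3835 = n5957 := rfl
def n5958 : Q := act 2 n3836
theorem D5958 : act 2 n3836 = n5958 := rfl
theorem F9693 : act 0 n5958 = n3838 := d1_1 D5958 (iv D3838) (iv F6553)
theorem F9694 : act 3 n5958 = n4908 := d21_1 D5958 (iv D4908) (iv D3335) (iv D2513) F3402 D2227 D2765 (iv F6553)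
def n5959 : Q := act 4 n3836
theorem D5959 : act 4 n3836 = n5959 := rfl
def n5960 : Q := act 5 n3836
theorem D5960 : act 5 n3836 = n5960 := rfl
theorem F9696 : act 0 n5960 = n3840 := d4_1 D5960 (iv D3840) (iv F6553)
theorem F9697 : act 3 n5960 = n3837 := d16_1 D5960 (iv D3837) D3836
theorem F9698 : act 6 n5960 = n5925 := d22_1 D5960 (iv D5925) F6518 (iv F6553)
def n5961 : Q := act 1 n3837
theorem D5961 : act 1 n3837 = n5961 := rfl
def n5962 : Q := act 1 n3838
theorem D5962 : act 1 n3838 = n5962 := rfl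
def n5963 : Q := act 3 n3838
theorem D5963 : act 3 n3838 = n5963 := rfl
theorem F9699 : act 0 n5963 = n4908 := d2_1 D5963 (iv F9694) F9693
theorem F9700 : act 2 n5963 = n4906 := d11_1 D5963 (iv D4906) (iv D3333) F4562 D2763 D3836 D5958 F9694 (iv D4908) (iv D3335) (iv D2513) F3402 D2227 D2765 D3838
def n5964 : Q := act 4 n3838
theorem D5964 : act 4 n3838 = n5964 := rfl
theorem F9701 : act 2 n5964 = n3839 := d12_1 D5964 (iv D3839) D3838
def n5966 : Q := act 5 n3839
theorem D5966 : act 5 n3839 = n5966 := rfl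
theorem F9703 : act 4 n5966 = n3840 := d18_1 D5966 (iv D3840) D3839
def n5967 : Q := act 1 n3840
theorem D5967 : act 1 n3840 = n5967 := rfl
theorem F9704 : act 3 n5967 = n3841 := d7_2 (iv F6557) D5967 (iv D3841)
def n5969 : Q := act 0 n3841
theorem D5969 : act 0 n3841 = n5969 := rfl
def n5970 : Q := act 6 n3841
theorem D5970 : act 6 n3841 = n5970 := rfl
def n5971 : Q := act 1 n3842
theorem D5971 : act 1 n3842 = n5971 := rfl
def n5972 : Q := act 1 n3844
theorem D5972 : act 1 n3844 = n5972 := rfl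
def n5973 : Q := act 3 n3844
theorem D5973 : act 3 n3844 = n5973 := rfl
theorem F9708 : act 0 n5973 = n3847 := d2_1 D5973 (iv D3847) (iv F6561)
def n5974 : Q := act 5 n3844
theorem D5974 : act 5 n3844 = n5974 := rfl
theorem F9709 : act 0 n5974 = n3848 := d4_1 D5974 (iv D3848) (iv F6561)
theorem F9710 : act 2 n5974 = n3845 := d13_1 D5974 (iv D3845) D3844
theorem F9711 : act 4 n5974 = n5912 := d18_1 D5974 F9643 F6902
def n5975 : Q := act 0 n3846
theorem D5975 : act 0 n3846 = n5975 := rfl
theorem F9712 : act 2 n5975 = n3852 := d1_2 (iv F6566) D5975 (iv D3852)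
def n5976 : Q := act 3 n3846
theorem D5976 : act 3 n3846 = n5976 := rfl
theorem F9713 : act 1 n5976 = n3847 := d7_1 D5976 (iv D3847) D3846
def n5977 : Q := act 5 n3846
theorem D5977 : act 5 n3846 = n5977 := rfl
theorem F9714 : act 2 n5977 = n3853 := d13_1 D5977 (iv D3853) (iv F6566)
def n5978 : Q := act 6 n3846
theorem D5978 : act 6 n3846 = n5978 := rfl
theorem F9715 : act 2 n5978 = n3854 := d14_1 D5978 (iv D3854) (iv F6566)
def n5979 : Q := act 2 n3847
theorem D5979 : act 2 n3847 = n5979 := rfl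
def n5980 : Q := act 4 n3847
theorem D5980 : act 4 n3847 = n5980 := rfl
def n5981 : Q := act 5 n3847
theorem D5981 : act 5 n3847 = n5981 := rfl
theorem F9716 : act 3 n5981 = n3848 := d16_1 D5981 (iv D3848) D3847
def n5982 : Q := act 6 n3847
theorem D5982 : act 6 n3847 = n5982 := rfl
theorem F9717 : act 3 n5982 = n3849 := d17_1 D5982 (iv D3849) D3847
def n5983 : Q := act 1 n3848
theorem D5983 : act 1 n3848 = n5983 := rfl
theorem F9718 : act 2 n5983 = n3886 := d6_2 (iv F6567) D5983 (iv D3886) F4907 (iv F4886)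
def n5985 : Q := act 1 n3849
theorem D5985 : act 1 n3849 = n5985 := rfl
def n5987 : Q := act 1 n3852
theorem D5987 : act 1 n3852 = n5987 := rfl
theorem F9725 : act 3 n5987 = n4325 := d7_2 (iv F6578) D5987 (iv D4325)
def n5988 : Q := act 5 n3852
theorem D5988 : act 5 n3852 = n5988 := rfl
theorem F9726 : act 0 n5988 = n3853 := d4_1 D5988 (iv D3853) D3852
def n5989 : Q := act 6 n3852
theorem D5989 : act 6 n3852 = n5989 := rfl
theorem F9728 : act 0 n5989 = n3854 := d5_1 D5989 (iv D3854) D3852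
theorem F9729 : act 3 n5989 = n4327 := d17_1 D5989 (iv D4327) (iv F6578)
def n5990 : Q := act 6 n3853
theorem D5990 : act 6 n3853 = n5990 := rfl
theorem F9730 : act 3 n5990 = n4319 := d17_1 D5990 (iv D4319) (iv F6580)
theorem F9731 : act 5 n5990 = n5989 := d22_2 D3853 D5990 (iv D5989) (iv D3852)
def n5991 : Q := act 5 n3854
theorem D5991 : act 5 n3854 = n5991 := rfl
theorem F9732 : act 0 n5991 = n5990 := d4_1 D5991 F9731 F9728
theorem F9733 : act 3 n5991 = n4330 := d16_1 D5991 (iv D4330) (iv F6581)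
theorem F9734 : act 6 n5991 = n5988 := d20_2 D3854 D5991 (iv D5988) D5989 (iv F9731) (iv D5990) (iv D3853)
def n5992 : Q := act 1 n3855
theorem D5992 : act 1 n3855 = n5992 := rfl
theorem F9735 : act 3 n5992 = n4350 := d7_2 (iv F6582) D5992 (iv D4350)
def n5994 : Q := act 5 n3855
theorem D5994 : act 5 n3855 = n5994 := rfl
theorem F9739 : act 6 n5994 = n5434 := d22_1 D5994 (iv D5434) F6219 D3855
theorem F9740 : act 1 n4365 = n5994 := d24_14 F9739 (iv D5434) (iv D3582) (iv D2635) F3972 F1954 F3785 (iv D940) D939 (iv F2996) D2371 D3054 D4362 (iv F7369)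
theorem F9741 : act 6 n4363 = n5646 := d10_4 (iv F9739) (iv F9740) (iv D4365) D4363 F9273
theorem F9742 : act 5 n5992 = n4406 := d9_4 (iv F7369) F9740 (iv D5994) D5992 F7425
theorem F9743 : act 5 n3938 = n4350 := d16_2 F9742 F7426 (iv F9735)
theorem F9744 : act 6 n4156 = n5992 := d22_1 F7418 F9742 (iv D4406) D4404
theorem F9745 : act 6 n4324 = n4318 := d24_12 F9744 F9742 F7425 (iv D4362) F5345 (iv D2372) F2998 (iv D1852) D1851 D2363 D3038 D4324 F7323 (iv F7106)
theorem F9747 : act 1 n5432 = n4329 := d10_3 F9744 (iv D5992) (iv F8996) (iv D4329) (iv F7106)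
def n5996 : Q := act 5 n3856
theorem D5996 : act 5 n3856 = n5996 := rfl
theorem F9750 : act 2 n5996 = n3857 := d13_1 D5996 (iv D3857) D3856
def n6003 : Q := act 1 n3860
theorem D6003 : act 1 n3860 = n6003 := rfl
def n6004 : Q := act 1 n3861
theorem D6004 : act 1 n3861 = n6004 := rfl
theorem F9760 : act 4 n6004 = n5950 := d8_2 (iv F6589) D6004 (iv D5950)
def n6005 : Q := act 3 n3861
theorem D6005 : act 3 n3861 = n6005 := rfl
theorem F9761 : act 5 n6005 = n4902 := d16_2 (iv F6590) D6005 F8295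
def n6009 : Q := act 6 n3862
theorem D6009 : act 6 n3862 = n6009 := rfl
def n6018 : Q := act 5 n3866
theorem D6018 : act 5 n3866 = n6018 := rfl
theorem F9773 : act 4 n6018 = n3867 := d18_1 D6018 (iv D3867) D3866
def n6019 : Q := act 1 n3867
theorem D6019 : act 1 n3867 = n6019 := rfl
theorem F9774 : act 3 n6019 = n3868 := d7_2 (iv F6595) D6019 (iv D3868)
def n6020 : Q := act 6 n3867
theorem D6020 : act 6 n3867 = n6020 := rfl
theorem F9776 : act 3 n6020 = n3869 := d17_1 D6020 (iv D3869) (iv F6595)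
def n6021 : Q := act 0 n3868
theorem D6021 : act 0 n3868 = n6021 := rfl
theorem F9778 : act 2 n6021 = n5969 := d1_2 (iv F6596) D6021 (iv D5969)
def n6022 : Q := act 6 n3868
theorem D6022 : act 6 n3868 = n6022 := rfl
theorem F9779 : act 2 n6022 = n5970 := d14_1 D6022 (iv D5970) (iv F6596)
def n6024 : Q := act 2 n3870
theorem D6024 : act 2 n3870 = n6024 := rfl
theorem F9781 : act 5 n6024 = n3909 := d13_2 (iv F6601) D6024 F6679
theorem F9782 : act 6 n6024 = n4056 := d14_2 (iv F6602) D6024 (iv D4056)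
def n6025 : Q := act 2 n3871
theorem D6025 : act 2 n3871 = n6025 := rfl
theorem F9784 : act 4 n6025 = n5919 := d12_2 (iv F6605) D6025 (iv D5919)
theorem F9785 : act 5 n6025 = n4044 := d13_2 (iv F6607) D6025 (iv D4044)
theorem F9786 : act 6 n6025 = n4891 := d14_2 (iv F6606) D6025 (iv D4891)
def n6026 : Q := act 1 n3872
theorem D6026 : act 1 n3872 = n6026 := rfl
theorem F9787 : act 2 n6026 = n3874 := d6_2 D3872 D6026 (iv D3874) (iv D2784) D2783
def n6027 : Q := act 3 n3872
theorem D6027 : act 3 n3872 = n6027 := rfl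
def n6028 : Q := act 5 n3872
theorem D6028 : act 5 n3872 = n6028 := rfl
theorem F9790 : act 6 n6028 = n4050 := d20_2 (iv F6921) D6028 (iv F8277) (iv F9786) F9785 F6900 D4052
def n6045 : Q := act 1 n3881
theorem D6045 : act 1 n3881 = n6045 := rfl
theorem F9811 : act 3 n6045 = n5279 := d7_2 (iv F6622) D6045 (iv D5279)
def n6046 : Q := act 1 n3882
theorem D6046 : act 1 n3882 = n6046 := rfl
def n6048 : Q := act 1 n3884
theorem D6048 : act 1 n3884 = n6048 := rfl
theorem F9817 : act 3 n6048 = n4987 := d7_2 (iv F6632) D6048 (iv D4987)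
theorem F9818 : act 5 n6048 = n3886 := d9_2 D3884 D6048 (iv D3886) (iv D2793) D2791
def n6049 : Q := act 6 n3884
theorem D6049 : act 6 n3884 = n6049 := rfl
theorem F9822 : act 5 n6049 = n4101 := d22_2 D3884 D6049 (iv D4101) F5135
def n6050 : Q := act 1 n3885
theorem D6050 : act 1 n3885 = n6050 := rfl
theorem F9824 : act 6 n6050 = n3888 := d10_2 D3885 D6050 (iv D3888) (iv D2794) D2791
def n6051 : Q := act 5 n3885
theorem D6051 : act 5 n3885 = n6051 := rfl
theorem F9826 : act 2 n6051 = n3896 := d13_1 D6051 (iv D3896) (iv F6633)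
theorem F9829 : act 6 n6051 = n4100 := d20_2 D3885 D6051 (iv D4100) D4101 (iv F9822) (iv D6049) (iv D3884)
def n6052 : Q := act 0 n3886
theorem D6052 : act 0 n3886 = n6052 := rfl
theorem F9830 : act 3 n6052 = n5341 := d2_2 (iv F6635) D6052 (iv D5341)
def n6053 : Q := act 6 n3886
theorem D6053 : act 6 n3886 = n6053 := rfl
theorem F9831 : act 3 n6053 = n5343 := d17_1 D6053 (iv D5343) (iv F6635)
def n6054 : Q := act 1 n3887
theorem D6054 : act 1 n3887 = n6054 := rfl
theorem F9832 : act 3 n6054 = n5344 := d7_2 (iv F6637) D6054 (iv D5344)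
def n6055 : Q := act 0 n3888
theorem D6055 : act 0 n3888 = n6055 := rfl
theorem F9833 : act 3 n6055 = n5345 := d2_2 (iv F6639) D6055 (iv D5345)
def n6056 : Q := act 2 n3888
theorem D6056 : act 2 n3888 = n6056 := rfl
theorem F9834 : act 1 n6056 = n3891 := d6_1 D6056 (iv D3891) (iv D2796) (iv F4908) D3888
def n6057 : Q := act 5 n3888
theorem D6057 : act 5 n3888 = n6057 := rfl
def n6058 : Q := act 1 n3889
theorem D6058 : act 1 n3889 = n6058 := rfl
theorem F9836 : act 2 n6058 = n5940 := d6_2 (iv F6641) D6058 (iv D5940) F6544 F6502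
theorem F9837 : act 3 n6058 = n5348 := d7_2 (iv F6642) D6058 (iv D5348)
def n6060 : Q := act 3 n3891
theorem D6060 : act 3 n3891 = n6060 := rfl
theorem F9842 : act 6 n6060 = n3901 := d17_2 (iv F6649) D6060 (iv D3901)
def n6061 : Q := act 1 n3892
theorem D6061 : act 1 n3892 = n6061 := rfl
theorem F9843 : act 3 n6061 = n4311 := d7_2 (iv F6651) D6061 (iv D4311)
theorem F9844 : act 5 n6061 = n4311 := d9_2 D3892 D6061 (iv D4311) (iv D3030) (iv F4913)
def n6062 : Q := act 1 n3893
theorem D6062 : act 1 n3893 = n6062 := rfl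
theorem F9845 : act 3 n6062 = n4312 := d7_2 (iv F6653) D6062 (iv D4312)
theorem F9846 : act 6 n6062 = n4312 := d10_2 D3893 D6062 (iv D4312) (iv D3031) (iv F4913)
def n6063 : Q := act 1 n3894
theorem D6063 : act 1 n3894 = n6063 := rfl
theorem F9847 : act 3 n6063 = n4320 := d7_2 (iv F6654) D6063 (iv D4320)
def n6064 : Q := act 0 n3895
theorem D6064 : act 0 n3895 = n6064 := rfl
theorem F9848 : act 3 n6064 = n4321 := d2_2 (iv F6656) D6064 (iv D4321)
theorem F9849 : act 6 n6064 = n3897 := d5_2 (iv F6657) D6064 (iv D3897)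
def n6065 : Q := act 2 n3895
theorem D6065 : act 2 n3895 = n6065 := rfl
theorem F9850 : act 6 n6065 = n3898 := d14_2 (iv F6657) D6065 (iv D3898)
def n6066 : Q := act 5 n3895
theorem D6066 : act 5 n3895 = n6066 := rfl
def n6067 : Q := act 1 n3896
theorem D6067 : act 1 n3896 = n6067 := rfl
theorem F9852 : act 3 n6067 = n4324 := d7_2 (iv F6659) D6067 (iv D4324)
def n6068 : Q := act 1 n3897
theorem D6068 : act 1 n3897 = n6068 := rfl
theorem F9853 : act 3 n6068 = n4331 := d7_2 (iv F6661) D6068 (iv D4331)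
def n6069 : Q := act 2 n3897
theorem D6069 : act 2 n3897 = n6069 := rfl
theorem F9854 : act 0 n6069 = n3898 := d1_1 D6069 (iv D3898) D3897
def n6070 : Q := act 5 n3897
theorem D6070 : act 5 n3897 = n6070 := rfl
theorem F9855 : act 0 n6070 = n3899 := d4_1 D6070 (iv D3899) D3897
theorem F9856 : act 3 n6070 = n4333 := d16_1 D6070 (iv D4333) (iv F6661)
theorem F9857 : act 6 n6070 = n6066 := d22_1 D6070 (iv D6066) F6657 D3897
def n6071 : Q := act 3 n3898
theorem D6071 : act 3 n3898 = n6071 := rfl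
theorem F9858 : act 1 n6071 = n3901 := d7_1 D6071 (iv D3901) (iv F6662)
def n6072 : Q := act 5 n3898
theorem D6072 : act 5 n3898 = n6072 := rfl
theorem F9859 : act 2 n6072 = n3899 := d13_1 D6072 (iv D3899) D3898
def n6073 : Q := act 6 n3899
theorem D6073 : act 6 n3899 = n6073 := rfl
theorem F9860 : act 0 n6073 = n6066 := d5_1 D6073 (iv F9857) F9855
theorem F9861 : act 3 n6073 = n4336 := d17_1 D6073 (iv D4336) (iv F6664)
theorem F9862 : act 5 n6073 = n6064 := d20_1 D6073 F9849 D6070 F9857 (iv D6066) F6657 D3899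
def n6075 : Q := act 3 n3900
theorem D6075 : act 3 n3900 = n6075 := rfl
theorem F9864 : act 5 n6075 = n5920 := d16_2 (iv F6666) D6075 (iv D5920)
def n6076 : Q := act 2 n3901
theorem D6076 : act 2 n3901 = n6076 := rfl
def n6077 : Q := act 4 n3901
theorem D6077 : act 4 n3901 = n6077 := rfl
def n6078 : Q := act 5 n3901
theorem D6078 : act 5 n3901 = n6078 := rfl
def n6079 : Q := act 1 n3902
theorem D6079 : act 1 n3902 = n6079 := rfl
def n6080 : Q := act 1 n3903
theorem D6080 : act 1 n3903 = n6080 := rfl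
theorem F9868 : act 3 n6080 = n4363 := d7_2 (iv F6669) D6080 (iv D4363)
theorem F9869 : act 6 n4388 = n6080 := d17_0 F9868 F9741 F9274
def n6081 : Q := act 2 n3903
theorem D6081 : act 2 n3903 = n6081 := rfl
def n6082 : Q := act 6 n3903
theorem D6082 : act 6 n3903 = n6082 := rfl
theorem F9871 : act 0 n6082 = n3905 := d5_1 D6082 (iv D3905) D3903
theorem F9872 : act 1 n6082 = n4352 := d10_1 D6082 F7353 (iv F7390) F9869 (iv D6080)
theorem F9874 : act 5 n6082 = n3952 := d22_2 F6740 D6082 (iv D3952) D3950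
def n6085 : Q := act 5 n3905
theorem D6085 : act 5 n3905 = n6085 := rfl
theorem F9879 : act 6 n6085 = n3950 := d20_2 D3905 D6085 F6740 D6082 F9874 (iv D3952) F4958
def n6086 : Q := act 1 n3906
theorem D6086 : act 1 n3906 = n6086 := rfl
def n6087 : Q := act 3 n3906
theorem D6087 : act 3 n3906 = n6087 := rfl
theorem F9880 : act 0 n6087 = n3908 := d2_1 D6087 (iv D3908) (iv F6673)
def n6088 : Q := act 6 n3906
theorem D6088 : act 6 n3906 = n6088 := rfl
theorem F9882 : act 2 n6088 = n3907 := d14_1 D6088 (iv D3907) D3906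
def n6089 : Q := act 2 n3908
theorem D6089 : act 2 n3908 = n6089 := rfl
def n6090 : Q := act 4 n3908
theorem D6090 : act 4 n3908 = n6090 := rfl
def n6091 : Q := act 6 n3908
theorem D6091 : act 6 n3908 = n6091 := rfl
theorem F9885 : act 3 n6091 = n3909 := d17_1 D6091 (iv D3909) D3908
def n6092 : Q := act 1 n3909
theorem D6092 : act 1 n3909 = n6092 := rfl
theorem F9886 : act 2 n6092 = n5985 := d6_2 (iv F6679) D6092 (iv D5985) F6568 (iv F4920)
def n6093 : Q := act 1 n3910
theorem D6093 : act 1 n3910 = n6093 := rfl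
theorem F9888 : act 5 n6093 = n5869 := d9_2 D3910 D6093 (iv D5869) (iv D3787) F5640
def n6095 : Q := act 0 n3912
theorem D6095 : act 0 n3912 = n6095 := rfl
theorem F9891 : act 4 n6095 = n3936 := d3_2 (iv F6686) D6095 (iv D3936)
theorem F9892 : act 5 n6095 = n5871 := d4_2 (iv F6687) D6095 (iv D5871)
def n6096 : Q := act 2 n3912
theorem D6096 : act 2 n3912 = n6096 := rfl
theorem F9893 : act 1 n6096 = n3937 := d6_1 D6096 (iv D3937) (iv D2828) (iv F4925) D3912
theorem F9894 : act 4 n6096 = n3937 := d12_2 (iv F6686) D6096 (iv D3937)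
def n6097 : Q := act 6 n3912
theorem D6097 : act 6 n3912 = n6097 := rfl
theorem F9896 : act 4 n6097 = n3938 := d19_1 D6097 (iv D3938) (iv F6686)
def n6100 : Q := act 5 n3913
theorem D6100 : act 5 n3913 = n6100 := rfl
def n6101 : Q := act 1 n3914
theorem D6101 : act 1 n3914 = n6101 := rfl
theorem F9903 : act 3 n6101 = n4959 := d7_2 (iv F6692) D6101 (iv D4959)
theorem F9904 : act 5 n6101 = n4269 := d9_2 D3914 D6101 (iv D4269) (iv D3008) (iv F4931)
def n6102 : Q := act 1 n3915
theorem D6102 : act 1 n3915 = n6102 := rfl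
def n6103 : Q := act 0 n3916
theorem D6103 : act 0 n3916 = n6103 := rfl
theorem F9908 : act 3 n6103 = n3919 := d2_2 (iv F6696) D6103 (iv D3919)
theorem F9909 : act 5 n6103 = n3924 := d4_2 (iv F6697) D6103 (iv D3924)
def n6104 : Q := act 2 n3916
theorem D6104 : act 2 n3916 = n6104 := rfl
theorem F9910 : act 5 n6104 = n3925 := d13_2 (iv F6697) D6104 (iv D3925)
def n6105 : Q := act 6 n3916
theorem D6105 : act 6 n3916 = n6105 := rfl
theorem F9911 : act 3 n6105 = n3921 := d17_1 D6105 (iv D3921) (iv F6696)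
def n6108 : Q := act 1 n3919
theorem D6108 : act 1 n3919 = n6108 := rfl
def n6109 : Q := act 2 n3919
theorem D6109 : act 2 n3919 = n6109 := rfl
theorem F9916 : act 0 n6109 = n3920 := d1_1 D6109 (iv D3920) D3919
theorem F9917 : act 4 n6109 = n3943 := d12_2 (iv F6703) D6109 (iv D3943)
theorem F9918 : act 5 n6109 = n3928 := d13_2 (iv F6704) D6109 (iv D3928)
def n6110 : Q := act 3 n3920
theorem D6110 : act 3 n3920 = n6110 := rfl
theorem F9919 : act 1 n6110 = n3944 := d7_1 D6110 (iv D3944) (iv F6705)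
theorem F9920 : act 5 n6110 = n3930 := d16_2 (iv F6707) D6110 (iv D3930)
def n6111 : Q := act 6 n3920
theorem D6111 : act 6 n3920 = n6111 := rfl
theorem F9921 : act 2 n6111 = n3921 := d14_1 D6111 (iv D3921) D3920
theorem F9922 : act 4 n6111 = n3945 := d19_1 D6111 (iv D3945) (iv F6706)
def n6112 : Q := act 1 n3921
theorem D6112 : act 1 n3921 = n6112 := rfl
theorem F9923 : act 4 n6112 = n3946 := d8_2 (iv F6708) D6112 (iv D3946)
theorem F9924 : act 6 n6112 = n3922 := d10_2 D3921 D6112 (iv D3922) (iv D2817) D2816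
def n6113 : Q := act 0 n3922
theorem D6113 : act 0 n3922 = n6113 := rfl
theorem F9925 : act 4 n6113 = n3947 := d3_2 (iv F6709) D6113 (iv D3947)
def n6115 : Q := act 5 n3922
theorem D6115 : act 5 n3922 = n6115 := rfl
theorem F9928 : act 1 n6115 = n6100 := d9_1 D6115 (iv D6100) (iv D3913) (iv F4944) D3922
def n6116 : Q := act 0 n3923
theorem D6116 : act 0 n3923 = n6116 := rfl
theorem F9931 : act 5 n6116 = n4004 := d4_2 (iv F6711) D6116 (iv D4004)
def n6118 : Q := act 6 n3923
theorem D6118 : act 6 n3923 = n6118 := rfl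
def n6119 : Q := act 1 n3924
theorem D6119 : act 1 n3924 = n6119 := rfl
theorem F9937 : act 3 n6119 = n3927 := d7_2 (iv F6712) D6119 (iv D3927)
def n6120 : Q := act 2 n3924
theorem D6120 : act 2 n3924 = n6120 := rfl
def n6121 : Q := act 6 n3924
theorem D6121 : act 6 n3924 = n6121 := rfl
theorem F9941 : act 5 n6121 = n6105 := d22_2 F9909 D6121 (iv D6105) D6103
def n6122 : Q := act 3 n3925
theorem D6122 : act 3 n3925 = n6122 := rfl
theorem F9942 : act 1 n6122 = n4290 := d7_1 D6122 (iv D4290) (iv F6713)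
def n6123 : Q := act 6 n3925
theorem D6123 : act 6 n3925 = n6123 := rfl
theorem F9943 : act 2 n6123 = n3926 := d14_1 D6123 (iv D3926) D3925
def n6124 : Q := act 5 n3926
theorem D6124 : act 5 n3926 = n6124 := rfl
theorem F9945 : act 3 n6124 = n3932 := d16_1 D6124 (iv D3932) (iv F6715)
theorem F9946 : act 6 n6124 = n6103 := d20_2 D3926 D6124 F9909 D6121 F9941 (iv D6105) F6697
def n6125 : Q := act 0 n3927
theorem D6125 : act 0 n3927 = n6125 := rfl
theorem F9947 : act 4 n6125 = n3953 := d3_2 (iv F6716) D6125 (iv D3953)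
def n6126 : Q := act 2 n3927
theorem D6126 : act 2 n3927 = n6126 := rfl
theorem F9948 : act 4 n6126 = n3954 := d12_2 (iv F6716) D6126 (iv D3954)
def n6127 : Q := act 5 n3927
theorem D6127 : act 5 n3927 = n6127 := rfl
theorem F9949 : act 4 n6127 = n3955 := d18_1 D6127 (iv D3955) (iv F6716)
def n6128 : Q := act 6 n3927
theorem D6128 : act 6 n3927 = n6128 := rfl
def n6129 : Q := act 1 n3928
theorem D6129 : act 1 n3928 = n6129 := rfl
def n6130 : Q := act 3 n3928
theorem D6130 : act 3 n3928 = n6130 := rfl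
theorem F9952 : act 0 n6130 = n3930 := d2_1 D6130 (iv D3930) (iv F6717)
def n6131 : Q := act 6 n3928
theorem D6131 : act 6 n3928 = n6131 := rfl
theorem F9955 : act 4 n6131 = n3959 := d19_1 D6131 (iv D3959) (iv F6718)
theorem F9956 : act 5 n6131 = n6111 := d22_2 F9918 D6131 (iv D6111) (iv F9916)
def n6132 : Q := act 1 n3929
theorem D6132 : act 1 n3929 = n6132 := rfl
theorem F9957 : act 4 n6132 = n3960 := d8_2 (iv F6720) D6132 (iv D3960)
def n6133 : Q := act 2 n3930
theorem D6133 : act 2 n3930 = n6133 := rfl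
def n6134 : Q := act 4 n3930
theorem D6134 : act 4 n3930 = n6134 := rfl
theorem F9958 : act 1 n6134 = n3933 := d8_1 D6134 (iv D3933) (iv F6722)
theorem F9959 : act 3 n6134 = n3962 := d15_1 D6134 (iv D3962) (iv D2838) (iv F4952) D3930
def n6135 : Q := act 6 n3930
theorem D6135 : act 6 n3930 = n6135 := rfl
theorem F9960 : act 3 n6135 = n3931 := d17_1 D6135 (iv D3931) D3930
def n6136 : Q := act 5 n3931
theorem D6136 : act 5 n3931 = n6136 := rfl
theorem F9964 : act 6 n6136 = n6109 := d20_2 D3931 D6136 F9918 D6131 F9956 (iv D6111) F6707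
def n6137 : Q := act 1 n3932
theorem D6137 : act 1 n3932 = n6137 := rfl
def n6138 : Q := act 0 n3934
theorem D6138 : act 0 n3934 = n6138 := rfl
theorem F9967 : act 3 n6138 = n4156 := d2_2 F7406 D6138 (iv F7419)
theorem F9968 : act 4 n6138 = n5871 := d3_2 (iv F6730) D6138 (iv D5871)
theorem F9969 : act 5 n6138 = n3936 := d4_2 (iv F6731) D6138 (iv D3936)
theorem F9970 : act 6 n4350 = n6138 := d22_3 F6731 D3938 F9743 (iv D6138)
theorem F9971 : act 1 n4328 = n6138 := d7_3 F9967 F7106 D4328
def n6139 : Q := act 2 n3934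
theorem D6139 : act 2 n3934 = n6139 := rfl
theorem F9972 : act 1 n6139 = n4878 := d6_1 D6139 (iv D4878) (iv D3312) F5663 D3934
theorem F9974 : act 5 n6139 = n3937 := d13_2 (iv F6731) D6139 (iv D3937)
def n6140 : Q := act 6 n3934
theorem D6140 : act 6 n3934 = n6140 := rfl
theorem F9975 : act 0 n6140 = n4350 := d5_1 D6140 F9970 (iv D6138)
def n6141 : Q := act 0 n3935
theorem D6141 : act 0 n3935 = n6141 := rfl
theorem F9977 : act 4 n6141 = n5874 := d3_2 (iv F6732) D6141 (iv D5874)
theorem F9978 : act 6 n6141 = n3939 := d5_2 (iv F6733) D6141 (iv D3939)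
def n6143 : Q := act 5 n3935
theorem D6143 : act 5 n3935 = n6143 := rfl
def n6144 : Q := act 1 n3936
theorem D6144 : act 1 n3936 = n6144 := rfl
def n6145 : Q := act 2 n3936
theorem D6145 : act 2 n3936 = n6145 := rfl
theorem F9983 : act 0 n6145 = n3937 := d1_1 D6145 (iv D3937) D3936
def n6146 : Q := act 6 n3936
theorem D6146 : act 6 n3936 = n6146 := rfl
theorem F9985 : act 5 n6146 = n6140 := d20_1 D6146 (iv D6140) F6731 D3938 F9743 F9970 F9969
def n6147 : Q := act 3 n3937
theorem D6147 : act 3 n3937 = n6147 := rfl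
def n6148 : Q := act 6 n3937
theorem D6148 : act 6 n3937 = n6148 := rfl
def n6149 : Q := act 1 n3939
theorem D6149 : act 1 n3939 = n6149 := rfl
theorem F9987 : act 0 n6149 = n6068 := d0_1 D6149 (iv D6068) (iv D3897) (iv D2801) F4079 F3825 (iv F4102) D2829 D3939
def n6150 : Q := act 2 n3939
theorem D6150 : act 2 n3939 = n6150 := rfl
theorem F9988 : act 0 n6150 = n3940 := d1_1 D6150 (iv D3940) D3939
def n6151 : Q := act 5 n3939
theorem D6151 : act 5 n3939 = n6151 := rfl
theorem F9990 : act 6 n6151 = n6143 := d22_1 D6151 (iv D6143) F6733 D3939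
def n6154 : Q := act 6 n3941
theorem D6154 : act 6 n3941 = n6154 := rfl
theorem F9993 : act 5 n6154 = n6141 := d20_1 D6154 F9978 D6151 F9990 (iv D6143) F6733 D3941
def n6155 : Q := act 6 n3942
theorem D6155 : act 6 n3942 = n6155 := rfl
theorem F9995 : act 2 n6155 = n4330 := d14_1 D6155 F7333 F7321
theorem F9996 : act 5 n6155 = n4329 := d22_2 F7327 D6155 (iv D4329) (iv F7326)
def n6156 : Q := act 1 n3943
theorem D6156 : act 1 n3943 = n6156 := rfl
def n6157 : Q := act 3 n3943
theorem D6157 : act 3 n3943 = n6157 := rfl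
theorem F9997 : act 0 n6157 = n3944 := d2_1 D6157 (iv D3944) (iv F6734)
theorem F9998 : act 5 n6157 = n3958 := d16_2 (iv F6735) D6157 (iv D3958)
def n6158 : Q := act 2 n3944
theorem D6158 : act 2 n3944 = n6158 := rfl
theorem F9999 : act 5 n6158 = n3961 := d13_2 (iv F6736) D6158 (iv D3961)
def n6159 : Q := act 4 n3944
theorem D6159 : act 4 n3944 = n6159 := rfl
theorem F10000 : act 5 n6159 = n3962 := d18_2 (iv F6736) D6159 (iv D3962)
def n6160 : Q := act 6 n3944
theorem D6160 : act 6 n3944 = n6160 := rfl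
def n6161 : Q := act 1 n3945
theorem D6161 : act 1 n3945 = n6161 := rfl
def n6162 : Q := act 0 n3946
theorem D6162 : act 0 n3946 = n6162 := rfl
def n6164 : Q := act 5 n3946
theorem D6164 : act 5 n3946 = n6164 := rfl
def n6165 : Q := act 1 n3947
theorem D6165 : act 1 n3947 = n6165 := rfl
def n6167 : Q := act 5 n3947
theorem D6167 : act 5 n3947 = n6167 := rfl
theorem F10006 : act 6 n6167 = n6164 := d22_1 D6167 (iv D6164) F6738 D3947
theorem F10007 : act 1 n4368 = n6167 := d24_14 F10006 (iv D6164) (iv D3946) (iv D2832) F4103 (iv D1487) F1167 (iv D455) D454 D937 D1857 D2372 D3057 D4368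
theorem E1584 : n6165 = n4330 := (c9_4 D4368 F10007 (iv D6167) D6165 (iv D4330) (iv F5346))
theorem F10008 : act 1 n4330 = n3947 := (sb E1584 (iv D6165))
theorem F10009 : act 1 n4412 = n5991 := d7_3 F9733 F10008 (iv F7435)
def n6171 : Q := act 1 n3950
theorem D6171 : act 1 n3950 = n6171 := rfl
def n6172 : Q := act 2 n3950
theorem D6172 : act 2 n3950 = n6172 := rfl
theorem F10014 : act 5 n6172 = n6081 := d13_2 (iv F6740) D6172 (iv D6081)
def n6175 : Q := act 2 n3953
theorem D6175 : act 2 n3953 = n6175 := rfl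
theorem F10017 : act 0 n6175 = n3954 := d1_1 D6175 (iv D3954) D3953
def n6176 : Q := act 5 n3953
theorem D6176 : act 5 n3953 = n6176 := rfl
theorem F10018 : act 0 n6176 = n3955 := d4_1 D6176 (iv D3955) D3953
theorem F10019 : act 1 n6175 = n4136 := d23_2 (iv D6176) D6175 F7062 (iv F7031) (iv D4117) (iv D2930) (iv F5139) (iv D2924) F4187 D2344 F4988 D3033 F5327 D3035 D4317 F7320 D4326 (iv F7328) (iv F10018)
theorem F10020 : act 2 n4135 = n4415 := d6_4 D6175 F10019 (iv D4136) D4135 F7439
theorem F10021 : act 4 n4218 = n6175 := d8_0 F10019 F7063 D4218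
theorem F10022 : act 0 n6126 = n4218 := d3_3 F10021 F10017 (iv F9948)
theorem F10023 : act 2 n6125 = n4218 := d12_3 F10021 (iv D6175) (iv F9947)
theorem F10024 : act 1 n4215 = n6125 := d6_5 F10023 (iv D4218) (iv D2978) D2977 D4215
theorem F10025 : act 0 n4030 = n4215 := d0_9 F10024 (iv D6125) (iv D3927) (iv D2820) (iv D2253) F3790 D2282 D2874 D4030
theorem F10026 : act 4 n4415 = n4215 := d8_0 F10024 F9947 (iv F7439)
theorem F10027 : act 2 n4214 = n4030 := d1_0 F10025 (iv D4215) D4214
theorem F10028 : act 4 n4416 = n4214 := d12_0 F10027 F6863 D4416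
theorem F10029 : act 0 n4135 = n4416 := d3_3 F10028 (iv D4214) (iv F7061)
def n6177 : Q := act 6 n3953
theorem D6177 : act 6 n3953 = n6177 := rfl
theorem F10030 : act 0 n6177 = n3956 := d5_1 D6177 (iv D3956) D3953
def n6178 : Q := act 1 n3954
theorem D6178 : act 1 n3954 = n6178 := rfl
theorem F10031 : act 0 n6178 = n5935 := d0_1 D6178 F9671 (iv D4457) (iv D3101) F4321 (iv F5178) (iv F7062) (iv F10019) F10017
theorem F10032 : act 2 n6178 = n3957 := d6_2 D3954 D6178 (iv D3957) (iv D2836) D2835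
theorem F10033 : act 5 n5933 = n6178 := d23_0 F10032 (iv D3957) F4959 (iv F4957) (iv D2831) (iv D2258) (iv F4101) (iv D2256) (iv F4087) F5639 F4058 D2217 F4061 D2219 D2748 F4869 D2757 D3825 D5933
def n6179 : Q := act 3 n3954
theorem D6179 : act 3 n3954 = n6179 := rfl
def n6180 : Q := act 5 n3954
theorem D6180 : act 5 n3954 = n6180 := rfl
theorem F10034 : act 2 n6180 = n3955 := d13_1 D6180 (iv D3955) D3954
def n6181 : Q := act 6 n3954
theorem D6181 : act 6 n3954 = n6181 := rfl
theorem F10035 : act 2 n6181 = n3956 := d14_1 D6181 (iv D3956) D3954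
def n6182 : Q := act 6 n3955
theorem D6182 : act 6 n3955 = n6182 := rfl
theorem F10036 : act 5 n6182 = n6177 := d22_2 D3955 D6182 (iv D6177) (iv D3953)
def n6183 : Q := act 1 n3956
theorem D6183 : act 1 n3956 = n6183 := rfl
def n6184 : Q := act 5 n3956
theorem D6184 : act 5 n3956 = n6184 := rfl
theorem F10038 : act 0 n6184 = n6182 := d4_1 D6184 F10036 F10030
theorem F10039 : act 6 n6184 = n6176 := d20_2 D3956 D6184 (iv D6176) D6177 (iv F10036) (iv D6182) (iv D3955)
def n6185 : Q := act 0 n3957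
theorem D6185 : act 0 n3957 = n6185 := rfl
theorem F10040 : act 2 n6185 = n5935 := d1_2 F10032 D6185 (iv F10031)
theorem F10041 : act 5 n6185 = n5930 := d23_4 F4956 D2836 D3957 D6185 F9665 (iv D3825) F4873 (iv F4870) (iv D2749) (iv D2219) (iv F4059) (iv D2214) D2213 (iv F5639) (iv D2248) D2250 F4090 D2258 D2830
def n6186 : Q := act 3 n3957
theorem D6186 : act 3 n3957 = n6186 := rfl
theorem F10042 : act 1 n6186 = n3958 := d7_1 D6186 (iv D3958) D3957
def n6187 : Q := act 5 n3957
theorem D6187 : act 5 n3957 = n6187 := rfl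
theorem F10043 : act 0 n6187 = n5930 := d4_1 D6187 (iv F10041) (iv D6185)
theorem F10044 : act 2 n6187 = n5933 := d13_1 D6187 F10033 F10032
def n6188 : Q := act 6 n3957
theorem D6188 : act 6 n3957 = n6188 := rfl
def n6189 : Q := act 2 n3958
theorem D6189 : act 2 n3958 = n6189 := rfl
theorem F10045 : act 0 n6189 = n3961 := d1_1 D6189 (iv D3961) (iv F6743)
theorem F10046 : act 3 n6189 = n4423 := d21_1 D6189 (iv D4423) (iv D3084) (iv D2384) F3003 D2262 D2838 (iv F6743)
def n6190 : Q := act 4 n3958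
theorem D6190 : act 4 n3958 = n6190 := rfl
theorem F10047 : act 0 n6190 = n3962 := d3_1 D6190 (iv D3962) (iv F6743)
def n6191 : Q := act 6 n3958
theorem D6191 : act 6 n3958 = n6191 := rfl
theorem F10048 : act 0 n6191 = n3963 := d5_1 D6191 (iv D3963) (iv F6743)
theorem F10049 : act 3 n6191 = n3959 := d17_1 D6191 (iv D3959) D3958
theorem F10050 : act 5 n6191 = n6160 := d22_2 F9998 D6191 (iv D6160) (iv F9997)
def n6192 : Q := act 1 n3959
theorem D6192 : act 1 n3959 = n6192 := rfl
def n6193 : Q := act 0 n3960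
theorem D6193 : act 0 n3960 = n6193 := rfl
def n6194 : Q := act 2 n3960
theorem D6194 : act 2 n3960 = n6194 := rfl
def n6195 : Q := act 5 n3960
theorem D6195 : act 5 n3960 = n6195 := rfl
theorem F10051 : act 1 n6195 = n6164 := d9_1 D6195 (iv D6164) (iv D3946) (iv F4961) D3960
def n6196 : Q := act 3 n3961
theorem D6196 : act 3 n3961 = n6196 := rfl
theorem F10053 : act 2 n6196 = n4420 := d11_1 D6196 (iv D4420) (iv D3082) F4306 D2836 D3958 D6189 F10046 (iv D4423) (iv D3084) (iv D2384) F3003 D2262 D2838 D3961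
def n6197 : Q := act 4 n3961
theorem D6197 : act 4 n3961 = n6197 := rfl
theorem F10054 : act 2 n6197 = n3962 := d12_1 D6197 (iv D3962) D3961
def n6198 : Q := act 6 n3961
theorem D6198 : act 6 n3961 = n6198 := rfl
def n6199 : Q := act 6 n3962
theorem D6199 : act 6 n3962 = n6199 := rfl
theorem F10056 : act 4 n6199 = n3963 := d19_1 D6199 (iv D3963) D3962
def n6200 : Q := act 1 n3963
theorem D6200 : act 1 n3963 = n6200 := rfl
theorem F10057 : act 3 n6200 = n3964 := d7_2 (iv F6748) D6200 (iv D3964)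
theorem F10058 : act 6 n6200 = n3971 := d10_2 D3963 D6200 (iv D3971) (iv D2843) (iv F4962)
def n6202 : Q := act 0 n3964
theorem D6202 : act 0 n3964 = n6202 := rfl
theorem F10062 : act 2 n6202 = n4395 := d1_2 (iv F6749) D6202 (iv D4395)
theorem F10063 : act 6 n6202 = n3972 := d5_2 (iv F6750) D6202 (iv D3972)
def n6203 : Q := act 5 n3964
theorem D6203 : act 5 n3964 = n6203 := rfl
theorem F10064 : act 2 n6203 = n4396 := d13_1 D6203 (iv D4396) (iv F6749)
def n6204 : Q := act 1 n3965
theorem D6204 : act 1 n3965 = n6204 := rfl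
def n6207 : Q := act 6 n3966
theorem D6207 : act 6 n3966 = n6207 := rfl
theorem F10067 : act 1 n6207 = n6155 := d10_1 D6207 (iv D6155) (iv D3942) (iv F4965) D3966
def n6208 : Q := act 1 n3967
theorem D6208 : act 1 n3967 = n6208 := rfl
def n6213 : Q := act 1 n3970
theorem D6213 : act 1 n3970 = n6213 := rfl
theorem F10073 : act 4 n6213 = n3971 := d8_2 (iv F6756) D6213 (iv D3971)
def n6214 : Q := act 0 n3971
theorem D6214 : act 0 n3971 = n6214 := rfl
theorem F10074 : act 3 n6214 = n3972 := d2_2 (iv F6757) D6214 (iv D3972)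
def n6215 : Q := act 2 n3971
theorem D6215 : act 2 n3971 = n6215 := rfl
theorem F10075 : act 1 n6215 = n4301 := d6_1 D6215 (iv D4301) F5311 (iv F4966) D3971
def n6216 : Q := act 5 n3971
theorem D6216 : act 5 n3971 = n6216 := rfl
def n6217 : Q := act 1 n3972
theorem D6217 : act 1 n3972 = n6217 := rfl
def n6218 : Q := act 5 n3972
theorem D6218 : act 5 n3972 = n6218 := rfl
theorem F10077 : act 0 n6218 = n3973 := d4_1 D6218 (iv D3973) D3972
theorem F10079 : act 6 n6218 = n6203 := d22_1 D6218 (iv D6203) F6750 D3972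
def n6219 : Q := act 6 n3973
theorem D6219 : act 6 n3973 = n6219 := rfl
theorem F10080 : act 0 n6219 = n6203 := d5_1 D6219 (iv F10079) F10077
theorem F10082 : act 5 n6219 = n6202 := d20_1 D6219 F10063 D6218 F10079 (iv D6203) F6750 D3973
def n6220 : Q := act 1 n3974
theorem D6220 : act 1 n3974 = n6220 := rfl
theorem F10083 : act 4 n6220 = n6061 := d8_2 (iv F6762) D6220 (iv D6061)
theorem F10084 : act 5 n6220 = n4315 := d9_2 D3974 D6220 (iv D4315) (iv D3033) F4987
def n6221 : Q := act 1 n3975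
theorem D6221 : act 1 n3975 = n6221 := rfl
theorem F10086 : act 6 n6221 = n4316 := d10_2 D3975 D6221 (iv D4316) (iv D3034) F4987
def n6222 : Q := act 1 n3976
theorem D6222 : act 1 n3976 = n6222 := rfl
theorem F10087 : act 4 n6222 = n6048 := d8_2 (iv F6768) D6222 (iv D6048)
theorem F10088 : act 5 n6222 = n4039 := d9_2 D3976 D6222 (iv D4039) (iv D2881) (iv F4970)
def n6223 : Q := act 1 n3977
theorem D6223 : act 1 n3977 = n6223 := rfl
theorem F10090 : act 6 n6223 = n4041 := d10_2 D3977 D6223 (iv D4041) (iv D2882) (iv F4970)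
def n6224 : Q := act 0 n3978
theorem D6224 : act 0 n3978 = n6224 := rfl
theorem F10092 : act 5 n6224 = n3984 := d4_2 (iv F6773) D6224 (iv D3984)
theorem F10093 : act 1 n5024 = n6224 := d23_2 (iv D5025) D5024 (iv D6224) F6773 D3985 F6784 (iv F6901) (iv F9643) (iv D5912) (iv D3811) (iv D2748) F4063 D2224 (iv F4681) (iv F6149) (iv F8786) (iv D5258) D5257 F8781
theorem F10094 : act 2 n6224 = n5027 := d6_2 D5024 F10093 (iv D5027) (iv D3398) D3397
def n6225 : Q := act 2 n3978
theorem D6225 : act 2 n3978 = n6225 := rfl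
theorem F10095 : act 0 n6225 = n5027 := d1_1 D6225 (iv F10094) (iv D6224)
theorem F10097 : act 5 n6225 = n3985 := d13_2 (iv F6773) D6225 (iv D3985)
def n6226 : Q := act 6 n3978
theorem D6226 : act 6 n3978 = n6226 := rfl
def n6227 : Q := act 1 n3979
theorem D6227 : act 1 n3979 = n6227 := rfl
def n6228 : Q := act 0 n3980
theorem D6228 : act 0 n3980 = n6228 := rfl
theorem F10100 : act 4 n6228 = n6064 := d3_2 (iv F6776) D6228 (iv D6064)
theorem F10101 : act 6 n6228 = n3987 := d5_2 (iv F6777) D6228 (iv D3987)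
def n6229 : Q := act 2 n3980
theorem D6229 : act 2 n3980 = n6229 := rfl
theorem F10102 : act 4 n6229 = n6065 := d12_2 (iv F6776) D6229 (iv D6065)
theorem F10103 : act 6 n6229 = n3988 := d14_2 (iv F6777) D6229 (iv D3988)
def n6230 : Q := act 5 n3980
theorem D6230 : act 5 n3980 = n6230 := rfl
def n6231 : Q := act 1 n3981
theorem D6231 : act 1 n3981 = n6231 := rfl
theorem F10105 : act 4 n6231 = n6067 := d8_2 (iv F6779) D6231 (iv D6067)
def n6232 : Q := act 0 n3982
theorem D6232 : act 0 n3982 = n6232 := rfl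
theorem F10106 : act 3 n6232 = n3984 := d2_2 (iv F6781) D6232 (iv D3984)
def n6233 : Q := act 2 n3982
theorem D6233 : act 2 n3982 = n6233 := rfl
theorem F10107 : act 1 n6233 = n4166 := d6_1 D6233 (iv D4166) (iv D2954) (iv F4975) D3982
def n6235 : Q := act 0 n3983
theorem D6235 : act 0 n3983 = n6235 := rfl
theorem F10109 : act 3 n6235 = n3987 := d2_2 (iv F6782) D6235 (iv D3987)
def n6236 : Q := act 2 n3983
theorem D6236 : act 2 n3983 = n6236 := rfl
theorem F10110 : act 1 n6236 = n4170 := d6_1 D6236 (iv D4170) (iv D2956) (iv F4978) D3983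
def n6237 : Q := act 5 n3983
theorem D6237 : act 5 n3983 = n6237 := rfl
def n6238 : Q := act 1 n3984
theorem D6238 : act 1 n3984 = n6238 := rfl
theorem F10112 : act 4 n6238 = n5987 := d8_2 (iv F6783) D6238 (iv D5987)
def n6239 : Q := act 2 n3984
theorem D6239 : act 2 n3984 = n6239 := rfl
theorem F10113 : act 0 n6239 = n3985 := d1_1 D6239 (iv D3985) D3984
theorem F10114 : act 4 n6239 = n5975 := d12_2 (iv F6783) D6239 F9712
theorem F10115 : act 5 n6239 = n5027 := d13_2 F10092 D6239 (iv F10094)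
def n6240 : Q := act 6 n3984
theorem D6240 : act 6 n3984 = n6240 := rfl
theorem F10117 : act 0 n6240 = n3986 := d5_1 D6240 (iv D3986) D3984
theorem F10119 : act 5 n6240 = n6226 := d22_2 F10092 D6240 (iv D6226) D6224
def n6241 : Q := act 3 n3985
theorem D6241 : act 3 n3985 = n6241 := rfl
theorem F10120 : act 1 n6241 = n4046 := d7_1 D6241 (iv D4046) (iv F6784)
def n6242 : Q := act 6 n3985
theorem D6242 : act 6 n3985 = n6242 := rfl
theorem F10121 : act 2 n6242 = n3986 := d14_1 D6242 (iv D3986) D3985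
theorem F10122 : act 4 n6242 = n5978 := d19_1 D6242 (iv D5978) (iv F6785)
def n6243 : Q := act 5 n3986
theorem D6243 : act 5 n3986 = n6243 := rfl
theorem F10123 : act 0 n6243 = n6226 := d4_1 D6243 (iv F10119) F10117
theorem F10125 : act 6 n6243 = n6224 := d20_2 D3986 D6243 F10092 D6240 F10119 (iv D6226) F6773
theorem F10126 : act 5 n5897 = n5024 := d24_13 (iv F10125) (iv D6243) (iv F6816) (iv D4006) (iv F6711) (iv D3923) F4948 (iv D2811) F5639 D2737 (iv F4865) D3806 (iv F9627) F10093
theorem E1585 : n6238 = n5898 := (c9_4 F10126 F10093 F10092 D6238 (iv D5898) D5897)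
theorem F10127 : act 1 n5898 = n3984 := (sb E1585 (iv D6238))
theorem F10128 : act 4 n5898 = n5987 := (sb E1585 F10112)
theorem F10129 : act 2 n5025 = n5897 := d13_3 F10126 (iv D5024) D5025
theorem F10130 : act 0 n4276 = n5897 := d23_19 F10126 (iv D5024) (iv D3397) (iv D2542) F3910 D2121 F3923 (iv F3929) (iv F4326) (iv D2394) (iv F3860) (iv F3782) F2803 D1829 (iv F4276) (iv F5306) (iv F7261) (iv D4277) D4276
theorem F10131 : act 1 n5894 = n4260 := d0_4 D4276 F10130 (iv D5897) (iv F9623) (iv D4260) (iv D3005) F4256 D2351 D3013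
theorem F10132 : act 4 n5897 = n4337 := d3_2 (iv F7258) F10130 (iv D4337)
theorem F10133 : act 6 n5899 = n4276 := d5_0 F10130 F9627 D5899
theorem F10134 : act 4 n4340 = n5899 := d19_3 F10133 F7258 D4340
theorem F10135 : act 0 n4883 = n4340 := d3_3 F10134 (iv D5899) (iv F8261)
theorem F10136 : act 6 n4337 = n4883 := d5_0 F10135 (iv D4340) D4337
theorem F10137 : act 1 n4882 = n4337 := d10_5 F10136 (iv D4883) (iv D3315) D3314 D4882
theorem F10138 : act 0 n4325 = n4882 := d0_9 F10137 (iv D4337) (iv D3045) (iv D2366) (iv D1854) (iv F2991) D2364 D3039 D4325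
theorem F10140 : act 6 n4880 = n4325 := d5_0 F10138 (iv D4882) D4880
theorem F10141 : act 1 n5896 = n5100 := d6_3 F10129 (iv D5897) (iv F9626) F8567 (iv F8477)
theorem F10142 : act 6 n5900 = n5025 := d14_0 F10129 F9627 D5900
theorem E1586 : n5458 = n3816 := (c10_5 F10142 F8477 D5102 (iv F9300) (iv F9034) (iv F9630))
theorem E1587 : n5457 = n3902 := ((((iv F6667)).symm.trans (sb E1586 F9033))).symm
theorem E1588 : n3900 = n3595 := (((iv F6666)).symm.trans (sb E1586 (iv D5458)))
theorem E1589 : n5919 = n5452 := (((iv F9653)).symm.trans (sb E1586 F9034))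
theorem E1590 : n6079 = n5665 := ((D6079).symm.trans (sb E1587 (iv F9297)))
theorem E1591 : n5453 = n2803 := ((((iv D3902)).symm.trans (sb E1587 F9032))).symm
theorem E1592 : n4921 = n3594 := (((iv F8328)).symm.trans (sb E1587 (iv D5457)))
theorem E1594 : n5456 = n2802 := (((iv F9031)).symm.trans (sb E1588 (iv D3900)))
theorem E1595 : n6075 = n5405 := ((((iv F8961)).symm.trans (sb E1588 D6075))).symm
theorem E1596 : n4678 = n4050 := (((iv F7899)).symm.trans (sb E1588 (iv F6918)))
theorem F10143 : act 5 n3595 = n3816 := (sb E1588 F6666)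
theorem F10144 : act 2 n5452 = n3815 := (sb E1589 (iv D5919))
theorem F10145 : act 4 n5452 = n6025 := (sb E1589 (iv F9784))
theorem E1598 : n3891 = n3592 := ((((iv D5452)).symm.trans (sb E1589 F9652))).symm
theorem F10147 : act 1 n5665 = n3902 := (sb E1590 (iv D6079))
theorem E1599 : n4953 = n3898 := ((((iv F6662)).symm.trans (sb E1591 F9298))).symm
theorem E1601 : n4677 = n3872 := (((iv F7897)).symm.trans (sb E1592 F8327))
theorem F10150 : act 6 n3594 = n3902 := (sb E1592 F8328)
theorem F10151 : act 2 n2802 = n3595 := (sb E1594 F9031)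
theorem E1602 : n3890 = n3593 := (((iv F6648)).symm.trans (sb E1594 (iv D5456)))
theorem F10153 : act 5 n5405 = n5920 := (sb E1595 F9864)
theorem F10154 : act 1 n4050 = n3286 := (sb E1596 F7898)
theorem E1603 : n6028 = n3216 := (((iv F9790)).symm.trans (sb E1596 (iv D4678)))
theorem E1604 : n6056 = n5319 := ((((iv F8860)).symm.trans (sb E1598 (iv F9834)))).symm
theorem E1605 : n5451 = n2796 := ((D5451).symm.trans (sb E1598 (iv D3891)))
theorem E1606 : n6060 = n5402 := ((((iv F8958)).symm.trans (sb E1598 D6060))).symm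
theorem E1607 : n4675 = n4044 := (((iv F7894)).symm.trans (sb E1598 (iv F6899)))
theorem F10156 : act 6 n3592 = n2803 := (sb E1598 F6649)
theorem E1608 : n6069 = n3361 := (((iv F9854)).symm.trans (sb E1599 (iv D4953)))
theorem E1609 : n6072 = n4980 := ((D6072).symm.trans (sb E1599 (iv F8408)))
theorem E1610 : n6065 = n3373 := (((iv F9850)).symm.trans (sb E1599 F8381))
theorem E1611 : n6026 = n4841 := ((D6026).symm.trans (sb E1601 (iv F8175)))
theorem E1612 : n5454 = n3873 := ((D5454).symm.trans (sb E1602 F6645))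
theorem E1613 : n4676 = n3873 := (((iv F7896)).symm.trans (sb E1602 F6646))
theorem F10159 : act 5 n3593 = n3344 := (sb E1602 F6647)
theorem F10161 : act 5 n3216 = n3872 := (sb E1603 (iv D6028))
theorem F10162 : act 6 n3216 = n4050 := (sb E1603 F9790)
theorem F10163 : act 2 n5319 = n3888 := (sb E1604 (iv D6056))
theorem F10165 : act 2 n2796 = n3592 := (sb E1605 (iv D5451))
theorem F10166 : act 6 n5402 = n3901 := (sb E1606 F9842)
theorem F10167 : act 0 n4044 = n3216 := (sb E1607 (iv D4675))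
theorem F10168 : act 4 n4044 = n3592 := (sb E1607 F7894)
theorem F10169 : act 0 n3361 = n3898 := (sb E1608 F9854)
theorem E1614 : n4954 = n3897 := ((D4954).symm.trans (sb E1608 (iv D6069)))
theorem F10170 : act 2 n4980 = n3899 := (sb E1609 F9859)
theorem F10171 : act 5 n4980 = n3898 := (sb E1609 (iv D6072))
theorem E1615 : n4976 = n3895 := ((D4976).symm.trans (sb E1610 (iv D6065)))
theorem E1616 : n6229 = n4500 := ((((iv F7593)).symm.trans (sb E1610 (iv F10102)))).symm
theorem F10172 : act 6 n3373 = n3898 := (sb E1610 F9850)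
theorem F10173 : act 1 n4841 = n3872 := (sb E1611 (iv D6026))
theorem F10174 : act 2 n4841 = n3874 := (sb E1611 F9787)
theorem F10175 : act 3 n3873 = n3593 := (sb E1612 (iv D5454))
theorem F10176 : act 2 n3873 = n3216 := (sb E1613 (iv D4676))
theorem F10178 : act 2 n3897 = n3361 := (sb E1614 (iv D4954))
theorem E1617 : n6064 = n3374 := (((iv F9849)).symm.trans (sb E1614 F8382))
theorem F10179 : act 2 n3895 = n3373 := (sb E1615 (iv D4976))
theorem F10180 : act 2 n4500 = n3980 := (sb E1616 (iv D6229))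
theorem F10181 : act 6 n4500 = n3988 := (sb E1616 F10103)
theorem F10182 : act 0 n3374 = n3895 := (sb E1617 (iv D6064))
theorem E1618 : n4978 = n4321 := ((D4978).symm.trans (sb E1617 F9848))
theorem E1619 : n6228 = n4501 := ((((iv F7594)).symm.trans (sb E1617 (iv F10100)))).symm
theorem E1620 : n6073 = n4979 := (((D4979).symm.trans (sb E1617 (iv F9862)))).symm
theorem F10183 : act 6 n3374 = n3897 := (sb E1617 F9849)
theorem F10184 : act 3 n4321 = n3374 := (sb E1618 (iv D4978))
theorem F10186 : act 6 n4501 = n3987 := (sb E1619 F10101)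
theorem F10187 : act 0 n4979 = n6066 := (sb E1620 F9860)
theorem F10188 : act 3 n4979 = n4336 := (sb E1620 F9861)
theorem F10189 : act 6 n4979 = n3899 := (sb E1620 (iv D6073))
theorem F10190 : act 5 n5722 = n5900 := d22_0 F10142 (iv D5025) D5026 F9387
theorem F10191 : act 2 n5901 = n5722 := d13_3 F10190 (iv D5900) D5901
theorem F10192 : act 2 n6066 = n4977 := d1_2 (iv F8406) F10187 F8404
theorem F10193 : act 2 n4955 = n6070 := d14_3 F9857 F10192 F8405
theorem F10194 : act 2 n3987 = n4489 := d14_1 F10186 F7567 D4501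
theorem F10195 : act 0 n4489 = n3988 := d1_1 F10194 (iv D3988) D3987
theorem F10197 : act 2 n4939 = n6068 := d6_4 F10178 (iv D3361) (iv F5935) D4939 (iv D6068)
theorem E1621 : n5744 = n4922 := ((c12_3 (iv F8176) F10174 (iv F8329) F9413)).symm
theorem F10199 : act 5 n4922 = n3726 := (sb E1621 (iv D5744))
theorem F10201 : act 6 n6071 = n4966 := d17_2 F10172 D6071 F8395
theorem F10202 : act 0 n4947 = n6071 := d5_3 F10201 (iv D4966) (iv F8375)
theorem F10203 : act 1 n5996 = n5669 := d6_3 F10170 F6663 (iv F9750) (iv D5669) (iv F9296)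
theorem F10204 : act 5 n5669 = n6003 := d9_2 D5996 F10203 (iv D6003) (iv D3860) (iv F6583)
theorem F10205 : act 0 n6003 = n5666 := d4_1 F10204 F9291 (iv F9292)
theorem F10206 : act 6 n5404 = n6078 := d22_1 D5404 (iv D6078) (iv F10166) (iv D5402)
theorem E1623 : n6055 = n5320 := (c1_2 F10163 D6055 (iv D5320) D5319)
theorem F10207 : act 0 n5320 = n3888 := (sb E1623 (iv D6055))
theorem F10208 : act 3 n5320 = n5345 := (sb E1623 F9833)
theorem F10209 : act 5 n6027 = n4654 := d16_2 F10161 D6027 F7862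
theorem E1624 : n5881 = n5717 := ((c6_4 F10151 F6230 (iv F6369) D5717 F9612 F6505)).symm
theorem F10213 : act 5 n5717 = n3795 := (sb E1624 (iv D5881))
theorem F10214 : act 2 n5918 = n5102 := d6_4 F10144 (iv D3815) (iv F6498) D5918 (iv F9300)
theorem F10215 : act 6 n5100 = n5918 := d14_0 F10214 (iv D5102) (iv F8567)
theorem F10216 : act 5 n5987 = n4882 := d18_2 D5898 F10128 F8260
def n6244 : Q := act 1 n3987
theorem D6244 : act 1 n3987 = n6244 := rfl
theorem F10217 : act 2 n6244 = n4934 := d6_2 (iv F10194) D6244 (iv D4934) F5928 D4489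
theorem F10218 : act 4 n6244 = n6068 := d8_2 (iv F6787) D6244 (iv D6068)
theorem F10219 : act 6 n5220 = n6244 := d14_0 F10217 F8350 D5220
def n6245 : Q := act 5 n3987
theorem D6245 : act 5 n3987 = n6245 := rfl
theorem F10220 : act 0 n6245 = n3989 := d4_1 D6245 (iv D3989) D3987
theorem F10221 : act 4 n6245 = n6070 := d18_1 D6245 (iv D6070) (iv F6787)
theorem F10222 : act 6 n6245 = n6230 := d22_1 D6245 (iv D6230) F6777 D3987
def n6246 : Q := act 3 n3988
theorem D6246 : act 3 n3988 = n6246 := rfl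
theorem F10223 : act 1 n6246 = n4051 := d7_1 D6246 (iv D4051) (iv F6788)
def n6247 : Q := act 5 n3988
theorem D6247 : act 5 n3988 = n6247 := rfl
theorem F10224 : act 2 n6247 = n3989 := d13_1 D6247 (iv D3989) D3988
theorem F10225 : act 4 n6247 = n4980 := d18_1 D6247 F10171 (iv F6789)
theorem F10226 : act 6 n6247 = n4502 := d22_1 D6247 (iv D4502) (iv F7567) F10195
theorem F10227 : act 1 n4805 = n6247 := d8_3 F10225 F9296 (iv F8112)
def n6248 : Q := act 6 n3989
theorem D6248 : act 6 n3989 = n6248 := rfl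
theorem F10229 : act 2 n6248 = n4502 := d14_1 D6248 (iv F10226) F10224
theorem F10230 : act 4 n6248 = n4979 := d19_1 D6248 F10189 (iv F6790)
def n6249 : Q := act 1 n3990
theorem D6249 : act 1 n3990 = n6249 := rfl
theorem F10232 : act 3 n6249 = n4151 := d7_2 (iv F6792) D6249 (iv D4151)
theorem F10233 : act 4 n6249 = n6101 := d8_2 (iv F6793) D6249 (iv D6101)

end Cfsg.Agent.Helper17.SuzTC
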