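import Cfsg.Agent.Helper17.SuzTC.Facts1

set_option autoImplicit false
set_option linter.all false

noncomputable section

namespace Cfsg.Agent.Helper17.SuzTC

theorem F10234 : act 5 n6249 = n3992 := d9_2 D3990 D6249 (iv D3992) (iv D2854) D2853
def n6250 : Q := act 6 n3990
theorem D6250 : act 6 n3990 = n6250 := rfl
theorem F10238 : act 5 n6250 = n4982 := d22_2 D3990 D6250 (iv D4982) F5959
def n6251 : Q := act 1 n3991
theorem D6251 : act 1 n3991 = n6251 := rfl
theorem F10240 : act 3 n6251 = n4153 := d7_2 (iv F6795) D6251 (iv D4153)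
theorem F10241 : act 4 n6251 = n6102 := d8_2 (iv F6796) D6251 (iv D6102)
def n6252 : Q := act 5 n3991
theorem D6252 : act 5 n3991 = n6252 := rfl
theorem F10244 : act 2 n6252 = n4011 := d13_1 D6252 (iv D4011) (iv F6794)
theorem F10247 : act 6 n6252 = n4981 := d20_2 D3991 D6252 (iv D4981) D4982 (iv F10238) (iv D6250) (iv D3990)
def n6253 : Q := act 0 n3992
theorem D6253 : act 0 n3992 = n6253 := rfl
theorem F10248 : act 3 n6253 = n4155 := d2_2 (iv F6797) D6253 (iv D4155)
def n6254 : Q := act 2 n3992
theorem D6254 : act 2 n3992 = n6254 := rfl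
theorem F10249 : act 1 n6254 = n3995 := d6_1 D6254 (iv D3995) (iv D2856) (iv F4992) D3992
def n6255 : Q := act 6 n3992
theorem D6255 : act 6 n3992 = n6255 := rfl
def n6258 : Q := act 1 n3994
theorem D6258 : act 1 n3994 = n6258 := rfl
theorem F10253 : act 3 n6258 = n3999 := d7_2 (iv F6799) D6258 (iv D3999)
def n6259 : Q := act 2 n3994
theorem D6259 : act 2 n3994 = n6259 := rfl
theorem F10254 : act 0 n6259 = n3995 := d1_1 D6259 (iv D3995) D3994
theorem F10255 : act 5 n6259 = n4016 := d13_2 (iv F6800) D6259 (iv D4016)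
def n6260 : Q := act 3 n3995
theorem D6260 : act 3 n3995 = n6260 := rfl
theorem F10256 : act 5 n6260 = n4018 := d16_2 (iv F6801) D6260 (iv D4018)
def n6261 : Q := act 6 n3995
theorem D6261 : act 6 n3995 = n6261 := rfl
def n6262 : Q := act 1 n3996
theorem D6262 : act 1 n3996 = n6262 := rfl
theorem F10258 : act 3 n6262 = n4000 := d7_2 (iv F6802) D6262 (iv D4000)
def n6265 : Q := act 5 n3997
theorem D6265 : act 5 n3997 = n6265 := rfl
def n6268 : Q := act 6 n3998
theorem D6268 : act 6 n3998 = n6268 := rfl
theorem F10265 : act 3 n6268 = n4006 := d17_1 D6268 (iv D4006) (iv F6804)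
def n6269 : Q := act 0 n3999
theorem D6269 : act 0 n3999 = n6269 := rfl
theorem F10266 : act 1 n6269 = n5230 := d0_2 D3999 D6269 (iv F9628) F10127 (iv D3984) (iv D2851) F4114 D2274 D2859
theorem F10267 : act 4 n6269 = n5429 := d3_2 (iv F6805) D6269 (iv D5429)
theorem F10268 : act 6 n5231 = n6269 := d10_0 F10266 (iv D5230) (iv D3488) D3489 D5231
def n6270 : Q := act 2 n3999
theorem D6270 : act 2 n3999 = n6270 := rfl
theorem F10270 : act 4 n6270 = n5423 := d12_2 (iv F6805) D6270 F8985
def n6271 : Q := act 5 n3999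
theorem D6271 : act 5 n3999 = n6271 := rfl
theorem F10271 : act 1 n6271 = n4023 := d9_1 D6271 (iv D4023) (iv D2870) (iv F5006) D3999
def n6272 : Q := act 6 n3999
theorem D6272 : act 6 n3999 = n6272 := rfl
theorem F10274 : act 4 n6272 = n5431 := d19_1 D6272 (iv D5431) (iv F6805)
def n6273 : Q := act 0 n4000
theorem D6273 : act 0 n4000 = n6273 := rfl
theorem F10276 : act 6 n6273 = n4001 := d5_2 (iv F6807) D6273 (iv D4001)
def n6275 : Q := act 5 n4000
theorem D6275 : act 5 n4000 = n6275 := rfl
theorem F10280 : act 4 n6275 = n5434 := d18_1 D6275 (iv D5434) (iv F6806)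
def n6276 : Q := act 1 n4001
theorem D6276 : act 1 n4001 = n6276 := rfl
theorem F10281 : act 4 n6276 = n5992 := d8_2 (iv F6808) D6276 (iv D5992)
def n6277 : Q := act 2 n4001
theorem D6277 : act 2 n4001 = n6277 := rfl
def n6278 : Q := act 5 n4001
theorem D6278 : act 5 n4001 = n6278 := rfl
theorem F10284 : act 0 n6278 = n4003 := d4_1 D6278 (iv D4003) D4001
theorem F10286 : act 6 n6278 = n6275 := d22_1 D6278 (iv D6275) F6807 D4001
def n6279 : Q := act 3 n4002
theorem D6279 : act 3 n4002 = n6279 := rfl
theorem F10287 : act 1 n6279 = n4054 := d7_1 D6279 (iv D4054) (iv F6809)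
def n6281 : Q := act 6 n4003
theorem D6281 : act 6 n4003 = n6281 := rfl
theorem F10290 : act 0 n6281 = n6275 := d5_1 D6281 (iv F10286) F10284
def n6282 : Q := act 1 n4004
theorem D6282 : act 1 n4004 = n6282 := rfl
theorem F10293 : act 4 n6282 = n6080 := d8_2 (iv F6813) D6282 (iv D6080)
def n6284 : Q := act 6 n4004
theorem D6284 : act 6 n4004 = n6284 := rfl
theorem F10298 : act 5 n6284 = n6118 := d22_2 F9931 D6284 (iv D6118) D6116
def n6287 : Q := act 5 n4006
theorem D6287 : act 5 n4006 = n6287 := rfl
theorem F10304 : act 6 n6287 = n6116 := d20_2 D4006 D6287 F9931 D6284 F10298 (iv D6118) F6711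
def n6288 : Q := act 1 n4007
theorem D6288 : act 1 n4007 = n6288 := rfl
theorem F10305 : act 3 n6288 = n4248 := d7_2 (iv F6819) D6288 (iv D4248)
theorem F10306 : act 4 n6288 = n6093 := d8_2 (iv F6820) D6288 (iv D6093)
def n6290 : Q := act 0 n4009
theorem D6290 : act 0 n4009 = n6290 := rfl
theorem F10310 : act 4 n6290 = n6103 := d3_2 (iv F6825) D6290 (iv D6103)
theorem F10311 : act 5 n6290 = n4012 := d4_2 (iv F6826) D6290 (iv D4012)
def n6291 : Q := act 2 n4009
theorem D6291 : act 2 n4009 = n6291 := rfl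
theorem F10312 : act 4 n6291 = n6104 := d12_2 (iv F6825) D6291 (iv D6104)
theorem F10313 : act 5 n6291 = n4013 := d13_2 (iv F6826) D6291 (iv D4013)
def n6292 : Q := act 6 n4009
theorem D6292 : act 6 n4009 = n6292 := rfl
def n6294 : Q := act 1 n4011
theorem D6294 : act 1 n4011 = n6294 := rfl
theorem F10318 : act 3 n6294 = n4251 := d7_2 (iv F6831) D6294 (iv D4251)
def n6295 : Q := act 1 n4012
theorem D6295 : act 1 n4012 = n6295 := rfl
theorem F10321 : act 3 n6295 = n4030 := d7_2 (iv F6834) D6295 (iv D4030)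
def n6296 : Q := act 2 n4012
theorem D6296 : act 2 n4012 = n6296 := rfl
theorem F10323 : act 0 n6296 = n4013 := d1_1 D6296 (iv D4013) D4012
def n6297 : Q := act 6 n4012
theorem D6297 : act 6 n4012 = n6297 := rfl
theorem F10326 : act 3 n6297 = n4026 := d17_1 D6297 F6857 (iv F6834)
theorem F10327 : act 4 n6297 = n6121 := d19_1 D6297 (iv D6121) (iv F6835)
theorem F10328 : act 5 n6297 = n6292 := d22_2 F10311 D6297 (iv D6292) D6290
def n6298 : Q := act 3 n4013
theorem D6298 : act 3 n4013 = n6298 := rfl
theorem F10329 : act 1 n6298 = n4018 := d7_1 D6298 (iv D4018) (iv F6836)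
def n6300 : Q := act 5 n4014
theorem D6300 : act 5 n4014 = n6300 := rfl
theorem F10335 : act 6 n6300 = n6290 := d20_2 D4014 D6300 F10311 D6297 F10328 (iv D6292) F6826
def n6302 : Q := act 2 n4015
theorem D6302 : act 2 n4015 = n6302 := rfl
def n6303 : Q := act 5 n4015
theorem D6303 : act 5 n4015 = n6303 := rfl
def n6304 : Q := act 6 n4015
theorem D6304 : act 6 n4015 = n6304 := rfl
theorem F10338 : act 3 n6304 = n4024 := d17_1 D6304 (iv D4024) (iv F6841)
def n6305 : Q := act 1 n4016
theorem D6305 : act 1 n4016 = n6305 := rfl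
def n6306 : Q := act 6 n4016
theorem D6306 : act 6 n4016 = n6306 := rfl
theorem F10341 : act 5 n6306 = n6261 := d22_2 F10255 D6306 (iv D6261) (iv F10254)
def n6307 : Q := act 1 n4017
theorem D6307 : act 1 n4017 = n6307 := rfl
theorem F10342 : act 3 n6307 = n4025 := d7_2 (iv F6844) D6307 (iv D4025)
def n6309 : Q := act 6 n4018
theorem D6309 : act 6 n4018 = n6309 := rfl
theorem F10343 : act 3 n6309 = n4019 := d17_1 D6309 (iv D4019) D4018
def n6311 : Q := act 5 n4019
theorem D6311 : act 5 n4019 = n6311 := rfl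
theorem F10346 : act 6 n6311 = n6259 := d20_2 D4019 D6311 F10255 D6306 F10341 (iv D6261) F6801
def n6312 : Q := act 1 n4020
theorem D6312 : act 1 n4020 = n6312 := rfl
theorem F10347 : act 3 n6312 = n4029 := d7_2 (iv F6848) D6312 (iv D4029)
def n6313 : Q := act 2 n4021
theorem D6313 : act 2 n4021 = n6313 := rfl
theorem F10348 : act 0 n6313 = n4022 := d1_1 D6313 (iv D4022) D4021
def n6314 : Q := act 5 n4021
theorem D6314 : act 5 n4021 = n6314 := rfl
theorem F10350 : act 0 n6314 = n4023 := d4_1 D6314 (iv D4023) D4021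
theorem F10351 : act 4 n6314 = n5639 := d18_1 D6314 (iv D5639) (iv F6850)
def n6315 : Q := act 6 n4021
theorem D6315 : act 6 n4021 = n6315 := rfl
theorem F10353 : act 4 n6315 = n5640 := d19_1 D6315 (iv D5640) (iv F6850)
def n6318 : Q := act 6 n4022
theorem D6318 : act 6 n4022 = n6318 := rfl
theorem F10357 : act 2 n6318 = n4024 := d14_1 D6318 (iv D4024) D4022
def n6319 : Q := act 6 n4023
theorem D6319 : act 6 n4023 = n6319 := rfl
theorem F10360 : act 5 n6319 = n6315 := d22_2 D4023 D6319 (iv D6315) (iv D4021)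
def n6320 : Q := act 1 n4024
theorem D6320 : act 1 n4024 = n6320 := rfl
theorem F10362 : act 6 n6320 = n4025 := d10_2 D4024 D6320 (iv D4025) (iv D2871) D2870
theorem F10363 : act 5 n6320 = n5911 := d24_1 (iv F10362) F9641 (iv D5873) (iv F6687) (iv D3912) (iv F4948) (iv D2818) F4092 (iv D1527) D1526 D2274 D2860 (iv F5026) D4025
theorem F10364 : act 5 n5909 = n4025 := d22_0 (iv F10362) F10363 (iv D5911) D5909
theorem F10365 : act 0 n4025 = n5907 := d22_4 F9637 D5911 (iv F10363) F10362
theorem F10366 : act 4 n5907 = n5644 := d3_2 (iv F6855) F10365 (iv D5644)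
theorem F10367 : act 1 n5644 = n4886 := d8_1 F10366 F8265 D5907
theorem F10368 : act 5 n5644 = n4887 := d18_2 (iv F9637) F10366 F8266
theorem F10369 : act 0 n4887 = n5646 := d4_1 F10368 (iv D5646) D5644
theorem F10370 : act 4 n5646 = n5909 := d3_2 (iv F8266) F10369 (iv D5909)
theorem F10371 : act 1 n5909 = n6275 := d8_1 F10370 F10280 (iv F9273)
def n6321 : Q := act 5 n4024
theorem D6321 : act 5 n4024 = n6321 := rfl
theorem F10374 : act 6 n6321 = n6314 := d20_2 D4024 D6321 (iv D6314) D6315 (iv F10360) (iv D6319) (iv D4023)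
def n6322 : Q := act 2 n4025
theorem D6322 : act 2 n4025 = n6322 := rfl
theorem F10375 : act 1 n6322 = n4798 := d6_1 D6322 (iv D4798) (iv D3272) (iv F5024) D4025
theorem F10376 : act 4 n6322 = n5645 := d12_2 (iv F6855) D6322 (iv D5645)
def n6323 : Q := act 1 n4026
theorem D6323 : act 1 n4026 = n6323 := rfl
theorem F10377 : act 4 n6323 = n4422 := d8_2 (iv F6856) D6323 (iv D4422)
def n6324 : Q := act 2 n4026
theorem D6324 : act 2 n4026 = n6324 := rfl
theorem F10378 : act 0 n6324 = n4027 := d1_1 D6324 (iv D4027) D4026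
theorem F10379 : act 4 n6324 = n4421 := d12_2 (iv F6856) D6324 F7445
theorem F10380 : act 6 n6324 = n4031 := d14_2 (iv F6857) D6324 (iv D4031)
def n6325 : Q := act 3 n4027
theorem D6325 : act 3 n4027 = n6325 := rfl
theorem F10381 : act 1 n6325 = n4802 := d7_1 D6325 (iv D4802) (iv F6858)
theorem F10382 : act 6 n6325 = n4033 := d17_2 (iv F6860) D6325 (iv D4033)
def n6326 : Q := act 5 n4027
theorem D6326 : act 5 n4027 = n6326 := rfl
def n6328 : Q := act 0 n4029
theorem D6328 : act 0 n4029 = n6328 := rfl
theorem F10387 : act 4 n6328 = n5652 := d3_2 (iv F6862) D6328 (iv D5652)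
def n6329 : Q := act 2 n4029
theorem D6329 : act 2 n4029 = n6329 := rfl
theorem F10388 : act 1 n6329 = n4806 := d6_1 D6329 (iv D4806) (iv D3276) (iv F5030) D4029
def n6331 : Q := act 5 n4030
theorem D6331 : act 5 n4030 = n6331 := rfl
def n6332 : Q := act 6 n4030
theorem D6332 : act 6 n4030 = n6332 := rfl
def n6333 : Q := act 1 n4031
theorem D6333 : act 1 n4031 = n6333 := rfl
theorem F10394 : act 4 n6333 = n4419 := d8_2 (iv F6865) D6333 (iv D4419)
def n6334 : Q := act 3 n4031
theorem D6334 : act 3 n4031 = n6334 := rfl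
theorem F10395 : act 0 n6334 = n4033 := d2_1 D6334 (iv D4033) (iv F6864)
def n6335 : Q := act 5 n4031
theorem D6335 : act 5 n4031 = n6335 := rfl
theorem F10396 : act 0 n6335 = n4034 := d4_1 D6335 (iv D4034) (iv F6864)
theorem F10398 : act 4 n6335 = n4408 := d18_1 D6335 F7429 (iv F6865)
theorem F10399 : act 6 n6335 = n6326 := d22_1 D6335 (iv D6326) F6860 (iv F6864)
def n6336 : Q := act 1 n4032
theorem D6336 : act 1 n4032 = n6336 := rfl
theorem F10400 : act 4 n6336 = n4407 := d8_2 (iv F6867) D6336 (iv D4407)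
def n6337 : Q := act 2 n4033
theorem D6337 : act 2 n4033 = n6337 := rfl
theorem F10401 : act 1 n6337 = n4558 := d6_1 D6337 (iv D4558) F5505 (iv F5040) (iv F6869)
def n6338 : Q := act 4 n4033
theorem D6338 : act 4 n4033 = n6338 := rfl
theorem F10403 : act 3 n6338 = n4424 := d15_1 D6338 (iv D4424) (iv D3084) (iv F5035) D4033
def n6339 : Q := act 5 n4033
theorem D6339 : act 5 n4033 = n6339 := rfl
theorem F10405 : act 3 n6339 = n4034 := d16_1 D6339 (iv D4034) D4033
def n6340 : Q := act 6 n4034
theorem D6340 : act 6 n4034 = n6340 := rfl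
theorem F10409 : act 5 n6340 = n6324 := d20_1 D6340 F10380 D6335 F10399 (iv D6326) F6860 D4034
def n6341 : Q := act 1 n4035
theorem D6341 : act 1 n4035 = n6341 := rfl
theorem F10411 : act 6 n6341 = n4250 := d10_2 D4035 D6341 (iv D4250) (iv D2998) (iv F5036)
def n6342 : Q := act 1 n4037
theorem D6342 : act 1 n4037 = n6342 := rfl
theorem F10412 : act 3 n6342 = n4626 := d7_2 (iv F6882) D6342 (iv D4626)
theorem F10414 : act 5 n6342 = n4076 := d9_2 D4037 D6342 (iv D4076) (iv D2908) F5043
def n6343 : Q := act 1 n4038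
theorem D6343 : act 1 n4038 = n6343 := rfl
theorem F10417 : act 6 n6343 = n4077 := d10_2 D4038 D6343 (iv D4077) (iv D2909) F5043
def n6344 : Q := act 0 n4039
theorem D6344 : act 0 n4039 = n6344 := rfl
theorem F10418 : act 4 n6344 = n6052 := d3_2 (iv F6888) D6344 (iv D6052)
def n6345 : Q := act 2 n4039
theorem D6345 : act 2 n4039 = n6345 := rfl
theorem F10419 : act 1 n6345 = n4043 := d6_1 D6345 (iv D4043) (iv D2883) (iv F5057) D4039
theorem F10420 : act 4 n6345 = n5983 := d12_2 (iv F6888) D6345 F9718
def n6346 : Q := act 6 n4039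
theorem D6346 : act 6 n4039 = n6346 := rfl
theorem F10421 : act 4 n6346 = n6053 := d19_1 D6346 (iv D6053) (iv F6888)
def n6347 : Q := act 1 n4040
theorem D6347 : act 1 n4040 = n6347 := rfl
theorem F10422 : act 2 n6347 = n5961 := d6_2 (iv F6889) D6347 (iv D5961) F6555 (iv F6510)
def n6348 : Q := act 0 n4041
theorem D6348 : act 0 n4041 = n6348 := rfl
theorem F10424 : act 4 n6348 = n5320 := d3_2 (iv F6892) D6348 F10207
theorem F10425 : act 2 n4616 = n6348 := d12_3 F10424 (iv D5320) (iv F7798)
def n6349 : Q := act 2 n4041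
theorem D6349 : act 2 n4041 = n6349 := rfl
theorem F10427 : act 1 n6349 = n4044 := d6_1 D6349 (iv D4044) (iv D2885) (iv F5059) D4041
def n6350 : Q := act 5 n4041
theorem D6350 : act 5 n4041 = n6350 := rfl
def n6351 : Q := act 1 n4042
theorem D6351 : act 1 n4042 = n6351 := rfl
def n6352 : Q := act 3 n4043
theorem D6352 : act 3 n4043 = n6352 := rfl
theorem F10431 : act 5 n6352 = n4046 := d16_2 (iv F6898) D6352 (iv D4046)
def n6353 : Q := act 3 n4044
theorem D6353 : act 3 n4044 = n6353 := rfl
theorem F10432 : act 0 n6353 = n4654 := d2_1 D6353 F7862 (iv F10167)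
theorem F10433 : act 6 n6353 = n4051 := d17_2 (iv F6900) D6353 (iv D4051)
def n6354 : Q := act 1 n4045
theorem D6354 : act 1 n4045 = n6354 := rfl
theorem F10434 : act 4 n6354 = n5972 := d8_2 (iv F6902) D6354 (iv D5972)
def n6355 : Q := act 3 n4045
theorem D6355 : act 3 n4045 = n6355 := rfl
theorem F10435 : act 0 n6355 = n4046 := d2_1 D6355 (iv D4046) (iv F6901)
theorem F10436 : act 6 n6355 = n5928 := d17_2 (iv F6903) D6355 (iv D5928)
def n6356 : Q := act 2 n4046
theorem D6356 : act 2 n4046 = n6356 := rfl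
def n6357 : Q := act 4 n4046
theorem D6357 : act 4 n4046 = n6357 := rfl
theorem F10437 : act 3 n6357 = n5980 := d15_1 D6357 (iv D5980) (iv D3847) (iv F5076) D4046
def n6358 : Q := act 6 n4046
theorem D6358 : act 6 n4046 = n6358 := rfl
theorem F10439 : act 3 n6358 = n4047 := d17_1 D6358 (iv D4047) D4046
def n6359 : Q := act 1 n4047
theorem D6359 : act 1 n4047 = n6359 := rfl
theorem F10440 : act 4 n6359 = n5985 := d8_2 (iv F6906) D6359 (iv D5985)
def n6360 : Q := act 5 n4047
theorem D6360 : act 5 n4047 = n6360 := rfl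
theorem F10442 : act 2 n6360 = n4048 := d13_1 D6360 (iv D4048) (iv F6905)
theorem F10444 : act 6 n6360 = n5912 := d20_2 D4047 D6360 F9643 F6903 (iv F9659) F9660 F6898
def n6362 : Q := act 3 n4050
theorem D6362 : act 3 n4050 = n6362 := rfl
theorem F10452 : act 6 n6362 = n4654 := d17_2 F10162 D6362 F7862
def n6363 : Q := act 2 n4051
theorem D6363 : act 2 n4051 = n6363 := rfl
def n6365 : Q := act 5 n4051
theorem D6365 : act 5 n4051 = n6365 := rfl
theorem F10454 : act 3 n6365 = n4052 := d16_1 D6365 (iv D4052) D4051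
def n6366 : Q := act 1 n4052
theorem D6366 : act 1 n4052 = n6366 := rfl
theorem F10457 : act 5 n6366 = n4805 := d9_2 D4052 D6366 F10227 (iv D6247) F6788
theorem F10458 : act 0 n4804 = n6366 := d4_3 F10457 (iv D4805) (iv F8111)
def n6367 : Q := act 1 n4053
theorem D6367 : act 1 n4053 = n6367 := rfl
def n6368 : Q := act 3 n4053
theorem D6368 : act 3 n4053 = n6368 := rfl
theorem F10460 : act 0 n6368 = n4054 := d2_1 D6368 (iv D4054) (iv F6922)
theorem F10461 : act 6 n6368 = n4914 := d17_2 (iv F6924) D6368 (iv D4914)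
def n6369 : Q := act 2 n4054
theorem D6369 : act 2 n4054 = n6369 := rfl
def n6370 : Q := act 4 n4054
theorem D6370 : act 4 n4054 = n6370 := rfl
def n6373 : Q := act 1 n4056
theorem D6373 : act 1 n4056 = n6373 := rfl
theorem F10468 : act 2 n6373 = n5971 := d6_2 D4056 D6373 (iv D5971) F6559 (iv F6577)
def n6374 : Q := act 3 n4056
theorem D6374 : act 3 n4056 = n6374 := rfl
theorem F10470 : act 0 n6374 = n4057 := d2_1 D6374 (iv D4057) (iv F6928)
theorem F10471 : act 5 n6374 = n6087 := d16_2 (iv F6930) D6374 (iv D6087)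
def n6375 : Q := act 2 n4057
theorem D6375 : act 2 n4057 = n6375 := rfl
theorem F10472 : act 5 n6375 = n6089 := d13_2 (iv F6931) D6375 (iv D6089)
def n6376 : Q := act 4 n4057
theorem D6376 : act 4 n4057 = n6376 := rfl
theorem F10473 : act 3 n6376 = n6090 := d15_1 D6376 (iv D6090) (iv D3908) (iv F5095) D4057
theorem F10474 : act 5 n6376 = n6090 := d18_2 (iv F6931) D6376 (iv D6090)
def n6377 : Q := act 6 n4057
theorem D6377 : act 6 n4057 = n6377 := rfl
theorem F10475 : act 3 n6377 = n4058 := d17_1 D6377 (iv D4058) D4057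
def n6378 : Q := act 1 n4058
theorem D6378 : act 1 n4058 = n6378 := rfl
theorem F10476 : act 2 n6378 = n6359 := d6_2 (iv F6932) D6378 (iv D6359) F6905 (iv F5097)
theorem F10477 : act 4 n6378 = n6092 := d8_2 (iv F6933) D6378 (iv D6092)
def n6379 : Q := act 1 n4059
theorem D6379 : act 1 n4059 = n6379 := rfl
theorem F10479 : act 5 n6379 = n6045 := d9_2 D4059 D6379 (iv D6045) (iv D3881) F5102
def n6380 : Q := act 1 n4060
theorem D6380 : act 1 n4060 = n6380 := rfl
theorem F10480 : act 4 n6380 = n4077 := d8_2 (iv F6939) D6380 (iv D4077)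
theorem F10481 : act 6 n6380 = n6046 := d10_2 D4060 D6380 (iv D6046) (iv D3882) F5102
def n6381 : Q := act 5 n4061
theorem D6381 : act 5 n4061 = n6381 := rfl
theorem F10482 : act 2 n6381 = n4062 := d13_1 D6381 (iv D4062) D4061
def n6382 : Q := act 6 n4061
theorem D6382 : act 6 n4061 = n6382 := rfl
theorem F10483 : act 2 n6382 = n4063 := d14_1 D6382 (iv D4063) D4061
def n6383 : Q := act 1 n4062
theorem D6383 : act 1 n4062 = n6383 := rfl
theorem F10484 : act 3 n6383 = n4064 := d7_2 (iv F6941) D6383 (iv D4064)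
theorem F10485 : act 5 n6383 = n4068 := d9_2 D4062 D6383 (iv D4068) (iv D2903) (iv F5103)
def n6387 : Q := act 0 n4064
theorem D6387 : act 0 n4064 = n6387 := rfl
theorem F10497 : act 5 n6387 = n4070 := d4_2 (iv F6944) D6387 (iv D4070)
def n6388 : Q := act 6 n4064
theorem D6388 : act 6 n4064 = n6388 := rfl
def n6389 : Q := act 1 n4065
theorem D6389 : act 1 n4065 = n6389 := rfl
theorem F10500 : act 4 n6389 = n4081 := d8_2 (iv F6947) D6389 (iv D4081)
def n6393 : Q := act 1 n4067
theorem D6393 : act 1 n4067 = n6393 := rfl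
def n6394 : Q := act 0 n4068
theorem D6394 : act 0 n4068 = n6394 := rfl
theorem F10508 : act 3 n6394 = n4070 := d2_2 (iv F6955) D6394 (iv D4070)
def n6395 : Q := act 2 n4068
theorem D6395 : act 2 n4068 = n6395 := rfl
theorem F10509 : act 1 n6395 = n6395 := d6_1 D6395 (iv D6395) (iv D4068) F5109 D4068
def n6396 : Q := act 6 n4068
theorem D6396 : act 6 n4068 = n6396 := rfl
def n6397 : Q := act 0 n4069
theorem D6397 : act 0 n4069 = n6397 := rfl
theorem F10511 : act 3 n6397 = n4072 := d2_2 (iv F6956) D6397 (iv D4072)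
def n6400 : Q := act 1 n4070
theorem D6400 : act 1 n4070 = n6400 := rfl
def n6401 : Q := act 6 n4070
theorem D6401 : act 6 n4070 = n6401 := rfl
theorem F10518 : act 5 n6401 = n6388 := d22_2 F10497 D6401 (iv D6388) D6387
def n6402 : Q := act 5 n4071
theorem D6402 : act 5 n4071 = n6402 := rfl
theorem F10522 : act 6 n6402 = n6387 := d20_2 D4071 D6402 F10497 D6401 F10518 (iv D6388) F6944
def n6403 : Q := act 1 n4072
theorem D6403 : act 1 n4072 = n6403 := rfl
theorem F10523 : act 4 n6403 = n4092 := d8_2 (iv F6961) D6403 (iv D4092)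
def n6410 : Q := act 0 n4076
theorem D6410 : act 0 n4076 = n6410 := rfl
def n6413 : Q := act 0 n4077
theorem D6413 : act 0 n4077 = n6413 := rfl
def n6415 : Q := act 5 n4077
theorem D6415 : act 5 n4077 = n6415 := rfl
def n6416 : Q := act 1 n4078
theorem D6416 : act 1 n4078 = n6416 := rfl
theorem F10541 : act 2 n4949 = n6416 := d23_1 (iv F8379) (iv D6416) (iv D4078) F5123 D2915 F5128 F4183 F4100 (iv D1489) (iv D745) (iv F769) (iv D459) (iv F765) D939 D1861 D2380 F4297 D2530 D3370
theorem F10542 : act 0 n6416 = n4950 := d1_1 F10541 (iv D4950) D4949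
theorem F10543 : act 5 n6416 = n4970 := d13_2 (iv F8379) F10541 (iv D4970)
def n6417 : Q := act 2 n4078
theorem D6417 : act 2 n4078 = n6417 := rfl
theorem F10544 : act 0 n6417 = n4079 := d1_1 D6417 (iv D4079) D4078
theorem F10546 : act 5 n6417 = n4087 := d13_2 (iv F6969) D6417 (iv D4087)
def n6419 : Q := act 6 n4079
theorem D6419 : act 6 n4079 = n6419 := rfl
def n6420 : Q := act 1 n4080
theorem D6420 : act 1 n4080 = n6420 := rfl
theorem F10551 : act 6 n6420 = n4081 := d10_2 D4080 D6420 (iv D4081) (iv D2911) D2910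
def n6421 : Q := act 0 n4081
theorem D6421 : act 0 n4081 = n6421 := rfl
def n6422 : Q := act 2 n4081
theorem D6422 : act 2 n4081 = n6422 := rfl
def n6423 : Q := act 5 n4081
theorem D6423 : act 5 n4081 = n6423 := rfl
theorem F10552 : act 1 n6423 = n6415 := d9_1 D6423 (iv D6415) (iv D4077) (iv F5124) D4081
def n6424 : Q := act 1 n4082
theorem D6424 : act 1 n4082 = n6424 := rfl
def n6425 : Q := act 2 n4082
theorem D6425 : act 2 n4082 = n6425 := rfl
def n6428 : Q := act 1 n4084
theorem D6428 : act 1 n4084 = n6428 := rfl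
theorem F10557 : act 5 n6428 = n4085 := d9_2 D4084 D6428 (iv D4085) (iv D2913) D2912
def n6429 : Q := act 0 n4085
theorem D6429 : act 0 n4085 = n6429 := rfl
def n6430 : Q := act 2 n4085
theorem D6430 : act 2 n4085 = n6430 := rfl
def n6432 : Q := act 0 n4086
theorem D6432 : act 0 n4086 = n6432 := rfl
theorem F10559 : act 1 n6432 = n4214 := d0_2 D4086 D6432 (iv D4214) (iv D2977) (iv D2332) (iv D1746) (iv F2765) D2300 D2914
theorem F10560 : act 2 n6333 = n6432 := d6_0 F10559 F10027 (iv D4030) D4031 D6333
def n6433 : Q := act 2 n4086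
theorem D6433 : act 2 n4086 = n6433 := rfl
theorem F10561 : act 0 n6433 = n6333 := d1_1 D6433 F10560 (iv D6432)
def n6434 : Q := act 5 n4086
theorem D6434 : act 5 n4086 = n6434 := rfl
theorem F10562 : act 1 n6434 = n4970 := d9_1 D6434 (iv F10543) (iv D6416) F6969 D4086
def n6435 : Q := act 6 n4086
theorem D6435 : act 6 n4086 = n6435 := rfl
def n6436 : Q := act 1 n4087
theorem D6436 : act 1 n4087 = n6436 := rfl
def n6438 : Q := act 6 n4087
theorem D6438 : act 6 n4087 = n6438 := rfl
theorem F10568 : act 5 n6438 = n6419 := d22_2 F10546 D6438 (iv D6419) (iv F10544)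
def n6439 : Q := act 1 n4088
theorem D6439 : act 1 n4088 = n6439 := rfl
def n6443 : Q := act 5 n4090
theorem D6443 : act 5 n4090 = n6443 := rfl
theorem F10576 : act 6 n6443 = n6417 := d20_2 D4090 D6443 F10546 D6438 F10568 (iv D6419) F6972
def n6444 : Q := act 1 n4091
theorem D6444 : act 1 n4091 = n6444 := rfl
def n6445 : Q := act 0 n4092
theorem D6445 : act 0 n4092 = n6445 := rfl
theorem F10577 : act 1 n6445 = n4232 := d0_2 D4092 D6445 (iv D4232) (iv D2986) (iv D2336) (iv D1748) (iv F2767) D2301 D2917
def n6446 : Q := act 2 n4092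
theorem D6446 : act 2 n4092 = n6446 := rfl
def n6447 : Q := act 5 n4092
theorem D6447 : act 5 n4092 = n6447 := rfl
def n6448 : Q := act 6 n4092
theorem D6448 : act 6 n4092 = n6448 := rfl
def n6452 : Q := act 1 n4094
theorem D6452 : act 1 n4094 = n6452 := rfl
def n6457 : Q := act 1 n4097
theorem D6457 : act 1 n4097 = n6457 := rfl
def n6458 : Q := act 1 n4100
theorem D6458 : act 1 n4100 = n6458 := rfl
theorem F10588 : act 5 n6458 = n4105 := d9_2 D4100 D6458 (iv D4105) (iv D2924) D2922
def n6460 : Q := act 5 n4102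
theorem D6460 : act 5 n4102 = n6460 := rfl
theorem F10592 : act 2 n6460 = n4103 := d13_1 D6460 (iv D4103) D4102
def n6461 : Q := act 6 n4102
theorem D6461 : act 6 n4102 = n6461 := rfl
theorem F10594 : act 2 n6461 = n4104 := d14_1 D6461 (iv D4104) D4102
def n6462 : Q := act 1 n4103
theorem D6462 : act 1 n4103 = n6462 := rfl
def n6464 : Q := act 0 n4105
theorem D6464 : act 0 n4105 = n6464 := rfl
theorem F10597 : act 4 n6464 = n4155 := d3_2 (iv F7007) D6464 (iv D4155)
theorem F10598 : act 2 n5206 = n6464 := d12_3 F10597 F7420 (iv F8697)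
theorem F10599 : act 1 n6464 = n5217 := d6_1 F10598 (iv D5217) (iv D3483) (iv F6085) D5206
def n6465 : Q := act 2 n4105
theorem D6465 : act 2 n4105 = n6465 := rfl
theorem F10600 : act 0 n6465 = n5206 := d1_1 D6465 F10598 (iv D6464)
theorem F10601 : act 1 n6465 = n4261 := d6_1 D6465 (iv D4261) (iv D3005) (iv F5140) D4105
theorem F10602 : act 4 n6465 = n4156 := d12_2 (iv F7007) D6465 (iv D4156)
theorem F10603 : act 6 n6276 = n6465 := d19_0 F10602 F9744 (iv F10281)
def n6466 : Q := act 6 n4105
theorem D6466 : act 6 n4105 = n6466 := rfl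
theorem F10604 : act 2 n6466 = n6276 := d14_1 D6466 F10603 (iv D6465)
def n6467 : Q := act 0 n4106
theorem D6467 : act 0 n4106 = n6467 := rfl
theorem F10606 : act 4 n6467 = n4158 := d3_2 (iv F7008) D6467 (iv D4158)
def n6468 : Q := act 2 n4106
theorem D6468 : act 2 n4106 = n6468 := rfl
theorem F10607 : act 1 n6468 = n4264 := d6_1 D6468 (iv D4264) (iv D3006) (iv F5143) D4106
theorem F10608 : act 4 n6468 = n4159 := d12_2 (iv F7008) D6468 (iv D4159)
def n6469 : Q := act 5 n4106
theorem D6469 : act 5 n4106 = n6469 := rfl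
def n6470 : Q := act 5 n4107
theorem D6470 : act 5 n4107 = n6470 := rfl
theorem F10610 : act 2 n6470 = n4110 := d13_1 D6470 (iv D4110) (iv F7010)
theorem F10611 : act 3 n6470 = n4108 := d16_1 D6470 (iv D4108) D4107
theorem F10612 : act 4 n6470 = n4108 := d18_1 D6470 (iv D4108) F7011
def n6471 : Q := act 6 n4107
theorem D6471 : act 6 n4107 = n6471 := rfl
theorem F10613 : act 2 n6471 = n4111 := d14_1 D6471 (iv D4111) (iv F7010)
theorem F10614 : act 3 n6471 = n4109 := d17_1 D6471 (iv D4109) D4107
def n6472 : Q := act 1 n4108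
theorem D6472 : act 1 n4108 = n6472 := rfl
theorem F10616 : act 5 n6472 = n6472 := d9_2 D4108 D6472 (iv D6472) (iv D4108) F5145
def n6473 : Q := act 6 n4108
theorem D6473 : act 6 n4108 = n6473 := rfl
theorem F10618 : act 5 n6473 = n6461 := d22_2 D4108 D6473 (iv D6461) F7002
def n6474 : Q := act 1 n4109
theorem D6474 : act 1 n4109 = n6474 := rfl
def n6475 : Q := act 5 n4109
theorem D6475 : act 5 n4109 = n6475 := rfl
theorem F10622 : act 6 n6475 = n6460 := d20_2 D4109 D6475 (iv D6460) D6461 (iv F10618) (iv D6473) (iv D4108)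
def n6476 : Q := act 1 n4110
theorem D6476 : act 1 n4110 = n6476 := rfl
theorem F10624 : act 4 n6476 = n4112 := d8_2 (iv F7015) D6476 (iv D4112)
theorem F10625 : act 5 n6476 = n4123 := d9_2 D4110 D6476 (iv D4123) (iv D2934) (iv F5146)
def n6477 : Q := act 6 n4110
theorem D6477 : act 6 n4110 = n6477 := rfl
theorem F10627 : act 4 n6477 = n4113 := d19_1 D6477 (iv D4113) (iv F7015)
theorem F10628 : act 5 n6477 = n4268 := d22_2 D4110 D6477 (iv D4268) F5274
def n6478 : Q := act 1 n4111
theorem D6478 : act 1 n4111 = n6478 := rfl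
theorem F10630 : act 4 n6478 = n4114 := d8_2 (iv F7017) D6478 (iv D4114)
def n6479 : Q := act 5 n4111
theorem D6479 : act 5 n4111 = n6479 := rfl
theorem F10635 : act 6 n6479 = n4267 := d20_2 D4111 D6479 (iv D4267) D4268 (iv F10628) (iv D6477) (iv D4110)
def n6480 : Q := act 0 n4112
theorem D6480 : act 0 n4112 = n6480 := rfl
theorem F10636 : act 3 n6480 = n4116 := d2_2 (iv F7018) D6480 (iv D4116)
theorem F10637 : act 5 n6480 = n4127 := d4_2 (iv F7019) D6480 (iv D4127)
def n6481 : Q := act 2 n4112
theorem D6481 : act 2 n4112 = n6481 := rfl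
theorem F10638 : act 5 n6481 = n4128 := d13_2 (iv F7019) D6481 (iv D4128)
def n6482 : Q := act 6 n4112
theorem D6482 : act 6 n4112 = n6482 := rfl
def n6483 : Q := act 1 n4113
theorem D6483 : act 1 n4113 = n6483 := rfl
def n6484 : Q := act 0 n4114
theorem D6484 : act 0 n4114 = n6484 := rfl
theorem F10641 : act 3 n6484 = n4120 := d2_2 (iv F7022) D6484 (iv D4120)
theorem F10642 : act 6 n6484 = n4131 := d5_2 (iv F7023) D6484 (iv D4131)
def n6485 : Q := act 2 n4114
theorem D6485 : act 2 n4114 = n6485 := rfl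
theorem F10643 : act 6 n6485 = n4132 := d14_2 (iv F7023) D6485 (iv D4132)
def n6486 : Q := act 5 n4114
theorem D6486 : act 5 n4114 = n6486 := rfl
theorem F10644 : act 3 n6486 = n4121 := d16_1 D6486 (iv D4121) (iv F7022)
def n6487 : Q := act 1 n4115
theorem D6487 : act 1 n4115 = n6487 := rfl
def n6488 : Q := act 1 n4116
theorem D6488 : act 1 n4116 = n6488 := rfl
theorem F10646 : act 4 n6488 = n4173 := d8_2 (iv F7027) D6488 (iv D4173)
def n6489 : Q := act 2 n4116
theorem D6489 : act 2 n4116 = n6489 := rfl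
theorem F10647 : act 0 n6489 = n4117 := d1_1 D6489 (iv D4117) D4116
theorem F10648 : act 4 n6489 = n4174 := d12_2 (iv F7027) D6489 (iv D4174)
theorem F10649 : act 5 n6489 = n4136 := d13_2 (iv F7028) D6489 (iv D4136)
def n6490 : Q := act 3 n4117
theorem D6490 : act 3 n4117 = n6490 := rfl
theorem F10651 : act 5 n6490 = n4138 := d16_2 (iv F7031) D6490 (iv D4138)
def n6491 : Q := act 6 n4117
theorem D6491 : act 6 n4117 = n6491 := rfl
def n6492 : Q := act 1 n4118
theorem D6492 : act 1 n4118 = n6492 := rfl
theorem F10655 : act 6 n6492 = n4119 := d10_2 D4118 D6492 (iv D4119) (iv D2931) D2930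
def n6495 : Q := act 5 n4119
theorem D6495 : act 5 n4119 = n6495 := rfl
theorem F10659 : act 1 n6495 = n6469 := d9_1 D6495 (iv D6469) (iv D4106) (iv F5154) D4119
def n6496 : Q := act 1 n4120
theorem D6496 : act 1 n4120 = n6496 := rfl
theorem F10661 : act 4 n6496 = n4181 := d8_2 (iv F7035) D6496 (iv D4181)
def n6497 : Q := act 1 n4121
theorem D6497 : act 1 n4121 = n6497 := rfl
theorem F10663 : act 5 n6497 = n4122 := d9_2 D4121 D6497 (iv D4122) (iv D2933) D2932
def n6498 : Q := act 0 n4122
theorem D6498 : act 0 n4122 = n6498 := rfl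
theorem F10664 : act 4 n6498 = n4183 := d3_2 (iv F7039) D6498 (iv D4183)
def n6499 : Q := act 2 n4122
theorem D6499 : act 2 n4122 = n6499 := rfl
theorem F10665 : act 1 n6499 = n4285 := d6_1 D6499 (iv D4285) (iv D3017) (iv F5159) D4122
theorem F10666 : act 4 n6499 = n4184 := d12_2 (iv F7039) D6499 (iv D4184)
def n6500 : Q := act 6 n4122
theorem D6500 : act 6 n4122 = n6500 := rfl
theorem F10667 : act 1 n6500 = n6466 := d10_1 D6500 (iv D6466) (iv D4105) (iv F5161) D4122
theorem F10668 : act 4 n6500 = n4185 := d19_1 D6500 (iv D4185) (iv F7039)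
def n6501 : Q := act 0 n4123
theorem D6501 : act 0 n4123 = n6501 := rfl
theorem F10669 : act 3 n6501 = n4186 := d2_2 (iv F7040) D6501 (iv D4186)
theorem F10670 : act 4 n6501 = n4127 := d3_2 (iv F7041) D6501 (iv D4127)
def n6502 : Q := act 2 n4123
theorem D6502 : act 2 n4123 = n6502 := rfl
theorem F10671 : act 1 n6502 = n6502 := d6_1 D6502 (iv D6502) (iv D4123) F5162 D4123
theorem F10672 : act 4 n6502 = n4128 := d12_2 (iv F7041) D6502 (iv D4128)
def n6503 : Q := act 6 n4123
theorem D6503 : act 6 n4123 = n6503 := rfl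
theorem F10674 : act 4 n6503 = n4129 := d19_1 D6503 (iv D4129) (iv F7041)
def n6504 : Q := act 1 n4124
theorem D6504 : act 1 n4124 = n6504 := rfl
theorem F10675 : act 3 n6504 = n4189 := d7_2 (iv F7043) D6504 (iv D4189)
theorem F10676 : act 4 n6504 = n4130 := d8_2 (iv F7044) D6504 (iv D4130)
def n6505 : Q := act 0 n4125
theorem D6505 : act 0 n4125 = n6505 := rfl
theorem F10677 : act 3 n6505 = n4190 := d2_2 (iv F7046) D6505 (iv D4190)
theorem F10678 : act 4 n6505 = n4131 := d3_2 (iv F7047) D6505 (iv D4131)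
def n6508 : Q := act 1 n4126
theorem D6508 : act 1 n4126 = n6508 := rfl
theorem F10684 : act 4 n6508 = n4134 := d8_2 (iv F7051) D6508 (iv D4134)
def n6509 : Q := act 1 n4127
theorem D6509 : act 1 n4127 = n6509 := rfl
theorem F10685 : act 3 n6509 = n4135 := d7_2 (iv F7053) D6509 (iv D4135)
def n6510 : Q := act 2 n4127
theorem D6510 : act 2 n4127 = n6510 := rfl
theorem F10686 : act 0 n6510 = n4128 := d1_1 D6510 (iv D4128) D4127
def n6511 : Q := act 6 n4127
theorem D6511 : act 6 n4127 = n6511 := rfl
theorem F10688 : act 3 n6511 = n4137 := d17_1 D6511 (iv D4137) (iv F7053)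
theorem F10689 : act 5 n6511 = n6482 := d22_2 F10637 D6511 (iv D6482) D6480
def n6512 : Q := act 3 n4128
theorem D6512 : act 3 n4128 = n6512 := rfl
def n6513 : Q := act 6 n4128
theorem D6513 : act 6 n4128 = n6513 := rfl
theorem F10691 : act 2 n6513 = n4129 := d14_1 D6513 (iv D4129) D4128
def n6514 : Q := act 1 n4129
theorem D6514 : act 1 n4129 = n6514 := rfl
theorem F10692 : act 3 n6514 = n4140 := d7_2 (iv F7055) D6514 (iv D4140)
theorem F10693 : act 6 n6514 = n4130 := d10_2 D4129 D6514 (iv D4130) (iv D2937) D2936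
def n6515 : Q := act 5 n4129
theorem D6515 : act 5 n4129 = n6515 := rfl
theorem F10695 : act 3 n6515 = n4141 := d16_1 D6515 (iv D4141) (iv F7055)
theorem F10696 : act 6 n6515 = n6480 := d20_2 D4129 D6515 F10637 D6511 F10689 (iv D6482) F7019
def n6516 : Q := act 0 n4130
theorem D6516 : act 0 n4130 = n6516 := rfl
theorem F10697 : act 3 n6516 = n4142 := d2_2 (iv F7056) D6516 (iv D4142)
def n6517 : Q := act 2 n4130
theorem D6517 : act 2 n4130 = n6517 := rfl
theorem F10698 : act 1 n6517 = n6517 := d6_1 D6517 (iv D6517) (iv D4130) F5169 D4130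
def n6518 : Q := act 5 n4130
theorem D6518 : act 5 n4130 = n6518 := rfl
def n6519 : Q := act 1 n4131
theorem D6519 : act 1 n4131 = n6519 := rfl
theorem F10701 : act 3 n6519 = n4144 := d7_2 (iv F7057) D6519 (iv D4144)
def n6520 : Q := act 2 n4131
theorem D6520 : act 2 n4131 = n6520 := rfl
def n6522 : Q := act 3 n4132
theorem D6522 : act 3 n4132 = n6522 := rfl
def n6524 : Q := act 1 n4133
theorem D6524 : act 1 n4133 = n6524 := rfl
theorem F10708 : act 3 n6524 = n4146 := d7_2 (iv F7059) D6524 (iv D4146)
theorem F10709 : act 5 n6524 = n4134 := d9_2 D4133 D6524 (iv D4134) (iv D2939) D2938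
def n6526 : Q := act 0 n4134
theorem D6526 : act 0 n4134 = n6526 := rfl
theorem F10713 : act 3 n6526 = n4148 := d2_2 (iv F7060) D6526 (iv D4148)
def n6527 : Q := act 2 n4134
theorem D6527 : act 2 n4134 = n6527 := rfl
theorem F10714 : act 1 n6527 = n6527 := d6_1 D6527 (iv D6527) (iv D4134) F5174 D4134
def n6529 : Q := act 5 n4135
theorem D6529 : act 5 n4135 = n6529 := rfl
def n6530 : Q := act 6 n4135
theorem D6530 : act 6 n4135 = n6530 := rfl
theorem F10718 : act 4 n6530 = n4217 := d19_1 D6530 (iv D4217) (iv F7061)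
def n6531 : Q := act 3 n4136
theorem D6531 : act 3 n4136 = n6531 := rfl
theorem F10719 : act 0 n6531 = n4138 := d2_1 D6531 (iv D4138) (iv F7062)
def n6532 : Q := act 6 n4136
theorem D6532 : act 6 n4136 = n6532 := rfl
theorem F10720 : act 0 n6532 = n4139 := d5_1 D6532 (iv D4139) (iv F7062)
theorem F10721 : act 2 n6532 = n4137 := d14_1 D6532 (iv D4137) D4136
theorem F10723 : act 5 n6532 = n6491 := d22_2 F10649 D6532 (iv D6491) (iv F10647)
def n6533 : Q := act 1 n4137
theorem D6533 : act 1 n4137 = n6533 := rfl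
def n6534 : Q := act 2 n4138
theorem D6534 : act 2 n4138 = n6534 := rfl
def n6535 : Q := act 4 n4138
theorem D6535 : act 4 n4138 = n6535 := rfl
theorem F10726 : act 3 n6535 = n4223 := d15_1 D6535 (iv D4223) (iv D2980) (iv F5179) D4138
def n6536 : Q := act 6 n4138
theorem D6536 : act 6 n4138 = n6536 := rfl
theorem F10727 : act 1 n6536 = n4224 := d10_1 D6536 (iv D4224) F5227 (iv F5189) (iv F7067)
def n6537 : Q := act 5 n4139
theorem D6537 : act 5 n4139 = n6537 := rfl
theorem F10730 : act 2 n6537 = n4141 := d13_1 D6537 (iv D4141) (iv F7069)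
theorem F10731 : act 4 n6537 = n4225 := d18_1 D6537 (iv D4225) (iv F7070)
theorem F10732 : act 6 n6537 = n6489 := d20_2 D4139 D6537 F10649 D6532 F10723 (iv D6491) F7031
def n6538 : Q := act 0 n4140
theorem D6538 : act 0 n4140 = n6538 := rfl
theorem F10733 : act 2 n6538 = n4226 := d1_2 (iv F7071) D6538 (iv D4226)
theorem F10734 : act 4 n6538 = n4226 := d3_2 (iv F7072) D6538 (iv D4226)
theorem F10735 : act 6 n6538 = n4142 := d5_2 (iv F7073) D6538 (iv D4142)
def n6539 : Q := act 5 n4140
theorem D6539 : act 5 n4140 = n6539 := rfl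
theorem F10736 : act 2 n6539 = n4227 := d13_1 D6539 (iv D4227) (iv F7071)
theorem F10737 : act 4 n6539 = n4227 := d18_1 D6539 (iv D4227) (iv F7072)
def n6540 : Q := act 1 n4141
theorem D6540 : act 1 n4141 = n6540 := rfl
theorem F10738 : act 4 n6540 = n4228 := d8_2 (iv F7075) D6540 (iv D4228)
def n6541 : Q := act 1 n4142
theorem D6541 : act 1 n4142 = n6541 := rfl
def n6542 : Q := act 5 n4142
theorem D6542 : act 5 n4142 = n6542 := rfl
theorem F10741 : act 2 n6542 = n4230 := d13_1 D6542 (iv D4230) (iv F7077)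
theorem F10743 : act 6 n6542 = n6539 := d22_1 D6542 (iv D6539) F7073 D4142
def n6543 : Q := act 6 n4143
theorem D6543 : act 6 n4143 = n6543 := rfl
theorem F10747 : act 5 n6543 = n6538 := d20_1 D6543 F10735 D6542 F10743 (iv D6539) F7073 D4143
def n6544 : Q := act 0 n4144
theorem D6544 : act 0 n4144 = n6544 := rfl
theorem F10748 : act 4 n6544 = n4232 := d3_2 (iv F7082) D6544 (iv D4232)
def n6545 : Q := act 2 n4144
theorem D6545 : act 2 n4144 = n6545 := rfl
theorem F10749 : act 1 n6545 = n4565 := d6_1 D6545 (iv D4565) (iv D3156) (iv F5183) D4144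
theorem F10750 : act 4 n6545 = n4233 := d12_2 (iv F7082) D6545 (iv D4233)
def n6546 : Q := act 5 n4144
theorem D6546 : act 5 n4144 = n6546 := rfl
def n6547 : Q := act 6 n4144
theorem D6547 : act 6 n4144 = n6547 := rfl
theorem F10752 : act 4 n6547 = n4235 := d19_1 D6547 (iv D4235) (iv F7082)
def n6548 : Q := act 1 n4145
theorem D6548 : act 1 n4145 = n6548 := rfl
theorem F10753 : act 4 n6548 = n4236 := d8_2 (iv F7085) D6548 (iv D4236)
def n6549 : Q := act 0 n4146
theorem D6549 : act 0 n4146 = n6549 := rfl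
def n6552 : Q := act 1 n4148
theorem D6552 : act 1 n4148 = n6552 := rfl
theorem F10758 : act 4 n6552 = n4240 := d8_2 (iv F7093) D6552 (iv D4240)
def n6555 : Q := act 6 n4151
theorem D6555 : act 6 n4151 = n6555 := rfl
def n6556 : Q := act 1 n4152
theorem D6556 : act 1 n4152 = n6556 := rfl
def n6557 : Q := act 0 n4153
theorem D6557 : act 0 n4153 = n6557 := rfl
theorem F10765 : act 6 n6557 = n4158 := d5_2 (iv F7102) D6557 (iv D4158)
def n6558 : Q := act 2 n4153
theorem D6558 : act 2 n4153 = n6558 := rfl
theorem F10766 : act 6 n6558 = n4159 := d14_2 (iv F7102) D6558 (iv D4159)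
def n6559 : Q := act 5 n4153
theorem D6559 : act 5 n4153 = n6559 := rfl
def n6560 : Q := act 1 n4154
theorem D6560 : act 1 n4154 = n6560 := rfl
def n6561 : Q := act 1 n4155
theorem D6561 : act 1 n4155 = n6561 := rfl
theorem F10767 : act 2 n6561 = n4584 := d6_2 (iv F7420) D6561 (iv D4584) (iv F5655) D4401
def n6562 : Q := act 6 n4155
theorem D6562 : act 6 n4155 = n6562 := rfl
theorem F10769 : act 0 n6562 = n4157 := d5_1 D6562 (iv D4157) D4155
theorem F10770 : act 5 n6562 = n6555 := d22_2 F7424 D6562 (iv D6555) (iv F7422)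
def n6563 : Q := act 5 n4157
theorem D6563 : act 5 n4157 = n6563 := rfl
theorem F10773 : act 6 n6563 = n4405 := d20_2 D4157 D6563 F7424 D6562 F10770 (iv D6555) F7099
def n6564 : Q := act 1 n4158
theorem D6564 : act 1 n4158 = n6564 := rfl
def n6566 : Q := act 5 n4158
theorem D6566 : act 5 n4158 = n6566 := rfl
theorem F10776 : act 6 n6566 = n6559 := d22_1 D6566 (iv D6559) F7102 D4158
def n6568 : Q := act 5 n4159
theorem D6568 : act 5 n4159 = n6568 := rfl
def n6570 : Q := act 0 n4161
theorem D6570 : act 0 n4161 = n6570 := rfl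
theorem F10781 : act 4 n6570 = n4165 := d3_2 (iv F7108) D6570 (iv D4165)
theorem F10782 : act 5 n6570 = n4186 := d4_2 (iv F7109) D6570 (iv D4186)
def n6571 : Q := act 2 n4161
theorem D6571 : act 2 n4161 = n6571 := rfl
theorem F10784 : act 5 n6571 = n4187 := d13_2 (iv F7109) D6571 (iv D4187)
def n6574 : Q := act 0 n4163
theorem D6574 : act 0 n4163 = n6574 := rfl
theorem F10788 : act 6 n6574 = n4190 := d5_2 (iv F7114) D6574 (iv D4190)
def n6575 : Q := act 2 n4163
theorem D6575 : act 2 n4163 = n6575 := rfl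
theorem F10790 : act 6 n6575 = n4191 := d14_2 (iv F7114) D6575 (iv D4191)
def n6578 : Q := act 1 n4165
theorem D6578 : act 1 n4165 = n6578 := rfl
def n6579 : Q := act 2 n4165
theorem D6579 : act 2 n4165 = n6579 := rfl
theorem F10794 : act 0 n6579 = n4166 := d1_1 D6579 (iv D4166) D4165
theorem F10795 : act 5 n6579 = n4195 := d13_2 (iv F7120) D6579 (iv D4195)
def n6580 : Q := act 3 n4166
theorem D6580 : act 3 n4166 = n6580 := rfl
theorem F10796 : act 5 n6580 = n4197 := d16_2 (iv F7121) D6580 (iv D4197)
def n6581 : Q := act 6 n4166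
theorem D6581 : act 6 n4166 = n6581 := rfl
theorem F10797 : act 2 n6581 = n4167 := d14_1 D6581 (iv D4167) D4166
def n6582 : Q := act 1 n4167
theorem D6582 : act 1 n4167 = n6582 := rfl
theorem F10799 : act 6 n6582 = n4168 := d10_2 D4167 D6582 (iv D4168) (iv D2955) D2954
def n6587 : Q := act 2 n4169
theorem D6587 : act 2 n4169 = n6587 := rfl
theorem F10806 : act 6 n6587 = n4205 := d14_2 (iv F7125) D6587 (iv D4205)
def n6590 : Q := act 1 n4171
theorem D6590 : act 1 n4171 = n6590 := rfl
theorem F10810 : act 5 n6590 = n4172 := d9_2 D4171 D6590 (iv D4172) (iv D2957) D2956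
def n6591 : Q := act 0 n4172
theorem D6591 : act 0 n4172 = n6591 := rfl
theorem F10811 : act 3 n6591 = n4183 := d2_2 (iv F7128) D6591 (iv D4183)
def n6592 : Q := act 2 n4172
theorem D6592 : act 2 n4172 = n6592 := rfl
def n6593 : Q := act 6 n4172
theorem D6593 : act 6 n4172 = n6593 := rfl
theorem F10813 : act 1 n6593 = n6255 := d10_1 D6593 (iv D6255) (iv D3992) (iv F5202) D4172
def n6594 : Q := act 0 n4173
theorem D6594 : act 0 n4173 = n6594 := rfl
def n6595 : Q := act 2 n4173
theorem D6595 : act 2 n4173 = n6595 := rfl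
def n6596 : Q := act 5 n4173
theorem D6596 : act 5 n4173 = n6596 := rfl
theorem F10815 : act 1 n6596 = n4216 := d9_1 D6596 (iv D4216) (iv D2977) (iv F5203) D4173
def n6597 : Q := act 6 n4173
theorem D6597 : act 6 n4173 = n6597 := rfl
def n6598 : Q := act 1 n4174
theorem D6598 : act 1 n4174 = n6598 := rfl
def n6599 : Q := act 3 n4174
theorem D6599 : act 3 n4174 = n6599 := rfl
theorem F10816 : act 0 n6599 = n4175 := d2_1 D6599 (iv D4175) (iv F7129)
theorem F10817 : act 5 n6599 = n4219 := d16_2 (iv F7130) D6599 (iv D4219)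
def n6600 : Q := act 2 n4175
theorem D6600 : act 2 n4175 = n6600 := rfl
def n6601 : Q := act 4 n4175
theorem D6601 : act 4 n4175 = n6601 := rfl
theorem F10820 : act 5 n6601 = n4223 := d18_2 (iv F7132) D6601 (iv D4223)
def n6603 : Q := act 1 n4176
theorem D6603 : act 1 n4176 = n6603 := rfl
theorem F10822 : act 6 n6603 = n4346 := d10_2 D4176 D6603 (iv D4346) (iv D3048) (iv F5204)
def n6606 : Q := act 5 n4177
theorem D6606 : act 5 n4177 = n6606 := rfl
def n6607 : Q := act 1 n4178
theorem D6607 : act 1 n4178 = n6607 := rfl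
def n6609 : Q := act 5 n4178
theorem D6609 : act 5 n4178 = n6609 := rfl
theorem F10827 : act 6 n6609 = n6606 := d22_1 D6609 (iv D6606) F7134 D4178
def n6613 : Q := act 0 n4181
theorem D6613 : act 0 n4181 = n6613 := rfl
def n6614 : Q := act 2 n4181
theorem D6614 : act 2 n4181 = n6614 := rfl
theorem F10832 : act 1 n6614 = n5043 := d6_1 D6614 (iv D5043) (iv D3405) (iv F5206) D4181
def n6615 : Q := act 5 n4181
theorem D6615 : act 5 n4181 = n6615 := rfl
def n6616 : Q := act 6 n4181
theorem D6616 : act 6 n4181 = n6616 := rfl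
theorem F10833 : act 1 n6616 = n4235 := d10_1 D6616 (iv D4235) (iv D2986) (iv F5207) D4181
def n6617 : Q := act 0 n4182
theorem D6617 : act 0 n4182 = n6617 := rfl
theorem F10834 : act 5 n6617 = n4183 := d4_2 (iv F7137) D6617 (iv D4183)
def n6618 : Q := act 2 n4182
theorem D6618 : act 2 n4182 = n6618 := rfl
theorem F10835 : act 1 n6618 = n5047 := d6_1 D6618 (iv D5047) (iv D3406) (iv F5208) D4182
theorem F10836 : act 5 n6618 = n4184 := d13_2 (iv F7137) D6618 (iv D4184)
def n6619 : Q := act 6 n4182
theorem D6619 : act 6 n4182 = n6619 := rfl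
def n6620 : Q := act 1 n4183
theorem D6620 : act 1 n4183 = n6620 := rfl
def n6621 : Q := act 2 n4183
theorem D6621 : act 2 n4183 = n6621 := rfl
def n6622 : Q := act 6 n4183
theorem D6622 : act 6 n4183 = n6622 := rfl
theorem F10838 : act 0 n6622 = n4185 := d5_1 D6622 (iv D4185) D4183
theorem F10839 : act 5 n6622 = n6619 := d22_2 F10834 D6622 (iv D6619) D6617
def n6623 : Q := act 3 n4184
theorem D6623 : act 3 n4184 = n6623 := rfl
def n6624 : Q := act 6 n4184
theorem D6624 : act 6 n4184 = n6624 := rfl
theorem F10841 : act 2 n6624 = n4185 := d14_1 D6624 (iv D4185) D4184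
def n6625 : Q := act 5 n4185
theorem D6625 : act 5 n4185 = n6625 := rfl
theorem F10844 : act 6 n6625 = n6617 := d20_2 D4185 D6625 F10834 D6622 F10839 (iv D6619) F7137
def n6626 : Q := act 1 n4186
theorem D6626 : act 1 n4186 = n6626 := rfl
theorem F10845 : act 4 n6626 = n4194 := d8_2 (iv F7140) D6626 (iv D4194)
def n6627 : Q := act 2 n4186
theorem D6627 : act 2 n4186 = n6627 := rfl
theorem F10846 : act 0 n6627 = n4187 := d1_1 D6627 (iv D4187) D4186
theorem F10847 : act 4 n6627 = n4195 := d12_2 (iv F7140) D6627 (iv D4195)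
def n6628 : Q := act 6 n4186
theorem D6628 : act 6 n4186 = n6628 := rfl
theorem F10849 : act 4 n6628 = n4196 := d19_1 D6628 (iv D4196) (iv F7140)
def n6629 : Q := act 3 n4187
theorem D6629 : act 3 n4187 = n6629 := rfl
def n6630 : Q := act 6 n4187
theorem D6630 : act 6 n4187 = n6630 := rfl
theorem F10851 : act 2 n6630 = n4188 := d14_1 D6630 (iv D4188) D4187
theorem F10852 : act 4 n6630 = n4198 := d19_1 D6630 (iv D4198) (iv F7141)
def n6631 : Q := act 1 n4188
theorem D6631 : act 1 n4188 = n6631 := rfl
theorem F10854 : act 6 n6631 = n4189 := d10_2 D4188 D6631 (iv D4189) (iv D2966) D2965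
def n6633 : Q := act 0 n4189
theorem D6633 : act 0 n4189 = n6633 := rfl
theorem F10858 : act 4 n6633 = n4201 := d3_2 (iv F7143) D6633 (iv D4201)
def n6634 : Q := act 2 n4189
theorem D6634 : act 2 n4189 = n6634 := rfl
theorem F10859 : act 1 n6634 = n4741 := d6_1 D6634 (iv D4741) (iv D3247) (iv F5210) D4189
theorem F10860 : act 4 n6634 = n4202 := d12_2 (iv F7143) D6634 (iv D4202)
def n6635 : Q := act 5 n4189
theorem D6635 : act 5 n4189 = n6635 := rfl
def n6636 : Q := act 1 n4190
theorem D6636 : act 1 n4190 = n6636 := rfl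
theorem F10863 : act 4 n6636 = n4204 := d8_2 (iv F7144) D6636 (iv D4204)
def n6637 : Q := act 2 n4190
theorem D6637 : act 2 n4190 = n6637 := rfl
theorem F10864 : act 0 n6637 = n4191 := d1_1 D6637 (iv D4191) D4190
def n6639 : Q := act 3 n4191
theorem D6639 : act 3 n4191 = n6639 := rfl
def n6640 : Q := act 5 n4191
theorem D6640 : act 5 n4191 = n6640 := rfl
theorem F10870 : act 4 n6640 = n4208 := d18_1 D6640 (iv D4208) (iv F7145)
def n6641 : Q := act 1 n4192
theorem D6641 : act 1 n4192 = n6641 := rfl
theorem F10872 : act 5 n6641 = n4193 := d9_2 D4192 D6641 (iv D4193) (iv D2968) D2967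
def n6643 : Q := act 0 n4193
theorem D6643 : act 0 n4193 = n6643 := rfl
def n6644 : Q := act 2 n4193
theorem D6644 : act 2 n4193 = n6644 := rfl
theorem F10877 : act 1 n6644 = n4731 := d6_1 D6644 (iv D4731) (iv D3243) (iv F5215) D4193
theorem F10878 : act 4 n6644 = n4212 := d12_2 (iv F7147) D6644 (iv D4212)
def n6646 : Q := act 0 n4194
theorem D6646 : act 0 n4194 = n6646 := rfl
theorem F10881 : act 3 n6646 = n4214 := d2_2 (iv F7148) D6646 (iv D4214)
def n6647 : Q := act 2 n4194
theorem D6647 : act 2 n4194 = n6647 := rfl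
def n6648 : Q := act 5 n4194
theorem D6648 : act 5 n4194 = n6648 := rfl
def n6649 : Q := act 6 n4194
theorem D6649 : act 6 n4194 = n6649 := rfl
theorem F10883 : act 3 n6649 = n4217 := d17_1 D6649 (iv D4217) (iv F7148)
def n6651 : Q := act 3 n4195
theorem D6651 : act 3 n4195 = n6651 := rfl
def n6652 : Q := act 6 n4195
theorem D6652 : act 6 n4195 = n6652 := rfl
theorem F10886 : act 2 n6652 = n4196 := d14_1 D6652 (iv D4196) D4195
theorem F10887 : act 5 n6652 = n6581 := d22_2 F10795 D6652 (iv D6581) (iv F10794)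
def n6653 : Q := act 1 n4196
theorem D6653 : act 1 n4196 = n6653 := rfl
theorem F10888 : act 3 n6653 = n4221 := d7_2 (iv F7151) D6653 (iv D4221)
def n6656 : Q := act 6 n4197
theorem D6656 : act 6 n4197 = n6656 := rfl
def n6657 : Q := act 1 n4198
theorem D6657 : act 1 n4198 = n6657 := rfl
def n6658 : Q := act 5 n4198
theorem D6658 : act 5 n4198 = n6658 := rfl
theorem F10892 : act 6 n6658 = n6579 := d20_2 D4198 D6658 F10795 D6652 F10887 (iv D6581) F7121
def n6659 : Q := act 0 n4199
theorem D6659 : act 0 n4199 = n6659 := rfl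
theorem F10893 : act 3 n6659 = n4226 := d2_2 (iv F7154) D6659 (iv D4226)
theorem F10894 : act 6 n6659 = n4201 := d5_2 (iv F7155) D6659 (iv D4201)
def n6661 : Q := act 5 n4199
theorem D6661 : act 5 n4199 = n6661 := rfl
def n6662 : Q := act 1 n4200
theorem D6662 : act 1 n4200 = n6662 := rfl
theorem F10897 : act 3 n6662 = n4228 := d7_2 (iv F7157) D6662 (iv D4228)
def n6663 : Q := act 1 n4201
theorem D6663 : act 1 n4201 = n6663 := rfl
theorem F10898 : act 3 n6663 = n4229 := d7_2 (iv F7159) D6663 (iv D4229)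
def n6664 : Q := act 2 n4201
theorem D6664 : act 2 n4201 = n6664 := rfl
theorem F10899 : act 0 n6664 = n4202 := d1_1 D6664 (iv D4202) D4201
def n6665 : Q := act 5 n4201
theorem D6665 : act 5 n4201 = n6665 := rfl
theorem F10900 : act 0 n6665 = n4203 := d4_1 D6665 (iv D4203) D4201
theorem F10901 : act 3 n6665 = n4230 := d16_1 D6665 (iv D4230) (iv F7159)
theorem F10902 : act 6 n6665 = n6661 := d22_1 D6665 (iv D6661) F7155 D4201
def n6666 : Q := act 3 n4202
theorem D6666 : act 3 n4202 = n6666 := rfl
theorem F10903 : act 1 n6666 = n4785 := d7_1 D6666 (iv D4785) (iv F7160)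
def n6667 : Q := act 5 n4202
theorem D6667 : act 5 n4202 = n6667 := rfl
theorem F10904 : act 2 n6667 = n4203 := d13_1 D6667 (iv D4203) D4202
def n6668 : Q := act 6 n4203
theorem D6668 : act 6 n4203 = n6668 := rfl
theorem F10905 : act 0 n6668 = n6661 := d5_1 D6668 (iv F10902) F10900
theorem F10906 : act 3 n6668 = n4231 := d17_1 D6668 (iv D4231) (iv F7162)
theorem F10907 : act 5 n6668 = n6659 := d20_1 D6668 F10894 D6665 F10902 (iv D6661) F7155 D4203
def n6669 : Q := act 0 n4204
theorem D6669 : act 0 n4204 = n6669 := rfl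
def n6671 : Q := act 5 n4204
theorem D6671 : act 5 n4204 = n6671 := rfl
theorem F10909 : act 3 n6671 = n4234 := d16_1 D6671 (iv D4234) (iv F7163)
def n6672 : Q := act 6 n4204
theorem D6672 : act 6 n4204 = n6672 := rfl
theorem F10910 : act 3 n6672 = n4235 := d17_1 D6672 (iv D4235) (iv F7163)
def n6675 : Q := act 1 n4206
theorem D6675 : act 1 n4206 = n6675 := rfl
theorem F10914 : act 3 n6675 = n4236 := d7_2 (iv F7166) D6675 (iv D4236)
def n6678 : Q := act 1 n4208
theorem D6678 : act 1 n4208 = n6678 := rfl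
def n6680 : Q := act 0 n4209
theorem D6680 : act 0 n4209 = n6680 := rfl
theorem F10920 : act 5 n6680 = n4211 := d4_2 (iv F7170) D6680 (iv D4211)
def n6681 : Q := act 2 n4209
theorem D6681 : act 2 n4209 = n6681 := rfl
theorem F10921 : act 5 n6681 = n4212 := d13_2 (iv F7170) D6681 (iv D4212)
def n6683 : Q := act 1 n4210
theorem D6683 : act 1 n4210 = n6683 := rfl
def n6684 : Q := act 1 n4211
theorem D6684 : act 1 n4211 = n6684 := rfl
theorem F10924 : act 3 n6684 = n4240 := d7_2 (iv F7174) D6684 (iv D4240)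
def n6685 : Q := act 2 n4211
theorem D6685 : act 2 n4211 = n6685 := rfl
theorem F10925 : act 0 n6685 = n4212 := d1_1 D6685 (iv D4212) D4211
def n6686 : Q := act 6 n4211
theorem D6686 : act 6 n4211 = n6686 := rfl
def n6687 : Q := act 3 n4212
theorem D6687 : act 3 n4212 = n6687 := rfl
theorem F10929 : act 1 n6687 = n4763 := d7_1 D6687 (iv D4763) (iv F7175)
def n6688 : Q := act 6 n4212
theorem D6688 : act 6 n4212 = n6688 := rfl
def n6690 : Q := act 5 n4214
theorem D6690 : act 5 n4214 = n6690 := rfl
theorem F10934 : act 0 n6690 = n4216 := d4_1 D6690 (iv D4216) D4214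
theorem F10935 : act 2 n6690 = n6331 := d13_1 D6690 (iv D6331) (iv F10027)
def n6691 : Q := act 6 n4214
theorem D6691 : act 6 n4214 = n6691 := rfl
theorem F10936 : act 0 n6691 = n4217 := d5_1 D6691 (iv D4217) D4214
theorem F10937 : act 2 n6691 = n6332 := d14_1 D6691 (iv D6332) (iv F10027)
def n6692 : Q := act 3 n4215
theorem D6692 : act 3 n4215 = n6692 := rfl
theorem F10938 : act 0 n6692 = n6295 := d2_1 D6692 F10321 F10025
def n6693 : Q := act 5 n4215
theorem D6693 : act 5 n4215 = n6693 := rfl
theorem F10940 : act 2 n6693 = n4216 := d13_1 D6693 (iv D4216) D4215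
def n6694 : Q := act 6 n4215
theorem D6694 : act 6 n4215 = n6694 := rfl
theorem F10941 : act 0 n6694 = n6332 := d5_1 D6694 (iv D6332) F10025
theorem F10942 : act 2 n6694 = n4217 := d14_1 D6694 (iv D4217) D4215
def n6695 : Q := act 6 n4216
theorem D6695 : act 6 n4216 = n6695 := rfl
theorem F10943 : act 5 n6695 = n6691 := d22_2 D4216 D6695 (iv D6691) (iv D4214)
def n6696 : Q := act 1 n4217
theorem D6696 : act 1 n4217 = n6696 := rfl
theorem F10944 : act 6 n6696 = n4221 := d10_2 D4217 D6696 (iv D4221) (iv D2979) D2977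
def n6697 : Q := act 5 n4217
theorem D6697 : act 5 n4217 = n6697 := rfl
theorem F10946 : act 6 n6697 = n6690 := d20_2 D4217 D6697 (iv D6690) D6691 (iv F10943) (iv D6695) (iv D4216)
def n6698 : Q := act 3 n4218
theorem D6698 : act 3 n4218 = n6698 := rfl
theorem F10947 : act 1 n6698 = n4219 := d7_1 D6698 (iv D4219) D4218
def n6699 : Q := act 5 n4218
theorem D6699 : act 5 n4218 = n6699 := rfl
def n6700 : Q := act 6 n4218
theorem D6700 : act 6 n4218 = n6700 := rfl
def n6702 : Q := act 4 n4219
theorem D6702 : act 4 n4219 = n6702 := rfl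
def n6704 : Q := act 1 n4220
theorem D6704 : act 1 n4220 = n6704 := rfl
def n6705 : Q := act 0 n4221
theorem D6705 : act 0 n4221 = n6705 := rfl
def n6706 : Q := act 2 n4221
theorem D6706 : act 2 n4221 = n6706 := rfl
def n6707 : Q := act 5 n4221
theorem D6707 : act 5 n4221 = n6707 := rfl
theorem F10954 : act 1 n6707 = n6606 := d9_1 D6707 (iv D6606) (iv D4177) (iv F5226) D4221
def n6711 : Q := act 6 n4223
theorem D6711 : act 6 n4223 = n6711 := rfl
def n6713 : Q := act 1 n4225
theorem D6713 : act 1 n4225 = n6713 := rfl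
def n6714 : Q := act 1 n4226
theorem D6714 : act 1 n4226 = n6714 := rfl
def n6715 : Q := act 1 n4227
theorem D6715 : act 1 n4227 = n6715 := rfl
theorem F10963 : act 5 n6715 = n4228 := d9_2 D4227 D6715 (iv D4228) (iv D2983) D2982
def n6716 : Q := act 0 n4228
theorem D6716 : act 0 n4228 = n6716 := rfl
def n6717 : Q := act 2 n4228
theorem D6717 : act 2 n4228 = n6717 := rfl
def n6718 : Q := act 6 n4228
theorem D6718 : act 6 n4228 = n6718 := rfl
theorem F10964 : act 1 n6718 = n6597 := d10_1 D6718 (iv D6597) (iv D4173) (iv F5231) D4228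
def n6719 : Q := act 0 n4229
theorem D6719 : act 0 n4229 = n6719 := rfl
def n6721 : Q := act 5 n4229
theorem D6721 : act 5 n4229 = n6721 := rfl
def n6722 : Q := act 6 n4229
theorem D6722 : act 6 n4229 = n6722 := rfl
def n6723 : Q := act 1 n4230
theorem D6723 : act 1 n4230 = n6723 := rfl
def n6724 : Q := act 1 n4231
theorem D6724 : act 1 n4231 = n6724 := rfl
theorem F10965 : act 6 n6724 = n6457 := d10_2 D4231 D6724 (iv D6457) (iv D4097) (iv F5232)
def n6725 : Q := act 2 n4232
theorem D6725 : act 2 n4232 = n6725 := rfl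
theorem F10966 : act 0 n6725 = n4233 := d1_1 D6725 (iv D4233) D4232
def n6726 : Q := act 5 n4232
theorem D6726 : act 5 n4232 = n6726 := rfl
theorem F10967 : act 0 n6726 = n4234 := d4_1 D6726 (iv D4234) D4232
def n6727 : Q := act 6 n4232
theorem D6727 : act 6 n4232 = n6727 := rfl
theorem F10968 : act 0 n6727 = n4235 := d5_1 D6727 (iv D4235) D4232
def n6730 : Q := act 6 n4233
theorem D6730 : act 6 n4233 = n6730 := rfl
theorem F10971 : act 2 n6730 = n4235 := d14_1 D6730 (iv D4235) D4233
def n6731 : Q := act 1 n4234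
theorem D6731 : act 1 n4234 = n6731 := rfl
theorem F10972 : act 5 n6731 = n4236 := d9_2 D4234 D6731 (iv D4236) (iv D2987) D2986
def n6732 : Q := act 6 n4234
theorem D6732 : act 6 n4234 = n6732 := rfl
theorem F10973 : act 5 n6732 = n6727 := d22_2 D4234 D6732 (iv D6727) (iv D4232)
def n6733 : Q := act 5 n4235
theorem D6733 : act 5 n4235 = n6733 := rfl
theorem F10974 : act 0 n6733 = n6732 := d4_1 D6733 F10973 F10968
def n6734 : Q := act 0 n4236
theorem D6734 : act 0 n4236 = n6734 := rfl
def n6735 : Q := act 2 n4236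
theorem D6735 : act 2 n4236 = n6735 := rfl
theorem F10976 : act 1 n6735 = n5139 := d6_1 D6735 (iv D5139) (iv D3446) (iv F5234) D4236
def n6736 : Q := act 6 n4236
theorem D6736 : act 6 n4236 = n6736 := rfl
theorem F10977 : act 1 n6736 = n6619 := d10_1 D6736 (iv D6619) (iv D4182) (iv F5235) D4236
def n6737 : Q := act 1 n4237
theorem D6737 : act 1 n4237 = n6737 := rfl
def n6738 : Q := act 1 n4238
theorem D6738 : act 1 n4238 = n6738 := rfl
theorem F10978 : act 6 n6738 = n4239 := d10_2 D4238 D6738 (iv D4239) (iv D2989) D2988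
def n6741 : Q := act 5 n4239
theorem D6741 : act 5 n4239 = n6741 := rfl
theorem F10980 : act 1 n6741 = n6615 := d9_1 D6741 (iv D6615) (iv D4181) (iv F5239) D4239
def n6742 : Q := act 0 n4240
theorem D6742 : act 0 n4240 = n6742 := rfl
theorem F10981 : act 1 n6742 = n6719 := d0_2 D4240 D6742 (iv D6719) (iv D4229) (iv D2984) (iv D2335) (iv F2849) D2338 D2990
def n6743 : Q := act 2 n4240
theorem D6743 : act 2 n4240 = n6743 := rfl
def n6744 : Q := act 5 n4240
theorem D6744 : act 5 n4240 = n6744 := rfl
def n6745 : Q := act 6 n4240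
theorem D6745 : act 6 n4240 = n6745 := rfl
def n6747 : Q := act 1 n4242
theorem D6747 : act 1 n4242 = n6747 := rfl
theorem F10982 : act 5 n6747 = n6444 := d9_2 D4242 D6747 (iv D6444) (iv D4091) (iv F5240)
def n6748 : Q := act 1 n4243
theorem D6748 : act 1 n4243 = n6748 := rfl
theorem F10983 : act 4 n6748 = n5935 := d8_2 F7504 D6748 F9671
theorem F10984 : act 5 n4897 = n6748 := d18_0 F10983 (iv D5935) (iv F8288)
def n6749 : Q := act 3 n4243
theorem D6749 : act 3 n4243 = n6749 := rfl
theorem F10985 : act 0 n6749 = n4244 := d2_1 D6749 (iv D4244) D4243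
def n6750 : Q := act 5 n4243
theorem D6750 : act 5 n4243 = n6750 := rfl
theorem F10986 : act 0 n6750 = n4245 := d4_1 D6750 (iv D4245) D4243
theorem F10987 : act 1 n6750 = n4888 := d9_1 D6750 F8269 D4897 F10984 (iv D6748)
theorem F10988 : act 4 n6750 = n5913 := d18_1 D6750 (iv F9645) F7504
def n6751 : Q := act 6 n4243
theorem D6751 : act 6 n4243 = n6751 := rfl
theorem F10989 : act 0 n6751 = n4246 := d5_1 D6751 (iv D4246) D4243
def n6753 : Q := act 4 n4244
theorem D6753 : act 4 n4244 = n6753 := rfl
theorem F10991 : act 1 n6753 = n4247 := d8_1 D6753 (iv D4247) (iv F7198)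
def n6754 : Q := act 5 n4244
theorem D6754 : act 5 n4244 = n6754 := rfl
theorem F10993 : act 3 n6754 = n4245 := d16_1 D6754 (iv D4245) D4244
def n6755 : Q := act 6 n4244
theorem D6755 : act 6 n4244 = n6755 := rfl
theorem F10994 : act 3 n6755 = n4246 := d17_1 D6755 (iv D4246) D4244
def n6756 : Q := act 6 n4245
theorem D6756 : act 6 n4245 = n6756 := rfl
theorem F10995 : act 5 n6756 = n6751 := d22_2 D4245 D6756 (iv D6751) (iv D4243)
def n6757 : Q := act 5 n4246
theorem D6757 : act 5 n4246 = n6757 := rfl
theorem F10996 : act 0 n6757 = n6756 := d4_1 D6757 F10995 F10989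
theorem F10997 : act 6 n6757 = n6750 := d20_2 D4246 D6757 (iv D6750) D6751 (iv F10995) (iv D6756) (iv D4245)
def n6758 : Q := act 0 n4248
theorem D6758 : act 0 n4248 = n6758 := rfl
theorem F10998 : act 4 n6758 = n4404 := d3_2 (iv F7203) D6758 (iv D4404)
theorem F10999 : act 5 n6758 = n6465 := d4_2 F8698 D6758 F10600
theorem F11000 : act 2 n6458 = n6758 := d13_3 F10999 (iv D6465) (iv F10588)
def n6759 : Q := act 2 n4248
theorem D6759 : act 2 n4248 = n6759 := rfl
theorem F11001 : act 0 n6759 = n6458 := d1_1 D6759 F11000 (iv D6758)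
theorem F11002 : act 1 n6759 = n4498 := d6_1 D6759 (iv D4498) (iv D3125) (iv F5247) D4248
theorem F11003 : act 4 n6759 = n4405 := d12_2 (iv F7203) D6759 (iv D4405)
theorem F11004 : act 5 n6759 = n6464 := d13_2 F8698 D6759 (iv F10598)
def n6760 : Q := act 6 n4248
theorem D6760 : act 6 n4248 = n6760 := rfl
theorem F11006 : act 5 n6760 = n6276 := d22_2 F8698 D6760 F10603 F10600
def n6761 : Q := act 0 n4249
theorem D6761 : act 0 n4249 = n6761 := rfl
theorem F11007 : act 4 n6761 = n4356 := d3_2 (iv F7204) D6761 (iv D4356)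
def n6762 : Q := act 2 n4249
theorem D6762 : act 2 n4249 = n6762 := rfl
theorem F11008 : act 1 n6762 = n4501 := d6_1 D6762 (iv D4501) (iv D3126) (iv F5250) D4249
theorem F11009 : act 4 n6762 = n4357 := d12_2 (iv F7204) D6762 (iv D4357)
def n6764 : Q := act 0 n4250
theorem D6764 : act 0 n4250 = n6764 := rfl
theorem F11011 : act 4 n6764 = n4412 := d3_2 (iv F7205) D6764 (iv D4412)
def n6765 : Q := act 2 n4250
theorem D6765 : act 2 n4250 = n6765 := rfl
theorem F11013 : act 1 n6765 = n4525 := d6_1 D6765 (iv D4525) (iv D3138) (iv F5252) D4250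
theorem F11014 : act 4 n6765 = n4413 := d12_2 (iv F7205) D6765 (iv D4413)
def n6767 : Q := act 0 n4251
theorem D6767 : act 0 n4251 = n6767 := rfl
theorem F11017 : act 4 n6767 = n4360 := d3_2 (iv F7206) D6767 (iv D4360)
theorem F11018 : act 5 n6767 = n4284 := d4_2 (iv F7207) D6767 (iv D4284)
def n6768 : Q := act 2 n4251
theorem D6768 : act 2 n4251 = n6768 := rfl
theorem F11019 : act 1 n6768 = n4530 := d6_1 D6768 (iv D4530) (iv D3141) (iv F5256) D4251
theorem F11020 : act 4 n6768 = n4361 := d12_2 (iv F7206) D6768 (iv D4361)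
theorem F11021 : act 5 n6768 = n4285 := d13_2 (iv F7207) D6768 (iv D4285)
def n6769 : Q := act 6 n4251
theorem D6769 : act 6 n4251 = n6769 := rfl
theorem F11022 : act 1 n6769 = n6760 := d10_1 D6769 (iv D6760) (iv D4248) (iv F5258) D4251
def n6770 : Q := act 1 n4252
theorem D6770 : act 1 n4252 = n6770 := rfl
theorem F11024 : act 3 n6770 = n4254 := d7_2 (iv F7209) D6770 (iv D4254)
theorem F11026 : act 5 n6770 = n4258 := d9_2 D4252 D6770 (iv D4258) (iv D3003) (iv F5259)
def n6772 : Q := act 1 n4253
theorem D6772 : act 1 n4253 = n6772 := rfl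
theorem F11031 : act 3 n6772 = n4256 := d7_2 (iv F7212) D6772 (iv D4256)
theorem F11033 : act 6 n6772 = n4259 := d10_2 D4253 D6772 (iv D4259) (iv D3004) (iv F5259)
def n6774 : Q := act 0 n4254
theorem D6774 : act 0 n4254 = n6774 := rfl
theorem F11039 : act 4 n6774 = n4317 := d3_2 (iv F7214) D6774 (iv D4317)
theorem F11040 : act 5 n6774 = n4260 := d4_2 (iv F7215) D6774 (iv D4260)
theorem F11041 : act 2 n6774 = n6108 := d23_1 (iv F11040) (iv D6108) (iv D3919) F4941 D2821 F4951 (iv F4183) F4185 (iv D2264) F3866 F3688 (iv D872) D871 D1711 D2304 D2924 F5140 D3005 D4260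
def n6775 : Q := act 2 n4254
theorem D6775 : act 2 n4254 = n6775 := rfl
theorem F11042 : act 0 n6775 = n6108 := d1_1 D6775 (iv F11041) (iv D6774)
theorem F11043 : act 4 n6775 = n4318 := d12_2 (iv F7214) D6775 (iv D4318)
theorem F11044 : act 5 n6775 = n4261 := d13_2 (iv F7215) D6775 (iv D4261)
def n6776 : Q := act 6 n4254
theorem D6776 : act 6 n4254 = n6776 := rfl
def n6778 : Q := act 0 n4256
theorem D6778 : act 0 n4256 = n6778 := rfl
theorem F11047 : act 4 n6778 = n4321 := d3_2 (iv F7219) D6778 (iv D4321)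
theorem F11048 : act 6 n6778 = n4263 := d5_2 (iv F7220) D6778 (iv D4263)
def n6779 : Q := act 2 n4256
theorem D6779 : act 2 n4256 = n6779 := rfl
theorem F11050 : act 6 n6779 = n4264 := d14_2 (iv F7220) D6779 (iv D4264)
def n6780 : Q := act 5 n4256
theorem D6780 : act 5 n4256 = n6780 := rfl
def n6781 : Q := act 1 n4257
theorem D6781 : act 1 n4257 = n6781 := rfl
theorem F11053 : act 6 n6781 = n6775 := d24_3 D3002 D4257 D6781 F11044 (iv F10601) (iv F10603) (iv F11006) (iv F11022) (iv D6769) F7207 (iv D3017) F4272 (iv D2346) D2344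
def n6782 : Q := act 0 n4258
theorem D6782 : act 0 n4258 = n6782 := rfl
theorem F11055 : act 3 n6782 = n4260 := d2_2 (iv F7225) D6782 (iv D4260)
def n6783 : Q := act 2 n4258
theorem D6783 : act 2 n4258 = n6783 := rfl
theorem F11057 : act 1 n6783 = n6571 := d6_1 D6783 (iv D6571) (iv D4161) (iv F5265) D4258
def n6784 : Q := act 6 n4258
theorem D6784 : act 6 n4258 = n6784 := rfl
theorem F11059 : act 3 n6784 = n4262 := d17_1 D6784 (iv D4262) (iv F7225)
def n6785 : Q := act 0 n4259
theorem D6785 : act 0 n4259 = n6785 := rfl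
theorem F11061 : act 3 n6785 = n4263 := d2_2 (iv F7227) D6785 (iv D4263)
theorem F11062 : act 4 n6785 = n6235 := d3_2 (iv F7228) D6785 (iv D6235)
def n6786 : Q := act 2 n4259
theorem D6786 : act 2 n4259 = n6786 := rfl
theorem F11063 : act 1 n6786 = n6575 := d6_1 D6786 (iv D6575) (iv D4163) (iv F5269) D4259
theorem F11064 : act 4 n6786 = n6236 := d12_2 (iv F7228) D6786 (iv D6236)
def n6787 : Q := act 5 n4259
theorem D6787 : act 5 n4259 = n6787 := rfl
theorem F11065 : act 3 n6787 = n4265 := d16_1 D6787 (iv D4265) (iv F7227)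
theorem F11066 : act 4 n6787 = n6237 := d18_1 D6787 (iv D6237) (iv F7228)
def n6788 : Q := act 2 n4260
theorem D6788 : act 2 n4260 = n6788 := rfl
theorem F11069 : act 5 n6788 = n6108 := d13_2 F11040 D6788 (iv F11041)
theorem F11070 : act 1 n6127 = n6788 := d9_5 F11069 (iv D6108) F6704 D3927 D6127
def n6789 : Q := act 6 n4260
theorem D6789 : act 6 n4260 = n6789 := rfl
theorem F11071 : act 0 n6789 = n4262 := d5_1 D6789 (iv D4262) D4260
theorem F11073 : act 5 n6789 = n6776 := d22_2 F11040 D6789 (iv D6776) D6774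
def n6790 : Q := act 3 n4261
theorem D6790 : act 3 n4261 = n6790 := rfl
def n6791 : Q := act 6 n4261
theorem D6791 : act 6 n4261 = n6791 := rfl
theorem F11074 : act 1 n6791 = n6273 := d10_1 D6791 F10276 D6276 F10603 F10601
theorem F11075 : act 2 n6791 = n4262 := d14_1 D6791 (iv D4262) D4261
def n6792 : Q := act 5 n4262
theorem D6792 : act 5 n4262 = n6792 := rfl
theorem F11078 : act 4 n6792 = n4330 := d18_1 D6792 (iv D4330) (iv F7231)
theorem F11080 : act 1 n6113 = n6792 := d8_3 F11078 F10008 (iv F9925)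
def n6793 : Q := act 1 n4263
theorem D6793 : act 1 n4263 = n6793 := rfl
theorem F11081 : act 4 n6793 = n4331 := d8_2 (iv F7232) D6793 (iv D4331)
def n6794 : Q := act 2 n4263
theorem D6794 : act 2 n4263 = n6794 := rfl
theorem F11082 : act 0 n6794 = n4264 := d1_1 D6794 (iv D4264) D4263
theorem F11083 : act 4 n6794 = n4332 := d12_2 (iv F7232) D6794 (iv D4332)
def n6795 : Q := act 5 n4263
theorem D6795 : act 5 n4263 = n6795 := rfl
theorem F11084 : act 0 n6795 = n4265 := d4_1 D6795 (iv D4265) D4263
theorem F11085 : act 4 n6795 = n4333 := d18_1 D6795 (iv D4333) (iv F7232)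
theorem F11086 : act 6 n6795 = n6780 := d22_1 D6795 (iv D6780) F7220 D4263
def n6796 : Q := act 3 n4264
theorem D6796 : act 3 n4264 = n6796 := rfl
def n6797 : Q := act 5 n4264
theorem D6797 : act 5 n4264 = n6797 := rfl
theorem F11087 : act 2 n6797 = n4265 := d13_1 D6797 (iv D4265) D4264
def n6798 : Q := act 6 n4265
theorem D6798 : act 6 n4265 = n6798 := rfl
theorem F11089 : act 0 n6798 = n6780 := d5_1 D6798 (iv F11086) F11084
theorem F11090 : act 4 n6798 = n4336 := d19_1 D6798 (iv D4336) (iv F7234)
theorem F11091 : act 5 n6798 = n6778 := d20_1 D6798 F11048 D6795 F11086 (iv D6780) F7220 D4265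
def n6799 : Q := act 5 n4266
theorem D6799 : act 5 n4266 = n6799 := rfl
theorem F11093 : act 2 n6799 = n4267 := d13_1 D6799 (iv D4267) D4266
theorem F11094 : act 3 n6799 = n6460 := d16_1 D6799 (iv D6460) (iv F7237)
def n6800 : Q := act 6 n4266
theorem D6800 : act 6 n4266 = n6800 := rfl
theorem F11098 : act 3 n6800 = n6461 := d17_1 D6800 (iv D6461) (iv F7237)
def n6801 : Q := act 1 n4267
theorem D6801 : act 1 n4267 = n6801 := rfl
theorem F11102 : act 5 n6801 = n4959 := d9_2 D4267 D6801 (iv D4959) (iv D3364) (iv F5275)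
def n6804 : Q := act 2 n4269
theorem D6804 : act 2 n4269 = n6804 := rfl
theorem F11107 : act 1 n6804 = n4272 := d6_1 D6804 (iv D4272) (iv D3010) (iv F5278) D4269
def n6808 : Q := act 1 n4271
theorem D6808 : act 1 n4271 = n6808 := rfl
theorem F11112 : act 3 n6808 = n4276 := d7_2 (iv F7247) D6808 (iv D4276)
theorem F11113 : act 4 n6808 = n6258 := d8_2 (iv F7248) D6808 (iv D6258)
def n6809 : Q := act 2 n4271
theorem D6809 : act 2 n4271 = n6809 := rfl
theorem F11114 : act 0 n6809 = n4272 := d1_1 D6809 (iv D4272) D4271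
theorem F11116 : act 5 n6809 = n4288 := d13_2 (iv F7249) D6809 (iv D4288)
def n6810 : Q := act 3 n4272
theorem D6810 : act 3 n4272 = n6810 := rfl
def n6811 : Q := act 6 n4272
theorem D6811 : act 6 n4272 = n6811 := rfl
def n6812 : Q := act 1 n4273
theorem D6812 : act 1 n4273 = n6812 := rfl
theorem F11122 : act 6 n6812 = n4274 := d10_2 D4273 D6812 (iv D4274) (iv D3011) D3010
def n6813 : Q := act 0 n4274
theorem D6813 : act 0 n4274 = n6813 := rfl
theorem F11123 : act 3 n6813 = n4281 := d2_2 (iv F7254) D6813 (iv D4281)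
def n6815 : Q := act 5 n4274
theorem D6815 : act 5 n4274 = n6815 := rfl
theorem F11126 : act 1 n6815 = n6787 := d9_1 D6815 (iv D6787) (iv D4259) (iv F5288) D4274
theorem F11127 : act 3 n6815 = n4283 := d16_1 D6815 (iv D4283) (iv F7254)
theorem F11128 : act 4 n6815 = n6265 := d18_1 D6815 (iv D6265) (iv F7255)
def n6816 : Q := act 0 n4275
theorem D6816 : act 0 n4275 = n6816 := rfl
theorem F11129 : act 3 n6816 = n4284 := d2_2 (iv F7256) D6816 (iv D4284)
def n6818 : Q := act 6 n4275
theorem D6818 : act 6 n4275 = n6818 := rfl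
theorem F11133 : act 3 n6818 = n4286 := d17_1 D6818 (iv D4286) (iv F7256)
theorem F11134 : act 4 n6818 = n6268 := d19_1 D6818 (iv D6268) (iv F7257)
def n6819 : Q := act 5 n4276
theorem D6819 : act 5 n4276 = n6819 := rfl
theorem F11135 : act 0 n6819 = n5024 := d4_1 D6819 (iv F10126) (iv F10130)
theorem F11136 : act 1 n6819 = n4295 := d9_1 D6819 (iv D4295) (iv D3021) (iv F5294) D4276
theorem F11137 : act 2 n6819 = n5023 := d13_1 D6819 F8780 (iv F8779)
theorem F11138 : act 4 n6819 = n4339 := d18_1 D6819 (iv D4339) (iv F7258)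
theorem F11139 : act 6 n6819 = n5901 := d22_1 D6819 (iv D5901) (iv F9627) (iv F10130)
def n6820 : Q := act 3 n4277
theorem D6820 : act 3 n4277 = n6820 := rfl
theorem F11140 : act 0 n6820 = n4278 := d2_1 D6820 (iv D4278) (iv F7259)
theorem F11141 : act 5 n6820 = n4298 := d16_2 (iv F7261) D6820 (iv D4298)
def n6821 : Q := act 2 n4278
theorem D6821 : act 2 n4278 = n6821 := rfl
theorem F11142 : act 5 n6821 = n4301 := d13_2 (iv F7262) D6821 (iv D4301)
def n6822 : Q := act 4 n4278
theorem D6822 : act 4 n4278 = n6822 := rfl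
theorem F11143 : act 3 n6822 = n4344 := d15_1 D6822 (iv D4344) (iv D3047) (iv F5295) D4278
theorem F11144 : act 5 n6822 = n4302 := d18_2 (iv F7262) D6822 (iv D4302)
def n6823 : Q := act 6 n4278
theorem D6823 : act 6 n4278 = n6823 := rfl
def n6827 : Q := act 5 n4280
theorem D6827 : act 5 n4280 = n6827 := rfl
def n6828 : Q := act 1 n4281
theorem D6828 : act 1 n4281 = n6828 := rfl
theorem F11152 : act 4 n6828 = n4350 := d8_2 (iv F7267) D6828 (iv D4350)
theorem F11154 : act 5 n6097 = n6828 := d18_0 F11152 (iv F9743) (iv F9896)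
theorem F11155 : act 6 n5871 = n6828 := d19_0 F11152 F9970 F9968
def n6830 : Q := act 5 n4281
theorem D6830 : act 5 n4281 = n6830 := rfl
theorem F11158 : act 0 n6830 = n4283 := d4_1 D6830 (iv D4283) D4281
theorem F11161 : act 6 n6830 = n6827 := d22_1 D6830 (iv D6827) F7266 D4281
def n6834 : Q := act 1 n4284
theorem D6834 : act 1 n4284 = n6834 := rfl
theorem F11168 : act 4 n6834 = n4363 := d8_2 (iv F7271) D6834 (iv D4363)
theorem F11169 : act 6 n5909 = n6834 := d19_0 F11168 F9741 F10370
def n6835 : Q := act 2 n4284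
theorem D6835 : act 2 n4284 = n6835 := rfl
theorem F11170 : act 0 n6835 = n4285 := d1_1 D6835 (iv D4285) D4284
theorem F11171 : act 4 n6835 = n4364 := d12_2 (iv F7271) D6835 (iv D4364)
def n6836 : Q := act 6 n4284
theorem D6836 : act 6 n4284 = n6836 := rfl
theorem F11172 : act 0 n6836 = n4286 := d5_1 D6836 (iv D4286) D4284
theorem F11173 : act 1 n6836 = n6278 := d10_1 D6836 F10286 (iv F10371) F11169 (iv D6834)
theorem F11175 : act 5 n6836 = n6769 := d22_2 F11018 D6836 (iv D6769) D6767
def n6837 : Q := act 3 n4285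
theorem D6837 : act 3 n4285 = n6837 := rfl
def n6838 : Q := act 6 n4285
theorem D6838 : act 6 n4285 = n6838 := rfl
theorem F11176 : act 2 n6838 = n4286 := d14_1 D6838 (iv D4286) D4285
theorem F11177 : act 4 n6838 = n4367 := d19_1 D6838 (iv D4367) (iv F7272)
def n6839 : Q := act 5 n4286
theorem D6839 : act 5 n4286 = n6839 := rfl
theorem F11180 : act 6 n6839 = n6767 := d20_2 D4286 D6839 F11018 D6836 F11175 (iv D6769) F7207
def n6844 : Q := act 1 n4288
theorem D6844 : act 1 n4288 = n6844 := rfl
def n6845 : Q := act 3 n4288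
theorem D6845 : act 3 n4288 = n6845 := rfl
theorem F11190 : act 0 n6845 = n4290 := d2_1 D6845 (iv D4290) (iv F7277)
def n6846 : Q := act 6 n4288
theorem D6846 : act 6 n4288 = n6846 := rfl
theorem F11194 : act 5 n6846 = n6811 := d22_2 F11116 D6846 (iv D6811) (iv F11114)
def n6847 : Q := act 1 n4289
theorem D6847 : act 1 n4289 = n6847 := rfl
theorem F11195 : act 3 n6847 = n4300 := d7_2 (iv F7280) D6847 (iv D4300)
theorem F11196 : act 4 n6847 = n6307 := d8_2 (iv F7281) D6847 (iv D6307)
def n6848 : Q := act 2 n4290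
theorem D6848 : act 2 n4290 = n6848 := rfl
def n6852 : Q := act 5 n4291
theorem D6852 : act 5 n4291 = n6852 := rfl
theorem F11203 : act 6 n6852 = n6809 := d20_2 D4291 D6852 F11116 D6846 F11194 (iv D6811) F7251
def n6853 : Q := act 1 n4292
theorem D6853 : act 1 n4292 = n6853 := rfl
theorem F11204 : act 3 n6853 = n4305 := d7_2 (iv F7286) D6853 (iv D4305)
theorem F11205 : act 4 n6853 = n6312 := d8_2 (iv F7287) D6853 (iv D6312)
def n6854 : Q := act 2 n4293
theorem D6854 : act 2 n4293 = n6854 := rfl
theorem F11206 : act 0 n6854 = n4294 := d1_1 D6854 (iv D4294) D4293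
theorem F11207 : act 4 n6854 = n4369 := d12_2 (iv F7290) D6854 (iv D4369)
def n6855 : Q := act 5 n4293
theorem D6855 : act 5 n4293 = n6855 := rfl
theorem F11208 : act 0 n6855 = n4295 := d4_1 D6855 (iv D4295) D4293
def n6856 : Q := act 6 n4293
theorem D6856 : act 6 n4293 = n6856 := rfl
theorem F11210 : act 0 n6856 = n4296 := d5_1 D6856 (iv D4296) D4293
def n6857 : Q := act 1 n4294
theorem D6857 : act 1 n4294 = n6857 := rfl
theorem F11212 : act 2 n6857 = n4297 := d6_2 D4294 D6857 (iv D4297) (iv D3022) D3021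
theorem F11213 : act 4 n6857 = n4372 := d8_2 (iv F7291) D6857 (iv D4372)
def n6858 : Q := act 3 n4294
theorem D6858 : act 3 n4294 = n6858 := rfl
def n6859 : Q := act 5 n4294
theorem D6859 : act 5 n4294 = n6859 := rfl
theorem F11214 : act 2 n6859 = n4295 := d13_1 D6859 (iv D4295) D4294
def n6860 : Q := act 6 n4294
theorem D6860 : act 6 n4294 = n6860 := rfl
theorem F11217 : act 4 n6860 = n4375 := d19_1 D6860 (iv D4375) (iv F7291)
def n6862 : Q := act 1 n4296
theorem D6862 : act 1 n4296 = n6862 := rfl
theorem F11220 : act 4 n6862 = n4377 := d8_2 (iv F7293) D6862 (iv D4377)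
theorem F11221 : act 6 n6862 = n4300 := d10_2 D4296 D6862 (iv D4300) (iv D3023) D3021
def n6864 : Q := act 0 n4297
theorem D6864 : act 0 n4297 = n6864 := rfl
theorem F11225 : act 4 n6864 = n4379 := d3_2 (iv F7294) D6864 (iv D4379)
def n6865 : Q := act 3 n4297
theorem D6865 : act 3 n4297 = n6865 := rfl
def n6866 : Q := act 6 n4297
theorem D6866 : act 6 n4297 = n6866 := rfl
theorem F11227 : act 4 n6866 = n4382 := d19_1 D6866 (iv D4382) (iv F7294)
def n6867 : Q := act 2 n4298
theorem D6867 : act 2 n4298 = n6867 := rfl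
theorem F11229 : act 3 n6867 = n6848 := d21_1 D6867 (iv D6848) (iv D4290) (iv D3019) F4273 D2356 D3024 (iv F7295)
def n6868 : Q := act 4 n4298
theorem D6868 : act 4 n4298 = n6868 := rfl
theorem F11230 : act 0 n6868 = n4302 := d3_1 D6868 (iv D4302) (iv F7295)
theorem F11231 : act 3 n6868 = n4383 := d15_1 D6868 (iv D4383) (iv D3063) (iv F5307) D4298
def n6869 : Q := act 6 n4298
theorem D6869 : act 6 n4298 = n6869 := rfl
theorem F11232 : act 0 n6869 = n4303 := d5_1 D6869 (iv D4303) (iv F7295)
theorem F11234 : act 5 n6869 = n6823 := d22_2 F11141 D6869 (iv D6823) (iv F11140)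
def n6870 : Q := act 1 n4299
theorem D6870 : act 1 n4299 = n6870 := rfl
theorem F11235 : act 4 n6870 = n4385 := d8_2 (iv F7298) D6870 (iv D4385)
def n6871 : Q := act 0 n4300
theorem D6871 : act 0 n4300 = n6871 := rfl
theorem F11236 : act 4 n6871 = n4386 := d3_2 (iv F7300) D6871 (iv D4386)
def n6872 : Q := act 2 n4300
theorem D6872 : act 2 n4300 = n6872 := rfl
def n6873 : Q := act 5 n4300
theorem D6873 : act 5 n4300 = n6873 := rfl
theorem F11238 : act 1 n6873 = n6827 := d9_1 D6873 (iv D6827) (iv D4280) (iv F5310) D4300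
theorem F11239 : act 4 n6873 = n4388 := d18_1 D6873 (iv D4388) (iv F7300)
theorem F11240 : act 6 n6282 = n6873 := d19_0 F11239 F9869 (iv F10293)
def n6874 : Q := act 3 n4301
theorem D6874 : act 3 n4301 = n6874 := rfl
theorem F11242 : act 2 n6874 = n6845 := d11_1 D6874 (iv D6845) (iv D4288) F5300 D3022 D4298 D6867 F11229 (iv D6848) (iv D4290) (iv D3019) F4273 D2356 D3024 D4301
def n6875 : Q := act 4 n4301
theorem D6875 : act 4 n4301 = n6875 := rfl
theorem F11243 : act 2 n6875 = n4302 := d12_1 D6875 (iv D4302) D4301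
def n6876 : Q := act 6 n4301
theorem D6876 : act 6 n4301 = n6876 := rfl
def n6877 : Q := act 6 n4302
theorem D6877 : act 6 n4302 = n6877 := rfl
theorem F11245 : act 3 n6877 = n4392 := d17_1 D6877 (iv D4392) (iv F7302)
theorem F11246 : act 4 n6877 = n4303 := d19_1 D6877 (iv D4303) D4302
def n6878 : Q := act 5 n4303
theorem D6878 : act 5 n4303 = n6878 := rfl
theorem F11247 : act 0 n6878 = n6823 := d4_1 D6878 (iv F11234) F11232
theorem F11248 : act 3 n6878 = n4304 := d16_1 D6878 (iv D4304) (iv F7303)
theorem F11249 : act 6 n6878 = n6820 := d20_2 D4303 D6878 F11141 D6869 F11234 (iv D6823) F7262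
def n6879 : Q := act 1 n4304
theorem D6879 : act 1 n4304 = n6879 := rfl
def n6880 : Q := act 0 n4305
theorem D6880 : act 0 n4305 = n6880 := rfl
theorem F11251 : act 4 n6880 = n4398 := d3_2 (iv F7308) D6880 (iv D4398)
def n6881 : Q := act 2 n4305
theorem D6881 : act 2 n4305 = n6881 := rfl
def n6882 : Q := act 6 n4305
theorem D6882 : act 6 n4305 = n6882 := rfl
theorem F11253 : act 1 n6882 = n5899 := d10_1 D6882 F10133 (iv D4276) (iv F5316) D4305
def n6883 : Q := act 1 n4306
theorem D6883 : act 1 n4306 = n6883 := rfl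
def n6884 : Q := act 3 n4306
theorem D6884 : act 3 n4306 = n6884 := rfl
def n6885 : Q := act 5 n4306
theorem D6885 : act 5 n4306 = n6885 := rfl
theorem F11256 : act 0 n6885 = n4308 := d4_1 D6885 (iv D4308) D4306
def n6886 : Q := act 6 n4306
theorem D6886 : act 6 n4306 = n6886 := rfl
def n6888 : Q := act 4 n4307
theorem D6888 : act 4 n4307 = n6888 := rfl
theorem F11259 : act 1 n6888 = n4310 := d8_1 D6888 (iv D4310) (iv F7309)
def n6893 : Q := act 0 n4311
theorem D6893 : act 0 n4311 = n6893 := rfl
def n6894 : Q := act 2 n4311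
theorem D6894 : act 2 n4311 = n6894 := rfl
theorem F11266 : act 1 n6894 = n6775 := d6_1 D6894 (iv D6775) (iv D4254) (iv F5322) D4311
theorem F11267 : act 6 n4315 = n6894 := d10_0 F11266 (iv F11053) (iv D6781) F7224 D4315
def n6895 : Q := act 6 n4311
theorem D6895 : act 6 n4311 = n6895 := rfl
theorem F11268 : act 1 n6895 = n4318 := d10_1 D6895 (iv F9745) (iv D4324) F5336 D4311
theorem F11269 : act 2 n6895 = n4315 := d14_1 D6895 F11267 (iv D6894)
theorem F11270 : act 4 n6895 = n6894 := d19_1 D6895 (iv F11267) F7318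
theorem F11271 : act 0 n6144 = n6895 := d0_9 F11268 F7322 (iv D3942) (iv D2830) (iv D2258) (iv F4101) D2828 D3936 D6144
theorem F11272 : act 6 n6893 = n6144 := d5_0 F11271 (iv D6895) D6893
def n6897 : Q := act 2 n4312
theorem D6897 : act 2 n4312 = n6897 := rfl
theorem F11273 : act 1 n6897 = n6779 := d6_1 D6897 (iv D6779) (iv D4256) (iv F5324) D4312
def n6898 : Q := act 5 n4312
theorem D6898 : act 5 n4312 = n6898 := rfl
def n6899 : Q := act 1 n4313
theorem D6899 : act 1 n4313 = n6899 := rfl
theorem F11274 : act 3 n6899 = n4315 := d7_2 (iv F7315) D6899 (iv D4315)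
def n6901 : Q := act 0 n4315
theorem D6901 : act 0 n4315 = n6901 := rfl
theorem F11277 : act 4 n6901 = n6893 := d3_2 (iv F7318) D6901 (iv D6893)
def n6903 : Q := act 2 n4316
theorem D6903 : act 2 n4316 = n6903 := rfl
theorem F11279 : act 1 n6903 = n4322 := d6_1 D6903 (iv D4322) (iv D3037) (iv F5330) D4316
theorem F11280 : act 4 n6903 = n6897 := d12_2 (iv F7319) D6903 (iv D6897)
def n6904 : Q := act 5 n4316
theorem D6904 : act 5 n4316 = n6904 := rfl
theorem F11281 : act 4 n6904 = n6898 := d18_1 D6904 (iv D6898) (iv F7319)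
def n6905 : Q := act 1 n4317
theorem D6905 : act 1 n4317 = n6905 := rfl
theorem F11282 : act 2 n6905 = n6156 := d6_2 (iv F7321) D6905 (iv D6156) (iv D3943) D3942
theorem F11283 : act 5 n5429 = n6905 := d23_0 F11282 (iv D6156) F6734 F4957 (iv D2262) (iv D1487) (iv F1491) (iv D940) F765 (iv F3714) F306 D151 (iv F516) D585 D1196 (iv F3970) D2634 D3581 D5429
theorem F11284 : act 0 n6905 = n5430 := d4_1 F11283 (iv D5430) D5429
theorem F11285 : act 1 n5639 = n6893 := d0_4 D6905 F11284 F8992 (iv F9260) (iv D6893) (iv D4311) F5321 D3035 D4317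
theorem F11286 : act 1 n6901 = n6314 := d8_3 F10351 F11285 (iv F11277)
theorem F11287 : act 1 n6146 = n5643 := d10_5 F9270 F11285 F11272 (iv D6144) D6146
theorem F11288 : act 1 n4376 = n6151 := d24_8 D6140 (iv F9985) F11287 F9270 (iv D5639) F6339 D4371 (iv F7379) F9990 (iv D6143) (iv D3935) (iv D2827) D2826 D3934
theorem F11289 : act 1 n4321 = n6141 := d24_14 F9978 D6151 (iv F11288) (iv D4376) (iv D3060) (iv D2373) D2375 F4290 D3049 F5341 D3052 F5342 D4336 F7339
theorem E1625 : n4884 = n4312 := (c0_6 F11289 (iv D6141) (iv D3935) F5658 D3316 D4884 (iv D4312) F5323 D3037 D4321)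
theorem E1627 : n4316 = n3807 := (((iv F7319)).symm.trans (sb E1625 F8262))
theorem E1630 : n6903 = n5903 := (((D5903).symm.trans (sb E1627 D6903))).symm
theorem E1632 : n6904 = n5904 := (((D5904).symm.trans (sb E1627 D6904))).symm
theorem E1633 : n6221 = n5232 := ((((iv F8739)).symm.trans (sb E1627 (iv F10086)))).symm
theorem F11293 : act 1 n5903 = n4322 := (sb E1630 F11279)
theorem F11294 : act 4 n5903 = n6897 := (sb E1630 F11280)
theorem F11296 : act 4 n5904 = n6898 := (sb E1632 F11281)
theorem F11297 : act 1 n5232 = n3975 := (sb E1633 (iv D6221))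
theorem F11299 : act 3 n6141 = n4357 := d7_2 (iv F10184) F11289 F7358
theorem F11300 : act 1 n5874 = n6778 := d8_3 F11047 F11289 F9977
theorem F11301 : act 6 n6149 = n4331 := d10_4 (iv F7324) F11289 F9978 D6149 (iv D4331)
theorem F11302 : act 1 n4333 = n6182 := d24_5 D6154 F9993 (iv F11289) F7324 D4333 (iv D6182) (iv D3955) (iv D2835) D2837 F4961 D3946 F6738 D3949 F6739
theorem F11303 : act 1 n6184 = n5989 := d0_2 F11302 (iv F10038) F9728 (iv F6671) (iv F9871) F9872 F7352 F5342 (iv F7335)
theorem F11304 : act 0 n4357 = n4359 := d2_1 F11299 F7361 D6141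
theorem F11305 : act 6 n4357 = n4356 := d17_2 (iv F9978) F11299 F7357
theorem F11307 : act 6 n6761 = n6762 := d19_2 F11305 (iv F11007) F11009
theorem F11309 : act 1 n5220 = n6761 := d10_5 F11307 F11008 F10186 D6244 (iv F10219)
theorem F11311 : act 0 n6793 = n5220 := d0_9 F11309 (iv D6761) (iv D4249) F5249 F4249 (iv F4258) D3006 D4263 D6793
theorem F11312 : act 2 n5219 = n6793 := d1_0 F11311 (iv D5220) D5219
theorem F11313 : act 0 n4587 = n6062 := d0_5 (iv F7358) F11304 F7360 (iv F5657) D4587 (iv D6062) F6652 D3895 (iv F10182)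
theorem F11314 : act 0 n6898 = n4886 := d3_1 F11296 F8265 (iv F9633)
theorem F11315 : act 0 n6897 = n4885 := d3_1 F11294 F8264 (iv F9632)
def n6906 : Q := act 3 n4318
theorem D6906 : act 3 n4318 = n6906 := rfl
theorem F11316 : act 0 n6906 = n4407 := d2_1 D6906 F7427 (iv F7322)
theorem F11317 : act 5 n6906 = n4328 := d16_2 (iv F7323) D6906 (iv D4328)
theorem F11318 : act 6 n6906 = n6067 := d17_2 F9745 D6906 F9852
def n6907 : Q := act 1 n4319
theorem D6907 : act 1 n4319 = n6907 := rfl
theorem F11319 : act 0 n6907 = n6171 := d0_1 D6907 (iv D6171) (iv D3950) (iv D2834) F4105 D2833 D3947 (iv F10008) F7332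
theorem F11321 : act 6 n6907 = n4320 := d10_2 D4319 D6907 (iv D4320) (iv D3036) D3035
def n6908 : Q := act 0 n4320
theorem D6908 : act 0 n4320 = n6908 := rfl
theorem F11322 : act 6 n6908 = n6171 := d5_2 F11321 D6908 (iv F11319)
def n6910 : Q := act 5 n4320
theorem D6910 : act 5 n4320 = n6910 := rfl
theorem F11326 : act 1 n6910 = n6898 := d9_1 D6910 (iv D6898) (iv D4312) (iv F5333) D4320
theorem F11327 : act 0 n4422 = n6910 := d0_9 F11326 F11314 (iv F10367) (iv D5644) (iv D3681) F4768 (iv F4308) (iv F5374) D4422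
theorem F11329 : act 5 n6908 = n4422 := d4_0 F11327 (iv D6910) D6908
theorem F11330 : act 3 n6195 = n6908 := d16_3 F11329 F7447 D6195
theorem F11331 : act 0 n6063 = n6195 := d2_3 F11330 (iv D6908) (iv F9847)
theorem F11332 : act 5 n6193 = n6063 := d4_0 F11331 (iv D6195) D6193
def n6912 : Q := act 3 n4322
theorem D6912 : act 3 n4322 = n6912 := rfl
theorem F11335 : act 6 n6912 = n4334 := d17_2 (iv F7325) D6912 (iv D4334)
def n6913 : Q := act 5 n4322
theorem D6913 : act 5 n4322 = n6913 := rfl
def n6914 : Q := act 1 n4323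
theorem D6914 : act 1 n4323 = n6914 := rfl
theorem F11338 : act 6 n6914 = n4326 := d10_2 F7336 D6914 (iv F7328) D6182 (iv F11302)
theorem F11339 : act 0 n4329 = n6914 := d5_3 F11338 F7326 D4329
theorem F11341 : act 1 n4336 = n5652 := d0_4 F9747 F11339 (iv D6914) (iv F7338) (iv D5652) (iv D3685) F4772 D3582 D5432
theorem F11342 : act 1 n4398 = n4979 := d7_3 F10188 F11341 F9280
theorem F11343 : act 1 n6328 = n6798 := d8_3 F11090 F11341 (iv F10387)
theorem F11344 : act 1 n6248 = n6880 := d8_3 F11251 F11342 (iv F10230)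
def n6915 : Q := act 2 n4325
theorem D6915 : act 2 n4325 = n6915 := rfl
theorem F11345 : act 1 n6915 = n6180 := d6_1 D6915 F10034 F7328 (iv D4326) D4325
def n6916 : Q := act 5 n4325
theorem D6916 : act 5 n4325 = n6916 := rfl
theorem F11346 : act 0 n6916 = n5987 := d4_1 D6916 F10216 (iv F10138)
theorem F11347 : act 1 n6916 = n5429 := d9_1 D6916 F11283 (iv D6905) F7320 D4325
theorem F11350 : act 6 n6916 = n4586 := d22_1 D6916 F7742 D4882 (iv F10138)
def n6917 : Q := act 3 n4326
theorem D6917 : act 3 n4326 = n6917 := rfl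
theorem F11351 : act 0 n6917 = n4328 := d2_1 D6917 (iv D4328) (iv F7326)
theorem F11352 : act 1 n6917 = n4417 := d7_1 D6917 F7441 F7328
theorem F11353 : act 5 n6917 = n4407 := d16_2 (iv F7327) D6917 F7427
def n6918 : Q := act 1 n4327
theorem D6918 : act 1 n4327 = n6918 := rfl
theorem F11354 : act 3 n6918 = n6184 := d7_2 F9729 D6918 F11303
theorem F11355 : act 5 n4418 = n6918 := d16_0 F11354 (iv D6184) (iv F7442)
def n6919 : Q := act 2 n4328
theorem D6919 : act 2 n4328 = n6919 := rfl
def n6920 : Q := act 4 n4328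
theorem D6920 : act 4 n4328 = n6920 := rfl
def n6921 : Q := act 6 n4328
theorem D6921 : act 6 n4328 = n6921 := rfl
theorem F11357 : act 1 n6921 = n4347 := d10_1 D6921 F7349 D4350 F9970 (iv F9971)
theorem F11358 : act 3 n6921 = n4329 := d17_1 D6921 (iv D4329) D4328
def n6922 : Q := act 0 n4331
theorem D6922 : act 0 n4331 = n6922 := rfl
theorem F11359 : act 1 n6922 = n4356 := d0_2 D4331 D6922 (iv D4356) (iv D3053) (iv D2370) (iv D1856) (iv F2992) D2365 D3042
theorem F11360 : act 3 n6922 = n6149 := d2_2 F9853 D6922 F9987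
theorem F11361 : act 4 n6922 = n5220 := d3_2 F11081 D6922 (iv F11311)
def n6923 : Q := act 2 n4331
theorem D6923 : act 2 n4331 = n6923 := rfl
theorem F11365 : act 4 n6923 = n5219 := d12_2 F11081 D6923 F11312
def n6924 : Q := act 5 n4331
theorem D6924 : act 5 n4331 = n6924 := rfl
theorem F11366 : act 1 n6924 = n6177 := d9_1 D6924 (iv F10036) (iv F11302) (iv D4333) D4331
def n6925 : Q := act 1 n4332
theorem D6925 : act 1 n4332 = n6925 := rfl
def n6926 : Q := act 3 n4332
theorem D6926 : act 3 n4332 = n6926 := rfl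
theorem F11367 : act 0 n6926 = n4334 := d2_1 D6926 (iv D4334) (iv F7334)
def n6927 : Q := act 5 n4332
theorem D6927 : act 5 n4332 = n6927 := rfl
theorem F11370 : act 6 n6927 = n6913 := d22_1 D6927 (iv D6913) F7325 (iv F7334)
def n6928 : Q := act 2 n4334
theorem D6928 : act 2 n4334 = n6928 := rfl
def n6929 : Q := act 4 n4334
theorem D6929 : act 4 n4334 = n6929 := rfl
def n6933 : Q := act 2 n4337
theorem D6933 : act 2 n4337 = n6933 := rfl
theorem F11375 : act 0 n6933 = n4338 := d1_1 D6933 (iv D4338) D4337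
theorem F11376 : act 4 n6933 = n5025 := d12_2 F10132 D6933 F10129
theorem F11377 : act 1 n4552 = n6933 := d8_3 F11376 F8477 (iv F7685)
theorem F11378 : act 5 n4519 = n6933 := d18_0 F11376 (iv D5025) (iv F7630)
def n6934 : Q := act 5 n4337
theorem D6934 : act 5 n4337 = n6934 := rfl
theorem F11379 : act 0 n6934 = n4339 := d4_1 D6934 (iv D4339) D4337
theorem F11380 : act 1 n6934 = n5988 := d9_1 D6934 (iv D5988) D5987 F10216 F10137
theorem F11381 : act 2 n6934 = n4519 := d13_1 D6934 F11378 (iv D6933)
theorem F11382 : act 3 n6934 = n6905 := d16_1 D6934 (iv F11283) F8991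
def n6935 : Q := act 3 n4338
theorem D6935 : act 3 n4338 = n6935 := rfl
def n6936 : Q := act 5 n4338
theorem D6936 : act 5 n4338 = n6936 := rfl
theorem F11385 : act 2 n6936 = n4339 := d13_1 D6936 (iv D4339) D4338
theorem F11386 : act 4 n6936 = n5023 := d18_1 D6936 F8780 F8778
def n6937 : Q := act 6 n4338
theorem D6937 : act 6 n4338 = n6937 := rfl
theorem F11387 : act 2 n6937 = n4340 := d14_1 D6937 (iv D4340) D4338
def n6938 : Q := act 6 n4339
theorem D6938 : act 6 n4339 = n6938 := rfl
theorem F11390 : act 5 n6938 = n4883 := d22_2 D4339 D6938 (iv F10136) (iv D4337)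
def n6939 : Q := act 5 n4340
theorem D6939 : act 5 n4340 = n6939 := rfl
theorem F11392 : act 6 n6939 = n6934 := d20_2 D4340 D6939 (iv D6934) F10136 (iv F11390) (iv D6938) (iv D4339)
def n6940 : Q := act 3 n4341
theorem D6940 : act 3 n4341 = n6940 := rfl
theorem F11393 : act 1 n6940 = n4342 := d7_1 D6940 (iv D4342) D4341
def n6941 : Q := act 6 n4341
theorem D6941 : act 6 n4341 = n6941 := rfl
theorem F11394 : act 2 n6941 = n4615 := d14_1 D6941 F7797 F7763
theorem F11396 : act 5 n6941 = n4614 := d22_2 F7787 D6941 (iv D4614) (iv F7785)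
def n6942 : Q := act 4 n4342
theorem D6942 : act 4 n4342 = n6942 := rfl
theorem F11397 : act 0 n6942 = n4344 := d3_1 D6942 (iv D4344) (iv F7341)
theorem F11399 : act 5 n6942 = n4383 := d18_2 (iv F7342) D6942 (iv D4383)
def n6943 : Q := act 1 n4343
theorem D6943 : act 1 n4343 = n6943 := rfl
theorem F11400 : act 3 n6943 = n5389 := d7_2 (iv F7345) D6943 (iv D5389)
def n6944 : Q := act 4 n4343
theorem D6944 : act 4 n4343 = n6944 := rfl
theorem F11401 : act 0 n6944 = n5390 := d3_1 D6944 (iv D5390) (iv F7344)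
theorem F11403 : act 5 n6944 = n4390 := d18_2 (iv F7346) D6944 (iv D4390)
def n6945 : Q := act 6 n4344
theorem D6945 : act 6 n4344 = n6945 := rfl
def n6949 : Q := act 5 n4346
theorem D6949 : act 5 n4346 = n6949 := rfl
def n6963 : Q := act 5 n4356
theorem D6963 : act 5 n4356 = n6963 := rfl
theorem F11425 : act 1 n6963 = n5641 := d24_2 F11305 D6963 (iv D5641) (iv D3679) (iv D2677) D2678 F4771 D3582 F6219 D3857 (iv F6663) (iv F10189) (iv D4979) (iv F7358)
def n6964 : Q := act 5 n4357
theorem D6964 : act 5 n4357 = n6964 := rfl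
theorem F11429 : act 6 n6964 = n4358 := d22_1 D6964 (iv D4358) D4359 (iv F11304)
def n6966 : Q := act 1 n4360
theorem D6966 : act 1 n4360 = n6966 := rfl
theorem F11435 : act 6 n6966 = n6195 := d10_2 F7372 D6966 F10051 (iv F10006) (iv F10007)
def n6967 : Q := act 2 n4360
theorem D6967 : act 2 n4360 = n6967 := rfl
theorem F11436 : act 0 n6967 = n4361 := d1_1 D6967 (iv D4361) D4360
theorem F11437 : act 5 n6967 = n4364 := d13_2 (iv F7363) D6967 (iv D4364)
def n6968 : Q := act 3 n4361
theorem D6968 : act 3 n4361 = n6968 := rfl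
theorem F11438 : act 1 n6968 = n5052 := d7_1 D6968 (iv D5052) (iv F7364)
theorem F11439 : act 5 n6968 = n4366 := d16_2 (iv F7365) D6968 (iv D4366)
def n6969 : Q := act 6 n4361
theorem D6969 : act 6 n4361 = n6969 := rfl
def n6970 : Q := act 0 n4363
theorem D6970 : act 0 n4363 = n6970 := rfl
theorem F11441 : act 1 n6970 = n6140 := d0_2 D4363 D6970 F9975 (iv D4350) (iv D3050) (iv D2369) (iv F2997) D2372 D3055
theorem F11443 : act 6 n6970 = n4887 := d5_2 (iv F9741) D6970 F10369
theorem F11444 : act 5 n6970 = n5642 := d22_0 F9267 D5646 (iv F9741) D6970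
def n6971 : Q := act 2 n4363
theorem D6971 : act 2 n4363 = n6971 := rfl
def n6972 : Q := act 5 n4363
theorem D6972 : act 5 n4363 = n6972 := rfl
theorem F11445 : act 0 n6972 = n5642 := d4_1 D6972 (iv F11444) (iv D6970)
theorem F11446 : act 6 n6972 = n5644 := d20_2 (iv F9741) D6972 F10368 (iv F11443) F11444 F9267 D5646
def n6973 : Q := act 1 n4364
theorem D6973 : act 1 n4364 = n6973 := rfl
def n6974 : Q := act 3 n4364
theorem D6974 : act 3 n4364 = n6974 := rfl
theorem F11447 : act 0 n6974 = n4366 := d2_1 D6974 (iv D4366) (iv F7367)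
def n6975 : Q := act 6 n4364
theorem D6975 : act 6 n4364 = n6975 := rfl
theorem F11448 : act 0 n6975 = n4367 := d5_1 D6975 (iv D4367) (iv F7367)
theorem F11450 : act 5 n6975 = n6969 := d22_2 F11437 D6975 (iv D6969) (iv F11436)
def n6976 : Q := act 2 n4366
theorem D6976 : act 2 n4366 = n6976 := rfl
def n6977 : Q := act 4 n4366
theorem D6977 : act 4 n4366 = n6977 := rfl
def n6978 : Q := act 6 n4366
theorem D6978 : act 6 n4366 = n6978 := rfl
theorem F11451 : act 3 n6978 = n4367 := d17_1 D6978 (iv D4367) D4366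
def n6979 : Q := act 1 n4367
theorem D6979 : act 1 n4367 = n6979 := rfl
def n6980 : Q := act 5 n4367
theorem D6980 : act 5 n4367 = n6980 := rfl
theorem F11457 : act 6 n6980 = n6967 := d20_2 D4367 D6980 F11437 D6975 F11450 (iv D6969) F7365
def n6981 : Q := act 1 n4369
theorem D6981 : act 1 n4369 = n6981 := rfl
def n6982 : Q := act 3 n4369
theorem D6982 : act 3 n4369 = n6982 := rfl
theorem F11458 : act 0 n6982 = n4373 := d2_1 D6982 (iv D4373) (iv F7373)
def n6983 : Q := act 5 n4369
theorem D6983 : act 5 n4369 = n6983 := rfl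
theorem F11459 : act 0 n6983 = n4374 := d4_1 D6983 (iv D4374) (iv F7373)
theorem F11460 : act 2 n6983 = n4370 := d13_1 D6983 (iv D4370) D4369
def n6984 : Q := act 6 n4369
theorem D6984 : act 6 n4369 = n6984 := rfl
theorem F11461 : act 0 n6984 = n4375 := d5_1 D6984 (iv D4375) (iv F7373)
theorem F11462 : act 2 n6984 = n4371 := d14_1 D6984 (iv D4371) D4369
def n6985 : Q := act 1 n4370
theorem D6985 : act 1 n4370 = n6985 := rfl
theorem F11463 : act 0 n6985 = n6061 := d0_1 D6985 (iv D6061) F6650 (iv F6579) (iv F9726) (iv F11380) F11379 F7340 (iv F7374)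
theorem F11465 : act 5 n6985 = n6893 := d9_2 D4370 D6985 (iv F11285) (iv D5639) F6339
def n6986 : Q := act 1 n4371
theorem D6986 : act 1 n4371 = n6986 := rfl
theorem F11466 : act 5 n6986 = n6149 := d9_2 F7379 D6986 (iv D6149) D6151 (iv F11288)
def n6987 : Q := act 0 n4372
theorem D6987 : act 0 n4372 = n6987 := rfl
theorem F11467 : act 2 n6987 = n4379 := d1_2 (iv F7376) D6987 (iv D4379)
def n6988 : Q := act 3 n4372
theorem D6988 : act 3 n4372 = n6988 := rfl
theorem F11468 : act 1 n6988 = n4373 := d7_1 D6988 (iv D4373) D4372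
def n6989 : Q := act 5 n4372
theorem D6989 : act 5 n4372 = n6989 := rfl
theorem F11469 : act 2 n6989 = n4381 := d13_1 D6989 (iv D4381) (iv F7376)
theorem E1634 : n5105 = n4372 := (c23_20 D6989 F11469 F7788 F7785 (iv F7767) (iv D4595) (iv D3177) (iv F5533) (iv D3168) F5646 (iv D2379) (iv D1861) D1863 F3856 D2112 D2542 F4605 D2558 D3432 D5105)
theorem E1635 : n6987 = n3432 := ((D6987).symm.trans (sb E1634 (iv D5105)))
theorem F11470 : act 0 n3432 = n4372 := (sb E1635 (iv D6987))
theorem E1636 : n5098 = n4379 := (((iv F8566)).symm.trans (sb E1635 F11467))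
theorem F11471 : act 1 n4379 = n3429 := (sb E1636 (iv D5098))
theorem F11472 : act 2 n4379 = n3432 := (sb E1636 F8566)
theorem F11474 : act 2 n4554 = n6864 := d12_3 F11225 F11472 (iv F7687)
theorem F11475 : act 0 n6857 = n4554 := d1_3 F11474 (iv D6864) (iv F11212)
theorem F11476 : act 1 n6864 = n4551 := d6_1 F11474 (iv D4551) (iv D3150) D3151 D4554
theorem F11477 : act 0 n4551 = n4453 := d0_1 F11476 (iv D4453) (iv D3099) (iv D2392) (iv F3888) (iv F4276) (iv F5306) D4297 D6864
theorem F11478 : act 2 n4453 = n4550 := d1_2 D4551 F11477 (iv D4550)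
theorem E1637 : n5095 = n4433 := ((c3_3 (iv F7684) F11477 F7495 F8563)).symm
theorem F11479 : act 0 n4433 = n3429 := (sb E1637 F8563)
theorem F11480 : act 2 n4433 = n3428 := (sb E1637 (iv D5095))
theorem E1638 : n5616 = n4428 := (c6_4 F11480 F6031 D3668 D5616 F7456 D4433)
theorem F11481 : act 1 n4428 = n3668 := (sb E1638 (iv D5616))
theorem F11482 : act 1 n4570 = n6854 := d23_10 (iv D5096) (iv F11480) (iv D4433) (iv D3089) D3091 (iv F7460) F7459 (iv F11256) (iv D6885) (iv F7711) F11206 D6859 F11214 (iv F11136) F11135 (iv F10126) (iv F10129) F8477 (iv F8564)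
theorem E1639 : n6883 = n6313 := ((c6_5 (iv F7711) F11482 (iv D6854) F7289 D6313 (iv D6883))).symm
theorem F11483 : act 1 n6313 = n4306 := (sb E1639 (iv D6883))
theorem E1640 : n6981 = n3450 := (c8_4 (iv F7712) F11482 F11207 D6981)
theorem E1641 : n5149 = n4369 := ((D5149).symm.trans (sb E1640 (iv D6981)))
theorem F11484 : act 1 n4369 = n3450 := (sb E1641 (iv D5149))
theorem F11485 : act 1 n5144 = n5622 := d6_3 D4369 F11484 (iv F8607) F9245 F6339
theorem E1642 : n6217 = n4788 := (c0_7 F11483 (iv D4306) (iv D3028) F4279 D2844 D3972 D6217 F8082 (iv F6851) (iv F10348))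
theorem F11488 : act 1 n4788 = n3972 := (sb E1642 (iv D6217))
def n6990 : Q := act 6 n4372
theorem D6990 : act 6 n4372 = n6990 := rfl
theorem F11489 : act 0 n6990 = n5108 := d5_1 D6990 (iv D5108) F11470
theorem F11490 : act 2 n6990 = n4382 := d14_1 D6990 (iv D4382) (iv F7376)
def n6991 : Q := act 2 n4373
theorem D6991 : act 2 n4373 = n6991 := rfl
def n6992 : Q := act 4 n4373
theorem D6992 : act 4 n4373 = n6992 := rfl
def n6993 : Q := act 5 n4373
theorem D6993 : act 5 n4373 = n6993 := rfl
theorem F11491 : act 3 n6993 = n4374 := d16_1 D6993 (iv D4374) D4373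
def n6994 : Q := act 6 n4373
theorem D6994 : act 6 n4373 = n6994 := rfl
theorem F11492 : act 3 n6994 = n4375 := d17_1 D6994 (iv D4375) D4373
def n6995 : Q := act 1 n4374
theorem D6995 : act 1 n4374 = n6995 := rfl
def n6997 : Q := act 1 n4375
theorem D6997 : act 1 n4375 = n6997 := rfl
def n6998 : Q := act 5 n4375
theorem D6998 : act 5 n4375 = n6998 := rfl
theorem F11496 : act 2 n6998 = n4378 := d13_1 D6998 (iv D4378) (iv F7378)
def n6999 : Q := act 0 n4377
theorem D6999 : act 0 n4377 = n6999 := rfl
theorem F11499 : act 6 n6999 = n4386 := d5_2 (iv F7380) D6999 (iv D4386)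
theorem F11500 : act 5 n6999 = n6080 := d22_0 (iv F9869) (iv D4388) (iv F7380) D6999
def n7000 : Q := act 2 n4377
theorem D7000 : act 2 n4377 = n7000 := rfl
theorem F11501 : act 6 n7000 = n4387 := d14_2 (iv F7380) D7000 (iv D4387)
def n7001 : Q := act 5 n4377
theorem D7001 : act 5 n4377 = n7001 := rfl
def n7002 : Q := act 1 n4378
theorem D7002 : act 1 n4378 = n7002 := rfl
theorem F11506 : act 6 n7002 = n4404 := d24_3 D3061 D4378 D7002 F7418 F7106 D4329 (iv F9996) (iv F10067) (iv D6207) F6754 (iv D3071) F4294 F4281 D2373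
def n7003 : Q := act 3 n4379
theorem D7003 : act 3 n4379 = n7003 := rfl
theorem F11508 : act 0 n7003 = n4380 := d2_1 D7003 (iv D4380) D4379
theorem F11509 : act 1 n7003 = n5099 := d7_1 D7003 (iv D5099) (iv F11471)
def n7004 : Q := act 5 n4379
theorem D7004 : act 5 n4379 = n7004 := rfl
theorem F11510 : act 0 n7004 = n4381 := d4_1 D7004 (iv D4381) D4379
def n7005 : Q := act 6 n4379
theorem D7005 : act 6 n4379 = n7005 := rfl
theorem F11513 : act 2 n7005 = n5108 := d14_1 D7005 (iv D5108) (iv F11472)
def n7009 : Q := act 6 n4380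
theorem D7009 : act 6 n4380 = n7009 := rfl
theorem F11517 : act 3 n7009 = n4382 := d17_1 D7009 (iv D4382) D4380
def n7010 : Q := act 6 n4381
theorem D7010 : act 6 n4381 = n7010 := rfl
theorem F11518 : act 5 n7010 = n7005 := d22_2 D4381 D7010 (iv D7005) (iv D4379)
def n7011 : Q := act 1 n4382
theorem D7011 : act 1 n4382 = n7011 := rfl
theorem F11519 : act 6 n7011 = n4385 := d10_2 D4382 D7011 (iv D4385) (iv D3064) D3062
def n7012 : Q := act 5 n4382
theorem D7012 : act 5 n4382 = n7012 := rfl
theorem F11521 : act 6 n7012 = n7004 := d20_2 D4382 D7012 (iv D7004) D7005 (iv F11518) (iv D7010) (iv D4381)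
def n7013 : Q := act 6 n4383
theorem D7013 : act 6 n4383 = n7013 := rfl
theorem F11524 : act 4 n7013 = n4384 := d19_1 D7013 (iv D4384) D4383
theorem F11525 : act 5 n7013 = n6945 := d22_2 F11399 D7013 (iv D6945) (iv F11397)
def n7014 : Q := act 1 n4384
theorem D7014 : act 1 n4384 = n7014 := rfl
def n7015 : Q := act 0 n4385
theorem D7015 : act 0 n4385 = n7015 := rfl
def n7016 : Q := act 2 n4385
theorem D7016 : act 2 n4385 = n7016 := rfl
def n7017 : Q := act 5 n4385
theorem D7017 : act 5 n4385 = n7017 := rfl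
theorem F11528 : act 1 n7017 = n6949 := d9_1 D7017 (iv D6949) (iv D4346) (iv F5351) D4385
def n7018 : Q := act 1 n4386
theorem D7018 : act 1 n4386 = n7018 := rfl
theorem F11529 : act 3 n7018 = n4886 := d7_2 F9271 D7018 (iv F10367)
theorem F11530 : act 5 n4587 = n7018 := d24_1 (iv F7745) (iv D7018) (iv F11499) F11500 (iv D6080) D6082 F9874 F6742 (iv D3938) (iv F6731) (iv D3934) (iv F5839) (iv D3317) D3316
theorem F11531 : act 4 n7018 = n5234 := d18_1 F11530 (iv D5234) (iv F7744)
theorem F11532 : act 6 n7018 = n6898 := d22_1 F11530 (iv D6898) (iv F9846) (iv F11313)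
theorem F11533 : act 1 n5234 = n6871 := d8_1 F11531 F11236 D7018
theorem F11534 : act 5 n6871 = n5235 := d9_2 D5234 F11533 (iv D5235) (iv D3491) D3490
def n7019 : Q := act 2 n4386
theorem D7019 : act 2 n4386 = n7019 := rfl
theorem F11536 : act 0 n7019 = n4387 := d1_1 D7019 (iv D4387) D4386
def n7020 : Q := act 5 n4386
theorem D7020 : act 5 n4386 = n7020 := rfl
theorem F11538 : act 1 n7020 = n4402 := d9_1 D7020 F7411 D4587 F11530 (iv D7018)
theorem F11541 : act 6 n7020 = n7001 := d20_2 F11499 D7020 (iv D7001) F7380 D4388 F9869 (iv F11500)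
def n7022 : Q := act 5 n4387
theorem D7022 : act 5 n4387 = n7022 := rfl
theorem F11542 : act 2 n7022 = n4388 := d13_1 D7022 (iv D4388) D4387
def n7023 : Q := act 0 n4389
theorem D7023 : act 0 n4389 = n7023 := rfl
theorem F11543 : act 2 n7023 = n4443 := d1_2 (iv F7391) D7023 (iv D4443)
theorem F11544 : act 3 n7023 = n5531 := d2_2 (iv F7392) D7023 (iv D5531)
def n7027 : Q := act 3 n4390
theorem D7027 : act 3 n4390 = n7027 := rfl
theorem F11552 : act 4 n7027 = n5480 := d15_2 D4390 D7027 (iv D5480) F6243 (iv F5353)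
def n7028 : Q := act 6 n4390
theorem D7028 : act 6 n4390 = n7028 := rfl
def n7030 : Q := act 1 n4392
theorem D7030 : act 1 n4392 = n7030 := rfl
theorem F11557 : act 4 n7030 = n4393 := d8_2 (iv F7398) D7030 (iv D4393)
theorem F11558 : act 6 n7030 = n4447 := d10_2 D4392 D7030 (iv D4447) (iv D3096) (iv F5354)
def n7032 : Q := act 0 n4393
theorem D7032 : act 0 n4393 = n7032 := rfl
theorem F11563 : act 6 n7032 = n4449 := d5_2 (iv F7400) D7032 (iv D4449)
def n7033 : Q := act 2 n4393
theorem D7033 : act 2 n4393 = n7033 := rfl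
theorem F11564 : act 6 n7033 = n4450 := d14_2 (iv F7400) D7033 (iv D4450)
def n7034 : Q := act 5 n4393
theorem D7034 : act 5 n4393 = n7034 := rfl
theorem F11565 : act 3 n7034 = n4396 := d16_1 D7034 (iv D4396) (iv F7399)
def n7036 : Q := act 1 n4395
theorem D7036 : act 1 n4395 = n7036 := rfl
def n7037 : Q := act 1 n4396
theorem D7037 : act 1 n4396 = n7037 := rfl
def n7046 : Q := act 6 n4401
theorem D7046 : act 6 n4401 = n7046 := rfl
theorem F11580 : act 1 n7046 = n7001 := d10_1 D7046 (iv F11541) F11538 (iv D4402) D4401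
def n7047 : Q := act 1 n4403
theorem D7047 : act 1 n4403 = n7047 := rfl
theorem F11585 : act 3 n7047 = n4883 := d7_2 (iv F7414) D7047 (iv D4883)
theorem F11587 : act 6 n7047 = n5429 := d10_2 (iv F7416) D7047 (iv F11347) F11350 (iv D4586)
def n7048 : Q := act 1 n4404
theorem D7048 : act 1 n4404 = n7048 := rfl
theorem F11588 : act 2 n7048 = n6220 := d6_2 (iv F7421) D7048 (iv D6220) F6761 D4151
theorem F11589 : act 3 n7048 = n6144 := d7_2 (iv F7417) D7048 (iv D6144)
theorem F11590 : act 5 n7048 = n6895 := d9_2 (iv F7418) D7048 F11268 F7323 (iv F7106)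
theorem F11591 : act 6 n7048 = n6985 := d10_2 F11506 D7048 (iv D6985) (iv F7382) D7002
def n7049 : Q := act 3 n4405
theorem D7049 : act 3 n4405 = n7049 := rfl
theorem F11592 : act 0 n7049 = n6249 := d2_1 D7049 F10232 (iv F7422)
theorem F11594 : act 5 n7049 = n6253 := d16_2 (iv F7424) D7049 F10248
def n7050 : Q := act 2 n4407
theorem D7050 : act 2 n4407 = n7050 := rfl
def n7051 : Q := act 6 n4407
theorem D7051 : act 6 n4407 = n7051 := rfl
theorem F11595 : act 0 n7051 = n6067 := d5_1 D7051 (iv F11318) F11316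
theorem F11597 : act 5 n7051 = n6921 := d22_2 F11353 D7051 (iv D6921) (iv F11351)
def n7052 : Q := act 1 n4408
theorem D7052 : act 1 n4408 = n7052 := rfl
def n7053 : Q := act 3 n4408
theorem D7053 : act 3 n4408 = n7053 := rfl
theorem F11598 : act 0 n7053 = n4409 := d2_1 D7053 (iv D4409) (iv F7428)
theorem F11599 : act 5 n7053 = n4420 := d16_2 (iv F7429) D7053 (iv D4420)
def n7054 : Q := act 2 n4409
theorem D7054 : act 2 n4409 = n7054 := rfl
def n7055 : Q := act 4 n4409
theorem D7055 : act 4 n4409 = n7055 := rfl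
theorem F11602 : act 5 n7055 = n4424 := d18_2 (iv F7431) D7055 (iv D4424)
def n7056 : Q := act 6 n4409
theorem D7056 : act 6 n4409 = n7056 := rfl
theorem F11603 : act 3 n7056 = n4410 := d17_1 D7056 (iv D4410) D4409
def n7058 : Q := act 0 n4411
theorem D7058 : act 0 n4411 = n7058 := rfl
theorem F11605 : act 3 n7058 = n6162 := d2_2 (iv F7433) D7058 (iv D6162)
theorem F11606 : act 6 n7058 = n4412 := d5_2 (iv F7434) D7058 (iv D4412)
theorem F11607 : act 1 n6939 = n7058 := d10_5 F11606 F10009 F9734 (iv F11380) (iv F11392)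
def n7061 : Q := act 2 n4412
theorem D7061 : act 2 n4412 = n7061 := rfl
theorem F11611 : act 0 n7061 = n4413 := d1_1 D7061 (iv D4413) D4412
def n7062 : Q := act 5 n4412
theorem D7062 : act 5 n4412 = n7062 := rfl
theorem F11613 : act 1 n7062 = n6085 := d9_1 D7062 (iv D6085) F6671 D5991 (iv F10009)
def n7063 : Q := act 3 n4413
theorem D7063 : act 3 n4413 = n7063 := rfl
theorem F11616 : act 1 n7063 = n5039 := d7_1 D7063 (iv D5039) (iv F7436)
def n7064 : Q := act 5 n4413
theorem D7064 : act 5 n4413 = n7064 := rfl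
def n7066 : Q := act 5 n4415
theorem D7066 : act 5 n4415 = n7066 := rfl
theorem F11622 : act 0 n7066 = n4417 := d4_1 D7066 (iv D4417) D4415
theorem F11623 : act 2 n7066 = n6529 := d13_1 D7066 (iv D6529) F10020
theorem F11625 : act 4 n7066 = n6693 := d18_1 D7066 (iv D6693) (iv F10026)
theorem F11626 : act 6 n7066 = n6918 := d22_1 D7066 (iv F11355) (iv D4418) D4415
theorem F11627 : act 1 n4880 = n7066 := d10_5 F11626 (iv D6918) (iv D4327) D4325 (iv F10140)
theorem E1643 : n6693 = n5892 := (c8_3 (iv F8257) F11627 F11625 (iv D5892))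
theorem F11629 : act 2 n5892 = n4216 := (sb E1643 F10940)
theorem F11630 : act 4 n5892 = n7066 := (sb E1643 (iv F11625))
theorem F11631 : act 5 n5892 = n4215 := (sb E1643 (iv D6693))
def n7067 : Q := act 6 n4415
theorem D7067 : act 6 n4415 = n7067 := rfl
theorem F11633 : act 2 n7067 = n6530 := d14_1 D7067 (iv D6530) F10020
theorem F11634 : act 3 n7067 = n6177 := d17_1 D7067 (iv D6177) (iv F7440)
theorem F11635 : act 4 n7067 = n6694 := d19_1 D7067 (iv D6694) (iv F10026)
def n7068 : Q := act 1 n4416
theorem D7068 : act 1 n4416 = n7068 := rfl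
theorem F11636 : act 0 n7068 = n6400 := d0_1 D7068 (iv D6400) (iv D4070) (iv D2905) F4172 D2311 D2940 D4135 F10029
theorem F11637 : act 2 n7068 = n4419 := d6_2 D4416 D7068 (iv D4419) (iv D3082) D3081
theorem F11638 : act 4 n7068 = n6432 := d8_2 (iv F10028) D7068 F10559
def n7069 : Q := act 3 n4416
theorem D7069 : act 3 n4416 = n7069 := rfl
theorem F11639 : act 0 n7069 = n6509 := d2_1 D7069 F10685 F10029
def n7070 : Q := act 5 n4416
theorem D7070 : act 5 n4416 = n7070 := rfl
theorem F11641 : act 2 n7070 = n4417 := d13_1 D7070 (iv D4417) D4416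
theorem F11642 : act 4 n7070 = n6690 := d18_1 D7070 (iv D6690) (iv F10028)
def n7071 : Q := act 6 n4416
theorem D7071 : act 6 n4416 = n7071 := rfl
theorem F11644 : act 2 n7071 = n4418 := d14_1 D7071 (iv D4418) D4416
def n7072 : Q := act 6 n4417
theorem D7072 : act 6 n4417 = n7072 := rfl
theorem F11646 : act 0 n7072 = n6918 := d5_1 D7072 (iv F11626) F11622
theorem F11647 : act 3 n7072 = n6182 := d17_1 D7072 (iv D6182) (iv F7441)
theorem F11648 : act 5 n7072 = n7067 := d20_1 D7072 (iv D7067) D7066 F11626 (iv F11355) (iv D4418) D4417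
theorem F11649 : act 1 n6070 = n7072 := d24_14 (iv D7072) (iv D4417) (iv D3081) D3083 F5376 D4411 F7434 D4414 F7437 (iv F11429) (iv D6964) F7358 F10183 D6070
def n7073 : Q := act 1 n4418
theorem D7073 : act 1 n4418 = n7073 := rfl
theorem F11651 : act 5 n7073 = n6907 := d9_2 (iv F11355) D7073 (iv D6907) (iv F7330) D6918
theorem F11652 : act 6 n7073 = n4422 := d10_2 D4418 D7073 (iv D4422) (iv D3083) D3081
def n7074 : Q := act 0 n4419
theorem D7074 : act 0 n4419 = n7074 := rfl
theorem F11653 : act 2 n7074 = n6400 := d1_2 F11637 D7074 (iv F11636)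
def n7075 : Q := act 3 n4419
theorem D7075 : act 3 n4419 = n7075 := rfl
theorem F11655 : act 1 n7075 = n4420 := d7_1 D7075 (iv D4420) D4419
def n7076 : Q := act 5 n4419
theorem D7076 : act 5 n4419 = n7076 := rfl
def n7077 : Q := act 6 n4419
theorem D7077 : act 6 n4419 = n7077 := rfl
def n7078 : Q := act 4 n4420
theorem D7078 : act 4 n4420 = n7078 := rfl
def n7079 : Q := act 6 n4420
theorem D7079 : act 6 n4420 = n7079 := rfl
theorem F11657 : act 0 n7079 = n4425 := d5_1 D7079 (iv D4425) (iv F7443)
theorem F11658 : act 3 n7079 = n4421 := d17_1 D7079 (iv D4421) D4420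
def n7080 : Q := act 1 n4421
theorem D7080 : act 1 n4421 = n7080 := rfl
def n7081 : Q := act 2 n4422
theorem D7081 : act 2 n4422 = n7081 := rfl
def n7085 : Q := act 6 n4424
theorem D7085 : act 6 n4424 = n7085 := rfl
theorem F11663 : act 1 n7085 = n5662 := d10_1 D7085 F9288 F6356 (iv F5414) (iv F7448)
theorem F11664 : act 4 n7085 = n4425 := d19_1 D7085 (iv D4425) D4424
def n7086 : Q := act 5 n4425
theorem D7086 : act 5 n4425 = n7086 := rfl
theorem F11666 : act 3 n7086 = n4426 := d16_1 D7086 (iv D4426) (iv F7450)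
def n7087 : Q := act 1 n4426
theorem D7087 : act 1 n4426 = n7087 := rfl
theorem F11668 : act 5 n7087 = n5664 := d9_2 D4426 D7087 (iv D5664) (iv D3689) (iv F5378)
def n7091 : Q := act 3 n4428
theorem D7091 : act 3 n4428 = n7091 := rfl
theorem F11676 : act 0 n7091 = n4429 := d2_1 D7091 (iv D4429) D4428
def n7093 : Q := act 6 n4428
theorem D7093 : act 6 n4428 = n7093 := rfl
def n7094 : Q := act 2 n4429
theorem D7094 : act 2 n4429 = n7094 := rfl
def n7097 : Q := act 6 n4429
theorem D7097 : act 6 n4429 = n7097 := rfl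
theorem F11689 : act 3 n7097 = n4431 := d17_1 D7097 (iv D4431) D4429
def n7098 : Q := act 6 n4430
theorem D7098 : act 6 n4430 = n7098 := rfl
theorem F11690 : act 2 n7098 = n4441 := d14_1 D7098 (iv D4441) (iv F7460)
theorem F11692 : act 5 n7098 = n7093 := d22_2 D4430 D7098 (iv D7093) (iv D4428)
def n7100 : Q := act 3 n4433
theorem D7100 : act 3 n4433 = n7100 := rfl
theorem F11697 : act 0 n7100 = n5099 := d2_1 D7100 (iv D5099) (iv F11479)
theorem F11698 : act 1 n7100 = n4434 := d7_1 D7100 (iv D4434) D4433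
def n7101 : Q := act 5 n4433
theorem D7101 : act 5 n4433 = n7101 := rfl
theorem F11699 : act 0 n7101 = n5100 := d4_1 D7101 (iv D5100) (iv F11479)
theorem F11700 : act 2 n7101 = n5096 := d13_1 D7101 (iv D5096) (iv F11480)
def n7102 : Q := act 6 n4433
theorem D7102 : act 6 n4433 = n7102 := rfl
theorem F11701 : act 0 n7102 = n5101 := d5_1 D7102 (iv D5101) (iv F11479)
theorem F11702 : act 2 n7102 = n5097 := d14_1 D7102 (iv D5097) (iv F11480)
theorem F11703 : act 5 n7102 = n5918 := d22_2 (iv D7101) D7102 (iv F10215) (iv F11699)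
def n7103 : Q := act 2 n4434
theorem D7103 : act 2 n4434 = n7103 := rfl
theorem F11704 : act 0 n7103 = n4437 := d1_1 D7103 (iv D4437) (iv F7468)
def n7104 : Q := act 4 n4434
theorem D7104 : act 4 n4434 = n7104 := rfl
theorem F11705 : act 0 n7104 = n4438 := d3_1 D7104 (iv D4438) (iv F7468)
def n7105 : Q := act 5 n4434
theorem D7105 : act 5 n4434 = n7105 := rfl
theorem F11706 : act 0 n7105 = n4439 := d4_1 D7105 (iv D4439) (iv F7468)
theorem F11707 : act 3 n7105 = n4435 := d16_1 D7105 (iv D4435) D4434
def n7106 : Q := act 6 n4434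
theorem D7106 : act 6 n4434 = n7106 := rfl
theorem F11708 : act 0 n7106 = n4440 := d5_1 D7106 (iv D4440) (iv F7468)
theorem F11709 : act 3 n7106 = n4436 := d17_1 D7106 (iv D4436) D4434
def n7107 : Q := act 1 n4435
theorem D7107 : act 1 n4435 = n7107 := rfl
def n7108 : Q := act 1 n4436
theorem D7108 : act 1 n4436 = n7108 := rfl
theorem F11710 : act 4 n7108 = n7036 := d8_2 (iv F7471) D7108 (iv D7036)
def n7109 : Q := act 3 n4437
theorem D7109 : act 3 n4437 = n7109 := rfl
theorem F11711 : act 1 n7109 = n6196 := d7_1 D7109 (iv D6196) (iv F7472)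
def n7110 : Q := act 4 n4437
theorem D7110 : act 4 n4437 = n7110 := rfl
theorem F11712 : act 1 n7110 = n6197 := d8_1 D7110 (iv D6197) (iv F7472)
theorem F11713 : act 2 n7110 = n4438 := d12_1 D7110 (iv D4438) D4437
def n7111 : Q := act 5 n4437
theorem D7111 : act 5 n4437 = n7111 := rfl
theorem F11714 : act 2 n7111 = n4439 := d13_1 D7111 (iv D4439) D4437
def n7112 : Q := act 6 n4437
theorem D7112 : act 6 n4437 = n7112 := rfl
theorem F11715 : act 2 n7112 = n4440 := d14_1 D7112 (iv D4440) D4437
def n7113 : Q := act 5 n4438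
theorem D7113 : act 5 n4438 = n7113 := rfl
theorem F11716 : act 4 n7113 = n4439 := d18_1 D7113 (iv D4439) D4438
def n7114 : Q := act 6 n4438
theorem D7114 : act 6 n4438 = n7114 := rfl
theorem F11717 : act 1 n7114 = n6877 := d10_1 D7114 (iv D6877) F7301 (iv F5392) (iv F7473)
theorem F11718 : act 3 n7114 = n7030 := d17_1 D7114 F11558 F7485
theorem F11719 : act 4 n7114 = n4440 := d19_1 D7114 (iv D4440) D4438
def n7115 : Q := act 6 n4439
theorem D7115 : act 6 n4439 = n7115 := rfl
theorem F11720 : act 3 n7115 = n4441 := d17_1 D7115 (iv D4441) (iv F7474)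
theorem F11721 : act 5 n7115 = n7106 := d22_2 D4439 D7115 (iv D7106) F7468
def n7116 : Q := act 5 n4440
theorem D7116 : act 5 n4440 = n7116 := rfl
theorem F11722 : act 0 n7116 = n7115 := d4_1 D7116 F11721 F11708
theorem F11723 : act 3 n7116 = n4442 := d16_1 D7116 (iv D4442) (iv F7476)
theorem F11724 : act 6 n7116 = n7105 := d20_2 D4440 D7116 (iv D7105) D7106 (iv F11721) (iv D7115) (iv D4439)
def n7117 : Q := act 1 n4441
theorem D7117 : act 1 n4441 = n7117 := rfl
def n7118 : Q := act 1 n4442
theorem D7118 : act 1 n4442 = n7118 := rfl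
def n7127 : Q := act 0 n4447
theorem D7127 : act 0 n4447 = n7127 := rfl
theorem F11740 : act 3 n7127 = n7104 := d2_2 (iv F7485) D7127 F11705
theorem F11741 : act 4 n7127 = n4449 := d3_2 (iv F7486) D7127 (iv D4449)
def n7128 : Q := act 2 n4447
theorem D7128 : act 2 n4447 = n7128 := rfl
theorem F11742 : act 4 n7128 = n4450 := d12_2 (iv F7486) D7128 (iv D4450)
def n7129 : Q := act 5 n4447
theorem D7129 : act 5 n4447 = n7129 := rfl
theorem F11743 : act 3 n7129 = n7113 := d16_1 D7129 (iv D7113) (iv F7485)
theorem F11744 : act 4 n7129 = n4451 := d18_1 D7129 (iv D4451) (iv F7486)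
def n7130 : Q := act 1 n4448
theorem D7130 : act 1 n4448 = n7130 := rfl
theorem F11745 : act 3 n7130 = n6753 := d7_2 (iv F7489) D7130 F10991
theorem F11746 : act 4 n7130 = n4452 := d8_2 (iv F7490) D7130 (iv D4452)
def n7131 : Q := act 1 n4449
theorem D7131 : act 1 n4449 = n7131 := rfl
theorem F11747 : act 3 n7131 = n4453 := d7_2 (iv F7492) D7131 (iv D4453)
def n7132 : Q := act 2 n4449
theorem D7132 : act 2 n4449 = n7132 := rfl
theorem F11748 : act 0 n7132 = n4450 := d1_1 D7132 (iv D4450) D4449
def n7133 : Q := act 5 n4449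
theorem D7133 : act 5 n4449 = n7133 := rfl
theorem F11749 : act 0 n7133 = n4451 := d4_1 D7133 (iv D4451) D4449
theorem F11750 : act 3 n7133 = n4454 := d16_1 D7133 (iv D4454) (iv F7492)
theorem F11751 : act 6 n7133 = n7034 := d22_1 D7133 (iv D7034) F7400 D4449
def n7134 : Q := act 3 n4450
theorem D7134 : act 3 n4450 = n7134 := rfl
def n7135 : Q := act 5 n4450
theorem D7135 : act 5 n4450 = n7135 := rfl
theorem F11752 : act 2 n7135 = n4451 := d13_1 D7135 (iv D4451) D4450
def n7136 : Q := act 1 n4451
theorem D7136 : act 1 n4451 = n7136 := rfl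
theorem F11753 : act 3 n7136 = n4455 := d7_2 (iv F7493) D7136 (iv D4455)
theorem F11754 : act 5 n7136 = n4452 := d9_2 D4451 D7136 (iv D4452) (iv D3098) D3097
def n7137 : Q := act 6 n4451
theorem D7137 : act 6 n4451 = n7137 := rfl
theorem F11756 : act 3 n7137 = n4456 := d17_1 D7137 (iv D4456) (iv F7493)
def n7138 : Q := act 0 n4452
theorem D7138 : act 0 n4452 = n7138 := rfl
theorem F11758 : act 3 n7138 = n4457 := d2_2 (iv F7494) D7138 (iv D4457)
def n7140 : Q := act 6 n4452
theorem D7140 : act 6 n4452 = n7140 := rfl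
theorem F11760 : act 1 n7140 = n6755 := d10_1 D7140 (iv D6755) F7198 (iv F5403) D4452
theorem F11761 : act 3 n7140 = n4458 := d17_1 D7140 (iv D4458) (iv F7494)
def n7141 : Q := act 5 n4453
theorem D7141 : act 5 n4453 = n7141 := rfl
theorem F11762 : act 4 n7141 = n7101 := d18_1 D7141 (iv D7101) (iv F7495)
def n7142 : Q := act 6 n4453
theorem D7142 : act 6 n4453 = n7142 := rfl
def n7143 : Q := act 1 n4454
theorem D7143 : act 1 n4454 = n7143 := rfl
theorem F11764 : act 4 n7143 = n7107 := d8_2 (iv F7497) D7143 (iv D7107)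
def n7144 : Q := act 6 n4455
theorem D7144 : act 6 n4455 = n7144 := rfl
theorem F11765 : act 4 n7144 = n6756 := d19_1 D7144 (iv D6756) (iv F7499)
def n7145 : Q := act 1 n4456
theorem D7145 : act 1 n4456 = n7145 := rfl
def n7146 : Q := act 6 n4457
theorem D7146 : act 6 n4457 = n7146 := rfl
theorem F11768 : act 4 n7146 = n6751 := d19_1 D7146 (iv D6751) (iv F7504)
theorem F11769 : act 5 n7146 = n7144 := d22_2 (iv F9645) D7146 (iv D7144) (iv F9644)
def n7147 : Q := act 5 n4458
theorem D7147 : act 5 n4458 = n7147 := rfl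
theorem F11772 : act 6 n7147 = n5913 := d20_2 D4458 D7147 (iv F9645) D7146 F11769 (iv D7144) F7500
def n7148 : Q := act 1 n4459
theorem D7148 : act 1 n4459 = n7148 := rfl
def n7149 : Q := act 3 n4459
theorem D7149 : act 3 n4459 = n7149 := rfl
def n7150 : Q := act 5 n4459
theorem D7150 : act 5 n4459 = n7150 := rfl
theorem F11775 : act 2 n7150 = n5913 := d13_1 D7150 (iv F9645) (iv F7507)
theorem F11776 : act 1 n5912 = n7150 := d6_5 F11775 (iv D5913) (iv D3812) D3811 D5912
theorem F11777 : act 5 n7148 = n6354 := d9_4 (iv F9643) F11776 (iv D7150) D7148 (iv D6354)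
def n7151 : Q := act 6 n4459
theorem D7151 : act 6 n4459 = n7151 := rfl
theorem F11779 : act 2 n7151 = n7146 := d14_1 D7151 (iv D7146) (iv F7507)
def n7153 : Q := act 4 n4460
theorem D7153 : act 4 n4460 = n7153 := rfl
def n7156 : Q := act 6 n4461
theorem D7156 : act 6 n4461 = n7156 := rfl
theorem F11786 : act 5 n7156 = n7151 := d22_2 D4461 D7156 (iv D7151) (iv D4459)
def n7157 : Q := act 5 n4462
theorem D7157 : act 5 n4462 = n7157 := rfl
theorem F11789 : act 6 n7157 = n7150 := d20_2 D4462 D7157 (iv D7150) D7151 (iv F11786) (iv D7156) (iv D4461)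
def n7200 : Q := act 6 n4484
theorem D7200 : act 6 n4484 = n7200 := rfl
theorem F11871 : act 3 n7200 = n4944 := d17_1 D7200 (iv D4944) F7557
def n7205 : Q := act 0 n4487
theorem D7205 : act 0 n4487 = n7205 := rfl
theorem F11884 : act 5 n7205 = n4497 := d4_2 (iv F7562) D7205 (iv D4497)
def n7206 : Q := act 2 n4487
theorem D7206 : act 2 n4487 = n7206 := rfl
theorem F11886 : act 5 n7206 = n4498 := d13_2 (iv F7562) D7206 (iv D4498)
def n7207 : Q := act 6 n4487
theorem D7207 : act 6 n4487 = n7207 := rfl
def n7208 : Q := act 1 n4488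
theorem D7208 : act 1 n4488 = n7208 := rfl
theorem F11888 : act 4 n7208 = n4952 := d8_2 (iv F7564) D7208 (iv D4952)
def n7209 : Q := act 5 n4489
theorem D7209 : act 5 n4489 = n7209 := rfl
theorem F11889 : act 0 n7209 = n6247 := d4_1 D7209 (iv D6247) (iv F10195)
theorem F11890 : act 2 n7209 = n6245 := d13_1 D7209 (iv D6245) F10194
def n7210 : Q := act 1 n4490
theorem D7210 : act 1 n4490 = n7210 := rfl
theorem F11892 : act 4 n7210 = n4956 := d8_2 (iv F7570) D7210 (iv D4956)
def n7211 : Q := act 1 n4491
theorem D7211 : act 1 n4491 = n7211 := rfl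
theorem F11893 : act 3 n7211 = n6220 := d7_2 (iv F7574) D7211 (iv D6220)
def n7213 : Q := act 1 n4493
theorem D7213 : act 1 n4493 = n7213 := rfl
theorem F11900 : act 3 n7213 = n4961 := d7_2 (iv F7582) D7213 (iv D4961)
def n7215 : Q := act 0 n4495
theorem D7215 : act 0 n4495 = n7215 := rfl
theorem F11904 : act 3 n7215 = n4497 := d2_2 (iv F7588) D7215 (iv D4497)
def n7216 : Q := act 2 n4495
theorem D7216 : act 2 n4495 = n7216 := rfl
def n7217 : Q := act 6 n4495
theorem D7217 : act 6 n4495 = n7217 := rfl
theorem F11905 : act 3 n7217 = n4499 := d17_1 D7217 (iv D4499) (iv F7588)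
def n7221 : Q := act 1 n4497
theorem D7221 : act 1 n4497 = n7221 := rfl
theorem F11909 : act 4 n7221 = n4969 := d8_2 (iv F7590) D7221 (iv D4969)
def n7222 : Q := act 2 n4497
theorem D7222 : act 2 n4497 = n7222 := rfl
theorem F11911 : act 4 n7222 = n4970 := d12_2 (iv F7590) D7222 (iv D4970)
def n7223 : Q := act 6 n4497
theorem D7223 : act 6 n4497 = n7223 := rfl
theorem F11912 : act 0 n7223 = n4499 := d5_1 D7223 (iv D4499) D4497
theorem F11914 : act 5 n7223 = n7207 := d22_2 F11884 D7223 (iv D7207) D7205
def n7224 : Q := act 3 n4498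
theorem D7224 : act 3 n4498 = n7224 := rfl
def n7226 : Q := act 5 n4499
theorem D7226 : act 5 n4499 = n7226 := rfl
theorem F11917 : act 0 n7226 = n7207 := d4_1 D7226 (iv F11914) F11912
theorem F11918 : act 4 n7226 = n4974 := d18_1 D7226 (iv D4974) (iv F7592)
theorem F11919 : act 6 n7226 = n7205 := d20_2 D4499 D7226 F11884 D7223 F11914 (iv D7207) F7562
theorem F11920 : act 1 n4839 = n7226 := d8_3 F11918 F9410 (iv F8172)
def n7227 : Q := act 1 n4500
theorem D7227 : act 1 n4500 = n7227 := rfl
theorem F11923 : act 6 n7227 = n6349 := d10_2 (iv F10181) D7227 F10427 F6900 (iv F6788)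
def n7228 : Q := act 5 n4500
theorem D7228 : act 5 n4500 = n7228 := rfl
theorem F11927 : act 6 n7228 = n7209 := d20_2 (iv F10181) D7228 (iv D7209) F7567 D4502 (iv F10226) (iv D6247)
def n7231 : Q := act 2 n4503
theorem D7231 : act 2 n4503 = n7231 := rfl
theorem F11932 : act 1 n7231 = n4512 := d6_1 D7231 (iv D4512) (iv D3131) (iv F5462) D4503
theorem F11933 : act 5 n7231 = n6233 := d13_2 (iv F7597) D7231 (iv D6233)
def n7232 : Q := act 6 n4503
theorem D7232 : act 6 n4503 = n7232 := rfl
def n7233 : Q := act 1 n4504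
theorem D7233 : act 1 n4504 = n7233 := rfl
theorem F11935 : act 3 n7233 = n6227 := d7_2 (iv F7599) D7233 (iv D6227)
def n7237 : Q := act 0 n4507
theorem D7237 : act 0 n4507 = n7237 := rfl
theorem F11942 : act 5 n7237 = n4532 := d4_2 (iv F7609) D7237 (iv D4532)
def n7238 : Q := act 2 n4507
theorem D7238 : act 2 n4507 = n7238 := rfl
theorem F11944 : act 5 n7238 = n4533 := d13_2 (iv F7609) D7238 (iv D4533)
def n7239 : Q := act 6 n4507
theorem D7239 : act 6 n4507 = n7239 := rfl
def n7241 : Q := act 0 n4509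
theorem D7241 : act 0 n4509 = n7241 := rfl
theorem F11951 : act 6 n7241 = n4535 := d5_2 (iv F7615) D7241 (iv D4535)
def n7242 : Q := act 2 n4509
theorem D7242 : act 2 n4509 = n7242 := rfl
theorem F11953 : act 6 n7242 = n4536 := d14_2 (iv F7615) D7242 (iv D4536)
def n7244 : Q := act 1 n4510
theorem D7244 : act 1 n4510 = n7244 := rfl
theorem F11956 : act 3 n7244 = n5006 := d7_2 (iv F7617) D7244 (iv D5006)
theorem F11957 : act 4 n7244 = n4518 := d8_2 (iv F7618) D7244 (iv D4518)
def n7245 : Q := act 1 n4511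
theorem D7245 : act 1 n4511 = n7245 := rfl
theorem F11958 : act 3 n7245 = n4519 := d7_2 (iv F7620) D7245 (iv D4519)
def n7246 : Q := act 2 n4511
theorem D7246 : act 2 n4511 = n7246 := rfl
theorem F11959 : act 0 n7246 = n4512 := d1_1 D7246 (iv D4512) D4511
theorem F11960 : act 5 n7246 = n4539 := d13_2 (iv F7621) D7246 (iv D4539)
def n7247 : Q := act 3 n4512
theorem D7247 : act 3 n4512 = n7247 := rfl
theorem F11961 : act 5 n7247 = n4541 := d16_2 (iv F7622) D7247 (iv D4541)
def n7248 : Q := act 6 n4512
theorem D7248 : act 6 n4512 = n7248 := rfl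
theorem F11962 : act 2 n7248 = n4513 := d14_1 D7248 (iv D4513) D4512
def n7257 : Q := act 1 n4517
theorem D7257 : act 1 n4517 = n7257 := rfl
theorem F11974 : act 5 n7257 = n4518 := d9_2 D4517 D7257 (iv D4518) (iv D3134) D3133
def n7258 : Q := act 0 n4518
theorem D7258 : act 0 n4518 = n7258 := rfl
def n7259 : Q := act 2 n4518
theorem D7259 : act 2 n4518 = n7259 := rfl
def n7260 : Q := act 6 n4518
theorem D7260 : act 6 n4518 = n7260 := rfl
theorem F11976 : act 1 n7260 = n7217 := d10_1 D7260 (iv D7217) (iv D4495) (iv F5478) D4518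
theorem F11977 : act 3 n7260 = n4531 := d17_1 D7260 (iv D4531) (iv F7629)
def n7261 : Q := act 6 n4519
theorem D7261 : act 6 n4519 = n7261 := rfl
theorem F11978 : act 2 n7261 = n6939 := d14_1 D7261 F11392 F11381
def n7262 : Q := act 1 n4520
theorem D7262 : act 1 n4520 = n7262 := rfl
theorem F11983 : act 0 n7262 = n5977 := d23_3 (iv F5480) D4520 D7262 (iv D5977) F6566 (iv D2772) F4068 F2080 (iv D636) (iv D312) (iv F385) F387 (iv D139) (iv F290) (iv F465) D492 (iv F1588) D1997 D2418
theorem F11984 : act 5 n5975 = n7262 := d4_0 F11983 (iv D5977) D5975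
def n7263 : Q := act 3 n4520
theorem D7263 : act 3 n4520 = n7263 := rfl
theorem F11985 : act 0 n7263 = n4521 := d2_1 D7263 (iv D4521) (iv F7631)
theorem F11986 : act 5 n7263 = n4555 := d16_2 (iv F7633) D7263 (iv D4555)
def n7264 : Q := act 2 n4521
theorem D7264 : act 2 n4521 = n7264 := rfl
theorem F11987 : act 5 n7264 = n4558 := d13_2 (iv F7634) D7264 (iv D4558)
def n7265 : Q := act 4 n4521
theorem D7265 : act 4 n4521 = n7265 := rfl
theorem F11989 : act 5 n7265 = n4559 := d18_2 (iv F7634) D7265 (iv D4559)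
def n7266 : Q := act 6 n4521
theorem D7266 : act 6 n4521 = n7266 := rfl
theorem F11990 : act 3 n7266 = n4522 := d17_1 D7266 (iv D4522) D4521
def n7267 : Q := act 1 n4522
theorem D7267 : act 1 n4522 = n7267 := rfl
def n7269 : Q := act 2 n4523
theorem D7269 : act 2 n4523 = n7269 := rfl
theorem F11995 : act 6 n7269 = n4525 := d14_2 (iv F7638) D7269 (iv D4525)
def n7271 : Q := act 1 n4524
theorem D7271 : act 1 n4524 = n7271 := rfl
theorem F11997 : act 4 n7271 = n5036 := d8_2 (iv F7639) D7271 (iv D5036)
theorem F11998 : act 5 n4833 = n7271 := d18_0 F11997 F8489 (iv F8161)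
def n7273 : Q := act 5 n4524
theorem D7273 : act 5 n4524 = n7273 := rfl
theorem F12001 : act 0 n7273 = n4526 := d4_1 D7273 (iv D4526) D4524
theorem F12002 : act 1 n7273 = n4684 := d9_1 D7273 F7911 (iv F8160) F11998 (iv D7271)
def n7275 : Q := act 5 n4525
theorem D7275 : act 5 n4525 = n7275 := rfl
theorem F12005 : act 2 n7275 = n4526 := d13_1 D7275 (iv D4526) D4525
def n7277 : Q := act 0 n4527
theorem D7277 : act 0 n4527 = n7277 := rfl
theorem F12010 : act 4 n7277 = n5042 := d3_2 (iv F7643) D7277 (iv D5042)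
def n7278 : Q := act 2 n4527
theorem D7278 : act 2 n4527 = n7278 := rfl
theorem F12011 : act 4 n7278 = n5043 := d12_2 (iv F7643) D7278 (iv D5043)
def n7279 : Q := act 5 n4527
theorem D7279 : act 5 n4527 = n7279 := rfl
def n7281 : Q := act 0 n4528
theorem D7281 : act 0 n4528 = n7281 := rfl
theorem F12016 : act 5 n7281 = n4529 := d4_2 (iv F7645) D7281 (iv D4529)
def n7282 : Q := act 2 n4528
theorem D7282 : act 2 n4528 = n7282 := rfl
theorem F12018 : act 5 n7282 = n4530 := d13_2 (iv F7645) D7282 (iv D4530)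
def n7283 : Q := act 6 n4528
theorem D7283 : act 6 n4528 = n7283 := rfl
theorem F12019 : act 1 n7283 = n5440 := d10_1 D7283 (iv F9009) (iv D4568) F5514 D4528
theorem F12021 : act 2 n5442 = n7283 := d6_0 F12019 (iv D5440) (iv D3586) D3587 D5442
theorem F12022 : act 6 n7282 = n5442 := d14_0 F12021 (iv D7283) D7282
def n7284 : Q := act 1 n4529
theorem D7284 : act 1 n4529 = n7284 := rfl
theorem F12023 : act 4 n7284 = n5049 := d8_2 (iv F7646) D7284 (iv D5049)
theorem F12024 : act 6 n4799 = n7284 := d19_0 F12023 (iv F8500) (iv F8102)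
def n7286 : Q := act 6 n4529
theorem D7286 : act 6 n4529 = n7286 := rfl
theorem F12027 : act 0 n7286 = n4531 := d5_1 D7286 (iv D4531) D4529
theorem F12029 : act 4 n7286 = n5051 := d19_1 D7286 (iv D5051) (iv F7646)
theorem F12030 : act 5 n7286 = n7283 := d22_2 F12016 D7286 (iv D7283) D7281
def n7287 : Q := act 3 n4530
theorem D7287 : act 3 n4530 = n7287 := rfl
def n7288 : Q := act 6 n4530
theorem D7288 : act 6 n4530 = n7288 := rfl
theorem F12031 : act 2 n7288 = n4531 := d14_1 D7288 (iv D4531) D4530
def n7290 : Q := act 1 n4532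
theorem D7290 : act 1 n4532 = n7290 := rfl
theorem F12036 : act 3 n7290 = n5055 := d7_2 (iv F7650) D7290 (iv D5055)
def n7291 : Q := act 2 n4532
theorem D7291 : act 2 n4532 = n7291 := rfl
theorem F12038 : act 0 n7291 = n4533 := d1_1 D7291 (iv D4533) D4532
theorem F12039 : act 4 n7291 = n4539 := d12_2 (iv F7651) D7291 (iv D4539)
def n7292 : Q := act 6 n4532
theorem D7292 : act 6 n4532 = n7292 := rfl
theorem F12040 : act 0 n7292 = n4534 := d5_1 D7292 (iv D4534) D4532
theorem F12043 : act 5 n7292 = n7239 := d22_2 F11942 D7292 (iv D7239) D7237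
def n7293 : Q := act 3 n4533
theorem D7293 : act 3 n4533 = n7293 := rfl
def n7294 : Q := act 6 n4533
theorem D7294 : act 6 n4533 = n7294 := rfl
theorem F12045 : act 2 n7294 = n4534 := d14_1 D7294 (iv D4534) D4533
theorem F12046 : act 4 n7294 = n4542 := d19_1 D7294 (iv D4542) (iv F7653)
def n7295 : Q := act 5 n4534
theorem D7295 : act 5 n4534 = n7295 := rfl
theorem F12049 : act 4 n7295 = n4543 := d18_1 D7295 (iv D4543) (iv F7655)
theorem F12050 : act 6 n7295 = n7237 := d20_2 D4534 D7295 F11942 D7292 F12043 (iv D7239) F7609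
def n7298 : Q := act 5 n4535
theorem D7298 : act 5 n4535 = n7298 := rfl
theorem F12055 : act 0 n7298 = n4537 := d4_1 D7298 (iv D4537) D4535
theorem F12056 : act 3 n7298 = n5063 := d16_1 D7298 (iv D5063) (iv F7656)
def n7302 : Q := act 0 n4538
theorem D7302 : act 0 n4538 = n7302 := rfl
theorem F12066 : act 1 n7302 = n4743 := d0_2 D4538 D7302 (iv D4743) (iv D3248) (iv D2466) (iv D2038) (iv F3228) D2416 D3144
def n7306 : Q := act 1 n4539
theorem D7306 : act 1 n4539 = n7306 := rfl
def n7307 : Q := act 3 n4539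
theorem D7307 : act 3 n4539 = n7307 := rfl
theorem F12070 : act 0 n7307 = n4541 := d2_1 D7307 (iv D4541) (iv F7663)
def n7308 : Q := act 6 n4539
theorem D7308 : act 6 n4539 = n7308 := rfl
theorem F12071 : act 0 n7308 = n4542 := d5_1 D7308 (iv D4542) (iv F7663)
theorem F12072 : act 2 n7308 = n4540 := d14_1 D7308 (iv D4540) D4539
theorem F12073 : act 5 n7308 = n7248 := d22_2 F11960 D7308 (iv D7248) (iv F11959)
def n7309 : Q := act 1 n4540
theorem D7309 : act 1 n4540 = n7309 := rfl
def n7310 : Q := act 2 n4541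
theorem D7310 : act 2 n4541 = n7310 := rfl
def n7311 : Q := act 4 n4541
theorem D7311 : act 4 n4541 = n7311 := rfl
def n7312 : Q := act 6 n4541
theorem D7312 : act 6 n4541 = n7312 := rfl
def n7314 : Q := act 5 n4542
theorem D7314 : act 5 n4542 = n7314 := rfl
theorem F12079 : act 2 n7314 = n4543 := d13_1 D7314 (iv D4543) (iv F7668)
theorem F12080 : act 6 n7314 = n7246 := d20_2 D4542 D7314 F11960 D7308 F12073 (iv D7248) F7622
def n7315 : Q := act 1 n4543
theorem D7315 : act 1 n4543 = n7315 := rfl
def n7318 : Q := act 5 n4544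
theorem D7318 : act 5 n4544 = n7318 := rfl
theorem F12084 : act 3 n7318 = n4566 := d16_1 D7318 (iv D4566) (iv F7672)
def n7319 : Q := act 6 n4544
theorem D7319 : act 6 n4544 = n7319 := rfl
theorem F12085 : act 3 n7319 = n4567 := d17_1 D7319 (iv D4567) (iv F7672)
def n7321 : Q := act 3 n4545
theorem D7321 : act 3 n4545 = n7321 := rfl
theorem F12087 : act 2 n7321 = n6522 := d21_2 D4545 D7321 (iv D6522) (iv D4132) F5172 F4204 (iv F4380) D3147
def n7324 : Q := act 2 n4547
theorem D7324 : act 2 n4547 = n7324 := rfl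
theorem F12093 : act 3 n7324 = n6520 := d11_2 D4547 D7324 (iv D6520) F7057 F5183 (iv F5496) D4545 D7321 F12087 (iv D6522) (iv D4132) F5172 F4204 (iv F4380) D3148
def n7329 : Q := act 1 n4549
theorem D7329 : act 1 n4549 = n7329 := rfl
def n7330 : Q := act 5 n4550
theorem D7330 : act 5 n4550 = n7330 := rfl
theorem F12101 : act 0 n7330 = n4552 := d4_1 D7330 (iv D4552) D4550
theorem F12102 : act 2 n7330 = n7141 := d13_1 D7330 (iv D7141) F11478
def n7331 : Q := act 6 n4550
theorem D7331 : act 6 n4550 = n7331 := rfl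
def n7334 : Q := act 6 n4551
theorem D7334 : act 6 n4551 = n7334 := rfl
theorem F12112 : act 2 n7334 = n4553 := d14_1 D7334 (iv D4553) D4551
def n7335 : Q := act 6 n4552
theorem D7335 : act 6 n4552 = n7335 := rfl
theorem F12115 : act 5 n7335 = n7331 := d22_2 D4552 D7335 (iv D7331) (iv D4550)
theorem F12116 : act 1 n6025 = n7335 := d24_14 (iv D7335) (iv D4552) (iv D3150) D3152 F5504 D4523 F7638 D4526 F7641 (iv F10226) (iv D6247) F6788 (iv F6900) (iv F9785)
def n7337 : Q := act 5 n4553
theorem D7337 : act 5 n4553 = n7337 := rfl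
theorem F12121 : act 6 n7337 = n7330 := d20_2 D4553 D7337 (iv D7330) D7331 (iv F12115) (iv D7335) (iv D4552)
def n7338 : Q := act 3 n4554
theorem D7338 : act 3 n4554 = n7338 := rfl
theorem F12122 : act 1 n7338 = n4555 := d7_1 D7338 (iv D4555) D4554
def n7339 : Q := act 5 n4554
theorem D7339 : act 5 n4554 = n7339 := rfl
theorem F12123 : act 1 n7339 = n5975 := d9_1 D7339 F11984 (iv D7262) F7633 D4554
theorem F12124 : act 4 n7339 = n5107 := d18_1 D7339 (iv D5107) (iv F7687)
def n7340 : Q := act 6 n4554
theorem D7340 : act 6 n4554 = n7340 := rfl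
theorem F12125 : act 4 n7340 = n5108 := d19_1 D7340 (iv D5108) (iv F7687)
def n7341 : Q := act 2 n4555
theorem D7341 : act 2 n4555 = n7341 := rfl
theorem F12126 : act 0 n7341 = n4558 := d1_1 D7341 (iv D4558) (iv F7688)
theorem F12127 : act 3 n7341 = n7310 := d21_1 D7341 (iv D7310) (iv D4541) (iv D3145) F4379 D2419 D3153 (iv F7688)
def n7342 : Q := act 4 n4555
theorem D7342 : act 4 n4555 = n7342 := rfl
theorem F12128 : act 0 n7342 = n4559 := d3_1 D7342 (iv D4559) (iv F7688)
def n7343 : Q := act 6 n4555
theorem D7343 : act 6 n4555 = n7343 := rfl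
theorem F12130 : act 0 n7343 = n4560 := d5_1 D7343 (iv D4560) (iv F7688)
theorem F12131 : act 3 n7343 = n4556 := d17_1 D7343 (iv D4556) D4555
theorem F12132 : act 5 n7343 = n7266 := d22_2 F11986 D7343 (iv D7266) (iv F11985)
def n7344 : Q := act 1 n4556
theorem D7344 : act 1 n4556 = n7344 := rfl
theorem F12133 : act 4 n7344 = n5112 := d8_2 (iv F7691) D7344 (iv D5112)
def n7348 : Q := act 3 n4558
theorem D7348 : act 3 n4558 = n7348 := rfl
theorem F12139 : act 0 n7348 = n7310 := d2_1 D7348 (iv F12127) F12126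
theorem F12140 : act 2 n7348 = n7307 := d11_1 D7348 (iv D7307) (iv D4539) F5493 D3151 D4555 D7341 F12127 (iv D7310) (iv D4541) (iv D3145) F4379 D2419 D3153 D4558
def n7349 : Q := act 4 n4558
theorem D7349 : act 4 n4558 = n7349 := rfl
theorem F12141 : act 2 n7349 = n4559 := d12_1 D7349 (iv D4559) D4558
def n7350 : Q := act 6 n4558
theorem D7350 : act 6 n4558 = n7350 := rfl
theorem F12142 : act 2 n7350 = n4560 := d14_1 D7350 (iv D4560) D4558
def n7351 : Q := act 6 n4559
theorem D7351 : act 6 n4559 = n7351 := rfl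
theorem F12143 : act 3 n7351 = n5120 := d17_1 D7351 (iv D5120) (iv F7695)
def n7352 : Q := act 1 n4560
theorem D7352 : act 1 n4560 = n7352 := rfl
theorem F12146 : act 6 n7352 = n4576 := d10_2 D4560 D7352 (iv D4576) (iv D3162) (iv F5505)
def n7353 : Q := act 5 n4560
theorem D7353 : act 5 n4560 = n7353 := rfl
theorem F12147 : act 0 n7353 = n7266 := d4_1 D7353 (iv F12132) F12130
def n7357 : Q := act 0 n4563
theorem D7357 : act 0 n4563 = n7357 := rfl
theorem F12154 : act 4 n7357 = n5126 := d3_2 (iv F7703) D7357 (iv D5126)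
theorem F12155 : act 1 n4621 = n7357 := d8_3 F12154 F9389 (iv F7808)
def n7359 : Q := act 6 n4563
theorem D7359 : act 6 n4563 = n7359 := rfl
theorem F12157 : act 1 n7359 = n7261 := d10_1 D7359 (iv D7261) (iv D4519) (iv F5510) D4563
def n7360 : Q := act 2 n4564
theorem D7360 : act 2 n4564 = n7360 := rfl
theorem F12159 : act 0 n7360 = n4565 := d1_1 D7360 (iv D4565) D4564
theorem F12160 : act 4 n7360 = n5129 := d12_2 (iv F7705) D7360 (iv D5129)
def n7361 : Q := act 5 n4564
theorem D7361 : act 5 n4564 = n7361 := rfl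
def n7362 : Q := act 6 n4564
theorem D7362 : act 6 n4564 = n7362 := rfl
theorem F12163 : act 0 n7362 = n4567 := d5_1 D7362 (iv D4567) D4564
theorem F12164 : act 4 n7362 = n5131 := d19_1 D7362 (iv D5131) (iv F7705)
theorem F12165 : act 1 n6923 = n7362 := d8_3 F12164 (iv F9308) (iv F11365)
theorem F12166 : act 2 n7362 = n6925 := d6_2 D6923 F12165 (iv D6925) (iv D4332) D4331
theorem F12167 : act 6 n6925 = n7360 := d14_2 D7362 F12166 (iv D7360)
def n7363 : Q := act 3 n4565
theorem D7363 : act 3 n4565 = n7363 := rfl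
def n7364 : Q := act 5 n4565
theorem D7364 : act 5 n4565 = n7364 := rfl
theorem F12169 : act 4 n7364 = n5133 := d18_1 D7364 (iv D5133) (iv F7706)
def n7366 : Q := act 1 n4566
theorem D7366 : act 1 n4566 = n7366 := rfl
theorem F12174 : act 5 n7366 = n4568 := d9_2 D4566 D7366 (iv D4568) (iv D3157) D3156
theorem F12175 : act 2 n5138 = n7366 := d13_3 F12174 (iv F9007) (iv F9006)
theorem F12176 : act 0 n5139 = n7366 := d22_4 F12174 F9009 (iv F9012) F9013
def n7367 : Q := act 6 n4566
theorem D7367 : act 6 n4566 = n7367 := rfl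
theorem F12177 : act 4 n7367 = n5136 := d19_1 D7367 (iv D5136) (iv F7707)
theorem F12178 : act 5 n7367 = n7362 := d22_2 D4566 D7367 (iv D7362) (iv D4564)
def n7368 : Q := act 5 n4567
theorem D7368 : act 5 n4567 = n7368 := rfl
theorem F12179 : act 0 n7368 = n7367 := d4_1 D7368 F12178 F12163
theorem F12181 : act 6 n7368 = n7361 := d20_2 D4567 D7368 (iv D7361) D7362 (iv F12178) (iv D7367) (iv D4566)
def n7369 : Q := act 0 n4568
theorem D7369 : act 0 n4568 = n7369 := rfl
theorem F12182 : act 2 n7369 = n5135 := d1_2 F9007 D7369 (iv F9005)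
theorem F12184 : act 5 n7369 = n5139 := d4_2 F12174 D7369 F12176
def n7370 : Q := act 0 n4569
theorem D7370 : act 0 n4569 = n7370 := rfl
theorem F12185 : act 4 n7370 = n5141 := d3_2 (iv F7710) D7370 (iv D5141)
theorem F12186 : act 1 n4615 = n7370 := d8_3 F12185 F9355 (iv F7796)
def n7371 : Q := act 2 n4569
theorem D7371 : act 2 n4569 = n7371 := rfl
def n7372 : Q := act 5 n4569
theorem D7372 : act 5 n4569 = n7372 := rfl
theorem F12188 : act 1 n7372 = n7279 := d9_1 D7372 (iv D7279) (iv D4527) (iv F5517) D4569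
def n7374 : Q := act 5 n4570
theorem D7374 : act 5 n4570 = n7374 := rfl
theorem F12191 : act 0 n7374 = n4572 := d4_1 D7374 (iv D4572) D4570
theorem F12192 : act 2 n7374 = n6885 := d13_1 D7374 (iv D6885) (iv F7711)
theorem F12194 : act 1 n6919 = n7374 := d23_2 F11317 D6919 F12191 (iv D4572) F5518 (iv D3028) F4279 (iv F4629) (iv D2566) (iv D2125) (iv D1145) (iv F3791) D1879 (iv F4307) (iv F5373) (iv F7429) (iv D4408) D4407 (iv F11316)
def n7375 : Q := act 6 n4570
theorem D7375 : act 6 n4570 = n7375 := rfl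
theorem F12197 : act 4 n7375 = n5152 := d19_1 D7375 (iv D5152) (iv F7712)
def n7376 : Q := act 2 n4571
theorem D7376 : act 2 n4571 = n7376 := rfl
def n7378 : Q := act 5 n4571
theorem D7378 : act 5 n4571 = n7378 := rfl
theorem F12200 : act 3 n7378 = n4572 := d16_1 D7378 (iv D4572) D4571
def n7379 : Q := act 6 n4571
theorem D7379 : act 6 n4571 = n7379 := rfl
theorem F12201 : act 3 n7379 = n4573 := d17_1 D7379 (iv D4573) D4571
def n7383 : Q := act 0 n4576
theorem D7383 : act 0 n4576 = n7383 := rfl
def n7384 : Q := act 2 n4576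
theorem D7384 : act 2 n4576 = n7384 := rfl
def n7385 : Q := act 5 n4576
theorem D7385 : act 5 n4576 = n7385 := rfl
theorem F12213 : act 3 n7385 = n4578 := d16_1 D7385 (iv D4578) (iv F7723)
def n7386 : Q := act 1 n4577
theorem D7386 : act 1 n4577 = n7386 := rfl
theorem F12214 : act 4 n7386 = n5170 := d8_2 (iv F7724) D7386 (iv D5170)
def n7388 : Q := act 6 n4578
theorem D7388 : act 6 n4578 = n7388 := rfl
def n7389 : Q := act 1 n4579
theorem D7389 : act 1 n4579 = n7389 := rfl
theorem F12221 : act 4 n7389 = n7148 := d8_2 (iv F7727) D7389 (iv D7148)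
theorem F12222 : act 5 n5972 = n7389 := d18_0 F12221 F11777 F10434
def n7390 : Q := act 3 n4579
theorem D7390 : act 3 n4579 = n7390 := rfl
theorem F12223 : act 0 n7390 = n4580 := d2_1 D7390 (iv D4580) D4579
def n7391 : Q := act 5 n4579
theorem D7391 : act 5 n4579 = n7391 := rfl
theorem F12225 : act 1 n7391 = n5974 := d9_1 D7391 (iv D5974) D5972 F12222 (iv D7389)
theorem F12226 : act 2 n7391 = n6750 := d13_1 D7391 (iv D6750) (iv F7726)
theorem F12227 : act 4 n7391 = n7150 := d18_1 D7391 (iv D7150) (iv F7727)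
def n7392 : Q := act 6 n4579
theorem D7392 : act 6 n4579 = n7392 := rfl
theorem F12228 : act 0 n7392 = n4582 := d5_1 D7392 (iv D4582) D4579
theorem F12229 : act 2 n7392 = n6751 := d14_1 D7392 (iv D6751) (iv F7726)
def n7393 : Q := act 2 n4580
theorem D7393 : act 2 n4580 = n7393 := rfl
theorem F12231 : act 1 n7393 = n7376 := d6_1 D7393 (iv D7376) F7713 (iv F5528) (iv F7728)
def n7394 : Q := act 4 n4580
theorem D7394 : act 4 n4580 = n7394 := rfl
theorem F12233 : act 3 n7394 = n7153 := d15_1 D7394 (iv D7153) (iv D4460) (iv F5526) D4580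
def n7395 : Q := act 5 n4580
theorem D7395 : act 5 n4580 = n7395 := rfl
theorem F12235 : act 3 n7395 = n4581 := d16_1 D7395 (iv D4581) D4580
def n7396 : Q := act 6 n4580
theorem D7396 : act 6 n4580 = n7396 := rfl
theorem F12236 : act 3 n7396 = n4582 := d17_1 D7396 (iv D4582) D4580
def n7397 : Q := act 6 n4581
theorem D7397 : act 6 n4581 = n7397 := rfl
theorem F12237 : act 2 n7397 = n6756 := d14_1 D7397 (iv D6756) (iv F7730)
theorem F12239 : act 5 n7397 = n7392 := d22_2 D4581 D7397 (iv D7392) (iv D4579)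
def n7398 : Q := act 5 n4582
theorem D7398 : act 5 n4582 = n7398 := rfl
theorem F12240 : act 0 n7398 = n7397 := d4_1 D7398 F12239 F12228
theorem F12241 : act 2 n7398 = n6757 := d13_1 D7398 (iv D6757) (iv F7732)
theorem F12243 : act 6 n7398 = n7391 := d20_2 D4582 D7398 (iv D7391) D7392 (iv F12239) (iv D7397) (iv D4581)
def n7399 : Q := act 0 n4584
theorem D7399 : act 0 n4584 = n7399 := rfl
theorem F12244 : act 1 n7399 = n7330 := d0_2 D4584 D7399 F12101 F11377 F11375 F7764 (iv D4594) (iv D3177) (iv F5533)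
def n7401 : Q := act 5 n4585
theorem D7401 : act 5 n4585 = n7401 := rfl
theorem F12247 : act 4 n7401 = n5221 := d18_1 D7401 (iv D5221) (iv F7739)
def n7402 : Q := act 0 n4586
theorem D7402 : act 0 n4586 = n7402 := rfl
theorem F12248 : act 1 n7402 = n6176 := d0_2 D4586 D7402 F10018 F7328 F7326 (iv F7106) (iv F7419) (iv D4401) (iv F5661)
def n7403 : Q := act 2 n4586
theorem D7403 : act 2 n4586 = n7403 := rfl
theorem F12253 : act 1 n7403 = n4595 := d6_1 D7403 (iv D4595) (iv D3177) (iv F5538) D4586
theorem F12255 : act 5 n7403 = n4881 := d13_2 (iv F7742) D7403 (iv D4881)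
def n7404 : Q := act 2 n4587
theorem D7404 : act 2 n4587 = n7404 := rfl
theorem F12256 : act 1 n7404 = n4599 := d6_1 D7404 (iv D4599) (iv D3179) (iv F5540) D4587
theorem F12258 : act 6 n7404 = n4885 := d14_2 (iv F7745) D7404 (iv D4885)
def n7405 : Q := act 1 n4588
theorem D7405 : act 1 n4588 = n7405 := rfl
theorem F12260 : act 4 n7405 = n4590 := d8_2 (iv F7747) D7405 (iv D4590)
theorem F12261 : act 5 n7405 = n4602 := d9_2 D4588 D7405 (iv D4602) (iv D3181) (iv F5544)
def n7409 : Q := act 0 n4590
theorem D7409 : act 0 n4590 = n7409 := rfl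
theorem F12274 : act 3 n7409 = n4594 := d2_2 (iv F7750) D7409 (iv D4594)
theorem F12275 : act 5 n7409 = n4604 := d4_2 (iv F7751) D7409 (iv D4604)
def n7411 : Q := act 6 n4590
theorem D7411 : act 6 n4590 = n7411 := rfl
def n7417 : Q := act 3 n4595
theorem D7417 : act 3 n4595 = n7417 := rfl
theorem F12285 : act 0 n7417 = n6940 := d2_1 D7417 (iv D6940) (iv F7765)
theorem F12286 : act 5 n7417 = n4613 := d16_2 (iv F7767) D7417 (iv D4613)
def n7418 : Q := act 6 n4595
theorem D7418 : act 6 n4595 = n7418 := rfl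
theorem F12288 : act 2 n7418 = n4596 := d14_1 D7418 (iv D4596) D4595
def n7420 : Q := act 0 n4597
theorem D7420 : act 0 n4597 = n7420 := rfl
theorem F12292 : act 4 n7420 = n5262 := d3_2 (iv F7769) D7420 (iv D5262)
theorem F12293 : act 5 n4849 = n7420 := d18_0 F12292 (iv F9418) (iv F8188)
def n7421 : Q := act 2 n4597
theorem D7421 : act 2 n4597 = n7421 := rfl
def n7422 : Q := act 5 n4597
theorem D7422 : act 5 n4597 = n7422 := rfl
theorem F12295 : act 0 n7422 = n4849 := d4_1 D7422 F12293 (iv D7420)
theorem F12296 : act 1 n7422 = n7401 := d9_1 D7422 (iv D7401) (iv D4585) (iv F5551) D4597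
theorem F12297 : act 4 n7422 = n5264 := d18_1 D7422 (iv D5264) (iv F7769)
def n7423 : Q := act 1 n4598
theorem D7423 : act 1 n4598 = n7423 := rfl
theorem F12299 : act 4 n7423 = n5265 := d8_2 (iv F7770) D7423 (iv D5265)
theorem F12300 : act 6 n7277 = n7423 := d19_0 F12299 F9303 (iv F12010)
def n7424 : Q := act 2 n4598
theorem D7424 : act 2 n4598 = n7424 := rfl
theorem F12301 : act 0 n7424 = n4599 := d1_1 D7424 (iv D4599) D4598
theorem F12302 : act 4 n7424 = n5266 := d12_2 (iv F7770) D7424 (iv D5266)
theorem F12303 : act 6 n7424 = n4617 := d14_2 (iv F7771) D7424 (iv D4617)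
def n7426 : Q := act 5 n4599
theorem D7426 : act 5 n4599 = n7426 := rfl
def n7431 : Q := act 0 n4602
theorem D7431 : act 0 n4602 = n7431 := rfl
def n7432 : Q := act 2 n4602
theorem D7432 : act 2 n4602 = n7432 := rfl
theorem F12317 : act 4 n7432 = n4605 := d12_2 (iv F7777) D7432 (iv D4605)
def n7433 : Q := act 6 n4602
theorem D7433 : act 6 n4602 = n7433 := rfl
def n7437 : Q := act 1 n4604
theorem D7437 : act 1 n4604 = n7437 := rfl
def n7438 : Q := act 2 n4604
theorem D7438 : act 2 n4604 = n7438 := rfl
theorem F12326 : act 0 n7438 = n4605 := d1_1 D7438 (iv D4605) D4604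
def n7439 : Q := act 6 n4604
theorem D7439 : act 6 n4604 = n7439 := rfl
theorem F12329 : act 5 n7439 = n7411 := d22_2 F12275 D7439 (iv D7411) D7409
def n7440 : Q := act 3 n4605
theorem D7440 : act 3 n4605 = n7440 := rfl
def n7441 : Q := act 6 n4605
theorem D7441 : act 6 n4605 = n7441 := rfl
theorem F12330 : act 2 n7441 = n4606 := d14_1 D7441 (iv D4606) D4605
def n7442 : Q := act 5 n4606
theorem D7442 : act 5 n4606 = n7442 := rfl
theorem F12332 : act 3 n7442 = n4615 := d16_1 D7442 (iv D4615) (iv F7781)
theorem F12333 : act 6 n7442 = n7409 := d20_2 D4606 D7442 F12275 D7439 F12329 (iv D7411) F7751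
def n7449 : Q := act 0 n4610
theorem D7449 : act 0 n4610 = n7449 := rfl
theorem F12343 : act 1 n7449 = n4662 := d0_2 D4610 D7449 (iv D4662) (iv D3211) (iv D2447) (iv D2028) (iv F3283) D2435 D3185
theorem F12344 : act 4 n7449 = n5305 := d3_2 (iv F7784) D7449 (iv D5305)
theorem F12345 : act 5 n7221 = n7449 := d18_0 F12344 F8847 (iv F11909)
def n7450 : Q := act 2 n4610
theorem D7450 : act 2 n4610 = n7450 := rfl
theorem F12346 : act 1 n7450 = n6989 := d6_1 D7450 F11469 F7788 (iv D4611) D4610
theorem F12347 : act 4 n7450 = n5306 := d12_2 (iv F7784) D7450 (iv D5306)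
theorem F12348 : act 5 n6995 = n7450 := d9_0 F12346 (iv D6989) (iv D4372) D4374 D6995
def n7451 : Q := act 5 n4610
theorem D7451 : act 5 n4610 = n7451 := rfl
theorem F12349 : act 0 n7451 = n7221 := d4_1 D7451 F12345 (iv D7449)
theorem F12350 : act 1 n7451 = n6936 := d9_1 D7451 (iv D6936) F7764 F7762 D4610
theorem F12351 : act 2 n7451 = n6995 := d13_1 D7451 F12348 (iv D7450)
theorem F12352 : act 4 n7451 = n5307 := d18_1 D7451 (iv D5307) (iv F7784)
def n7453 : Q := act 3 n4611
theorem D7453 : act 3 n4611 = n7453 := rfl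
theorem F12354 : act 0 n7453 = n4613 := d2_1 D7453 (iv D4613) (iv F7785)
theorem F12356 : act 5 n7453 = n6940 := d16_2 (iv F7787) D7453 (iv D6940)
def n7454 : Q := act 6 n4611
theorem D7454 : act 6 n4611 = n7454 := rfl
theorem F12360 : act 5 n7454 = n7418 := d20_1 D7454 (iv D7418) F7767 D4614 (iv F11396) (iv D6941) (iv F7787)
def n7456 : Q := act 2 n4613
theorem D7456 : act 2 n4613 = n7456 := rfl
def n7457 : Q := act 4 n4613
theorem D7457 : act 4 n4613 = n7457 := rfl
theorem F12364 : act 3 n7457 = n5314 := d15_1 D7457 (iv D5314) (iv D3528) (iv F5567) D4613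
def n7458 : Q := act 6 n4613
theorem D7458 : act 6 n4613 = n7458 := rfl
def n7460 : Q := act 5 n4616
theorem D7460 : act 5 n4616 = n7460 := rfl
def n7461 : Q := act 6 n4616
theorem D7461 : act 6 n4616 = n7461 := rfl
theorem F12370 : act 1 n7461 = n7277 := d10_1 D7461 F12300 (iv D7423) F7771 D4616
theorem F12371 : act 4 n7461 = n5322 := d19_1 D7461 (iv D5322) (iv F7798)
def n7462 : Q := act 1 n4617
theorem D7462 : act 1 n4617 = n7462 := rfl
theorem F12372 : act 4 n7462 = n5323 := d8_2 (iv F7800) D7462 (iv D5323)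
def n7463 : Q := act 3 n4617
theorem D7463 : act 3 n4617 = n7463 := rfl
def n7464 : Q := act 5 n4617
theorem D7464 : act 5 n4617 = n7464 := rfl
theorem F12374 : act 0 n7464 = n4620 := d4_1 D7464 (iv D4620) (iv F7799)
theorem F12375 : act 2 n7464 = n4618 := d13_1 D7464 (iv D4618) D4617
theorem F12376 : act 4 n7464 = n5325 := d18_1 D7464 (iv D5325) (iv F7800)
theorem F12377 : act 6 n7464 = n7426 := d22_1 D7464 (iv D7426) F7773 (iv F7799)
def n7465 : Q := act 1 n4618
theorem D7465 : act 1 n4618 = n7465 := rfl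
theorem F12378 : act 4 n7465 = n5326 := d8_2 (iv F7802) D7465 (iv D5326)
theorem F12379 : act 6 n4810 = n7465 := d19_0 F12378 (iv F9323) (iv F8118)
def n7468 : Q := act 5 n4619
theorem D7468 : act 5 n4619 = n7468 := rfl
theorem F12382 : act 3 n7468 = n4620 := d16_1 D7468 (iv D4620) D4619
def n7469 : Q := act 1 n4620
theorem D7469 : act 1 n4620 = n7469 := rfl
theorem F12383 : act 4 n7469 = n5330 := d8_2 (iv F7806) D7469 (iv D5330)
theorem F12384 : act 5 n7469 = n4911 := d9_2 D4620 D7469 (iv D4911) (iv D3336) (iv F5570)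
def n7470 : Q := act 6 n4620
theorem D7470 : act 6 n4620 = n7470 := rfl
theorem F12388 : act 5 n7470 = n7424 := d20_1 D7470 F12303 D7464 F12377 (iv D7426) F7773 D4620
def n7475 : Q := act 0 n4624
theorem D7475 : act 0 n4624 = n7475 := rfl
theorem F12393 : act 6 n7475 = n4634 := d5_2 (iv F7814) D7475 (iv D4634)
def n7476 : Q := act 2 n4624
theorem D7476 : act 2 n4624 = n7476 := rfl
theorem F12395 : act 6 n7476 = n4635 := d14_2 (iv F7814) D7476 (iv D4635)
def n7479 : Q := act 0 n4626
theorem D7479 : act 0 n4626 = n7479 := rfl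
def n7483 : Q := act 0 n4628
theorem D7483 : act 0 n4628 = n7483 := rfl
def n7484 : Q := act 2 n4628
theorem D7484 : act 2 n4628 = n7484 := rfl
theorem F12404 : act 1 n7484 = n4643 := d6_1 D7484 (iv D4643) (iv D3201) (iv F5577) D4628
theorem F12405 : act 4 n7484 = n4635 := d12_2 (iv F7824) D7484 (iv D4635)
def n7494 : Q := act 0 n4633
theorem D7494 : act 0 n4633 = n7494 := rfl
theorem F12418 : act 3 n7494 = n5366 := d2_2 (iv F7831) D7494 (iv D5366)
def n7499 : Q := act 5 n4634
theorem D7499 : act 5 n4634 = n7499 := rfl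
theorem F12423 : act 0 n7499 = n4636 := d4_1 D7499 (iv D4636) D4634
def n7500 : Q := act 3 n4635
theorem D7500 : act 3 n4635 = n7500 := rfl
def n7501 : Q := act 5 n4635
theorem D7501 : act 5 n4635 = n7501 := rfl
theorem F12426 : act 2 n7501 = n4636 := d13_1 D7501 (iv D4636) D4635
def n7502 : Q := act 1 n4636
theorem D7502 : act 1 n4636 = n7502 := rfl
theorem F12428 : act 5 n7502 = n4637 := d9_2 D4636 D7502 (iv D4637) (iv D3198) D3197
def n7507 : Q := act 1 n4638
theorem D7507 : act 1 n4638 = n7507 := rfl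
theorem F12435 : act 3 n7507 = n5369 := d7_2 (iv F7834) D7507 (iv D5369)
def n7508 : Q := act 2 n4638
theorem D7508 : act 2 n4638 = n7508 := rfl
theorem F12437 : act 0 n7508 = n4639 := d1_1 D7508 (iv D4639) D4638
theorem F12439 : act 5 n7508 = n4724 := d13_2 (iv F7836) D7508 (iv D4724)
def n7509 : Q := act 3 n4639
theorem D7509 : act 3 n4639 = n7509 := rfl
theorem F12440 : act 5 n7509 = n4726 := d16_2 (iv F7838) D7509 (iv D4726)
def n7510 : Q := act 6 n4639
theorem D7510 : act 6 n4639 = n7510 := rfl
def n7515 : Q := act 1 n4642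
theorem D7515 : act 1 n4642 = n7515 := rfl
theorem F12452 : act 3 n7515 = n5377 := d7_2 (iv F7843) D7515 (iv D5377)
theorem F12453 : act 4 n7515 = n4654 := d8_2 (iv F7844) D7515 (iv D4654)
def n7516 : Q := act 2 n4642
theorem D7516 : act 2 n4642 = n7516 := rfl
theorem F12454 : act 0 n7516 = n4643 := d1_1 D7516 (iv D4643) D4642
theorem F12456 : act 6 n7516 = n4734 := d14_2 (iv F7845) D7516 (iv D4734)
def n7517 : Q := act 3 n4643
theorem D7517 : act 3 n4643 = n7517 := rfl
def n7522 : Q := act 6 n4645
theorem D7522 : act 6 n4645 = n7522 := rfl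
theorem F12466 : act 1 n7522 = n7433 := d10_1 D7522 (iv D7433) (iv D4602) (iv F5598) D4645
def n7528 : Q := act 3 n4647
theorem D7528 : act 3 n4647 = n7528 := rfl
theorem F12474 : act 5 n7528 = n4748 := d16_2 (iv F7854) D7528 (iv D4748)
theorem F12475 : act 2 n7528 = n6260 := d21_2 D4647 D7528 (iv D6260) (iv D3995) F4997 F4124 (iv F4416) D3203
def n7529 : Q := act 2 n4648
theorem D7529 : act 2 n4648 = n7529 := rfl
theorem F12478 : act 5 n7529 = n4751 := d13_2 (iv F7855) D7529 (iv D4751)
def n7533 : Q := act 0 n4650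
theorem D7533 : act 0 n4650 = n7533 := rfl
theorem F12481 : act 3 n7533 = n4666 := d2_2 (iv F7857) D7533 (iv D4666)
def n7536 : Q := act 1 n4651
theorem D7536 : act 1 n4651 = n7536 := rfl
theorem F12485 : act 3 n7536 = n4669 := d7_2 (iv F7859) D7536 (iv D4669)
def n7542 : Q := act 2 n4654
theorem D7542 : act 2 n4654 = n7542 := rfl
def n7544 : Q := act 3 n4655
theorem D7544 : act 3 n4655 = n7544 := rfl
theorem F12496 : act 2 n7544 = n4656 := d21_2 D4655 D7544 (iv D4656) (iv D3208) F4420 F3298 (iv F4420) D3207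
def n7545 : Q := act 4 n4656
theorem D7545 : act 4 n4656 = n7545 := rfl
def n7546 : Q := act 5 n4656
theorem D7546 : act 5 n4656 = n7546 := rfl
theorem F12498 : act 3 n7546 = n4657 := d16_1 D7546 (iv D4657) D4656
def n7558 : Q := act 5 n4662
theorem D7558 : act 5 n4662 = n7558 := rfl
theorem F12515 : act 1 n7558 = n7205 := d9_1 D7558 F11884 D7221 F12345 F12343
def n7559 : Q := act 6 n4662
theorem D7559 : act 6 n4662 = n7559 := rfl
theorem F12519 : act 1 n7368 = n7559 := d24_14 (iv D7559) D7558 F12515 (iv F11919) (iv D7226) (iv F7648) (iv D4531) (iv F7645) (iv D4528) (iv F5514) (iv D3157) D3156 D4567 D7368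
def n7561 : Q := act 5 n4663
theorem D7561 : act 5 n4663 = n7561 := rfl
theorem F12520 : act 2 n7561 = n4664 := d13_1 D7561 (iv D4664) D4663
theorem F12521 : act 4 n7561 = n5425 := d18_1 D7561 (iv D5425) (iv F7873)
def n7563 : Q := act 6 n4664
theorem D7563 : act 6 n4664 = n7563 := rfl
theorem F12525 : act 5 n7563 = n7559 := d22_2 D4664 D7563 (iv D7559) (iv D4662)
def n7564 : Q := act 5 n4665
theorem D7564 : act 5 n4665 = n7564 := rfl
theorem F12528 : act 6 n7564 = n7558 := d20_2 D4665 D7564 (iv D7558) D7559 (iv F12525) (iv D7563) (iv D4664)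
def n7565 : Q := act 1 n4666
theorem D7565 : act 1 n4666 = n7565 := rfl
theorem F12529 : act 4 n7565 = n5435 := d8_2 (iv F7877) D7565 (iv D5435)
theorem F12530 : act 6 n7565 = n6735 := d10_2 (iv F7878) D7565 F10976 (iv F9013) (iv D4669)
theorem F12531 : act 2 n6736 = n7565 := d14_3 F12530 (iv D6735) D6736
def n7569 : Q := act 0 n4669
theorem D7569 : act 0 n4669 = n7569 := rfl
theorem F12539 : act 6 n7569 = n7366 := d5_2 (iv F9013) D7569 (iv F12176)
def n7572 : Q := act 5 n4670
theorem D7572 : act 5 n4670 = n7572 := rfl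
theorem F12544 : act 0 n7572 = n4673 := d4_1 D7572 (iv D4673) (iv F7883)
def n7575 : Q := act 5 n4672
theorem D7575 : act 5 n4672 = n7575 := rfl
theorem F12550 : act 3 n7575 = n4673 := d16_1 D7575 (iv D4673) D4672
def n7576 : Q := act 1 n4673
theorem D7576 : act 1 n4673 = n7576 := rfl
theorem F12551 : act 2 n7576 = n7469 := d6_2 (iv F7889) D7576 (iv D7469) F7805 (iv F5615)
theorem F12553 : act 5 n7576 = n4919 := d9_2 D4673 D7576 (iv D4919) (iv D3342) (iv F5613)
def n7578 : Q := act 1 n4674
theorem D7578 : act 1 n4674 = n7578 := rfl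
theorem F12559 : act 6 n7578 = n7357 := d10_2 D4674 D7578 (iv F12155) (iv D4621) (iv F5615)
theorem F12560 : act 0 n7359 = n7578 := d5_3 F12559 (iv D7357) D7359
def n7579 : Q := act 1 n4679
theorem D7579 : act 1 n4679 = n7579 := rfl
theorem F12561 : act 4 n7579 = n5459 := d8_2 (iv F7900) D7579 (iv D5459)
def n7583 : Q := act 0 n4682
theorem D7583 : act 0 n4682 = n7583 := rfl
theorem F12569 : act 1 n7583 = n7569 := d0_2 D4682 D7583 (iv D7569) (iv D4669) (iv D3213) (iv D2449) (iv F3301) D2452 D3218
def n7585 : Q := act 5 n4682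
theorem D7585 : act 5 n4682 = n7585 := rfl
def n7594 : Q := act 1 n4687
theorem D7594 : act 1 n4687 = n7594 := rfl
theorem F12593 : act 5 n7594 = n7370 := d9_2 D4687 D7594 (iv F12186) (iv D4615) (iv F5623)
theorem F12594 : act 0 n7372 = n7594 := d4_3 F12593 (iv D7370) D7372
def n7598 : Q := act 0 n4689
theorem D7598 : act 0 n4689 = n7598 := rfl
theorem F12602 : act 3 n7598 = n6413 := d2_2 (iv F7921) D7598 (iv D6413)
theorem F12603 : act 4 n7598 = n7475 := d3_2 (iv F7922) D7598 (iv D7475)
theorem F12604 : act 6 n7598 = n7483 := d5_2 (iv F7923) D7598 (iv D7483)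
def n7599 : Q := act 2 n4689
theorem D7599 : act 2 n4689 = n7599 := rfl
theorem F12606 : act 6 n7599 = n7484 := d14_2 (iv F7923) D7599 (iv D7484)
def n7601 : Q := act 5 n4690
theorem D7601 : act 5 n4690 = n7601 := rfl
theorem F12610 : act 2 n7601 = n4691 := d13_1 D7601 (iv D4691) D4690
def n7602 : Q := act 6 n4690
theorem D7602 : act 6 n4690 = n7602 := rfl
theorem F12614 : act 2 n7602 = n4692 := d14_1 D7602 (iv D4692) D4690
def n7611 : Q := act 1 n4695
theorem D7611 : act 1 n4695 = n7611 := rfl
theorem F12635 : act 3 n7611 = n6416 := d7_2 (iv F7938) D7611 (iv D6416)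
def n7616 : Q := act 0 n4698
theorem D7616 : act 0 n4698 = n7616 := rfl
def n7617 : Q := act 2 n4698
theorem D7617 : act 2 n4698 = n7617 := rfl
def n7623 : Q := act 1 n4701
theorem D7623 : act 1 n4701 = n7623 := rfl
theorem F12651 : act 5 n7623 = n4702 := d9_2 D4701 D7623 (iv D4702) (iv D3229) D3228
def n7628 : Q := act 2 n4703
theorem D7628 : act 2 n4703 = n7628 := rfl
theorem F12658 : act 4 n7628 = n6395 := d12_2 (iv F7949) D7628 (iv D6395)
def n7636 : Q := act 3 n4706
theorem D7636 : act 3 n4706 = n7636 := rfl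
theorem F12673 : act 1 n7636 = n4726 := d7_1 D7636 (iv D4726) (iv F7953)
def n7645 : Q := act 0 n4711
theorem D7645 : act 0 n4711 = n7645 := rfl
theorem F12691 : act 1 n7645 = n6646 := d0_2 D4711 D7645 (iv D6646) (iv D4194) (iv D2969) (iv D2328) (iv F3308) D2460 D3234
def n7647 : Q := act 5 n4711
theorem D7647 : act 5 n4711 = n7647 := rfl
theorem F12693 : act 3 n7647 = n6434 := d16_1 D7647 (iv D6434) (iv F7960)
def n7656 : Q := act 1 n4715
theorem D7656 : act 1 n4715 = n7656 := rfl
theorem F12702 : act 6 n7656 = n4754 := d10_2 D4715 D7656 (iv D4754) (iv D3252) (iv F5691)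
def n7666 : Q := act 1 n4719
theorem D7666 : act 1 n4719 = n7666 := rfl
def n7669 : Q := act 5 n4720
theorem D7669 : act 5 n4720 = n7669 := rfl
theorem F12717 : act 3 n7669 = n4721 := d16_1 D7669 (iv D4721) D4720
def n7671 : Q := act 6 n4721
theorem D7671 : act 6 n4721 = n7671 := rfl
theorem F12720 : act 2 n7671 = n4722 := d14_1 D7671 (iv D4722) (iv F7976)
def n7672 : Q := act 1 n4722
theorem D7672 : act 1 n4722 = n7672 := rfl
theorem F12722 : act 3 n7672 = n6457 := d7_2 (iv F7978) D7672 (iv D6457)
def n7677 : Q := act 1 n4724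
theorem D7677 : act 1 n4724 = n7677 := rfl
def n7678 : Q := act 3 n4724
theorem D7678 : act 3 n4724 = n7678 := rfl
theorem F12731 : act 0 n7678 = n4726 := d2_1 D7678 (iv D4726) (iv F7982)
def n7679 : Q := act 6 n4724
theorem D7679 : act 6 n4724 = n7679 := rfl
theorem F12733 : act 2 n7679 = n4725 := d14_1 D7679 (iv D4725) D4724
theorem F12735 : act 5 n7679 = n7510 := d22_2 F12439 D7679 (iv D7510) (iv F12437)
def n7680 : Q := act 1 n4725
theorem D7680 : act 1 n4725 = n7680 := rfl
theorem F12736 : act 3 n7680 = n5482 := d7_2 (iv F7985) D7680 (iv D5482)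
def n7681 : Q := act 2 n4726
theorem D7681 : act 2 n4726 = n7681 := rfl
def n7684 : Q := act 1 n4727
theorem D7684 : act 1 n4727 = n7684 := rfl
theorem F12740 : act 4 n7684 = n4754 := d8_2 (iv F7989) D7684 (iv D4754)
def n7686 : Q := act 0 n4728
theorem D7686 : act 0 n4728 = n7686 := rfl
theorem F12747 : act 6 n7686 = n4730 := d5_2 (iv F7992) D7686 (iv D4730)
def n7687 : Q := act 2 n4728
theorem D7687 : act 2 n4728 = n7687 := rfl
theorem F12748 : act 4 n7687 = n4757 := d12_2 (iv F7991) D7687 (iv D4757)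
theorem F12749 : act 6 n7687 = n4731 := d14_2 (iv F7992) D7687 (iv D4731)
def n7688 : Q := act 5 n4728
theorem D7688 : act 5 n4728 = n7688 := rfl
theorem F12751 : act 4 n7688 = n4758 := d18_1 D7688 (iv D4758) (iv F7991)
def n7690 : Q := act 1 n4730
theorem D7690 : act 1 n4730 = n7690 := rfl
theorem F12754 : act 3 n7690 = n5492 := d7_2 (iv F7997) D7690 (iv D5492)
def n7691 : Q := act 2 n4730
theorem D7691 : act 2 n4730 = n7691 := rfl
theorem F12756 : act 0 n7691 = n4731 := d1_1 D7691 (iv D4731) D4730
theorem F12757 : act 4 n7691 = n4761 := d12_2 (iv F7998) D7691 (iv D4761)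
def n7692 : Q := act 5 n4730
theorem D7692 : act 5 n4730 = n7692 := rfl
theorem F12759 : act 3 n7692 = n5494 := d16_1 D7692 (iv D5494) (iv F7997)
theorem F12761 : act 6 n7692 = n7688 := d22_1 D7692 (iv D7688) F7992 D4730
def n7693 : Q := act 3 n4731
theorem D7693 : act 3 n4731 = n7693 := rfl
def n7694 : Q := act 5 n4731
theorem D7694 : act 5 n4731 = n7694 := rfl
theorem F12762 : act 2 n7694 = n4732 := d13_1 D7694 (iv D4732) D4731
def n7695 : Q := act 6 n4732
theorem D7695 : act 6 n4732 = n7695 := rfl
theorem F12766 : act 4 n7695 = n4765 := d19_1 D7695 (iv D4765) (iv F8002)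
theorem F12767 : act 5 n7695 = n7686 := d20_1 D7695 F12747 D7692 F12761 (iv D7688) F7992 D4732
def n7707 : Q := act 1 n4737
theorem D7707 : act 1 n4737 = n7707 := rfl
theorem F12785 : act 4 n7707 = n4776 := d8_2 (iv F8012) D7707 (iv D4776)
def n7709 : Q := act 0 n4738
theorem D7709 : act 0 n4738 = n7709 := rfl
theorem F12792 : act 5 n7709 = n4740 := d4_2 (iv F8015) D7709 (iv D4740)
def n7711 : Q := act 6 n4738
theorem D7711 : act 6 n4738 = n7711 := rfl
def n7713 : Q := act 1 n4740
theorem D7713 : act 1 n4740 = n7713 := rfl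
theorem F12799 : act 3 n7713 = n5515 := d7_2 (iv F8020) D7713 (iv D5515)
theorem F12800 : act 4 n7713 = n4782 := d8_2 (iv F8021) D7713 (iv D4782)
def n7715 : Q := act 6 n4740
theorem D7715 : act 6 n4740 = n7715 := rfl
theorem F12806 : act 5 n7715 = n7711 := d22_2 F12792 D7715 (iv D7711) D7709
def n7716 : Q := act 3 n4741
theorem D7716 : act 3 n4741 = n7716 := rfl
def n7717 : Q := act 6 n4741
theorem D7717 : act 6 n4741 = n7717 := rfl
theorem F12807 : act 2 n7717 = n4742 := d14_1 D7717 (iv D4742) D4741
theorem F12808 : act 4 n7717 = n4786 := d19_1 D7717 (iv D4786) (iv F8022)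
def n7718 : Q := act 5 n4742
theorem D7718 : act 5 n4742 = n7718 := rfl
theorem F12811 : act 4 n7718 = n4787 := d18_1 D7718 (iv D4787) (iv F8025)
theorem F12812 : act 6 n7718 = n7709 := d20_2 D4742 D7718 F12792 D7715 F12806 (iv D7711) F8015
def n7733 : Q := act 4 n4748
theorem D7733 : act 4 n4748 = n7733 := rfl
def n7741 : Q := act 6 n4751
theorem D7741 : act 6 n4751 = n7741 := rfl
def n7743 : Q := act 1 n4753
theorem D7743 : act 1 n4753 = n7743 := rfl
theorem F12845 : act 3 n7743 = n4754 := d7_2 (iv F8037) D7743 (iv D4754)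
def n7746 : Q := act 2 n4754
theorem D7746 : act 2 n4754 = n7746 := rfl
theorem F12849 : act 1 n7746 = n4757 := d6_1 D7746 (iv D4757) (iv D3253) (iv F5715) D4754
def n7747 : Q := act 5 n4754
theorem D7747 : act 5 n4754 = n7747 := rfl
def n7748 : Q := act 1 n4755
theorem D7748 : act 1 n4755 = n7748 := rfl
def n7750 : Q := act 2 n4756
theorem D7750 : act 2 n4756 = n7750 := rfl
theorem F12851 : act 0 n7750 = n4757 := d1_1 D7750 (iv D4757) D4756
theorem F12852 : act 6 n7750 = n4761 := d14_2 (iv F8042) D7750 (iv D4761)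
def n7751 : Q := act 3 n4757
theorem D7751 : act 3 n4757 = n7751 := rfl
theorem F12853 : act 6 n7751 = n4763 := d17_2 (iv F8043) D7751 (iv D4763)
def n7752 : Q := act 5 n4757
theorem D7752 : act 5 n4757 = n7752 := rfl
theorem F12854 : act 2 n7752 = n4758 := d13_1 D7752 (iv D4758) D4757
def n7753 : Q := act 1 n4758
theorem D7753 : act 1 n4758 = n7753 := rfl
theorem F12856 : act 5 n7753 = n4759 := d9_2 D4758 D7753 (iv D4759) (iv D3254) D3253
def n7754 : Q := act 0 n4759
theorem D7754 : act 0 n4759 = n7754 := rfl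
theorem F12857 : act 3 n7754 = n4805 := d2_2 (iv F8045) D7754 (iv D4805)
def n7757 : Q := act 0 n4760
theorem D7757 : act 0 n4760 = n7757 := rfl
theorem F12860 : act 3 n7757 = n4808 := d2_2 (iv F8046) D7757 (iv D4808)
def n7758 : Q := act 2 n4760
theorem D7758 : act 2 n4760 = n7758 := rfl
def n7759 : Q := act 5 n4760
theorem D7759 : act 5 n4760 = n7759 := rfl
def n7760 : Q := act 6 n4760
theorem D7760 : act 6 n4760 = n7760 := rfl
def n7761 : Q := act 1 n4761
theorem D7761 : act 1 n4761 = n7761 := rfl
def n7762 : Q := act 3 n4761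
theorem D7762 : act 3 n4761 = n7762 := rfl
theorem F12863 : act 0 n7762 = n4763 := d2_1 D7762 (iv D4763) (iv F8047)
def n7763 : Q := act 5 n4761
theorem D7763 : act 5 n4761 = n7763 := rfl
theorem F12864 : act 0 n7763 = n4764 := d4_1 D7763 (iv D4764) (iv F8047)
theorem F12866 : act 6 n7763 = n7752 := d22_1 D7763 (iv D7752) F8043 (iv F8047)
def n7765 : Q := act 2 n4763
theorem D7765 : act 2 n4763 = n7765 := rfl
def n7766 : Q := act 4 n4763
theorem D7766 : act 4 n4763 = n7766 := rfl
def n7767 : Q := act 5 n4763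
theorem D7767 : act 5 n4763 = n7767 := rfl
def n7769 : Q := act 6 n4764
theorem D7769 : act 6 n4764 = n7769 := rfl
theorem F12870 : act 0 n7769 = n7752 := d5_1 D7769 (iv F12866) F12864
theorem F12871 : act 2 n7769 = n4765 := d14_1 D7769 (iv D4765) (iv F8051)
theorem F12872 : act 5 n7769 = n7750 := d20_1 D7769 F12852 D7763 F12866 (iv D7752) F8043 D4764
def n7770 : Q := act 1 n4765
theorem D7770 : act 1 n4765 = n7770 := rfl
theorem F12874 : act 6 n7770 = n7329 := d10_2 D4765 D7770 (iv D7329) (iv D4549) (iv F5722)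
def n7779 : Q := act 6 n4768
theorem D7779 : act 6 n4768 = n7779 := rfl
theorem F12885 : act 3 n7779 = n4829 := d17_1 D7779 (iv D4829) (iv F8056)
def n7798 : Q := act 1 n4778
theorem D7798 : act 1 n4778 = n7798 := rfl
theorem F12907 : act 3 n7798 = n4834 := d7_2 (iv F8068) D7798 (iv D4834)
def n7799 : Q := act 2 n4778
theorem D7799 : act 2 n4778 = n7799 := rfl
theorem F12909 : act 5 n7799 = n4783 := d13_2 (iv F8069) D7799 (iv D4783)
def n7800 : Q := act 3 n4779
theorem D7800 : act 3 n4779 = n7800 := rfl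
theorem F12910 : act 5 n7800 = n4785 := d16_2 (iv F8070) D7800 (iv D4785)
def n7801 : Q := act 6 n4779
theorem D7801 : act 6 n4779 = n7801 := rfl
theorem F12911 : act 2 n7801 = n4780 := d14_1 D7801 (iv D4780) D4779
def n7803 : Q := act 0 n4781
theorem D7803 : act 0 n4781 = n7803 := rfl
theorem F12914 : act 3 n7803 = n4839 := d2_2 (iv F8072) D7803 (iv D4839)
def n7805 : Q := act 5 n4781
theorem D7805 : act 5 n4781 = n7805 := rfl
def n7806 : Q := act 0 n4782
theorem D7806 : act 0 n4782 = n7806 := rfl
theorem F12917 : act 1 n7806 = n7757 := d0_2 D4782 D7806 (iv D7757) (iv D4760) (iv D3255) (iv D2469) (iv F3322) D2473 D3265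
def n7810 : Q := act 1 n4783
theorem D7810 : act 1 n4783 = n7810 := rfl
def n7811 : Q := act 3 n4783
theorem D7811 : act 3 n4783 = n7811 := rfl
def n7814 : Q := act 2 n4785
theorem D7814 : act 2 n4785 = n7814 := rfl
def n7817 : Q := act 1 n4786
theorem D7817 : act 1 n4786 = n7817 := rfl
def n7818 : Q := act 5 n4786
theorem D7818 : act 5 n4786 = n7818 := rfl
theorem F12929 : act 2 n7818 = n4787 := d13_1 D7818 (iv D4787) (iv F8078)
def n7819 : Q := act 1 n4787
theorem D7819 : act 1 n4787 = n7819 := rfl
theorem F12931 : act 3 n7819 = n4855 := d7_2 (iv F8080) D7819 (iv D4855)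
theorem F12932 : act 5 n7819 = n7315 := d9_2 D4787 D7819 (iv D7315) (iv D4543) (iv F5736)
def n7824 : Q := act 1 n4790
theorem D7824 : act 1 n4790 = n7824 := rfl
theorem F12944 : act 4 n7824 = n5621 := d8_2 (iv F8087) D7824 (iv D5621)
theorem F12945 : act 5 n7461 = n7824 := d18_0 F12944 F9307 (iv F12371)
def n7829 : Q := act 1 n4792
theorem D7829 : act 1 n4792 = n7829 := rfl
theorem F12949 : act 4 n7829 = n5630 := d8_2 (iv F8089) D7829 (iv D5630)
def n7830 : Q := act 6 n4792
theorem D7830 : act 6 n4792 = n7830 := rfl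
theorem F12950 : act 2 n7830 = n4794 := d14_1 D7830 (iv D4794) (iv F8088)
def n7833 : Q := act 1 n4794
theorem D7833 : act 1 n4794 = n7833 := rfl
theorem F12959 : act 5 n7833 = n7277 := d9_2 (iv F8093) D7833 (iv F12370) F12945 (iv D7824)
theorem F12960 : act 0 n7279 = n7833 := d4_3 F12959 (iv D7277) D7279
def n7834 : Q := act 0 n4795
theorem D7834 : act 0 n4795 = n7834 := rfl
theorem F12961 : act 4 n7834 = n5635 := d3_2 (iv F8094) D7834 (iv D5635)
theorem F12962 : act 6 n7834 = n4797 := d5_2 (iv F8095) D7834 (iv D4797)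
theorem F12963 : act 5 n7834 = n7284 := d22_0 (iv F12024) (iv D4799) (iv F8095) D7834
def n7835 : Q := act 2 n4795
theorem D7835 : act 2 n4795 = n7835 := rfl
theorem F12965 : act 6 n7835 = n4798 := d14_2 (iv F8095) D7835 (iv D4798)
def n7836 : Q := act 5 n4795
theorem D7836 : act 5 n4795 = n7836 := rfl
theorem F12966 : act 0 n7836 = n7284 := d4_1 D7836 (iv F12963) (iv D7834)
def n7837 : Q := act 1 n4796
theorem D7837 : act 1 n4796 = n7837 := rfl
theorem F12968 : act 0 n7837 = n4833 := d0_1 D7837 F8160 (iv F7915) D7594 (iv F12594) F12188 F12960 (iv D7833) (iv F8096)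
def n7838 : Q := act 1 n4797
theorem D7838 : act 1 n4797 = n7838 := rfl
theorem F12971 : act 4 n7838 = n5647 := d8_2 (iv F8099) D7838 (iv D5647)
theorem F12972 : act 6 n7401 = n7838 := d19_0 F12971 (iv F9368) (iv F12247)
def n7839 : Q := act 2 n4797
theorem D7839 : act 2 n4797 = n7839 := rfl
def n7840 : Q := act 5 n4797
theorem D7840 : act 5 n4797 = n7840 := rfl
theorem F12975 : act 0 n7840 = n4799 := d4_1 D7840 (iv D4799) D4797
theorem F12977 : act 6 n7840 = n7836 := d20_2 F12962 D7840 (iv D7836) F8095 D4799 F12024 (iv F12963)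
theorem F12978 : act 1 n4829 = n7840 := d24_14 F12977 (iv D7836) (iv D4795) (iv D3271) D3270 (iv F7874) D7563 F12525 (iv F12519) F12181 (iv D7361) F7704 D4824 (iv F8153)
def n7842 : Q := act 5 n4798
theorem D7842 : act 5 n4798 = n7842 := rfl
theorem F12979 : act 2 n7842 = n4799 := d13_1 D7842 (iv D4799) D4798
def n7843 : Q := act 0 n4800
theorem D7843 : act 0 n4800 = n7843 := rfl
theorem F12981 : act 4 n7843 = n5655 := d3_2 (iv F8103) D7843 (iv D5655)
def n7844 : Q := act 2 n4800
theorem D7844 : act 2 n4800 = n7844 := rfl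
theorem F12982 : act 4 n7844 = n5656 := d12_2 (iv F8103) D7844 (iv D5656)
def n7845 : Q := act 5 n4800
theorem D7845 : act 5 n4800 = n7845 := rfl
theorem F12983 : act 4 n7845 = n5657 := d18_1 D7845 (iv D5657) (iv F8103)
theorem F12984 : act 6 n7579 = n7845 := d19_0 F12983 F9354 (iv F12561)
def n7846 : Q := act 6 n4800
theorem D7846 : act 6 n4800 = n7846 := rfl
theorem F12985 : act 1 n7846 = n4811 := d10_1 D7846 (iv D4811) (iv D3277) (iv F5744) D4800
def n7847 : Q := act 1 n4801
theorem D7847 : act 1 n4801 = n7847 := rfl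
theorem F12987 : act 4 n7847 = n5659 := d8_2 (iv F8105) D7847 (iv D5659)
def n7848 : Q := act 3 n4801
theorem D7848 : act 3 n4801 = n7848 := rfl
theorem F12988 : act 0 n7848 = n4802 := d2_1 D7848 (iv D4802) (iv F8104)
theorem F12989 : act 6 n7848 = n4813 := d17_2 (iv F8106) D7848 (iv D4813)
def n7849 : Q := act 2 n4802
theorem D7849 : act 2 n4802 = n7849 := rfl
def n7850 : Q := act 4 n4802
theorem D7850 : act 4 n4802 = n7850 := rfl
def n7851 : Q := act 5 n4802
theorem D7851 : act 5 n4802 = n7851 := rfl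
theorem F12993 : act 3 n7851 = n4803 := d16_1 D7851 (iv D4803) D4802
def n7852 : Q := act 1 n4803
theorem D7852 : act 1 n4803 = n7852 := rfl
theorem F12994 : act 4 n7852 = n5664 := d8_2 (iv F8109) D7852 (iv D5664)
def n7853 : Q := act 2 n4804
theorem D7853 : act 2 n4804 = n7853 := rfl
theorem F12997 : act 5 n7853 = n4806 := d13_2 (iv F8111) D7853 (iv D4806)
def n7857 : Q := act 3 n4806
theorem D7857 : act 3 n4806 = n7857 := rfl
def n7861 : Q := act 5 n4808
theorem D7861 : act 5 n4808 = n7861 := rfl
theorem F13015 : act 0 n7861 = n4810 := d4_1 D7861 (iv D4810) D4808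
def n7862 : Q := act 6 n4808
theorem D7862 : act 6 n4808 = n7862 := rfl
theorem F13018 : act 4 n7862 = n5676 := d19_1 D7862 (iv D5676) (iv F8116)
theorem F13019 : act 5 n7862 = n7465 := d22_2 (iv D7861) D7862 (iv F12379) (iv F13015)
theorem F13020 : act 1 n7460 = n7862 := d9_5 F13019 (iv D7465) (iv D4618) D4616 D7460
def n7863 : Q := act 1 n4809
theorem D7863 : act 1 n4809 = n7863 := rfl
theorem F13021 : act 2 n7863 = n4812 := d6_2 D4809 D7863 (iv D4812) (iv D3278) D3277
def n7866 : Q := act 6 n4809
theorem D7866 : act 6 n4809 = n7866 := rfl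
theorem F13025 : act 2 n7866 = n4811 := d14_1 D7866 (iv D4811) D4809
theorem F13026 : act 4 n7866 = n5680 := d19_1 D7866 (iv D5680) (iv F8117)
def n7868 : Q := act 5 n4811
theorem D7868 : act 5 n4811 = n7868 := rfl
theorem F13032 : act 6 n7868 = n7861 := d20_2 D4811 D7868 (iv D7861) D7862 F13019 (iv F12379) (iv D4810)
theorem F13033 : act 1 n7868 = n7223 := d24_2 D4811 D7868 (iv D7223) (iv F11884) (iv F12515) (iv F12528) (iv D7564) (iv F8114) (iv D4807) (iv F8111) (iv D4804) (iv F5754) (iv D3279) D3277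
def n7869 : Q := act 0 n4812
theorem D7869 : act 0 n4812 = n7869 := rfl
def n7870 : Q := act 3 n4812
theorem D7870 : act 3 n4812 = n7870 := rfl
theorem F13035 : act 1 n7870 = n4813 := d7_1 D7870 (iv D4813) D4812
def n7871 : Q := act 5 n4812
theorem D7871 : act 5 n4812 = n7871 := rfl
theorem F13036 : act 4 n7871 = n5685 := d18_1 D7871 (iv D5685) (iv F8120)
def n7873 : Q := act 2 n4813
theorem D7873 : act 2 n4813 = n7873 := rfl
theorem F13039 : act 3 n7873 = n7765 := d21_1 D7873 (iv D7765) (iv D4763) (iv D3256) F4463 D2479 D3280 (iv F8121)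
def n7875 : Q := act 5 n4813
theorem D7875 : act 5 n4813 = n7875 := rfl
theorem F13042 : act 0 n7875 = n4818 := d4_1 D7875 (iv D4818) (iv F8121)
theorem F13044 : act 6 n7875 = n7851 := d22_1 D7875 (iv D7851) F8107 (iv F8121)
def n7882 : Q := act 1 n4818
theorem D7882 : act 1 n4818 = n7882 := rfl
theorem F13053 : act 3 n7882 = n4819 := d7_2 (iv F8129) D7882 (iv D4819)
theorem F13054 : act 5 n7882 = n4862 := d9_2 D4818 D7882 (iv D4862) (iv D3301) (iv F5755)
def n7883 : Q := act 6 n4818
theorem D7883 : act 6 n4818 = n7883 := rfl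
theorem F13055 : act 0 n7883 = n7851 := d5_1 D7883 (iv F13044) F13042
theorem F13057 : act 5 n7883 = n7848 := d20_1 D7883 F12989 D7875 F13044 (iv D7851) F8107 D4818
def n7884 : Q := act 0 n4819
theorem D7884 : act 0 n4819 = n7884 := rfl
theorem F13058 : act 2 n7884 = n6549 := d1_2 (iv F8130) D7884 (iv D6549)
theorem F13060 : act 5 n7884 = n4863 := d4_2 (iv F8132) D7884 (iv D4863)
def n7885 : Q := act 6 n4819
theorem D7885 : act 6 n4819 = n7885 := rfl
theorem F13062 : act 4 n7885 = n5700 := d19_1 D7885 (iv D5700) (iv F8131)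
def n7886 : Q := act 1 n4820
theorem D7886 : act 1 n4820 = n7886 := rfl
theorem F13063 : act 4 n7886 = n5701 := d8_2 (iv F8135) D7886 (iv D5701)
def n7888 : Q := act 2 n4821
theorem D7888 : act 2 n4821 = n7888 := rfl
theorem F13068 : act 6 n7888 = n7371 := d14_2 (iv F8138) D7888 (iv D7371)
def n7893 : Q := act 6 n4822
theorem D7893 : act 6 n4822 = n7893 := rfl
theorem F13078 : act 2 n7893 = n4824 := d14_1 D7893 (iv D4824) D4822
def n7894 : Q := act 1 n4823
theorem D7894 : act 1 n4823 = n7894 := rfl
theorem F13080 : act 4 n7894 = n5709 := d8_2 (iv F8142) D7894 (iv D5709)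
theorem F13081 : act 6 n7451 = n7894 := d19_0 F13080 F9369 (iv F12352)
def n7895 : Q := act 1 n4824
theorem D7895 : act 1 n4824 = n7895 := rfl
theorem F13082 : act 0 n7895 = n4939 := d0_1 D7895 (iv D4939) F5934 D4489 F10195 F6788 (iv F6917) F10154 (iv F8143)
theorem F13084 : act 5 n7895 = n7838 := d9_2 F8153 D7895 (iv D7838) D7840 (iv F12978)
theorem F13085 : act 6 n7895 = n6923 := d10_2 D4824 D7895 F12165 (iv D7362) F7704
theorem F13086 : act 2 n6149 = n7895 := d14_3 F13085 (iv D6923) (iv F11301)
theorem F13087 : act 1 n7893 = n6150 := d6_3 F13086 (iv D7895) (iv F13078) (iv D6150) D6149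
theorem F13088 : act 2 n7838 = n6986 := d13_3 F11466 F13086 F13084
theorem F13089 : act 1 n6984 = n7839 := d6_3 F13088 (iv D6986) (iv F11462) (iv D7839) D7838
def n7903 : Q := act 0 n4828
theorem D7903 : act 0 n4828 = n7903 := rfl
theorem F13105 : act 6 n7271 = n7903 := d22_3 F8151 D4833 F11998 (iv D7903)
def n7905 : Q := act 6 n4828
theorem D7905 : act 6 n4828 = n7905 := rfl
theorem F13108 : act 0 n7905 = n7271 := d5_1 D7905 F13105 (iv D7903)
theorem F13109 : act 1 n7905 = n7836 := d10_1 D7905 (iv F12977) (iv F12978) (iv D4829) D4828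
def n7906 : Q := act 1 n4830
theorem D7906 : act 1 n4830 = n7906 := rfl
theorem F13112 : act 0 n7906 = n7261 := d0_1 D7906 (iv F12157) F12560 (iv D7578) F7891 (iv F8101) (iv F12975) (iv F12978) (iv F8154)
theorem F13114 : act 6 n7906 = n6936 := d10_2 (iv F8156) D7906 (iv F12350) F13081 (iv D7894)
theorem F13115 : act 2 n6938 = n7906 := d14_3 F13114 F11385 D6938
def n7910 : Q := act 6 n4832
theorem D7910 : act 6 n4832 = n7910 := rfl
theorem F13122 : act 2 n7910 = n4833 := d14_1 D7910 (iv D4833) D4832
def n7911 : Q := act 0 n4834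
theorem D7911 : act 0 n4834 = n7911 := rfl
theorem F13124 : act 4 n7911 = n5727 := d3_2 (iv F8162) D7911 (iv D5727)
theorem F13125 : act 5 n7911 = n6735 := d23_4 (iv F8165) (iv D4835) D4834 D7911 (iv D6735) (iv D4236) F5233 (iv D2337) F3902 (iv D1144) F917 D588 F954 D593 F3829 F1656 D2052 (iv F4493) (iv F5775)
theorem F13126 : act 2 n6731 = n7911 := d13_3 F13125 (iv D6735) (iv F10972)
theorem F13127 : act 6 n7210 = n7911 := d24_0 F13125 F10976 (iv F9013) F9012 (iv F12019) (iv D7283) F7645 (iv D3141) F4370 (iv D2404) D2402 D3120 D4490 D7210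
theorem F13128 : act 6 n5727 = n4956 := d19_2 F13127 F13124 (iv F11892)
def n7912 : Q := act 2 n4834
theorem D7912 : act 2 n4834 = n7912 := rfl
theorem F13131 : act 4 n7912 = n5728 := d12_2 (iv F8162) D7912 (iv D5728)
theorem F13132 : act 5 n6734 = n7912 := d23_0 (iv D7912) (iv D4834) (iv D3288) F4487 D2486 F4493 F3838 F1969 (iv D1212) (iv D593) F522 F521 (iv F918) D1144 D2123 D2564 (iv F5234) D4236 D6734
def n7913 : Q := act 5 n4834
theorem D7913 : act 5 n4834 = n7913 := rfl
theorem F13133 : act 0 n7913 = n6735 := d4_1 D7913 (iv F13125) (iv D7911)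
theorem F13134 : act 1 n7913 = n4844 := d9_1 D7913 (iv D4844) (iv D3292) (iv F5768) D4834
def n7914 : Q := act 6 n4834
theorem D7914 : act 6 n4834 = n7914 := rfl
theorem F13139 : act 5 n7914 = n7565 := d22_2 (iv D7913) D7914 F12530 (iv F13133)
def n7917 : Q := act 2 n4836
theorem D7917 : act 2 n4836 = n7917 := rfl
theorem F13143 : act 5 n7917 = n4850 := d13_2 (iv F8167) D7917 (iv D4850)
def n7923 : Q := act 5 n4838
theorem D7923 : act 5 n4838 = n7923 := rfl
theorem F13155 : act 1 n7923 = n7420 := d9_1 D7923 (iv F12293) (iv D4849) F5779 D4838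
def n7928 : Q := act 2 n4842
theorem D7928 : act 2 n4842 = n7928 := rfl
theorem F13172 : act 0 n7928 = n4843 := d1_1 D7928 (iv D4843) D4842
def n7929 : Q := act 5 n4842
theorem D7929 : act 5 n4842 = n7929 := rfl
theorem F13174 : act 0 n7929 = n4844 := d4_1 D7929 (iv D4844) D4842
def n7931 : Q := act 1 n4843
theorem D7931 : act 1 n4843 = n7931 := rfl
theorem F13180 : act 2 n7931 = n4846 := d6_2 D4843 D7931 (iv D4846) (iv D3293) D3292
theorem F13181 : act 4 n7931 = n5749 := d8_2 (iv F8179) D7931 (iv D5749)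
def n7933 : Q := act 5 n4843
theorem D7933 : act 5 n4843 = n7933 := rfl
theorem F13182 : act 2 n7933 = n4844 := d13_1 D7933 (iv D4844) D4843
theorem F13183 : act 4 n7933 = n5751 := d18_1 D7933 (iv D5751) (iv F8179)
def n7934 : Q := act 6 n4843
theorem D7934 : act 6 n4843 = n7934 := rfl
def n7935 : Q := act 6 n4844
theorem D7935 : act 6 n4844 = n7935 := rfl
theorem F13189 : act 1 n7228 = n7935 := d24_14 (iv D7935) (iv D4844) (iv D3292) D3294 F5779 D4838 F8171 D4841 F10173 F6921 (iv D4052) (iv F6788) (iv F10181) D7228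
def n7937 : Q := act 0 n4846
theorem D7937 : act 0 n4846 = n7937 := rfl
def n7941 : Q := act 2 n4847
theorem D7941 : act 2 n4847 = n7941 := rfl
theorem F13199 : act 3 n7941 = n7814 := d21_1 D7941 (iv D7814) (iv D4785) (iv D3266) F4466 D2486 D3295 (iv F8183)
def n7946 : Q := act 3 n4850
theorem D7946 : act 3 n4850 = n7946 := rfl
theorem F13208 : act 2 n7946 = n7811 := d11_1 D7946 (iv D7811) (iv D4783) F5735 D3293 D4847 D7941 F13199 (iv D7814) (iv D4785) (iv D3266) F4466 D2486 D3295 D4850
def n7955 : Q := act 0 n4855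
theorem D7955 : act 0 n4855 = n7955 := rfl
theorem F13224 : act 4 n7955 = n5774 := d3_2 (iv F8199) D7955 (iv D5774)
theorem F13225 : act 5 n7955 = n7357 := d4_2 (iv F8200) D7955 (iv D7357)
def n7957 : Q := act 6 n4855
theorem D7957 : act 6 n4855 = n7957 := rfl
theorem F13228 : act 1 n7957 = n7914 := d10_1 D7957 (iv D7914) (iv D4834) (iv F5785) D4855
def n7958 : Q := act 1 n4856
theorem D7958 : act 1 n4856 = n7958 := rfl
theorem F13231 : act 4 n7958 = n5777 := d8_2 (iv F8202) D7958 (iv D5777)
def n7960 : Q := act 5 n4856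
theorem D7960 : act 5 n4856 = n7960 := rfl
def n7961 : Q := act 6 n4856
theorem D7961 : act 6 n4856 = n7961 := rfl
theorem F13236 : act 0 n7961 = n4859 := d5_1 D7961 (iv D4859) D4856
theorem F13237 : act 2 n7961 = n5780 := d14_1 D7961 (iv D5780) (iv F8201)
def n7963 : Q := act 4 n4857
theorem D7963 : act 4 n4857 = n7963 := rfl
theorem F13239 : act 1 n7963 = n4860 := d8_1 D7963 (iv D4860) (iv F8203)
def n7965 : Q := act 6 n4857
theorem D7965 : act 6 n4857 = n7965 := rfl
theorem F13243 : act 1 n7965 = n7396 := d10_1 D7965 (iv D7396) F7728 (iv F5790) (iv F8203)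
theorem F13244 : act 3 n7965 = n4859 := d17_1 D7965 (iv D4859) D4857
def n7966 : Q := act 6 n4858
theorem D7966 : act 6 n4858 = n7966 := rfl
theorem F13247 : act 5 n7966 = n7961 := d22_2 D4858 D7966 (iv D7961) (iv D4856)
def n7967 : Q := act 5 n4859
theorem D7967 : act 5 n4859 = n7967 := rfl
theorem F13251 : act 6 n7967 = n7960 := d20_2 D4859 D7967 (iv D7960) D7961 (iv F13247) (iv D7966) (iv D4858)
def n7968 : Q := act 1 n4861
theorem D7968 : act 1 n4861 = n7968 := rfl
theorem F13252 : act 3 n7968 = n5792 := d7_2 (iv F8216) D7968 (iv D5792)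
theorem F13253 : act 4 n7968 = n4862 := d8_2 (iv F8217) D7968 (iv D4862)
def n7969 : Q := act 0 n4862
theorem D7969 : act 0 n4862 = n7969 := rfl
def n7971 : Q := act 6 n4862
theorem D7971 : act 6 n4862 = n7971 := rfl
def n7972 : Q := act 1 n4863
theorem D7972 : act 1 n4863 = n7972 := rfl
theorem F13258 : act 4 n7972 = n5796 := d8_2 (iv F8221) D7972 (iv D5796)
def n7980 : Q := act 5 n4867
theorem D7980 : act 5 n4867 = n7980 := rfl
theorem F13273 : act 0 n7980 = n4868 := d4_1 D7980 (iv D4868) D4867
theorem F13275 : act 4 n7980 = n5811 := d18_1 D7980 (iv D5811) (iv F8231)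
def n7998 : Q := act 3 n4878
theorem D7998 : act 3 n4878 = n7998 := rfl
theorem F13306 : act 5 n7998 = n5878 := d16_2 (iv F8253) D7998 (iv D5878)
def n8000 : Q := act 2 n4880
theorem D8000 : act 2 n4880 = n8000 := rfl
theorem F13309 : act 0 n8000 = n4881 := d1_1 D8000 (iv D4881) D4880
theorem F13311 : act 6 n8000 = n6915 := d14_2 (iv F10140) D8000 (iv D6915)
def n8003 : Q := act 2 n4883
theorem D8003 : act 2 n4883 = n8003 := rfl
theorem F13317 : act 0 n8003 = n6937 := d1_1 D8003 F11387 (iv F10135)
theorem F13318 : act 1 n8003 = n4891 := d6_1 D8003 (iv D4891) (iv D3321) (iv F5832) D4883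
theorem F13321 : act 6 n8003 = n6933 := d14_2 F10136 D8003 (iv D6933)
def n8005 : Q := act 5 n4885
theorem D8005 : act 5 n4885 = n8005 := rfl
theorem F13323 : act 2 n8005 = n4886 := d13_1 D8005 (iv D4886) D4885
theorem F13324 : act 4 n8005 = n5906 := d18_1 D8005 (iv D5906) (iv F8264)
def n8006 : Q := act 6 n4886
theorem D8006 : act 6 n4886 = n8006 := rfl
theorem F13326 : act 3 n8006 = n6898 := d17_1 D8006 (iv F11532) F11529
theorem F13328 : act 5 n8006 = n6062 := d20_1 D8006 F9846 D6898 (iv F11532) (iv F11530) F7745 D4886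
theorem F13329 : act 1 n6193 = n8006 := d9_5 F13328 (iv D6062) (iv F6655) D6063 (iv F11332)
def n8011 : Q := act 6 n4889
theorem D8011 : act 6 n4889 = n8011 := rfl
theorem F13339 : act 3 n8011 = n4890 := d17_1 D8011 (iv D4890) D4889
def n8013 : Q := act 3 n4891
theorem D8013 : act 3 n4891 = n8013 := rfl
theorem F13344 : act 0 n8013 = n6365 := d2_1 D8013 F10454 (iv F8275)
theorem F13345 : act 5 n8013 = n6362 := d16_2 (iv F8277) D8013 (iv D6362)
def n8014 : Q := act 1 n4892
theorem D8014 : act 1 n4892 = n8014 := rfl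
def n8015 : Q := act 3 n4892
theorem D8015 : act 3 n4892 = n8015 := rfl
theorem F13349 : act 6 n8015 = n4906 := d17_2 (iv F8280) D8015 (iv D4906)
def n8017 : Q := act 4 n4893
theorem D8017 : act 4 n4893 = n8017 := rfl
theorem F13351 : act 3 n8017 = n5924 := d15_1 D8017 (iv D5924) (iv D3818) (iv F5852) D4893
theorem F13352 : act 6 n8017 = n4909 := d19_2 (iv F8281) D8017 (iv D4909)
def n8019 : Q := act 1 n4894
theorem D8019 : act 1 n4894 = n8019 := rfl
theorem F13354 : act 4 n8019 = n5926 := d8_2 (iv F8283) D8019 (iv D5926)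
def n8021 : Q := act 1 n4896
theorem D8021 : act 1 n4896 = n8021 := rfl
theorem F13357 : act 2 n8021 = n4897 := d6_2 D4896 D8021 (iv D4897) (iv D3327) D3326
def n8022 : Q := act 3 n4896
theorem D8022 : act 3 n4896 = n8022 := rfl
def n8023 : Q := act 0 n4897
theorem D8023 : act 0 n4897 = n8023 := rfl
theorem F13359 : act 4 n8023 = n5933 := d3_2 (iv F8288) D8023 (iv D5933)
def n8028 : Q := act 1 n4899
theorem D8028 : act 1 n4899 = n8028 := rfl
theorem F13367 : act 2 n8028 = n6351 := d6_2 (iv F8291) D8028 (iv D6351) F6894 F6509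
def n8036 : Q := act 1 n4904
theorem D8036 : act 1 n4904 = n8036 := rfl
theorem F13376 : act 2 n8036 = n4905 := d6_2 D4904 D8036 (iv D4905) (iv D3333) D3332
def n8042 : Q := act 4 n4906
theorem D8042 : act 4 n4906 = n8042 := rfl
theorem F13385 : act 3 n8042 = n5959 := d15_1 D8042 (iv D5959) (iv D3836) (iv F5876) D4906
def n8048 : Q := act 5 n4909
theorem D8048 : act 5 n4909 = n8048 := rfl
theorem F13393 : act 3 n8048 = n5966 := d16_1 D8048 (iv D5966) (iv F8306)
def n8049 : Q := act 1 n4910
theorem D8049 : act 1 n4910 = n8049 := rfl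
theorem F13395 : act 3 n8049 = n4911 := d7_2 (iv F8307) D8049 (iv D4911)
def n8051 : Q := act 0 n4911
theorem D8051 : act 0 n4911 = n8051 := rfl
theorem F13399 : act 4 n8051 = n5969 := d3_2 (iv F8308) D8051 (iv D5969)
def n8052 : Q := act 6 n4911
theorem D8052 : act 6 n4911 = n8052 := rfl
def n8053 : Q := act 1 n4912
theorem D8053 : act 1 n4912 = n8053 := rfl
theorem F13401 : act 2 n8053 = n6086 := d6_2 (iv F8310) D8053 (iv D6086) (iv D3906) F6576
theorem F13402 : act 4 n8053 = n5971 := d8_2 (iv F8311) D8053 (iv D5971)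
def n8057 : Q := act 6 n4913
theorem D8057 : act 6 n4913 = n8057 := rfl
def n8065 : Q := act 1 n4918
theorem D8065 : act 1 n4918 = n8065 := rfl
theorem F13418 : act 3 n8065 = n4919 := d7_2 (iv F8320) D8065 (iv D4919)
def n8067 : Q := act 0 n4919
theorem D8067 : act 0 n4919 = n8067 := rfl
theorem F13422 : act 2 n8067 = n8051 := d1_2 (iv F8321) D8067 (iv D8051)
theorem F13423 : act 4 n8067 = n6021 := d3_2 (iv F8322) D8067 (iv D6021)
def n8068 : Q := act 6 n4919
theorem D8068 : act 6 n4919 = n8068 := rfl
theorem F13424 : act 2 n8068 = n8052 := d14_1 D8068 (iv D8052) (iv F8321)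
theorem F13425 : act 4 n8068 = n6022 := d19_1 D8068 (iv D6022) (iv F8322)
def n8070 : Q := act 0 n4922
theorem D8070 : act 0 n4922 = n8070 := rfl
theorem F13429 : act 5 n8070 = n5741 := d4_2 (iv F10199) D8070 F9406
def n8083 : Q := act 1 n4929
theorem D8083 : act 1 n4929 = n8083 := rfl
theorem F13454 : act 0 n8083 = n8083 := d0_1 D8083 (iv D8083) F8342 (iv F7236) F7235 F7009 (iv F7235) F7236 (iv F8342)
theorem F13455 : act 2 n8083 = n5208 := d6_2 D4929 D8083 (iv D5208) (iv D3479) (iv F5924)
def n8084 : Q := act 3 n4929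
theorem D8084 : act 3 n4929 = n8084 := rfl
theorem F13456 : act 0 n8084 = n4940 := d2_1 D8084 (iv D4940) (iv F8342)
theorem F13457 : act 2 n8084 = n4930 := d11_1 D8084 F8353 (iv D4935) (iv D3352) (iv D2522) D2523 D3355 D4940 F8364 F7557 (iv D4484) (iv D3118) (iv F5651) D3349 D4929
theorem F13458 : act 4 n4929 = n8084 := d12_0 F13457 (iv D4930) D4929
def n8086 : Q := act 6 n4929
theorem D8086 : act 6 n4929 = n8086 := rfl
def n8093 : Q := act 5 n4934
theorem D8093 : act 5 n4934 = n8093 := rfl
theorem F13475 : act 0 n8093 = n5647 := d4_1 D8093 (iv F9366) F9365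
theorem F13476 : act 1 n5655 = n8093 := d0_0 F13475 (iv D5647) (iv D3682) (iv D2679) F3993 D2181 D2681 D3686 D5655
theorem F13477 : act 5 n4952 = n5655 := d9_0 F13476 (iv D8093) (iv D4934) (iv F5941) D4952
theorem F13479 : act 5 n7843 = n7208 := d18_2 F13477 (iv F12981) F11888
def n8098 : Q := act 2 n4938
theorem D8098 : act 2 n4938 = n8098 := rfl
theorem F13493 : act 1 n8098 = n4950 := d6_1 D8098 (iv D4950) (iv D3359) (iv F5932) D4938
theorem F13495 : act 5 n8098 = n6561 := d13_2 (iv F8360) D8098 F10767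
def n8099 : Q := act 6 n4938
theorem D8099 : act 6 n4938 = n8099 := rfl
theorem F13497 : act 1 n8099 = n7911 := d10_1 D8099 (iv F13127) (iv D7210) F7571 D4938
def n8100 : Q := act 5 n4939
theorem D8100 : act 5 n4939 = n8100 := rfl
theorem F13500 : act 1 n8100 = n7843 := d9_1 D8100 F13479 (iv D7208) F7565 D4939
def n8102 : Q := act 6 n4940
theorem D8102 : act 6 n4940 = n8102 := rfl
theorem F13506 : act 3 n8102 = n4942 := d17_1 D8102 (iv D4942) D4940
def n8104 : Q := act 6 n4941
theorem D8104 : act 6 n4941 = n8104 := rfl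
theorem F13509 : act 5 n8104 = n8086 := d22_2 D4941 D8104 (iv D8086) F8342
def n8105 : Q := act 1 n4942
theorem D8105 : act 1 n4942 = n8105 := rfl
def n8109 : Q := act 1 n4944
theorem D8109 : act 1 n4944 = n8109 := rfl
theorem F13517 : act 4 n8109 = n4947 := d8_2 (iv F8369) D8109 (iv D4947)
def n8111 : Q := act 0 n4945
theorem D8111 : act 0 n4945 = n8111 := rfl
theorem F13523 : act 5 n8111 = n4963 := d4_2 (iv F8371) D8111 (iv D4963)
def n8113 : Q := act 6 n4945
theorem D8113 : act 6 n4945 = n8113 := rfl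
def n8114 : Q := act 1 n4946
theorem D8114 : act 1 n4946 = n8114 := rfl
theorem F13526 : act 3 n8114 = n4952 := d7_2 (iv F8372) D8114 (iv D4952)
def n8115 : Q := act 2 n4947
theorem D8115 : act 2 n4947 = n8115 := rfl
theorem F13528 : act 3 n8115 = n6928 := d21_1 D8115 (iv D6928) (iv D4334) (iv D3043) (iv F4917) D3898 D6071 (iv F10202)
def n8116 : Q := act 5 n4947
theorem D8116 : act 5 n4947 = n8116 := rfl
def n8119 : Q := act 6 n4950
theorem D8119 : act 6 n4950 = n8119 := rfl
theorem F13534 : act 1 n6733 = n8119 := d24_14 (iv D8119) F8380 (iv F7423) (iv F10773) (iv D6563) (iv F7139) (iv D4185) (iv F7137) (iv D4182) (iv F5235) (iv D2987) D2986 D4235 D6733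
def n8120 : Q := act 1 n4951
theorem D8120 : act 1 n4951 = n8120 := rfl
theorem F13535 : act 0 n8120 = n5459 := d0_1 D8120 (iv D5459) (iv D3596) (iv D2641) (iv F4006) D2699 D3725 (iv F9410) F8401
theorem F13536 : act 5 n8120 = n5658 := d9_2 F8399 D8120 F9284 D5682 F9328
theorem F13537 : act 6 n8120 = n4952 := d10_2 D4951 D8120 (iv D4952) (iv D3360) D3359
def n8121 : Q := act 2 n4952
theorem D8121 : act 2 n4952 = n8121 := rfl
def n8122 : Q := act 1 n4955
theorem D8122 : act 1 n4955 = n8122 := rfl
theorem F13538 : act 0 n8122 = n5435 := d0_1 D8122 (iv D5435) (iv D3583) (iv D2636) (iv F3998) D2684 D3691 (iv F9296) F8407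
theorem F13539 : act 5 n8122 = n4956 := d9_2 D4955 D8122 (iv D4956) (iv D3362) D3361
theorem F13540 : act 6 n8122 = n5729 := d10_2 F8405 D8122 F9396 D5753 (iv F9431)
def n8124 : Q := act 1 n4957
theorem D8124 : act 1 n4957 = n8124 := rfl
theorem F13541 : act 3 n8124 = n6458 := d7_2 (iv F8385) D8124 (iv D6458)
theorem F13542 : act 4 n8124 = n4959 := d8_2 (iv F8386) D8124 (iv D4959)
theorem F13543 : act 5 n8124 = n6462 := d9_2 D4957 D8124 (iv D6462) (iv D4103) (iv F5946)
def n8126 : Q := act 0 n4959
theorem D8126 : act 0 n4959 = n8126 := rfl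
def n8127 : Q := act 2 n4959
theorem D8127 : act 2 n4959 = n8127 := rfl
theorem F13547 : act 1 n8127 = n4964 := d6_1 D8127 (iv D4964) (iv D3368) (iv F5950) D4959
def n8130 : Q := act 2 n4960
theorem D8130 : act 2 n4960 = n8130 := rfl
theorem F13548 : act 1 n8130 = n4967 := d6_1 D8130 (iv D4967) (iv D3369) (iv F5952) D4960
def n8131 : Q := act 5 n4960
theorem D8131 : act 5 n4960 = n8131 := rfl
def n8133 : Q := act 2 n4961
theorem D8133 : act 2 n4961 = n8133 := rfl
theorem F13550 : act 4 n8133 = n4964 := d12_2 (iv F8391) D8133 (iv D4964)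
def n8138 : Q := act 1 n4963
theorem D8138 : act 1 n4963 = n8138 := rfl
theorem F13555 : act 3 n8138 = n4969 := d7_2 (iv F8393) D8138 (iv D4969)
def n8139 : Q := act 2 n4963
theorem D8139 : act 2 n4963 = n8139 := rfl
theorem F13556 : act 0 n8139 = n4964 := d1_1 D8139 (iv D4964) D4963
def n8140 : Q := act 6 n4963
theorem D8140 : act 6 n4963 = n8140 := rfl
theorem F13559 : act 5 n8140 = n8113 := d22_2 F13523 D8140 (iv D8113) D8111
def n8141 : Q := act 3 n4964
theorem D8141 : act 3 n4964 = n8141 := rfl
def n8143 : Q := act 5 n4965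
theorem D8143 : act 5 n4965 = n8143 := rfl
theorem F13562 : act 3 n8143 = n4974 := d16_1 D8143 (iv D4974) (iv F8394)
theorem F13563 : act 6 n8143 = n8111 := d20_2 D4965 D8143 F13523 D8140 F13559 (iv D8113) F8371
theorem F13564 : act 1 n5599 = n8143 := d7_3 F13562 F9410 (iv F9217)
def n8144 : Q := act 1 n4966
theorem D8144 : act 1 n4966 = n8144 := rfl
theorem F13565 : act 3 n8144 = n4975 := d7_2 (iv F8395) D8144 (iv D4975)
def n8146 : Q := act 5 n4966
theorem D8146 : act 5 n4966 = n8146 := rfl
theorem F13569 : act 6 n8146 = n8116 := d22_1 D8146 (iv D8116) F8375 D4966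
def n8147 : Q := act 3 n4967
theorem D8147 : act 3 n4967 = n8147 := rfl
theorem F13571 : act 2 n8147 = n6912 := d21_2 D4967 D8147 (iv D6912) (iv D4322) (iv F6656) F10179 (iv F8395) (iv D4966)
def n8149 : Q := act 6 n4968
theorem D8149 : act 6 n4968 = n8149 := rfl
theorem F13574 : act 3 n8149 = n4980 := d17_1 D8149 (iv D4980) (iv F8396)
theorem F13575 : act 5 n8149 = n6071 := d20_1 D8149 F10201 D8146 F13569 (iv D8116) F8375 D4968
theorem F13576 : act 1 n5550 = n8149 := d7_3 F13574 F9296 (iv F9159)
def n8151 : Q := act 6 n4969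
theorem D8151 : act 6 n4969 = n8151 := rfl
theorem F13579 : act 5 n8151 = n5308 := d22_2 F8847 D8151 (iv D5308) D5305
def n8152 : Q := act 3 n4970
theorem D8152 : act 3 n4970 = n8152 := rfl
theorem F13580 : act 0 n8152 = n4972 := d2_1 D8152 (iv D4972) (iv F8397)
theorem F13581 : act 1 n8152 = n7647 := d7_1 D8152 F12693 F10562
theorem F13582 : act 5 n8152 = n7611 := d16_2 F10543 D8152 F12635
def n8153 : Q := act 6 n4970
theorem D8153 : act 6 n4970 = n8153 := rfl
theorem F13583 : act 0 n8153 = n4973 := d5_1 D8153 (iv D4973) (iv F8397)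
theorem F13584 : act 2 n8153 = n4971 := d14_1 D8153 (iv D4971) D4970
theorem F13585 : act 5 n8153 = n8119 := d22_2 F10543 D8153 (iv D8119) (iv F10542)
theorem F13586 : act 1 n8153 = n7464 := d23_2 (iv F8399) (iv F13584) F12374 (iv D4620) (iv D3189) (iv D2436) F3286 D2031 F3302 D2086 D2518 F4575 D3345 D4922 D8070 F13429 (iv D5741) (iv F9410) F8401
theorem F13587 : act 2 n7465 = n5682 := d6_4 (iv F13584) F13586 F12375 D7465 F9328
theorem E1644 : n7462 = n4235 := (c9_4 (iv F13585) F13586 (iv D7464) D7462 D6733 F13534)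
theorem E1645 : n6616 = n4617 := (((iv F10833)).symm.trans (sb E1644 (iv D7462)))
theorem E1646 : n6547 = n5323 := (((iv F10752)).symm.trans (sb E1644 F12372))
theorem F13588 : act 1 n4617 = n4235 := (sb E1645 F10833)
theorem E1647 : n7424 = n4181 := (((iv F12303)).symm.trans (sb E1645 (iv D6616)))
theorem F13590 : act 6 n5323 = n4144 := (sb E1646 (iv D6547))
theorem E1648 : n6613 = n4599 := ((D6613).symm.trans (sb E1647 F12301))
theorem E1649 : n6614 = n4598 := ((D6614).symm.trans (sb E1647 (iv D7424)))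
theorem E1650 : n6496 = n5266 := (((iv F10661)).symm.trans (sb E1647 F12302))
theorem E1651 : n7470 = n6615 := (((D6615).symm.trans (sb E1647 (iv F12388)))).symm
theorem F13592 : act 0 n4599 = n4181 := (sb E1648 (iv D6613))
theorem E1652 : n7423 = n5043 := ((D7423).symm.trans (sb E1649 F10832))
theorem F13594 : act 1 n5266 = n4120 := (sb E1650 (iv D6496))
theorem F13599 : act 6 n6615 = n4620 := (sb E1651 (iv D7470))
theorem F13601 : act 1 n5043 = n4598 := (sb E1652 (iv D7423))
theorem E1653 : n7278 = n5265 := (((iv F12011)).symm.trans (sb E1652 F12299))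
theorem F13603 : act 2 n5265 = n4527 := (sb E1653 (iv D7278))
theorem F13605 : act 2 n7277 = n5045 := d1_2 F13603 D7277 F9304
theorem F13607 : act 6 n8019 = n6744 := d24_6 F13599 (iv D4620) F5570 (iv F5853) D4894 D8019 (iv D6744) (iv D4240) D4241 F7195 D6738 F10978 D6741 F10980
theorem F13608 : act 0 n6564 = n7404 := d0_9 F12256 F13592 (iv D4181) (iv D2962) (iv D2324) (iv F4215) D2951 D4158 D6564
theorem F13612 : act 2 n6062 = n6564 := d1_0 F13608 (iv D7404) F11313
theorem F13613 : act 6 n6897 = n6564 := d5_0 F13608 F12258 (iv F11315)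
theorem E1654 : n6557 = n6468 := (c10_3 F13613 (iv D6564) (iv F10765) F10607 (iv F11050) (iv F11273))
theorem F13614 : act 0 n6468 = n4153 := (sb E1654 (iv D6557))
theorem F13616 : act 6 n6468 = n4158 := (sb E1654 F10765)
theorem E1656 : n6558 = n6467 := ((c19_2 F13616 (iv F10606) F10766 (iv F10608))).symm
theorem F13620 : act 6 n6467 = n4159 := (sb E1656 F10766)
theorem F13621 : act 6 n6469 = n6568 := d22_1 D6469 (iv D6568) (iv F13620) (iv D6467)
theorem F13627 : act 1 n6730 = n6348 := d6_3 D4617 F13588 (iv F10971) (iv F10425) (iv D4616)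
theorem E1657 : n7862 = n5680 := ((c13_4 F13019 F13587 (iv D5682) (iv F9317))).symm
theorem F13630 : act 1 n5680 = n7460 := (sb E1657 (iv F13020))
theorem E1658 : n7866 = n5676 := (((iv F13026)).symm.trans (sb E1657 F13018))
theorem E1659 : n4808 = n3695 := ((((iv D5680)).symm.trans (sb E1657 (iv D7862)))).symm
theorem F13632 : act 2 n5676 = n4811 := (sb E1658 F13025)
theorem E1660 : n4809 = n3694 := ((((iv D5676)).symm.trans (sb E1658 (iv D7866)))).symm
theorem E1661 : n5674 = n3277 := (((iv F9312)).symm.trans (sb E1659 (iv D4808)))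
theorem E1662 : n5677 = n4842 := ((D5677).symm.trans (sb E1659 (iv F8177)))
theorem E1664 : n7757 = n5678 := (((D5678).symm.trans (sb E1659 (iv F12860)))).symm
theorem E1665 : n7861 = n5679 := (((D5679).symm.trans (sb E1659 D7861))).symm
theorem E1666 : n7863 = n3728 := ((((iv F6384)).symm.trans (sb E1660 D7863))).symm
theorem F13634 : act 4 n3694 = n3695 := (sb E1660 F8117)
theorem F13635 : act 0 n3277 = n3695 := (sb E1661 F9312)
theorem F13636 : act 2 n3277 = n3694 := (sb E1661 (iv D5674))
theorem E1669 : n7928 = n3698 := ((D7928).symm.trans (sb E1662 F9315))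
theorem F13638 : act 0 n5678 = n4760 := (sb E1664 (iv D7757))
theorem F13639 : act 1 n5678 = n7806 := (sb E1664 (iv F12917))
theorem F13641 : act 6 n5679 = n7868 := (sb E1665 (iv F13032))
theorem E1670 : n5746 = n4812 := ((D5746).symm.trans (sb E1666 F13021))
theorem E1671 : n5683 = n4843 := ((D5683).symm.trans (sb E1669 F13172))
theorem F13644 : act 2 n3698 = n4842 := (sb E1669 (iv D7928))
theorem E1672 : n7869 = n3729 := ((D7869).symm.trans (sb E1670 F9420))
theorem F13646 : act 0 n4843 = n3698 := (sb E1671 (iv D5683))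
theorem F13647 : act 0 n3729 = n4812 := (sb E1672 (iv D7869))
theorem F13648 : act 0 n7958 = n5749 := d0_9 (iv D5749) F13647 (iv D4812) F5750 F4477 (iv F4497) D3298 D4856 D7958
theorem F13649 : act 0 n7870 = n5750 := d2_3 (iv D5750) F13647 D7870
theorem F13650 : act 0 n7871 = n5751 := d4_3 (iv D5751) F13647 D7871
theorem F13655 : act 2 n5747 = n7871 := d1_0 F13650 F9427 (iv F9421)
theorem F13656 : act 0 n7933 = n5685 := d3_3 (iv F13036) F13650 (iv F13183)
theorem F13657 : act 2 n5685 = n7929 := d1_2 (iv F13182) F13656 F13174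
theorem F13659 : act 0 n7931 = n5777 := d3_3 (iv F13231) F13648 (iv F13181)
theorem F13660 : act 2 n5777 = n7937 := d1_2 (iv F13180) F13659 (iv D7937)
theorem E1673 : n6725 = n2986 := (c23_14 (iv D2687) D2686 D3698 (iv F13646) D7933 F13182 (iv F13134) F13133 (iv F13125) (iv F13126) (iv D6731) (iv F10967) (iv D6726) D6725 (iv D2986) (iv D2336) D2337 F4241 (iv F4001) (iv F4779))
theorem E1674 : n4233 = n4232 := (((D4232).symm.trans (sb E1673 F10966))).symm
theorem E1675 : n6445 = n3443 := (((iv F10577)).symm.trans (sb E1674 F7192))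
theorem E1677 : n6545 = n6544 := ((((iv F10748)).symm.trans (sb E1674 (iv F10750)))).symm
theorem E1679 : n6730 = n6727 := (((D6727).symm.trans (sb E1674 D6730))).symm
theorem E1680 : n5129 = n4092 := (((iv F8595)).symm.trans (sb E1675 (iv D6445)))
theorem F13663 : act 1 n3443 = n4232 := (sb E1675 F10577)
theorem F13664 : act 1 n6544 = n4565 := (sb E1677 F10749)
theorem F13665 : act 2 n6544 = n4144 := (sb E1677 (iv D6545))
theorem F13667 : act 1 n6727 = n6348 := (sb E1679 F13627)
theorem F13668 : act 2 n6727 = n4235 := (sb E1679 F10971)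
theorem F13669 : act 0 n4092 = n3443 := (sb E1680 F8595)
theorem E1682 : n6446 = n3442 := ((D6446).symm.trans (sb E1680 (iv D5129)))
theorem E1683 : n7360 = n6403 := ((((iv F10523)).symm.trans (sb E1680 (iv F12160)))).symm
theorem F13672 : act 2 n3442 = n4092 := (sb E1682 (iv D6446))
theorem F13673 : act 0 n6403 = n4565 := (sb E1683 F12159)
theorem F13675 : act 6 n6403 = n6925 := (sb E1683 (iv F12167))
theorem F13677 : act 4 n6925 = n6448 := d19_1 F13675 (iv D6448) (iv F10523)
theorem F13679 : act 1 n6448 = n6794 := d8_1 F13677 F11083 D6925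
theorem F13681 : act 6 n6794 = n6424 := d10_2 D6448 F13679 (iv D6424) F6973 D4092
theorem F13682 : act 0 n6424 = n6779 := d5_1 F13681 F11050 (iv F11082)
theorem F13683 : act 2 n6424 = n6778 := d14_1 F13681 F11048 D6794
theorem E1684 : n8014 = n2909 := (c0_7 D6424 F13682 (iv F11273) F11315 F8263 (iv F8278) D8014 F5122 D2912 D4082)
theorem E1685 : n4892 = n4077 := (((D4077).symm.trans (sb E1684 (iv D8014)))).symm
theorem E1687 : n6413 = n3323 := ((D6413).symm.trans (sb E1685 F8278))
theorem E1689 : n8015 = n4689 := ((((iv F7921)).symm.trans (sb E1685 D8015))).symm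
theorem E1690 : n6380 = n3817 := (((iv F10480)).symm.trans (sb E1685 F8279))
theorem E1691 : n6415 = n4912 := ((D6415).symm.trans (sb E1685 (iv F8312)))
theorem E1692 : n6343 = n3333 := (((iv F10417)).symm.trans (sb E1685 F8280))
theorem E1693 : n7598 = n4893 := (((D4893).symm.trans (sb E1687 (iv F12602)))).symm
theorem E1695 : n4906 = n4628 := (((F7923).symm.trans (sb E1689 F13349))).symm
theorem F13688 : act 4 n3817 = n4077 := (sb E1690 F10480)
theorem E1696 : n6046 = n2763 := (((F6517).symm.trans (sb E1690 F10481))).symm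
theorem E1697 : n8053 = n6423 := ((D8053).symm.trans (sb E1691 (iv F10552)))
theorem E1698 : n4905 = n4038 := ((D4905).symm.trans (sb E1692 (iv D6343)))
theorem F13690 : act 6 n3333 = n4077 := (sb E1692 F10417)
theorem E1699 : n8017 = n7475 := ((D8017).symm.trans (sb E1693 F12603))
theorem E1700 : n7483 = n3335 := (((F8281).symm.trans (sb E1693 F12604))).symm
theorem E1702 : n7484 = n5963 := ((D7484).symm.trans (sb E1695 (iv F9700)))
theorem F13695 : act 3 n4628 = n3333 := (sb E1695 (iv D4906))
theorem E1703 : n8042 = n3197 := (((F7824).symm.trans (sb E1695 D8042))).symm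
theorem E1705 : n3882 = n3835 := (((D3835).symm.trans (sb E1696 (iv D6046)))).symm
theorem F13696 : act 1 n6423 = n4912 := (sb E1697 (iv D8053))
theorem F13697 : act 2 n6423 = n6086 := (sb E1697 F13401)
theorem F13698 : act 4 n6423 = n5971 := (sb E1697 F13402)
theorem E1708 : n8036 = n2880 := (((F6885).symm.trans (sb E1698 (iv F13376)))).symm
theorem F13700 : act 3 n7475 = n5924 := (sb E1699 F13351)
theorem E1711 : n4909 = n4634 := (((F12393).symm.trans (sb E1699 F13352))).symm
theorem F13702 : act 0 n3335 = n4628 := (sb E1700 (iv D7483))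
theorem F13703 : act 1 n5963 = n4643 := (sb E1702 F12404)
theorem F13705 : act 4 n5963 = n4635 := (sb E1702 F12405)
theorem F13706 : act 6 n5963 = n7599 := (sb E1702 (iv F12606))
theorem E1712 : n5959 = n3516 := ((((iv F6142)).symm.trans (sb E1703 F13385))).symm
theorem E1714 : n5951 = n2790 := (((iv F9688)).symm.trans (sb E1705 F6624))
theorem E1715 : n5955 = n3514 := ((D5955).symm.trans (sb E1705 F6625))
theorem E1716 : n5956 = n3887 := ((D5956).symm.trans (sb E1705 (iv F6638)))
theorem E1717 : n5957 = n2788 := ((D5957).symm.trans (sb E1705 (iv D3882)))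
theorem E1718 : n4904 = n3834 := ((((iv F6552)).symm.trans (sb E1708 (iv D8036)))).symm
theorem E1721 : n5284 = n3839 := (((iv F8817)).symm.trans (sb E1711 F8306))
theorem E1722 : n8048 = n7499 := (((D7499).symm.trans (sb E1711 D8048))).symm
theorem F13712 : act 4 n3516 = n3836 := (sb E1712 (iv D5959))
theorem E1723 : n3883 = n3833 := ((D3883).symm.trans (sb E1714 (iv D5951)))
theorem F13715 : act 1 n3514 = n3836 := (sb E1715 F9692)
theorem F13716 : act 3 n3514 = n3835 := (sb E1715 (iv D5955))
theorem F13717 : act 5 n3887 = n3835 := (sb E1716 (iv D5956))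
theorem F13718 : act 6 n2788 = n3835 := (sb E1717 (iv D5957))
theorem E1724 : n5953 = n3332 := (((iv F9691)).symm.trans (sb E1718 (iv D4904)))
theorem F13721 : act 0 n3839 = n3516 := (sb E1721 (iv D5284))
theorem F13723 : act 3 n7499 = n5966 := (sb E1722 F13393)
theorem F13725 : act 1 n3833 = n2790 := (sb E1723 (iv D3883))
theorem F13728 : act 2 n3332 = n3834 := (sb E1724 F9691)
theorem F13729 : act 5 n3332 = n3833 := (sb E1724 (iv D5953))
theorem F13731 : act 0 n5966 = n5286 := d2_1 F13723 F8819 (iv F12423)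
theorem F13732 : act 4 n5286 = n5960 := d3_2 (iv F9703) F13731 F9696
theorem F13733 : act 0 n5285 = n5964 := d1_3 F9701 F13721 D5285
theorem F13734 : act 0 n5277 = n5924 := d5_3 F9657 F13721 (iv F8808)
theorem F13735 : act 4 n5922 = n5277 := d3_0 F13734 (iv D5924) (iv F9654)
theorem F13736 : act 1 n5274 = n5922 := d8_3 F13735 (iv D5277) (iv F8802)
theorem F13737 : act 4 n5958 = n5285 := d3_0 F13733 (iv D5964) (iv F9693)
theorem F13740 : act 5 n5961 = n6054 := d9_4 F13717 (iv D3835) D3837 D5961 (iv D6054)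
theorem E1730 : n7517 = n5962 := (c7_3 D5963 F13703 D7517 (iv D5962))
theorem F13749 : act 3 n5962 = n4643 := (sb E1730 (iv D7517))
theorem F13751 : act 5 n5971 = n6389 := d18_2 D6423 F13698 F10500
theorem F13752 : act 5 n6086 = n6422 := d13_2 D6423 F13697 (iv D6422)
theorem F13756 : act 2 n6447 = n5130 := d13_3 (iv D5130) F13672 D6447
theorem F13757 : act 0 n5133 = n6447 := d1_3 F13756 F8596 (iv F8598)
theorem F13758 : act 2 n6733 = n6732 := d13_3 F10973 F13668 D6733
def n8155 : Q := act 4 n4972
theorem D8155 : act 4 n4972 = n8155 := rfl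
def n8157 : Q := act 1 n4973
theorem D8157 : act 1 n4973 = n8157 := rfl
def n8158 : Q := act 5 n4973
theorem D8158 : act 5 n4973 = n8158 := rfl
theorem F13762 : act 6 n8158 = n6416 := d20_2 D4973 D8158 F10543 D8153 F13585 (iv D8119) F8380
def n8162 : Q := act 0 n4983
theorem D8162 : act 0 n4983 = n8162 := rfl
theorem F13772 : act 3 n8162 = n4991 := d2_2 (iv F8417) D8162 (iv D4991)
theorem F13773 : act 5 n8162 = n5335 := d4_2 (iv F8418) D8162 (iv D5335)
def n8163 : Q := act 2 n4983
theorem D8163 : act 2 n4983 = n8163 := rfl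
def n8164 : Q := act 6 n4983
theorem D8164 : act 6 n4983 = n8164 := rfl
theorem F13775 : act 3 n8164 = n4993 := d17_1 D8164 (iv D4993) (iv F8417)
def n8165 : Q := act 1 n4984
theorem D8165 : act 1 n4984 = n8165 := rfl
def n8170 : Q := act 0 n4987
theorem D8170 : act 0 n4987 = n8170 := rfl
theorem F13782 : act 4 n8170 = n4991 := d3_2 (iv F8428) D8170 (iv D4991)
theorem F13783 : act 5 n8170 = n5341 := d4_2 (iv F8429) D8170 (iv D5341)
def n8171 : Q := act 2 n4987
theorem D8171 : act 2 n4987 = n8171 := rfl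
theorem F13784 : act 1 n8171 = n5000 := d6_1 D8171 (iv D5000) (iv D3385) (iv F5965) D4987
theorem F13786 : act 5 n8171 = n5342 := d13_2 (iv F8429) D8171 (iv D5342)
def n8172 : Q := act 6 n4987
theorem D8172 : act 6 n4987 = n8172 := rfl
theorem F13787 : act 4 n8172 = n4993 := d19_1 D8172 (iv D4993) (iv F8428)
def n8174 : Q := act 0 n4989
theorem D8174 : act 0 n4989 = n8174 := rfl
theorem F13789 : act 4 n8174 = n4995 := d3_2 (iv F8433) D8174 (iv D4995)
theorem F13790 : act 6 n8174 = n5345 := d5_2 (iv F8434) D8174 (iv D5345)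
def n8175 : Q := act 2 n4989
theorem D8175 : act 2 n4989 = n8175 := rfl
theorem F13791 : act 1 n8175 = n5004 := d6_1 D8175 (iv D5004) (iv D3387) (iv F5967) D4989
theorem F13793 : act 6 n8175 = n5346 := d14_2 (iv F8434) D8175 (iv D5346)
def n8177 : Q := act 1 n4990
theorem D8177 : act 1 n4990 = n8177 := rfl
theorem F13795 : act 4 n8177 = n4998 := d8_2 (iv F8437) D8177 (iv D4998)
def n8178 : Q := act 1 n4991
theorem D8178 : act 1 n4991 = n8178 := rfl
def n8180 : Q := act 3 n4992
theorem D8180 : act 3 n4992 = n8180 := rfl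
theorem F13798 : act 1 n8180 = n5009 := d7_1 D8180 (iv D5009) (iv F8440)
theorem F13799 : act 5 n8180 = n5352 := d16_2 (iv F8441) D8180 (iv D5352)
def n8181 : Q := act 6 n4992
theorem D8181 : act 6 n4992 = n8181 := rfl
theorem F13800 : act 2 n8181 = n4993 := d14_1 D8181 (iv D4993) D4992
def n8185 : Q := act 5 n4994
theorem D8185 : act 5 n4994 = n8185 := rfl
theorem F13803 : act 1 n8185 = n8131 := d9_1 D8185 (iv D8131) (iv D4960) (iv F5971) D4994
def n8190 : Q := act 1 n4997
theorem D8190 : act 1 n4997 = n8190 := rfl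
theorem F13809 : act 5 n8190 = n4998 := d9_2 D4997 D8190 (iv D4998) (iv D3384) D3383
def n8192 : Q := act 2 n4998
theorem D8192 : act 2 n4998 = n8192 := rfl
def n8194 : Q := act 1 n4999
theorem D8194 : act 1 n4999 = n8194 := rfl
theorem F13812 : act 4 n8194 = n5007 := d8_2 (iv F8445) D8194 (iv D5007)
def n8195 : Q := act 2 n4999
theorem D8195 : act 2 n4999 = n8195 := rfl
theorem F13813 : act 0 n8195 = n5000 := d1_1 D8195 (iv D5000) D4999
theorem F13814 : act 4 n8195 = n5008 := d12_2 (iv F8445) D8195 (iv D5008)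
theorem F13815 : act 5 n8195 = n5056 := d13_2 (iv F8446) D8195 (iv D5056)
def n8198 : Q := act 1 n5001
theorem D8198 : act 1 n5001 = n8198 := rfl
theorem F13820 : act 6 n8198 = n5002 := d10_2 D5001 D8198 (iv D5002) (iv D3386) D3385
def n8203 : Q := act 2 n5003
theorem D8203 : act 2 n5003 = n8203 := rfl
theorem F13826 : act 0 n8203 = n5004 := d1_1 D8203 (iv D5004) D5003
theorem F13827 : act 4 n8203 = n5016 := d12_2 (iv F8451) D8203 (iv D5016)
def n8204 : Q := act 3 n5004
theorem D8204 : act 3 n5004 = n8204 := rfl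
def n8210 : Q := act 0 n5007
theorem D8210 : act 0 n5007 = n8210 := rfl
theorem F13838 : act 3 n8210 = n5023 := d2_2 (iv F8457) D8210 (iv D5023)
def n8212 : Q := act 5 n5007
theorem D8212 : act 5 n5007 = n8212 := rfl
theorem F13839 : act 1 n8212 = n5069 := d9_1 D8212 (iv D5069) (iv D3416) (iv F5986) D5007
def n8213 : Q := act 6 n5007
theorem D8213 : act 6 n5007 = n8213 := rfl
def n8215 : Q := act 3 n5008
theorem D8215 : act 3 n5008 = n8215 := rfl
theorem F13842 : act 0 n8215 = n5009 := d2_1 D8215 (iv D5009) (iv F8458)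
theorem F13843 : act 5 n8215 = n5072 := d16_2 (iv F8459) D8215 (iv D5072)
def n8216 : Q := act 2 n5009
theorem D8216 : act 2 n5009 = n8216 := rfl
def n8217 : Q := act 4 n5009
theorem D8217 : act 4 n5009 = n8217 := rfl
theorem F13845 : act 5 n8217 = n5076 := d18_2 (iv F8460) D8217 (iv D5076)
def n8218 : Q := act 6 n5009
theorem D8218 : act 6 n5009 = n8218 := rfl
def n8229 : Q := act 0 n5015
theorem D8229 : act 0 n5015 = n8229 := rfl
theorem F13862 : act 3 n8229 = n5042 := d2_2 (iv F8467) D8229 (iv D5042)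
def n8231 : Q := act 5 n5015
theorem D8231 : act 5 n5015 = n8231 := rfl
def n8232 : Q := act 6 n5015
theorem D8232 : act 6 n5015 = n8232 := rfl
theorem F13864 : act 1 n8232 = n5084 := d10_1 D8232 (iv D5084) (iv D3422) (iv F5991) D5015
def n8239 : Q := act 0 n5019
theorem D8239 : act 0 n5019 = n8239 := rfl
theorem F13875 : act 5 n8239 = n5020 := d4_2 (iv F8473) D8239 (iv D5020)
def n8241 : Q := act 6 n5019
theorem D8241 : act 6 n5019 = n8241 := rfl
def n8242 : Q := act 1 n5020
theorem D8242 : act 1 n5020 = n8242 := rfl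
theorem F13878 : act 3 n8242 = n5049 := d7_2 (iv F8474) D8242 (iv D5049)
theorem F13879 : act 6 n5537 = n8242 := d17_0 F13878 (iv F8500) (iv F9144)
def n8244 : Q := act 6 n5020
theorem D8244 : act 6 n5020 = n8244 := rfl
theorem F13881 : act 0 n8244 = n5022 := d5_1 D8244 (iv D5022) D5020
theorem F13882 : act 1 n8244 = n5398 := d10_1 D8244 F8953 (iv F9143) F13879 (iv D8242)
theorem F13884 : act 5 n8244 = n8241 := d22_2 F13875 D8244 (iv D8241) D8239
def n8249 : Q := act 6 n5024
theorem D8249 : act 6 n5024 = n8249 := rfl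
theorem F13890 : act 0 n8249 = n5901 := d5_1 D8249 (iv F11139) F11135
theorem F13891 : act 2 n8249 = n5026 := d14_1 D8249 (iv D5026) D5024
theorem F13893 : act 5 n8249 = n5899 := d20_1 D8249 F10133 D6819 F11139 (iv D5901) (iv F9627) F10126
def n8250 : Q := act 5 n5026
theorem D8250 : act 5 n5026 = n8250 := rfl
theorem F13895 : act 2 n8250 = n5899 := d13_1 D8250 (iv F13893) F13891
theorem F13898 : act 1 n8250 = n5702 := d24_2 D5026 D8250 F9350 F9356 (iv D5474) F6240 F6231 D3599 F8581 (iv D5115) (iv D3435) (iv D2559) (iv F4605) D3397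
def n8251 : Q := act 3 n5027
theorem D8251 : act 3 n5027 = n8251 := rfl
def n8253 : Q := act 2 n5028
theorem D8253 : act 2 n5028 = n8253 := rfl
theorem F13902 : act 0 n8253 = n5029 := d1_1 D8253 (iv D5029) (iv F8478)
theorem F13903 : act 5 n8253 = n5109 := d13_2 (iv F8479) D8253 (iv D5109)
theorem F13904 : act 3 n8253 = n8216 := d21_1 D8253 (iv D8216) (iv D5009) (iv D3390) F4596 D2543 D3399 (iv F8478)
def n8254 : Q := act 4 n5028
theorem D8254 : act 4 n5028 = n8254 := rfl
theorem F13906 : act 5 n8254 = n5110 := d18_2 (iv F8479) D8254 (iv D5110)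
def n8258 : Q := act 6 n5029
theorem D8258 : act 6 n5029 = n8258 := rfl
def n8264 : Q := act 1 n5033
theorem D8264 : act 1 n5033 = n8264 := rfl
theorem F13917 : act 5 n8264 = n5270 := d9_2 F8492 D8264 F9322 (iv F9294) F9295
def n8277 : Q := act 5 n5043
theorem D8277 : act 5 n5043 = n8277 := rfl
theorem F13932 : act 1 n8277 = n7955 := d9_1 D8277 F13225 (iv F12155) F7809 (iv F13601)
theorem F13933 : act 2 n8277 = n5044 := d13_1 D8277 (iv D5044) D5043
def n8278 : Q := act 6 n5044
theorem D8278 : act 6 n5044 = n8278 := rfl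
theorem F13937 : act 5 n8278 = n5265 := d22_2 D5044 D8278 F9303 (iv D5042)
theorem F13938 : act 1 n5774 = n8278 := d24_14 (iv D8278) (iv D5044) (iv D3405) F4607 D2564 D3446 D5140 (iv F8605) (iv D3586) (iv F6220) (iv F6228) D5450 (iv F9390) (iv F9455)
def n8279 : Q := act 5 n5045
theorem D8279 : act 5 n5045 = n8279 := rfl
theorem F13939 : act 0 n8279 = n8278 := d4_1 D8279 F13937 (iv F9304)
theorem F13940 : act 1 n8279 = n5427 := d9_1 D8279 F8988 (iv F8984) (iv D5137) (iv F8493)
theorem F13941 : act 2 n8279 = n7833 := d13_1 D8279 F12959 F13605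
def n8281 : Q := act 2 n5046
theorem D8281 : act 2 n5046 = n8281 := rfl
theorem F13946 : act 5 n8281 = n5050 := d13_2 (iv F8494) D8281 (iv D5050)
def n8282 : Q := act 3 n5047
theorem D8282 : act 3 n5047 = n8282 := rfl
theorem F13947 : act 5 n8282 = n5052 := d16_2 (iv F8495) D8282 (iv D5052)
def n8286 : Q := act 6 n5050
theorem D8286 : act 6 n5050 = n8286 := rfl
theorem F13951 : act 2 n8286 = n5051 := d14_1 D8286 (iv D5051) D5050
def n8287 : Q := act 2 n5052
theorem D8287 : act 2 n5052 = n8287 := rfl
def n8288 : Q := act 4 n5052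
theorem D8288 : act 4 n5052 = n8288 := rfl
def n8289 : Q := act 6 n5052
theorem D8289 : act 6 n5052 = n8289 := rfl
theorem F13953 : act 3 n8289 = n5053 := d17_1 D8289 (iv D5053) D5052
def n8292 : Q := act 0 n5055
theorem D8292 : act 0 n5055 = n8292 := rfl
theorem F13958 : act 1 n8292 = n5475 := d0_2 D5055 D8292 (iv D5475) (iv D3605) (iv D2645) (iv D2165) (iv F3915) D2549 D3410
theorem F13959 : act 4 n8292 = n5067 := d3_2 (iv F8504) D8292 (iv D5067)
def n8293 : Q := act 2 n5055
theorem D8293 : act 2 n5055 = n8293 := rfl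
theorem F13960 : act 4 n8293 = n5068 := d12_2 (iv F8504) D8293 (iv D5068)
def n8294 : Q := act 5 n5055
theorem D8294 : act 5 n5055 = n8294 := rfl
def n8295 : Q := act 6 n5055
theorem D8295 : act 6 n5055 = n8295 := rfl
theorem F13962 : act 4 n8295 = n5070 := d19_1 D8295 (iv D5070) (iv F8504)
def n8296 : Q := act 1 n5056
theorem D8296 : act 1 n5056 = n8296 := rfl
def n8301 : Q := act 4 n5058
theorem D8301 : act 4 n5058 = n8301 := rfl
theorem F13971 : act 3 n8301 = n5076 := d15_1 D8301 (iv D5076) (iv D3419) (iv F6005) D5058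
def n8305 : Q := act 1 n5060
theorem D8305 : act 1 n5060 = n8305 := rfl
theorem F13979 : act 4 n8305 = n5080 := d8_2 (iv F8514) D8305 (iv D5080)
def n8319 : Q := act 1 n5066
theorem D8319 : act 1 n5066 = n8319 := rfl
theorem F14001 : act 4 n8319 = n5094 := d8_2 (iv F8526) D8319 (iv D5094)
def n8320 : Q := act 2 n5067
theorem D8320 : act 2 n5067 = n8320 := rfl
theorem F14002 : act 0 n8320 = n5068 := d1_1 D8320 (iv D5068) D5067
def n8321 : Q := act 5 n5067
theorem D8321 : act 5 n5067 = n8321 := rfl
theorem F14003 : act 0 n8321 = n5069 := d4_1 D8321 (iv D5069) D5067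
theorem F14004 : act 3 n8321 = n5096 := d16_1 D8321 (iv D5096) (iv F8529)
def n8322 : Q := act 6 n5067
theorem D8322 : act 6 n5067 = n8322 := rfl
theorem F14005 : act 0 n8322 = n5070 := d5_1 D8322 (iv D5070) D5067
def n8323 : Q := act 1 n5068
theorem D8323 : act 1 n5068 = n8323 := rfl
theorem F14007 : act 2 n8323 = n5071 := d6_2 D5068 D8323 (iv D5071) (iv D3417) D3416
def n8324 : Q := act 3 n5068
theorem D8324 : act 3 n5068 = n8324 := rfl
def n8325 : Q := act 5 n5068
theorem D8325 : act 5 n5068 = n8325 := rfl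
theorem F14008 : act 2 n8325 = n5069 := d13_1 D8325 (iv D5069) D5068
def n8326 : Q := act 6 n5068
theorem D8326 : act 6 n5068 = n8326 := rfl
theorem F14009 : act 2 n8326 = n5070 := d14_1 D8326 (iv D5070) D5068
def n8327 : Q := act 6 n5069
theorem D8327 : act 6 n5069 = n8327 := rfl
theorem F14010 : act 3 n8327 = n5102 := d17_1 D8327 (iv D5102) (iv F8530)
theorem F14011 : act 5 n8327 = n8322 := d22_2 D5069 D8327 (iv D8322) (iv D5067)
def n8328 : Q := act 1 n5070
theorem D8328 : act 1 n5070 = n8328 := rfl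
theorem F14012 : act 3 n8328 = n5103 := d7_2 (iv F8531) D8328 (iv D5103)
theorem F14013 : act 6 n8328 = n5074 := d10_2 D5070 D8328 (iv D5074) (iv D3418) D3416
def n8329 : Q := act 5 n5070
theorem D8329 : act 5 n5070 = n8329 := rfl
theorem F14014 : act 0 n8329 = n8327 := d4_1 D8329 F14011 F14005
theorem F14016 : act 6 n8329 = n8321 := d20_2 D5070 D8329 (iv D8321) D8322 (iv F14011) (iv D8327) (iv D5069)
def n8330 : Q := act 0 n5071
theorem D8330 : act 0 n5071 = n8330 := rfl
def n8333 : Q := act 6 n5071
theorem D8333 : act 6 n5071 = n8333 := rfl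
def n8334 : Q := act 4 n5072
theorem D8334 : act 4 n5072 = n8334 := rfl
theorem F14018 : act 0 n8334 = n5076 := d3_1 D8334 (iv D5076) (iv F8532)
def n8335 : Q := act 6 n5072
theorem D8335 : act 6 n5072 = n8335 := rfl
theorem F14019 : act 0 n8335 = n5077 := d5_1 D8335 (iv D5077) (iv F8532)
theorem F14021 : act 5 n8335 = n8218 := d22_2 F13843 D8335 (iv D8218) (iv F13842)
def n8336 : Q := act 1 n5073
theorem D8336 : act 1 n5073 = n8336 := rfl
def n8339 : Q := act 5 n5074
theorem D8339 : act 5 n5074 = n8339 := rfl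
theorem F14024 : act 3 n8339 = n5115 := d16_1 D8339 (iv D5115) (iv F8536)
theorem F14025 : act 6 n5414 = n8339 := d17_0 F14024 (iv F8581) (iv F8971)
def n8341 : Q := act 6 n5075
theorem D8341 : act 6 n5075 = n8341 := rfl
theorem F14027 : act 2 n8341 = n5077 := d14_1 D8341 (iv D5077) D5075
def n8345 : Q := act 0 n5078
theorem D8345 : act 0 n5078 = n8345 := rfl
theorem F14034 : act 6 n8345 = n5541 := d5_2 (iv F8539) D8345 (iv D5541)
def n8346 : Q := act 5 n5078
theorem D8346 : act 5 n5078 = n8346 := rfl
def n8347 : Q := act 1 n5079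
theorem D8347 : act 1 n5079 = n8347 := rfl
def n8349 : Q := act 2 n5080
theorem D8349 : act 2 n5080 = n8349 := rfl
def n8350 : Q := act 6 n5080
theorem D8350 : act 6 n5080 = n8350 := rfl
theorem F14037 : act 1 n8350 = n8213 := d10_1 D8350 (iv D8213) (iv D5007) (iv F6020) D5080
def n8352 : Q := act 5 n5081
theorem D8352 : act 5 n5081 = n8352 := rfl
def n8353 : Q := act 6 n5081
theorem D8353 : act 6 n5081 = n8353 := rfl
def n8359 : Q := act 6 n5083
theorem D8359 : act 6 n5083 = n8359 := rfl
theorem F14050 : act 5 n8359 = n8353 := d22_2 D5083 D8359 (iv D8353) (iv D5081)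
def n8360 : Q := act 5 n5084
theorem D8360 : act 5 n5084 = n8360 := rfl
theorem F14053 : act 6 n8360 = n8352 := d20_2 D5084 D8360 (iv D8352) D8353 (iv F14050) (iv D8359) (iv D5083)
def n8368 : Q := act 0 n5088
theorem D8368 : act 0 n5088 = n8368 := rfl
theorem F14061 : act 3 n8368 = n5138 := d2_2 (iv F8553) D8368 (iv D5138)
def n8370 : Q := act 6 n5088
theorem D8370 : act 6 n5088 = n8370 := rfl
theorem F14062 : act 1 n8370 = n8241 := d10_1 D8370 (iv D8241) (iv D5019) (iv F6025) D5088
theorem F14063 : act 3 n8370 = n5140 := d17_1 D8370 (iv D5140) (iv F8553)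
theorem F14064 : act 5 n5396 = n8370 := d16_0 F14063 (iv F8605) (iv F8949)
def n8375 : Q := act 1 n5091
theorem D8375 : act 1 n5091 = n8375 := rfl
theorem F14074 : act 5 n8375 = n5588 := d9_2 D5091 D8375 (iv D5588) (iv D3655) (iv F6026)
def n8380 : Q := act 0 n5094
theorem D8380 : act 0 n5094 = n8380 := rfl
theorem F14079 : act 3 n8380 = n5141 := d2_2 (iv F8562) D8380 (iv D5141)
theorem F14080 : act 1 n5298 = n8380 := d7_3 F14079 F9355 (iv F8833)
def n8382 : Q := act 5 n5094
theorem D8382 : act 5 n5094 = n8382 := rfl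
theorem F14081 : act 1 n8382 = n8231 := d9_1 D8382 (iv D8231) (iv D5015) (iv F6030) D5094
def n8383 : Q := act 1 n5097
theorem D8383 : act 1 n5097 = n8383 := rfl
theorem F14083 : act 5 n8383 = n5319 := d9_2 F8569 D8383 F8860 D5452 F9300
theorem F14084 : act 6 n8383 = n5621 := d10_2 D5097 D8383 (iv D5621) (iv D3670) (iv F6031)
theorem F14086 : act 2 n6057 = n8383 := d13_3 F14083 F10163 D6057
def n8386 : Q := act 5 n5099
theorem D8386 : act 5 n5099 = n8386 := rfl
theorem F14087 : act 3 n8386 = n5100 := d16_1 D8386 (iv D5100) D5099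
def n8387 : Q := act 6 n5099
theorem D8387 : act 6 n5099 = n8387 := rfl
theorem F14088 : act 3 n8387 = n5101 := d17_1 D8387 (iv D5101) D5099
def n8389 : Q := act 5 n5101
theorem D8389 : act 5 n5101 = n8389 := rfl
theorem F14089 : act 0 n8389 = n5918 := d4_1 D8389 (iv F11703) F11701
theorem F14091 : act 6 n8389 = n7101 := d20_2 D5101 D8389 (iv D7101) D7102 F11703 (iv F10215) (iv D5100)
def n8390 : Q := act 2 n5103
theorem D8390 : act 2 n5103 = n8390 := rfl
def n8391 : Q := act 1 n5104
theorem D8391 : act 1 n5104 = n8391 := rfl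
theorem F14094 : act 5 n8391 = n5439 := d9_2 D5104 D8391 (iv F9040) F9041 (iv D5103)
theorem F14095 : act 6 n5138 = n8391 := d20_0 F14094 (iv F9004) F8600 D5140 (iv F8605) D5441 (iv F9006)
theorem F14096 : act 2 n8391 = n7569 := d14_1 F14095 F12539 (iv F12175)
def n8395 : Q := act 6 n5106
theorem D8395 : act 6 n5106 = n8395 := rfl
theorem F14099 : act 3 n8395 = n5108 := d17_1 D8395 (iv D5108) D5106
def n8396 : Q := act 6 n5107
theorem D8396 : act 6 n5107 = n8396 := rfl
theorem F14101 : act 5 n8396 = n6990 := d22_2 D5107 D8396 (iv D6990) (iv F11470)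
def n8397 : Q := act 1 n5108
theorem D8397 : act 1 n5108 = n8397 := rfl
theorem F14102 : act 6 n8397 = n5112 := d10_2 D5108 D8397 (iv D5112) (iv D3434) D3432
def n8398 : Q := act 5 n5108
theorem D8398 : act 5 n5108 = n8398 := rfl
theorem F14104 : act 2 n8398 = n7010 := d13_1 D8398 F11518 F11513
def n8401 : Q := act 6 n5109
theorem D8401 : act 6 n5109 = n8401 := rfl
theorem F14110 : act 2 n8401 = n5111 := d14_1 D8401 (iv D5111) D5109
theorem F14112 : act 5 n8401 = n8258 := d22_2 F13903 D8401 (iv D8258) (iv F13902)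
def n8403 : Q := act 1 n5111
theorem D8403 : act 1 n5111 = n8403 := rfl
theorem F14116 : act 3 n8403 = n5112 := d7_2 (iv F8578) D8403 (iv D5112)
def n8404 : Q := act 0 n5112
theorem D8404 : act 0 n5112 = n8404 := rfl
def n8405 : Q := act 2 n5112
theorem D8405 : act 2 n5112 = n8405 := rfl
theorem F14117 : act 1 n8405 = n5114 := d6_1 D8405 (iv D5114) (iv D3435) (iv F6034) D5112
def n8406 : Q := act 5 n5112
theorem D8406 : act 5 n5112 = n8406 := rfl
def n8407 : Q := act 1 n5113
theorem D8407 : act 1 n5113 = n8407 := rfl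
theorem F14120 : act 5 n5219 = n8407 := d24_1 F9367 (iv D8407) (iv F9043) (iv D5465) (iv D3599) D3601 F6236 (iv F6375) (iv D3719) (iv F6370) (iv D3714) D3715 F6371 D5710
def n8409 : Q := act 5 n5113
theorem D8409 : act 5 n5113 = n8409 := rfl
theorem F14123 : act 0 n8409 = n5115 := d4_1 D8409 (iv D5115) D5113
theorem F14124 : act 1 n8409 = n5136 := d9_1 D8409 F8601 (iv F9308) F14120 (iv D8407)
def n8411 : Q := act 5 n5114
theorem D8411 : act 5 n5114 = n8411 := rfl
theorem F14126 : act 2 n8411 = n5115 := d13_1 D8411 (iv D5115) D5114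
def n8418 : Q := act 6 n5117
theorem D8418 : act 6 n5117 = n8418 := rfl
theorem F14137 : act 2 n8418 = n8335 := d14_1 D8418 (iv D8335) (iv F8584)
def n8422 : Q := act 5 n5119
theorem D8422 : act 5 n5119 = n8422 := rfl
theorem F14142 : act 2 n8422 = n5122 := d13_1 D8422 (iv D5122) (iv F8586)
theorem F14143 : act 6 n8422 = n8253 := d20_2 D5119 D8422 F13903 D8401 F14112 (iv D8258) F8480
def n8425 : Q := act 0 n5121
theorem D8425 : act 0 n5121 = n8425 := rfl
theorem F14149 : act 3 n8425 = n5123 := d2_2 (iv F8588) D8425 (iv D5123)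
def n8429 : Q := act 1 n5123
theorem D8429 : act 1 n5123 = n8429 := rfl
def n8438 : Q := act 1 n5130
theorem D8438 : act 1 n5130 = n8438 := rfl
theorem F14162 : act 6 n8438 = n5305 := d10_2 F8603 D8438 F8844 D5422 (iv F8984)
def n8443 : Q := act 1 n5133
theorem D8443 : act 1 n5133 = n8443 := rfl
def n8444 : Q := act 6 n5133
theorem D8444 : act 6 n5133 = n8444 := rfl
theorem F14170 : act 2 n8444 = n5136 := d14_1 D8444 (iv D5136) (iv F8598)
theorem F14171 : act 5 n8444 = n6448 := d22_2 D5133 D8444 (iv D6448) F13669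
def n8445 : Q := act 1 n5134
theorem D8445 : act 1 n5134 = n8445 := rfl
theorem F14174 : act 6 n8445 = n6348 := d10_2 D5134 D8445 (iv F13667) (iv D6727) (iv F13663)
def n8447 : Q := act 1 n5138
theorem D8447 : act 1 n5138 = n8447 := rfl
theorem F14179 : act 6 n8447 = n5216 := d10_2 (iv F14095) D8447 (iv F8782) (iv F8572) D8391
def n8453 : Q := act 3 n5144
theorem D8453 : act 3 n5144 = n8453 := rfl
theorem F14187 : act 0 n8453 = n5145 := d2_1 D8453 (iv D5145) D5144
def n8455 : Q := act 6 n5144
theorem D8455 : act 6 n5144 = n8455 := rfl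
theorem F14193 : act 4 n8455 = n6886 := d19_1 D8455 (iv D6886) (iv F8608)
def n8467 : Q := act 1 n5152
theorem D8467 : act 1 n5152 = n8467 := rfl
theorem F14216 : act 6 n8467 = n7839 := d10_2 D5152 D8467 (iv F13089) (iv D6984) F11484
theorem F14218 : act 2 n7834 = n8467 := d14_3 F14216 (iv D7839) (iv F12962)
def n8502 : Q := act 0 n5170
theorem D8502 : act 0 n5170 = n8502 := rfl
def n8503 : Q := act 2 n5170
theorem D8503 : act 2 n5170 = n8503 := rfl
def n8505 : Q := act 6 n5170
theorem D8505 : act 6 n5170 = n8505 := rfl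
def n8506 : Q := act 1 n5171
theorem D8506 : act 1 n5171 = n8506 := rfl
def n8571 : Q := act 1 n5204
theorem D8571 : act 1 n5204 = n8571 := rfl
theorem F14352 : act 5 n8571 = n6288 := d9_2 D5204 D8571 (iv D6288) (iv D4007) (iv F6081)
def n8573 : Q := act 6 n5206
theorem D8573 : act 6 n5206 = n8573 := rfl
def n8575 : Q := act 3 n5208
theorem D8575 : act 3 n5208 = n8575 := rfl
theorem F14359 : act 0 n8575 = n8575 := d2_1 D8575 (iv D8575) F8701
theorem F14360 : act 1 n8575 = n5209 := d7_1 D8575 (iv D5209) D5208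
theorem F14361 : act 4 n5208 = n8575 := d8_0 F14360 (iv F8704) D5208
def n8576 : Q := act 5 n5208
theorem D8576 : act 5 n5208 = n8576 := rfl
def n8577 : Q := act 6 n5208
theorem D8577 : act 6 n5208 = n8577 := rfl
def n8578 : Q := act 5 n5209
theorem D8578 : act 5 n5209 = n8578 := rfl
theorem F14364 : act 0 n8578 = n5239 := d4_1 D8578 (iv D5239) (iv F8702)
theorem F14366 : act 3 n8578 = n5210 := d16_1 D8578 (iv D5210) D5209
def n8579 : Q := act 6 n5209
theorem D8579 : act 6 n5209 = n8579 := rfl
theorem F14370 : act 3 n8579 = n5211 := d17_1 D8579 (iv D5211) D5209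
def n8580 : Q := act 1 n5210
theorem D8580 : act 1 n5210 = n8580 := rfl
def n8584 : Q := act 0 n5214
theorem D8584 : act 0 n5214 = n8584 := rfl
theorem F14374 : act 3 n8584 = n5216 := d2_2 (iv F8713) D8584 (iv D5216)
theorem F14375 : act 1 n8321 = n8584 := d7_3 F14374 (iv F8782) (iv F14004)
def n8590 : Q := act 2 n5216
theorem D8590 : act 2 n5216 = n8590 := rfl
theorem F14380 : act 0 n8590 = n5217 := d1_1 D8590 (iv D5217) D5216
def n8593 : Q := act 3 n5220
theorem D8593 : act 3 n5220 = n8593 := rfl
def n8594 : Q := act 5 n5220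
theorem D8594 : act 5 n5220 = n8594 := rfl
theorem F14382 : act 2 n8594 = n5221 := d13_1 D8594 (iv D5221) D5220
def n8604 : Q := act 1 n5228
theorem D8604 : act 1 n5228 = n8604 := rfl
theorem F14404 : act 5 n8604 = n6125 := d9_2 (iv F8736) D8604 (iv F10024) (iv F11631) (iv D5892)
def n8605 : Q := act 2 n5228
theorem D8605 : act 2 n5228 = n8605 := rfl
theorem F14406 : act 0 n8605 = n5229 := d1_1 D8605 (iv D5229) D5228
theorem F14407 : act 5 n8605 = n5893 := d13_2 (iv F8736) D8605 (iv D5893)
def n8607 : Q := act 6 n5229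
theorem D8607 : act 6 n5229 = n8607 := rfl
def n8608 : Q := act 2 n5231
theorem D8608 : act 2 n5231 = n8608 := rfl
theorem F14411 : act 1 n8608 = n5263 := d6_1 D8608 (iv D5263) (iv D3505) (iv F6104) D5231
def n8612 : Q := act 5 n5233
theorem D8612 : act 5 n5233 = n8612 := rfl
def n8614 : Q := act 6 n5235
theorem D8614 : act 6 n5235 = n8614 := rfl
theorem F14423 : act 1 n8614 = n8573 := d10_1 D8614 (iv D8573) (iv D5206) (iv F6109) D5235
theorem F14425 : act 5 n8614 = n6862 := d22_2 F11534 D8614 F11221 D6871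
def n8615 : Q := act 5 n5236
theorem D8615 : act 5 n5236 = n8615 := rfl
theorem F14427 : act 2 n8615 = n5273 := d13_1 D8615 (iv D5273) (iv F8744)
def n8616 : Q := act 6 n5236
theorem D8616 : act 6 n5236 = n8616 := rfl
theorem F14431 : act 2 n8616 = n5274 := d14_1 D8616 (iv D5274) (iv F8744)
def n8620 : Q := act 5 n5238
theorem D8620 : act 5 n5238 = n8620 := rfl
def n8621 : Q := act 1 n5239
theorem D8621 : act 1 n5239 = n8621 := rfl
def n8622 : Q := act 6 n5239
theorem D8622 : act 6 n5239 = n8622 := rfl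
theorem F14446 : act 5 n8622 = n8579 := d22_2 D5239 D8622 (iv D8579) F8702
def n8624 : Q := act 5 n5240
theorem D8624 : act 5 n5240 = n8624 := rfl
theorem F14451 : act 3 n8624 = n5244 := d16_1 D8624 (iv D5244) (iv F8752)
theorem F14452 : act 4 n8624 = n5244 := d18_1 D8624 (iv D5244) (iv F8753)
theorem F14453 : act 6 n8624 = n8578 := d20_2 D5240 D8624 (iv D8578) D8579 (iv F14446) (iv D8622) (iv D5239)
def n8626 : Q := act 2 n5241
theorem D8626 : act 2 n5241 = n8626 := rfl
theorem F14454 : act 1 n8626 = n5250 := d6_1 D8626 (iv D5250) (iv D3498) (iv F6113) D5241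
def n8630 : Q := act 2 n5243
theorem D8630 : act 2 n5243 = n8630 := rfl
theorem F14455 : act 1 n8630 = n5254 := d6_1 D8630 (iv D5254) (iv D3500) (iv F6114) D5243
def n8632 : Q := act 1 n5244
theorem D8632 : act 1 n5244 = n8632 := rfl
def n8641 : Q := act 1 n5249
theorem D8641 : act 1 n5249 = n8641 := rfl
theorem F14468 : act 0 n8641 = n8212 := d0_1 D8641 F13839 (iv F14003) F14375 (iv D8584) (iv D5214) F6092 D3498 D5249
theorem F14469 : act 3 n8641 = n5257 := d7_2 (iv F8768) D8641 (iv D5257)
theorem F14470 : act 5 n8210 = n8641 := d16_0 F14469 (iv F8780) (iv F13838)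
def n8649 : Q := act 1 n5253
theorem D8649 : act 1 n5253 = n8649 := rfl
theorem F14483 : act 3 n8649 = n5265 := d7_2 (iv F8773) D8649 (iv D5265)
theorem F14484 : act 6 n8229 = n8649 := d17_0 F14483 F9303 (iv F13862)
def n8654 : Q := act 0 n5256
theorem D8654 : act 0 n5256 = n8654 := rfl
theorem F14491 : act 3 n8654 = n5270 := d2_2 (iv F8777) D8654 (iv D5270)
def n8657 : Q := act 3 n5258
theorem D8657 : act 3 n5258 = n8657 := rfl
theorem F14497 : act 1 n8657 = n6820 := d7_1 D8657 (iv D6820) (iv F8784)
theorem F14498 : act 5 n8657 = n5310 := d16_2 (iv F8786) D8657 (iv D5310)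
def n8661 : Q := act 1 n5260
theorem D8661 : act 1 n5260 = n8661 := rfl
def n8665 : Q := act 5 n5263
theorem D8665 : act 5 n5263 = n8665 := rfl
theorem F14506 : act 2 n8665 = n5264 := d13_1 D8665 (iv D5264) D5263
def n8667 : Q := act 3 n5266
theorem D8667 : act 3 n5266 = n8667 := rfl
theorem F14512 : act 6 n8667 = n5324 := d17_2 (iv F8792) D8667 (iv D5324)
def n8668 : Q := act 2 n5267
theorem D8668 : act 2 n5267 = n8668 := rfl
theorem F14513 : act 6 n8668 = n5327 := d14_2 (iv F8793) D8668 (iv D5327)
def n8671 : Q := act 1 n5268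
theorem D8671 : act 1 n5268 = n8671 := rfl
def n8673 : Q := act 2 n5270
theorem D8673 : act 2 n5270 = n8673 := rfl
theorem F14518 : act 6 n8673 = n5691 := d14_2 F9321 D8673 (iv D5691)
def n8676 : Q := act 5 n5272
theorem D8676 : act 5 n5272 = n8676 := rfl
theorem F14522 : act 1 n8676 = n5719 := d9_1 D8676 F9380 D5723 (iv F9392) (iv F8796)
theorem F14523 : act 6 n8676 = n8264 := d20_2 D5272 D8676 F13917 (iv F9321) (iv F9318) (iv F9319) F8795
theorem F14524 : act 2 n8676 = n8506 := d23_1 D8676 (iv D8506) F8638 (iv D3461) (iv F4806) (iv D2715) (iv F4507) F4510 F4017 F1970 F3877 (iv D1210) D1209 (iv F4000) (iv F4778) D3700 F6354 D3701 (iv F9320)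
def n8677 : Q := act 1 n5273
theorem D8677 : act 1 n5273 = n8677 := rfl
theorem F14529 : act 5 n8677 = n5279 := d9_2 D5273 D8677 (iv D5279) (iv D3513) (iv F6131)
def n8682 : Q := act 2 n5277
theorem D8682 : act 2 n5277 = n8682 := rfl
def n8687 : Q := act 6 n5279
theorem D8687 : act 6 n5279 = n8687 := rfl
def n8694 : Q := act 3 n5285
theorem D8694 : act 3 n5285 = n8694 := rfl
theorem F14554 : act 1 n8694 = n5302 := d7_1 D8694 (iv D5302) (iv F8818)
def n8695 : Q := act 5 n5285
theorem D8695 : act 5 n5285 = n8695 := rfl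
theorem F14555 : act 2 n8695 = n5286 := d13_1 D8695 (iv D5286) D5285
def n8696 : Q := act 6 n5286
theorem D8696 : act 6 n5286 = n8696 := rfl
theorem F14558 : act 4 n8696 = n5925 := d19_1 D8696 (iv F9698) (iv F13732)
def n8701 : Q := act 6 n5288
theorem D8701 : act 6 n5288 = n8701 := rfl
theorem F14566 : act 2 n8701 = n5289 := d14_1 D8701 (iv D5289) D5288
def n8707 : Q := act 6 n5292
theorem D8707 : act 6 n5292 = n8707 := rfl
theorem F14580 : act 4 n8707 = n5304 := d19_1 D8707 (iv D5304) (iv F8825)
def n8708 : Q := act 0 n5293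
theorem D8708 : act 0 n5293 = n8708 := rfl
theorem F14582 : act 1 n8708 = n5385 := d0_2 D5293 D8708 (iv D5385) (iv D3561) (iv D2625) (iv D2154) (iv F3950) D2603 D3519
theorem F14583 : act 3 n8708 = n5305 := d2_2 (iv F8826) D8708 (iv D5305)
theorem F14584 : act 5 n8138 = n8708 := d16_0 F14583 F8847 (iv F13555)
def n8710 : Q := act 5 n5293
theorem D8710 : act 5 n5293 = n8710 := rfl
theorem F14585 : act 0 n8710 = n8138 := d4_1 D8710 F14584 (iv D8708)
theorem F14586 : act 1 n8710 = n8210 := d9_1 D8710 F14470 (iv D8641) F8769 D5293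
theorem F14587 : act 3 n8710 = n5307 := d16_1 D8710 (iv D5307) (iv F8826)
def n8711 : Q := act 6 n5293
theorem D8711 : act 6 n5293 = n8711 := rfl
def n8715 : Q := act 1 n5295
theorem D8715 : act 1 n5295 = n8715 := rfl
theorem F14593 : act 3 n8715 = n5312 := d7_2 (iv F8829) D8715 (iv D5312)
theorem F14594 : act 5 n5605 = n8715 := d16_0 F14593 (iv F9424) (iv F9223)
def n8721 : Q := act 0 n5299
theorem D8721 : act 0 n5299 = n8721 := rfl
theorem F14599 : act 1 n8721 = n5402 := d0_2 D5299 D8721 (iv D5402) (iv D3569) (iv D2629) (iv D2156) (iv F3952) D2604 D3522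
theorem F14600 : act 3 n8721 = n5319 := d2_2 (iv F8835) D8721 (iv D5319)
theorem F14601 : act 6 n8144 = n8721 := d17_0 F14600 (iv F9299) (iv F13565)
def n8723 : Q := act 5 n5299
theorem D8723 : act 5 n5299 = n8723 := rfl
def n8724 : Q := act 6 n5299
theorem D8724 : act 6 n5299 = n8724 := rfl
theorem F14604 : act 1 n8724 = n8229 := d10_1 D8724 F14484 (iv D8649) F8774 D5299
theorem F14605 : act 3 n8724 = n5322 := d17_1 D8724 (iv D5322) (iv F8835)
def n8726 : Q := act 3 n5300
theorem D8726 : act 3 n5300 = n8726 := rfl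
theorem F14606 : act 0 n8726 = n5302 := d2_1 D8726 (iv D5302) (iv F8836)
def n8728 : Q := act 1 n5301
theorem D8728 : act 1 n5301 = n8728 := rfl
theorem F14610 : act 3 n8728 = n5326 := d7_2 (iv F8838) D8728 (iv D5326)
theorem F14611 : act 6 n5555 = n8728 := d17_0 F14610 (iv F9323) (iv F9163)
def n8729 : Q := act 2 n5302
theorem D8729 : act 2 n5302 = n8729 := rfl
def n8732 : Q := act 1 n5303
theorem D8732 : act 1 n5303 = n8732 := rfl
def n8734 : Q := act 2 n5305
theorem D8734 : act 2 n5305 = n8734 := rfl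
theorem F14616 : act 0 n8734 = n5306 := d1_1 D8734 (iv D5306) D5305
def n8735 : Q := act 1 n5306
theorem D8735 : act 1 n5306 = n8735 := rfl
theorem F14618 : act 2 n8735 = n5309 := d6_2 D5306 D8735 (iv D5309) (iv D3526) D3525
theorem F14619 : act 4 n8735 = n6989 := d8_2 F12347 D8735 (iv F12346)
theorem F14620 : act 0 n8735 = n7339 := d23_3 (iv D5307) D5306 D8735 (iv D7339) F11474 F11476 F11477 D7141 (iv F12102) (iv F12244) (iv D7399) (iv F8360) D8098 F13493 (iv F10542) F10543 (iv D4970) D4969 F8846
theorem F14621 : act 5 n6857 = n8735 := d4_0 F14620 (iv D7339) (iv F11475)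
def n8737 : Q := act 5 n5306
theorem D8737 : act 5 n5306 = n8737 := rfl
theorem F14623 : act 1 n8737 = n6859 := d9_1 D8737 (iv D6859) D6857 F14621 (iv D8735)
theorem F14624 : act 2 n8737 = n5307 := d13_1 D8737 (iv D5307) D5306
def n8739 : Q := act 0 n5309
theorem D8739 : act 0 n5309 = n8739 := rfl
theorem F14627 : act 2 n8739 = n7339 := d1_2 F14618 D8739 (iv F14620)
theorem F14628 : act 4 n8739 = n7004 := d3_2 (iv F8848) D8739 F11510
theorem F14629 : act 5 n8739 = n6864 := d4_2 (iv F8849) D8739 (iv D6864)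
def n8740 : Q := act 3 n5309
theorem D8740 : act 3 n5309 = n8740 := rfl
theorem F14631 : act 5 n8740 = n6865 := d16_2 (iv F8849) D8740 (iv D6865)
def n8741 : Q := act 6 n5309
theorem D8741 : act 6 n5309 = n8741 := rfl
theorem F14632 : act 4 n8741 = n7010 := d19_1 D8741 (iv D7010) (iv F8848)
def n8754 : Q := act 0 n5316
theorem D8754 : act 0 n5316 = n8754 := rfl
theorem F14652 : act 6 n8754 = n5948 := d5_2 (iv F8856) D8754 (iv D5948)
def n8755 : Q := act 5 n5316
theorem D8755 : act 5 n5316 = n8755 := rfl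
def n8756 : Q := act 1 n5317
theorem D8756 : act 1 n5317 = n8756 := rfl
theorem F14654 : act 6 n8756 = n6879 := d10_2 (iv F8859) D8756 (iv D6879) F7307 (iv F8784)
def n8758 : Q := act 5 n5320
theorem D8758 : act 5 n5320 = n8758 := rfl
theorem F14659 : act 0 n8758 = n6057 := d4_1 D8758 (iv D6057) (iv F10207)
theorem F14660 : act 2 n8758 = n5321 := d13_1 D8758 (iv D5321) D5320
def n8759 : Q := act 6 n5320
theorem D8759 : act 6 n5320 = n8759 := rfl
theorem F14661 : act 0 n8759 = n6050 := d5_1 D8759 F9824 (iv F10207)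
theorem F14663 : act 2 n8759 = n5322 := d14_1 D8759 (iv D5322) D5320
def n8760 : Q := act 3 n5323
theorem D8760 : act 3 n5323 = n8760 := rfl
theorem F14666 : act 1 n8760 = n5324 := d7_1 D8760 (iv D5324) D5323
theorem F14667 : act 6 n8760 = n6519 := d17_2 (iv F13590) D8760 F10701
def n8761 : Q := act 5 n5323
theorem D8761 : act 5 n5323 = n8761 := rfl
def n8762 : Q := act 2 n5324
theorem D8762 : act 2 n5324 = n8762 := rfl
theorem F14670 : act 3 n8762 = n8729 := d21_1 D8762 (iv D8729) (iv D5302) (iv D3523) F4680 D2609 D3534 (iv F8861)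
def n8765 : Q := act 1 n5325
theorem D8765 : act 1 n5325 = n8765 := rfl
theorem F14676 : act 4 n8765 = n8153 := d8_2 F12376 D8765 F13586
theorem F14678 : act 6 n7222 = n8765 := d19_0 F14676 (iv D8153) (iv F11911)
def n8766 : Q := act 1 n5327
theorem D8766 : act 1 n5327 = n8766 := rfl
theorem F14679 : act 2 n8766 = n5962 := d6_2 D5327 D8766 (iv D5962) (iv D3838) (iv F6159)
def n8767 : Q := act 3 n5327
theorem D8767 : act 3 n5327 = n8767 := rfl
theorem F14682 : act 2 n8767 = n8726 := d11_1 D8767 (iv D8726) (iv D5300) F6147 D3532 D5324 D8762 F14670 (iv D8729) (iv D5302) (iv D3523) F4680 D2609 D3534 D5327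
def n8768 : Q := act 4 n5327
theorem D8768 : act 4 n5327 = n8768 := rfl
def n8773 : Q := act 0 n5330
theorem D8773 : act 0 n5330 = n8773 := rfl
theorem F14691 : act 5 n8773 = n5969 := d4_2 (iv F8867) D8773 (iv D5969)
def n8774 : Q := act 6 n5330
theorem D8774 : act 6 n5330 = n8774 := rfl
def n8778 : Q := act 6 n5333
theorem D8778 : act 6 n5333 = n8778 := rfl
def n8779 : Q := act 0 n5334
theorem D8779 : act 0 n5334 = n8779 := rfl
theorem F14700 : act 3 n8779 = n6348 := d2_2 (iv F8873) D8779 (iv D6348)
theorem F14701 : act 4 n8779 = n5338 := d3_2 (iv F8874) D8779 (iv D5338)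
def n8782 : Q := act 1 n5335
theorem D8782 : act 1 n5335 = n8782 := rfl
theorem F14706 : act 3 n8782 = n5349 := d7_2 (iv F8875) D8782 (iv D5349)
def n8784 : Q := act 6 n5335
theorem D8784 : act 6 n5335 = n8784 := rfl
theorem F14708 : act 0 n8784 = n5337 := d5_1 D8784 (iv D5337) D5335
theorem F14710 : act 5 n8784 = n8164 := d22_2 F13773 D8784 (iv D8164) D8162
def n8785 : Q := act 3 n5336
theorem D8785 : act 3 n5336 = n8785 := rfl
theorem F14711 : act 1 n8785 = n7440 := d7_1 D8785 (iv D7440) (iv F8876)
def n8787 : Q := act 5 n5337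
theorem D8787 : act 5 n5337 = n8787 := rfl
theorem F14713 : act 0 n8787 = n8164 := d4_1 D8787 (iv F14710) F14708
theorem F14715 : act 6 n8787 = n8162 := d20_2 D5337 D8787 F13773 D8784 F14710 (iv D8164) F8418
def n8788 : Q := act 1 n5338
theorem D8788 : act 1 n5338 = n8788 := rfl
theorem F14716 : act 3 n8788 = n5359 := d7_2 (iv F8878) D8788 (iv D5359)
def n8794 : Q := act 1 n5341
theorem D8794 : act 1 n5341 = n8794 := rfl
theorem F14726 : act 4 n8794 = n5349 := d8_2 (iv F8881) D8794 (iv D5349)
def n8795 : Q := act 2 n5341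
theorem D8795 : act 2 n5341 = n8795 := rfl
theorem F14727 : act 0 n8795 = n5342 := d1_1 D8795 (iv D5342) D5341
theorem F14728 : act 4 n8795 = n5350 := d12_2 (iv F8881) D8795 (iv D5350)
def n8796 : Q := act 6 n5341
theorem D8796 : act 6 n5341 = n8796 := rfl
theorem F14729 : act 0 n8796 = n5343 := d5_1 D8796 (iv D5343) D5341
theorem F14731 : act 5 n8796 = n8172 := d22_2 F13783 D8796 (iv D8172) D8170
def n8797 : Q := act 3 n5342
theorem D8797 : act 3 n5342 = n8797 := rfl
theorem F14732 : act 1 n8797 = n5371 := d7_1 D8797 (iv D5371) (iv F8882)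
def n8798 : Q := act 6 n5342
theorem D8798 : act 6 n5342 = n8798 := rfl
theorem F14734 : act 4 n8798 = n5353 := d19_1 D8798 (iv D5353) (iv F8883)
def n8799 : Q := act 1 n5343
theorem D8799 : act 1 n5343 = n8799 := rfl
theorem F14736 : act 6 n8799 = n5344 := d10_2 D5343 D8799 (iv D5344) (iv D3542) D3541
def n8800 : Q := act 5 n5343
theorem D8800 : act 5 n5343 = n8800 := rfl
theorem F14737 : act 0 n8800 = n8172 := d4_1 D8800 (iv F14731) F14729
theorem F14739 : act 6 n8800 = n8170 := d20_2 D5343 D8800 F13783 D8796 F14731 (iv D8172) F8429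
def n8801 : Q := act 0 n5344
theorem D8801 : act 0 n5344 = n8801 := rfl
theorem F14740 : act 4 n8801 = n5356 := d3_2 (iv F8885) D8801 (iv D5356)
def n8802 : Q := act 2 n5344
theorem D8802 : act 2 n5344 = n8802 := rfl
theorem F14741 : act 1 n8802 = n5375 := d6_1 D8802 (iv D5375) (iv D3556) (iv F6174) D5344
theorem F14742 : act 4 n8802 = n5357 := d12_2 (iv F8885) D8802 (iv D5357)
def n8803 : Q := act 5 n5344
theorem D8803 : act 5 n5344 = n8803 := rfl
theorem F14744 : act 3 n8803 = n5961 := d16_1 D8803 F13740 F9832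
theorem F14745 : act 4 n8803 = n5358 := d18_1 D8803 (iv D5358) (iv F8885)
def n8804 : Q := act 1 n5345
theorem D8804 : act 1 n5345 = n8804 := rfl
theorem F14746 : act 0 n8804 = n8760 := d0_1 D8804 F14666 F8861 F6159 (iv F6553) (iv F13715) F6138 D3543 D5345
theorem F14748 : act 4 n8804 = n5359 := d8_2 (iv F8886) D8804 (iv D5359)
def n8811 : Q := act 0 n5348
theorem D8811 : act 0 n5348 = n8811 := rfl
def n8813 : Q := act 6 n5348
theorem D8813 : act 6 n5348 = n8813 := rfl
theorem F14766 : act 1 n8813 = n8687 := d10_1 D8813 (iv D8687) (iv D5279) (iv F6181) D5348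
def n8814 : Q := act 0 n5349
theorem D8814 : act 0 n5349 = n8814 := rfl
def n8816 : Q := act 5 n5349
theorem D8816 : act 5 n5349 = n8816 := rfl
def n8824 : Q := act 6 n5352
theorem D8824 : act 6 n5352 = n8824 := rfl
theorem F14773 : act 3 n8824 = n5353 := d17_1 D8824 (iv D5353) D5352
def n8825 : Q := act 1 n5353
theorem D8825 : act 1 n5353 = n8825 := rfl
def n8827 : Q := act 0 n5354
theorem D8827 : act 0 n5354 = n8827 := rfl
theorem F14778 : act 6 n8827 = n5356 := d5_2 (iv F8896) D8827 (iv D5356)
def n8828 : Q := act 2 n5354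
theorem D8828 : act 2 n5354 = n8828 := rfl
theorem F14779 : act 6 n8828 = n5357 := d14_2 (iv F8896) D8828 (iv D5357)
def n8829 : Q := act 5 n5354
theorem D8829 : act 5 n5354 = n8829 := rfl
def n8831 : Q := act 1 n5356
theorem D8831 : act 1 n5356 = n8831 := rfl
def n8832 : Q := act 2 n5356
theorem D8832 : act 2 n5356 = n8832 := rfl
theorem F14780 : act 0 n8832 = n5357 := d1_1 D8832 (iv D5357) D5356
def n8833 : Q := act 5 n5356
theorem D8833 : act 5 n5356 = n8833 := rfl
theorem F14782 : act 6 n8833 = n8829 := d22_1 D8833 (iv D8829) F8896 D5356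
def n8834 : Q := act 3 n5357
theorem D8834 : act 3 n5357 = n8834 := rfl
theorem F14783 : act 1 n8834 = n5399 := d7_1 D8834 (iv D5399) (iv F8899)
def n8835 : Q := act 5 n5357
theorem D8835 : act 5 n5357 = n8835 := rfl
theorem F14784 : act 2 n8835 = n5358 := d13_1 D8835 (iv D5358) D5357
def n8836 : Q := act 6 n5358
theorem D8836 : act 6 n5358 = n8836 := rfl
def n8837 : Q := act 0 n5359
theorem D8837 : act 0 n5359 = n8837 := rfl
theorem F14788 : act 4 n8837 = n8760 := d3_2 F14748 D8837 (iv F14746)
def n8840 : Q := act 6 n5359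
theorem D8840 : act 6 n5359 = n8840 := rfl
def n8850 : Q := act 0 n5364
theorem D8850 : act 0 n5364 = n8850 := rfl
theorem F14799 : act 5 n8850 = n5366 := d4_2 (iv F8906) D8850 (iv D5366)
def n8854 : Q := act 1 n5366
theorem D8854 : act 1 n5366 = n8854 := rfl
def n8856 : Q := act 6 n5366
theorem D8856 : act 6 n5366 = n8856 := rfl
theorem F14802 : act 0 n8856 = n5368 := d5_1 D8856 (iv D5368) D5366
def n8862 : Q := act 5 n5369
theorem D8862 : act 5 n5369 = n8862 := rfl
theorem F14810 : act 1 n8862 = n5477 := d9_1 D8862 (iv D5477) (iv D3605) (iv F6185) D5369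
def n8865 : Q := act 3 n5370
theorem D8865 : act 3 n5370 = n8865 := rfl
theorem F14814 : act 0 n8865 = n5371 := d2_1 D8865 (iv D5371) (iv F8912)
theorem F14815 : act 5 n8865 = n5480 := d16_2 (iv F8914) D8865 (iv D5480)
def n8866 : Q := act 2 n5371
theorem D8866 : act 2 n5371 = n8866 := rfl
theorem F14816 : act 5 n8866 = n5483 := d13_2 (iv F8915) D8866 (iv D5483)
def n8867 : Q := act 4 n5371
theorem D8867 : act 4 n5371 = n8867 := rfl
theorem F14817 : act 3 n8867 = n5390 := d15_1 D8867 (iv D5390) (iv D3563) (iv F6186) D5371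
theorem F14818 : act 5 n8867 = n5484 := d18_2 (iv F8915) D8867 (iv D5484)
def n8868 : Q := act 6 n5371
theorem D8868 : act 6 n5371 = n8868 := rfl
theorem F14819 : act 3 n8868 = n5372 := d17_1 D8868 (iv D5372) D5371
def n8871 : Q := act 2 n5373
theorem D8871 : act 2 n5373 = n8871 := rfl
theorem F14823 : act 4 n8871 = n5394 := d12_2 (iv F8918) D8871 (iv D5394)
theorem F14824 : act 6 n8871 = n5375 := d14_2 (iv F8919) D8871 (iv D5375)
def n8873 : Q := act 1 n5374
theorem D8873 : act 1 n5374 = n8873 := rfl
theorem F14826 : act 4 n8873 = n5396 := d8_2 (iv F8920) D8873 (iv D5396)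
def n8874 : Q := act 2 n5374
theorem D8874 : act 2 n5374 = n8874 := rfl
theorem F14827 : act 0 n8874 = n5375 := d1_1 D8874 (iv D5375) D5374
theorem F14828 : act 4 n8874 = n5397 := d12_2 (iv F8920) D8874 (iv D5397)
def n8875 : Q := act 5 n5374
theorem D8875 : act 5 n5374 = n8875 := rfl
theorem F14829 : act 0 n8875 = n5376 := d4_1 D8875 (iv D5376) D5374
def n8876 : Q := act 3 n5375
theorem D8876 : act 3 n5375 = n8876 := rfl
def n8877 : Q := act 5 n5375
theorem D8877 : act 5 n5375 = n8877 := rfl
theorem F14833 : act 4 n8877 = n5400 := d18_1 D8877 (iv D5400) (iv F8921)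
def n8878 : Q := act 6 n5376
theorem D8878 : act 6 n5376 = n8878 := rfl
def n8879 : Q := act 0 n5377
theorem D8879 : act 0 n5377 = n8879 := rfl
theorem F14837 : act 4 n8879 = n5402 := d3_2 (iv F8924) D8879 (iv D5402)
theorem F14838 : act 6 n6077 = n8879 := d19_0 F14837 F10166 D6077
def n8880 : Q := act 2 n5377
theorem D8880 : act 2 n5377 = n8880 := rfl
theorem F14839 : act 4 n8880 = n5403 := d12_2 (iv F8924) D8880 (iv D5403)
def n8883 : Q := act 1 n5378
theorem D8883 : act 1 n5378 = n8883 := rfl
theorem F14844 : act 4 n8883 = n5406 := d8_2 (iv F8926) D8883 (iv D5406)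
def n8899 : Q := act 5 n5385
theorem D8899 : act 5 n5385 = n8899 := rfl
theorem F14870 : act 1 n8899 = n8111 := d9_1 D8899 F13523 D8138 F14584 F14582
def n8900 : Q := act 6 n5385
theorem D8900 : act 6 n5385 = n8900 := rfl
theorem F14874 : act 1 n8360 = n8900 := d24_14 (iv D8900) D8899 F14870 (iv F13563) (iv D8143) (iv F8475) (iv D5022) (iv F8473) (iv D5019) (iv F6025) (iv D3424) D3422 D5084 D8360
def n8905 : Q := act 6 n5387
theorem D8905 : act 6 n5387 = n8905 := rfl
theorem F14879 : act 5 n8905 = n8900 := d22_2 D5387 D8905 (iv D8900) (iv D5385)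
def n8906 : Q := act 5 n5388
theorem D8906 : act 5 n5388 = n8906 := rfl
theorem F14882 : act 6 n8906 = n8899 := d20_2 D5388 D8906 (iv D8899) D8900 (iv F14879) (iv D8905) (iv D5387)
def n8910 : Q := act 6 n5390
theorem D8910 : act 6 n5390 = n8910 := rfl
theorem F14886 : act 5 n8910 = n7028 := d22_2 (iv F8941) D8910 (iv D7028) F7393
def n8911 : Q := act 1 n5391
theorem D8911 : act 1 n5391 = n8911 := rfl
theorem F14887 : act 3 n8911 = n5392 := d7_2 (iv F8943) D8911 (iv D5392)
def n8913 : Q := act 2 n5392
theorem D8913 : act 2 n5392 = n8913 := rfl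
theorem F14888 : act 1 n8913 = n5394 := d6_1 D8913 (iv D5394) (iv D3565) (iv F6200) D5392
def n8916 : Q := act 2 n5393
theorem D8916 : act 2 n5393 = n8916 := rfl
theorem F14890 : act 0 n8916 = n5394 := d1_1 D8916 (iv D5394) D5393
theorem F14891 : act 6 n8916 = n5397 := d14_2 (iv F8946) D8916 (iv D5397)
def n8917 : Q := act 3 n5394
theorem D8917 : act 3 n5394 = n8917 := rfl
def n8918 : Q := act 5 n5394
theorem D8918 : act 5 n5394 = n8918 := rfl
def n8920 : Q := act 2 n5396
theorem D8920 : act 2 n5396 = n8920 := rfl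
def n8921 : Q := act 6 n5396
theorem D8921 : act 6 n5396 = n8921 := rfl
theorem F14897 : act 3 n8921 = n5441 := d17_1 D8921 (iv D5441) (iv F8949)
theorem F14898 : act 5 n8368 = n8921 := d22_0 (iv D8921) F14064 (iv D8370) D8368
def n8922 : Q := act 1 n5397
theorem D8922 : act 1 n5397 = n8922 := rfl
def n8923 : Q := act 3 n5397
theorem D8923 : act 3 n5397 = n8923 := rfl
theorem F14899 : act 0 n8923 = n5399 := d2_1 D8923 (iv D5399) (iv F8950)
def n8924 : Q := act 5 n5397
theorem D8924 : act 5 n5397 = n8924 := rfl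
theorem F14900 : act 0 n8924 = n5400 := d4_1 D8924 (iv D5400) (iv F8950)
theorem F14901 : act 2 n8924 = n5398 := d13_1 D8924 (iv D5398) D5397
def n8927 : Q := act 5 n5399
theorem D8927 : act 5 n5399 = n8927 := rfl
theorem F14903 : act 3 n8927 = n5400 := d16_1 D8927 (iv D5400) D5399
def n8928 : Q := act 1 n5400
theorem D8928 : act 1 n5400 = n8928 := rfl
theorem F14904 : act 2 n8928 = n8732 := d6_2 (iv F8954) D8928 (iv D8732) F8840 (iv F6204)
def n8929 : Q := act 6 n5400
theorem D8929 : act 6 n5400 = n8929 := rfl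
theorem F14906 : act 2 n8929 = n5401 := d14_1 D8929 (iv D5401) (iv F8954)
def n8931 : Q := act 2 n5402
theorem D8931 : act 2 n5402 = n8931 := rfl
theorem F14913 : act 3 n8931 = n7542 := d21_1 D8931 (iv D7542) F7862 (iv F10176) F10175 (iv D3593) (iv F6206) D5402
def n8932 : Q := act 5 n5402
theorem D8932 : act 5 n5402 = n8932 := rfl
theorem F14914 : act 0 n8932 = n5404 := d4_1 D8932 (iv D5404) D5402
theorem F14916 : act 6 n8932 = n5920 := d20_2 (iv F10166) D8932 (iv F10153) (iv D5405) D5404 F10206 (iv D6078)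
theorem F14917 : act 1 n8932 = n8327 := d24_2 (iv F10166) D8932 (iv D8327) (iv D5069) (iv D3416) D3418 F6015 D5011 F8463 D5014 F8465 D8149 F13575 F9858
def n8934 : Q := act 3 n5403
theorem D8934 : act 3 n5403 = n8934 := rfl
theorem F14920 : act 2 n8934 = n6353 := d11_1 D8934 (iv D6353) (iv D4044) F5067 F10165 (iv F8958) D8931 F14913 (iv D7542) F7862 (iv F10176) F10175 (iv D3593) (iv F6206) D5403
theorem F14921 : act 6 n6363 = n8934 := d14_0 F14920 F10433 D6363
def n8935 : Q := act 5 n5403
theorem D8935 : act 5 n5403 = n8935 := rfl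
theorem F14922 : act 2 n8935 = n5404 := d13_1 D8935 (iv D5404) D5403
def n8936 : Q := act 6 n5403
theorem D8936 : act 6 n5403 = n8936 := rfl
theorem F14924 : act 2 n8936 = n5405 := d14_1 D8936 (iv D5405) D5403
theorem F14925 : act 3 n8936 = n6363 := d17_1 D8936 F14921 (iv D8934)
def n8951 : Q := act 0 n5414
theorem D8951 : act 0 n5414 = n8951 := rfl
theorem F14941 : act 5 n8951 = n8328 := d22_0 F14013 D8339 (iv F14025) D8951
def n8953 : Q := act 5 n5414
theorem D8953 : act 5 n5414 = n8953 := rfl
theorem F14942 : act 0 n8953 = n8328 := d4_1 D8953 (iv F14941) (iv D8951)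
theorem F14943 : act 3 n8953 = n5465 := d16_1 D8953 (iv D5465) (iv F8971)
def n8962 : Q := act 1 n5419
theorem D8962 : act 1 n5419 = n8962 := rfl
theorem F14955 : act 5 n8962 = n8380 := d9_2 D5419 D8962 (iv F14080) (iv D5298) (iv F6214)
theorem F14956 : act 0 n8382 = n8962 := d4_3 F14955 (iv D8380) D8382
def n8963 : Q := act 1 n5420
theorem D8963 : act 1 n5420 = n8963 := rfl
def n8965 : Q := act 5 n5420
theorem D8965 : act 5 n5420 = n8965 := rfl
theorem F14959 : act 2 n8965 = n5421 := d13_1 D8965 (iv D5421) D5420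
theorem F14960 : act 1 n6417 = n8965 := d6_5 F14959 F8982 F10541 (iv D6416) D6417
theorem F14961 : act 5 n8963 = n6436 := d9_4 (iv F10546) F14960 (iv D8965) D8963 (iv D6436)
def n8967 : Q := act 0 n5423
theorem D8967 : act 0 n5423 = n8967 := rfl
theorem F14964 : act 2 n8967 = n5429 := d1_2 (iv F8985) D8967 (iv D5429)
theorem F14965 : act 5 n8967 = n6156 := d23_4 (iv D3579) D3578 D5423 D8967 (iv F11282) (iv D6905) (iv D4317) F5332 D3040 (iv F7106) (iv F7419) F7407 D4405 F7423 (iv F8397) (iv F10543) (iv F10541) (iv F8982) F8981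
theorem F14966 : act 1 n6187 = n8967 := d9_5 F14965 (iv D6156) F6735 D3957 D6187
def n8970 : Q := act 6 n5423
theorem D8970 : act 6 n5423 = n8970 := rfl
theorem F14970 : act 2 n8970 = n5431 := d14_1 D8970 (iv D5431) (iv F8985)
def n8975 : Q := act 1 n5425
theorem D8975 : act 1 n5425 = n8975 := rfl
def n8976 : Q := act 6 n5425
theorem D8976 : act 6 n5425 = n8976 := rfl
theorem F14974 : act 2 n8976 = n5427 := d14_1 D8976 (iv D5427) (iv F8986)
theorem F14976 : act 1 n7830 = n8976 := d6_5 F14974 (iv F13940) F13941 (iv D7833) (iv F12950)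
theorem F14977 : act 6 n8975 = n7829 := d10_4 D7830 F14976 (iv D8976) D8975 (iv D7829)
def n8979 : Q := act 6 n5430
theorem D8979 : act 6 n5430 = n8979 := rfl
theorem F14984 : act 5 n8979 = n7047 := d22_2 D5430 D8979 F11587 (iv D5429)
def n8980 : Q := act 5 n5431
theorem D8980 : act 5 n5431 = n8980 := rfl
theorem F14986 : act 3 n8980 = n6939 := d16_1 D8980 (iv D6939) (iv F8994)
theorem F14987 : act 6 n8980 = n6905 := d20_2 D5431 D8980 (iv F11283) (iv F11587) (iv F14984) (iv D8979) (iv D5430)
def n8983 : Q := act 2 n5435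
theorem D8983 : act 2 n5435 = n8983 := rfl
theorem F14992 : act 4 n8983 = n6736 := d12_2 F12529 D8983 F12531
theorem F14993 : act 6 n6548 = n8983 := d19_0 F14992 (iv D6736) (iv F10753)
def n8984 : Q := act 6 n5435
theorem D8984 : act 6 n5435 = n8984 := rfl
theorem F14996 : act 2 n8984 = n6548 := d14_1 D8984 F14993 (iv D8983)
theorem F14998 : act 5 n8984 = n5727 := d20_1 D8984 F13128 (iv F13539) F13540 (iv D5729) D5730 (iv F9459)
def n8985 : Q := act 1 n5436
theorem D8985 : act 1 n5436 = n8985 := rfl
def n8986 : Q := act 3 n5436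
theorem D8986 : act 3 n5436 = n8986 := rfl
theorem F15000 : act 6 n8986 = n5443 := d17_2 (iv F9001) D8986 (iv D5443)
def n8989 : Q := act 5 n5437
theorem D8989 : act 5 n5437 = n8989 := rfl
def n8991 : Q := act 2 n5439
theorem D8991 : act 2 n5439 = n8991 := rfl
theorem F15006 : act 5 n8991 = n7569 := d13_2 F14094 D8991 (iv F14096)
theorem F15007 : act 6 n8991 = n7369 := d14_2 F9004 D8991 F12182
theorem F15008 : act 1 n7337 = n8991 := d24_14 F15007 F12184 (iv F10976) (iv F12530) (iv F13139) (iv F13228) (iv D7957) F8200 (iv D4563) F5510 F5480 D3150 D4553 D7337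
def n8993 : Q := act 0 n5442
theorem D8993 : act 0 n5442 = n8993 := rfl
theorem F15013 : act 5 n8993 = n7288 := d22_0 (iv D7288) (iv F12018) F12022 D8993
def n8994 : Q := act 3 n5442
theorem D8994 : act 3 n5442 = n8994 := rfl
theorem F15014 : act 1 n8994 = n5443 := d7_1 D8994 (iv D5443) D5442
def n8995 : Q := act 5 n5442
theorem D8995 : act 5 n5442 = n8995 := rfl
theorem F15015 : act 0 n8995 = n7288 := d4_1 D8995 (iv F15013) (iv D8993)
theorem F15016 : act 2 n8995 = n7286 := d13_1 D8995 F12030 (iv F12021)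
def n8996 : Q := act 2 n5443
theorem D8996 : act 2 n5443 = n8996 := rfl
def n8998 : Q := act 5 n5443
theorem D8998 : act 5 n5443 = n8998 := rfl
theorem F15022 : act 0 n8998 = n5447 := d4_1 D8998 (iv D5447) (iv F9014)
theorem F15023 : act 3 n8998 = n5444 := d16_1 D8998 (iv D5444) D5443
theorem F15024 : act 6 n8998 = n8989 := d22_1 D8998 (iv D8989) F9002 (iv F9014)
def n9003 : Q := act 5 n5445
theorem D9003 : act 5 n5445 = n9003 := rfl
theorem F15029 : act 2 n9003 = n5447 := d13_1 D9003 (iv D5447) D5445
def n9004 : Q := act 5 n5446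
theorem D9004 : act 5 n5446 = n9004 := rfl
theorem F15030 : act 4 n9004 = n5447 := d18_1 D9004 (iv D5447) D5446
def n9005 : Q := act 1 n5447
theorem D9005 : act 1 n5447 = n9005 := rfl
theorem F15031 : act 3 n9005 = n5448 := d7_2 (iv F9019) D9005 (iv D5448)
theorem F15032 : act 5 n9005 = n6019 := d9_2 D5447 D9005 (iv D6019) (iv D3867) (iv F6225)
def n9006 : Q := act 6 n5447
theorem D9006 : act 6 n5447 = n9006 := rfl
def n9007 : Q := act 0 n5448
theorem D9007 : act 0 n5448 = n9007 := rfl
theorem F15036 : act 2 n9007 = n8773 := d1_2 (iv F9020) D9007 (iv D8773)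
theorem F15037 : act 5 n9007 = n6021 := d4_2 (iv F9021) D9007 (iv D6021)
def n9008 : Q := act 6 n5448
theorem D9008 : act 6 n5448 = n9008 := rfl
theorem F15038 : act 2 n9008 = n8774 := d14_1 D9008 (iv D8774) (iv F9020)
def n9011 : Q := act 2 n5459
theorem D9011 : act 2 n5459 = n9011 := rfl
def n9012 : Q := act 5 n5459
theorem D9012 : act 5 n5459 = n9012 := rfl
theorem F15041 : act 0 n9012 = n5658 := d4_1 D9012 (iv F13536) F13535
theorem F15042 : act 1 n9012 = n5465 := d9_1 D9012 (iv D5465) (iv D3599) (iv F6231) D5459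
theorem F15043 : act 6 n9012 = n5655 := d20_2 F9354 D9012 (iv F13477) (iv F13537) F13536 (iv D5658) D5657
def n9019 : Q := act 2 n5463
theorem D9019 : act 2 n5463 = n9019 := rfl
theorem F15052 : act 5 n9019 = n8390 := d13_2 (iv F9041) D9019 (iv D8390)
def n9020 : Q := act 1 n5464
theorem D9020 : act 1 n5464 = n9020 := rfl
theorem F15054 : act 0 n9020 = n5949 := d23_3 (iv D5465) D5464 D9020 (iv D5949) (iv F6619) (iv D3880) (iv F6613) F6615 F4902 F4077 (iv F4874) F4875 (iv F6498) D5918 (iv F14089) (iv D8389) F8568 D5103 (iv F9042)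
theorem F15055 : act 5 n5948 = n9020 := d4_0 F15054 (iv D5949) D5948
theorem F15056 : act 6 n8755 = n9020 := d22_3 (iv D5949) (iv F8856) D8755 F15054
def n9022 : Q := act 5 n5464
theorem D9022 : act 5 n5464 = n9022 := rfl
theorem F15058 : act 2 n9022 = n5465 := d13_1 D9022 (iv D5465) D5464
def n9039 : Q := act 2 n5475
theorem D9039 : act 2 n5475 = n9039 := rfl
theorem F15084 : act 0 n9039 = n5476 := d1_1 D9039 (iv D5476) D5475
def n9041 : Q := act 6 n5475
theorem D9041 : act 6 n5475 = n9041 := rfl
theorem F15089 : act 4 n9041 = n5523 := d19_1 D9041 (iv D5523) (iv F9056)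
def n9042 : Q := act 1 n5476
theorem D9042 : act 1 n5476 = n9042 := rfl
theorem F15090 : act 2 n9042 = n5479 := d6_2 D5476 D9042 (iv D5479) (iv D3606) D3605
def n9043 : Q := act 3 n5476
theorem D9043 : act 3 n5476 = n9043 := rfl
def n9044 : Q := act 5 n5476
theorem D9044 : act 5 n5476 = n9044 := rfl
theorem F15092 : act 2 n9044 = n5477 := d13_1 D9044 (iv D5477) D5476
def n9045 : Q := act 6 n5476
theorem D9045 : act 6 n5476 = n9045 := rfl
def n9047 : Q := act 1 n5478
theorem D9047 : act 1 n5478 = n9047 := rfl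
theorem F15098 : act 4 n9047 = n5529 := d8_2 (iv F9059) D9047 (iv D5529)
theorem F15099 : act 6 n9047 = n5482 := d10_2 D5478 D9047 (iv D5482) (iv D3607) D3605
def n9050 : Q := act 3 n5479
theorem D9050 : act 3 n5479 = n9050 := rfl
theorem F15104 : act 1 n9050 = n5480 := d7_1 D9050 (iv D5480) D5479
def n9053 : Q := act 2 n5480
theorem D9053 : act 2 n5480 = n9053 := rfl
theorem F15108 : act 3 n9053 = n7681 := d21_1 D9053 (iv D7681) (iv D4726) (iv D3241) F4450 D2646 D3608 (iv F9061)
def n9054 : Q := act 6 n5480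
theorem D9054 : act 6 n5480 = n9054 := rfl
theorem F15109 : act 0 n9054 = n5485 := d5_1 D9054 (iv D5485) (iv F9061)
theorem F15111 : act 5 n9054 = n8868 := d22_2 F14815 D9054 (iv D8868) (iv F14814)
def n9060 : Q := act 3 n5483
theorem D9060 : act 3 n5483 = n9060 := rfl
theorem F15118 : act 2 n9060 = n7678 := d11_1 D9060 (iv D7678) (iv D4724) F5696 D3606 D5480 D9053 F15108 (iv D7681) (iv D4726) (iv D3241) F4450 D2646 D3608 D5483
def n9061 : Q := act 4 n5483
theorem D9061 : act 4 n5483 = n9061 := rfl
theorem F15119 : act 2 n9061 = n5484 := d12_1 D9061 (iv D5484) D5483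
def n9062 : Q := act 6 n5483
theorem D9062 : act 6 n5483 = n9062 := rfl
theorem F15120 : act 2 n9062 = n5485 := d14_1 D9062 (iv D5485) D5483
def n9063 : Q := act 6 n5484
theorem D9063 : act 6 n5484 = n9063 := rfl
theorem F15122 : act 4 n9063 = n5485 := d19_1 D9063 (iv D5485) D5484
def n9064 : Q := act 1 n5485
theorem D9064 : act 1 n5485 = n9064 := rfl
def n9065 : Q := act 5 n5485
theorem D9065 : act 5 n5485 = n9065 := rfl
theorem F15126 : act 6 n9065 = n8865 := d20_2 D5485 D9065 F14815 D9054 F15111 (iv D8868) F8915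
def n9068 : Q := act 5 n5486
theorem D9068 : act 5 n5486 = n9068 := rfl
theorem F15130 : act 4 n9068 = n5543 := d18_1 D9068 (iv D5543) (iv F9069)
def n9070 : Q := act 1 n5488
theorem D9070 : act 1 n5488 = n9070 := rfl
theorem F15132 : act 4 n9070 = n5545 := d8_2 (iv F9074) D9070 (iv D5545)
def n9079 : Q := act 2 n5492
theorem D9079 : act 2 n5492 = n9079 := rfl
theorem F15146 : act 4 n9079 = n5554 := d12_2 (iv F9080) D9079 (iv D5554)
def n9081 : Q := act 6 n5492
theorem D9081 : act 6 n5492 = n9081 := rfl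
theorem F15148 : act 4 n9081 = n5556 := d19_1 D9081 (iv D5556) (iv F9080)
def n9082 : Q := act 1 n5493
theorem D9082 : act 1 n5493 = n9082 := rfl
theorem F15149 : act 4 n9082 = n5557 := d8_2 (iv F9082) D9082 (iv D5557)
def n9083 : Q := act 3 n5493
theorem D9083 : act 3 n5493 = n9083 := rfl
def n9084 : Q := act 5 n5493
theorem D9084 : act 5 n5493 = n9084 := rfl
theorem F15152 : act 2 n9084 = n5494 := d13_1 D9084 (iv D5494) D5493
def n9085 : Q := act 1 n5494
theorem D9085 : act 1 n5494 = n9085 := rfl
theorem F15155 : act 4 n9085 = n5560 := d8_2 (iv F9084) D9085 (iv D5560)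
def n9111 : Q := act 2 n5505
theorem D9111 : act 2 n5505 = n9111 := rfl
theorem F15198 : act 4 n9111 = n5585 := d12_2 (iv F9101) D9111 (iv D5585)
def n9112 : Q := act 6 n5505
theorem D9112 : act 6 n5505 = n9112 := rfl
theorem F15200 : act 4 n9112 = n5586 := d19_1 D9112 (iv D5586) (iv F9101)
def n9125 : Q := act 2 n5511
theorem D9125 : act 2 n5511 = n9125 := rfl
theorem F15219 : act 4 n9125 = n5595 := d12_2 (iv F9109) D9125 (iv D5595)
def n9126 : Q := act 3 n5512
theorem D9126 : act 3 n5512 = n9126 := rfl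
def n9127 : Q := act 6 n5512
theorem D9127 : act 6 n5512 = n9127 := rfl
theorem F15222 : act 2 n9127 = n5513 := d14_1 D9127 (iv D5513) D5512
def n9128 : Q := act 1 n5513
theorem D9128 : act 1 n5513 = n9128 := rfl
theorem F15224 : act 4 n9128 = n5598 := d8_2 (iv F9113) D9128 (iv D5598)
def n9133 : Q := act 2 n5515
theorem D9133 : act 2 n5515 = n9133 := rfl
def n9134 : Q := act 5 n5515
theorem D9134 : act 5 n5515 = n9134 := rfl
def n9145 : Q := act 1 n5520
theorem D9145 : act 1 n5520 = n9145 := rfl
theorem F15252 : act 4 n9145 = n5615 := d8_2 (iv F9125) D9145 (iv D5615)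
theorem F15253 : act 5 n9145 = n8305 := d9_2 D5520 D9145 (iv D8305) (iv D5060) (iv F6274)
def n9146 : Q := act 1 n5521
theorem D9146 : act 1 n5521 = n9146 := rfl
def n9148 : Q := act 5 n5521
theorem D9148 : act 5 n5521 = n9148 := rfl
theorem F15256 : act 2 n9148 = n5522 := d13_1 D9148 (iv D5522) D5521
def n9151 : Q := act 1 n5523
theorem D9151 : act 1 n5523 = n9151 := rfl
theorem F15262 : act 3 n9151 = n5621 := d7_2 (iv F9131) D9151 (iv D5621)
theorem F15263 : act 5 n8724 = n9151 := d16_0 F15262 F9307 (iv F14605)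
def n9152 : Q := act 0 n5524
theorem D9152 : act 0 n5524 = n9152 := rfl
theorem F15264 : act 2 n9152 = n5531 := d1_2 (iv F9132) D9152 (iv D5531)
theorem F15265 : act 3 n6395 = n9152 := d21_7 F9132 (iv F7392) F7391 F5393 (iv F5114) (iv F6955) D6395 (iv D9152)
theorem F15266 : act 1 n9152 = n9152 := d7_1 F15265 (iv F15265) F10509
theorem F15267 : act 0 n9146 = n9146 := d0_5 F15266 (iv D9152) (iv D5524) (iv F9127) D9146 (iv D9146) F9127 D5524 D9152
def n9153 : Q := act 3 n5524
theorem D9153 : act 3 n5524 = n9153 := rfl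
theorem F15268 : act 0 n9153 = n6395 := d2_1 D9153 F15265 (iv D9152)
theorem F15270 : act 2 n9153 = n6394 := d11_1 D9153 F10508 F6957 (iv F7481) (iv F11543) F11544 (iv F15264) (iv F15265) (iv D6395) F6955 F5114 (iv F5393) (iv F7391) F7392 (iv F9132)
def n9159 : Q := act 6 n5525
theorem D9159 : act 6 n5525 = n9159 := rfl
theorem F15274 : act 3 n9159 = n5527 := d17_1 D9159 (iv D5527) D5525
def n9164 : Q := act 1 n5528
theorem D9164 : act 1 n5528 = n9164 := rfl
theorem F15281 : act 5 n9164 = n8229 := d9_2 (iv F9136) D9164 (iv F14604) F15263 (iv D9151)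
theorem F15282 : act 0 n8231 = n9164 := d4_3 F15281 (iv D8229) D8231
def n9165 : Q := act 0 n5529
theorem D9165 : act 0 n5529 = n9165 := rfl
theorem F15284 : act 6 n9165 = n5535 := d5_2 (iv F9138) D9165 (iv D5535)
theorem F15285 : act 5 n9165 = n8242 := d22_0 (iv F13879) (iv D5537) (iv F9138) D9165
def n9167 : Q := act 5 n5529
theorem D9167 : act 5 n5529 = n9167 := rfl
def n9168 : Q := act 1 n5530
theorem D9168 : act 1 n5530 = n9168 := rfl
theorem F15289 : act 0 n9168 = n5586 := d0_1 D9168 F9200 (iv F8977) D8962 (iv F14956) F14081 F15282 (iv D9164) (iv F9139)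
def n9180 : Q := act 5 n5535
theorem D9180 : act 5 n5535 = n9180 := rfl
theorem F15306 : act 6 n9180 = n9167 := d20_2 F15284 D9180 (iv D9167) F9138 D5537 F13879 (iv F15285)
theorem F15307 : act 1 n5575 = n9180 := d24_14 F15306 (iv D9167) (iv D5529) (iv D3628) D3627 (iv F8938) D8905 F14879 (iv F14874) F14053 (iv D8352) F8544 D5569 (iv F9188)
def n9184 : Q := act 5 n5538
theorem D9184 : act 5 n5538 = n9184 := rfl
theorem F15313 : act 6 n9184 = n6944 := d20_2 D5538 D9184 F11403 D7028 (iv F14886) (iv D8910) F8941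
def n9191 : Q := act 5 n5541
theorem D9191 : act 5 n5541 = n9191 := rfl
theorem F15318 : act 0 n9191 = n5543 := d4_1 D9191 (iv D5543) D5541
theorem F15319 : act 6 n9191 = n8346 := d22_1 D9191 (iv D8346) F8539 D5541
def n9194 : Q := act 1 n5543
theorem D9194 : act 1 n5543 = n9194 := rfl
theorem F15322 : act 5 n9194 = n5544 := d9_2 D5543 D9194 (iv D5544) (iv D3635) D3634
def n9195 : Q := act 6 n5543
theorem D9195 : act 6 n5543 = n9195 := rfl
theorem F15323 : act 0 n9195 = n8346 := d5_1 D9195 (iv F15319) F15318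
theorem F15324 : act 5 n9195 = n8345 := d20_1 D9195 F14034 D9191 F15319 (iv D8346) F8539 D5543
def n9199 : Q := act 0 n5545
theorem D9199 : act 0 n5545 = n9199 := rfl
theorem F15327 : act 3 n9199 = n5655 := d2_2 (iv F9152) D9199 (iv D5655)
theorem F15328 : act 5 n8114 = n9199 := d16_0 F15327 (iv F13477) (iv F13526)
def n9201 : Q := act 5 n5545
theorem D9201 : act 5 n5545 = n9201 := rfl
theorem F15329 : act 0 n9201 = n8114 := d4_1 D9201 F15328 (iv D9199)
def n9202 : Q := act 6 n5545
theorem D9202 : act 6 n5545 = n9202 := rfl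
theorem F15332 : act 1 n9202 = n5556 := d10_1 D9202 (iv D5556) (iv D3640) (iv F6288) D5545
theorem F15333 : act 3 n9202 = n5658 := d17_1 D9202 (iv D5658) (iv F9152)
def n9204 : Q := act 3 n5546
theorem D9204 : act 3 n5546 = n9204 := rfl
theorem F15335 : act 6 n9204 = n5558 := d17_2 (iv F9154) D9204 (iv D5558)
def n9205 : Q := act 2 n5547
theorem D9205 : act 2 n5547 = n9205 := rfl
def n9207 : Q := act 5 n5547
theorem D9207 : act 5 n5547 = n9207 := rfl
theorem F15338 : act 3 n9207 = n5548 := d16_1 D9207 (iv D5548) D5547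
def n9209 : Q := act 0 n5549
theorem D9209 : act 0 n5549 = n9209 := rfl
theorem F15340 : act 5 n9209 = n5550 := d4_2 (iv F9158) D9209 (iv D5550)
theorem F15341 : act 1 n6078 = n9209 := d9_5 F15340 F13576 F13575 F9858 D6078
def n9211 : Q := act 6 n5549
theorem D9211 : act 6 n5549 = n9211 := rfl
def n9213 : Q := act 6 n5550
theorem D9213 : act 6 n5550 = n9213 := rfl
theorem F15349 : act 5 n9213 = n9211 := d22_2 F15340 D9213 (iv D9211) D9209
def n9216 : Q := act 5 n5552
theorem D9216 : act 5 n5552 = n9216 := rfl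
theorem F15353 : act 6 n9216 = n9209 := d20_2 D5552 D9216 F15340 D9213 F15349 (iv D9211) F9158
def n9217 : Q := act 2 n5553
theorem D9217 : act 2 n5553 = n9217 := rfl
theorem F15354 : act 0 n9217 = n5554 := d1_1 D9217 (iv D5554) D5553
def n9218 : Q := act 5 n5553
theorem D9218 : act 5 n5553 = n9218 := rfl
theorem F15355 : act 0 n9218 = n5555 := d4_1 D9218 (iv D5555) D5553
def n9219 : Q := act 6 n5553
theorem D9219 : act 6 n5553 = n9219 := rfl
theorem F15357 : act 0 n9219 = n5556 := d5_1 D9219 (iv D5556) D5553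
theorem F15359 : act 5 n9219 = n8728 := d22_2 (iv D9218) D9219 (iv F14611) (iv F15355)
theorem F15360 : act 1 n8723 = n9219 := d9_5 F15359 (iv D8728) (iv D5301) D5299 D8723
def n9220 : Q := act 1 n5554
theorem D9220 : act 1 n5554 = n9220 := rfl
theorem F15361 : act 2 n9220 = n5557 := d6_2 D5554 D9220 (iv D5557) (iv D3641) D3640
def n9221 : Q := act 3 n5554
theorem D9221 : act 3 n5554 = n9221 := rfl
def n9222 : Q := act 5 n5554
theorem D9222 : act 5 n5554 = n9222 := rfl
theorem F15362 : act 2 n9222 = n5555 := d13_1 D9222 (iv D5555) D5554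
def n9223 : Q := act 6 n5554
theorem D9223 : act 6 n5554 = n9223 := rfl
theorem F15363 : act 2 n9223 = n5556 := d14_1 D9223 (iv D5556) D5554
def n9225 : Q := act 5 n5556
theorem D9225 : act 5 n5556 = n9225 := rfl
theorem F15367 : act 0 n9225 = n8728 := d4_1 D9225 (iv F15359) F15357
theorem F15369 : act 6 n9225 = n9218 := d20_2 D5556 D9225 (iv D9218) D9219 F15359 (iv F14611) (iv D5555)
theorem F15370 : act 1 n9225 = n8140 := d24_2 D5556 D9225 (iv D8140) (iv F13523) (iv F14870) (iv F14882) (iv D8906) (iv F9160) (iv D5552) (iv F9158) (iv D5549) (iv F6296) (iv D3642) D3640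
def n9226 : Q := act 0 n5557
theorem D9226 : act 0 n5557 = n9226 := rfl
def n9228 : Q := act 5 n5557
theorem D9228 : act 5 n5557 = n9228 := rfl
def n9243 : Q := act 0 n5566
theorem D9243 : act 0 n5566 = n9243 := rfl
theorem F15386 : act 6 n9243 = n8380 := d5_2 (iv F9176) D9243 (iv D8380)
def n9245 : Q := act 5 n5566
theorem D9245 : act 5 n5566 = n9245 := rfl
theorem F15388 : act 1 n9245 = n9201 := d9_1 D9245 (iv D9201) (iv D5545) (iv F6300) D5566
theorem F15390 : act 6 n9245 = n8962 := d22_1 D9245 F14955 (iv F15386) (iv D9243)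
def n9250 : Q := act 1 n5568
theorem D9250 : act 1 n5568 = n9250 := rfl
theorem F15396 : act 3 n9250 = n5709 := d7_2 (iv F9179) D9250 (iv D5709)
theorem F15397 : act 6 n8710 = n9250 := d17_0 F15396 F9369 (iv F14587)
def n9267 : Q := act 1 n5576
theorem D9267 : act 1 n5576 = n9267 := rfl
theorem F15422 : act 3 n9267 = n5722 := d7_2 (iv F9190) D9267 (iv D5722)
theorem F15423 : act 6 n9267 = n8210 := d10_2 (iv F9191) D9267 (iv F14586) F15397 (iv D9250)
def n9305 : Q := act 5 n5594
theorem D9305 : act 5 n5594 = n9305 := rfl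
theorem F15468 : act 1 n9305 = n5604 := d9_1 D9305 (iv D5604) (iv D3662) (iv F6315) D5594
def n9313 : Q := act 0 n5598
theorem D9313 : act 0 n5598 = n9313 := rfl
theorem F15479 : act 6 n9313 = n5599 := d5_2 (iv F9216) D9313 (iv D5599)
theorem F15480 : act 1 n8906 = n9313 := d10_5 F15479 F13564 F13563 (iv F14870) (iv F14882)
def n9322 : Q := act 5 n5602
theorem D9322 : act 5 n5602 = n9322 := rfl
theorem F15495 : act 0 n9322 = n5604 := d4_1 D9322 (iv D5604) D5602
theorem F15496 : act 3 n9322 = n5747 := d16_1 D9322 (iv D5747) (iv F9221)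
theorem F15497 : act 6 n9322 = n8715 := d22_1 D9322 (iv F14594) (iv D5605) D5602
theorem F15498 : act 1 n8711 = n9322 := d10_5 F15497 (iv D8715) (iv D5295) D5293 D8711
def n9326 : Q := act 5 n5603
theorem D9326 : act 5 n5603 = n9326 := rfl
theorem F15502 : act 2 n9326 = n5604 := d13_1 D9326 (iv D5604) D5603
def n9345 : Q := act 5 n5613
theorem D9345 : act 5 n5613 = n9345 := rfl
theorem F15527 : act 2 n9345 = n8346 := d13_1 D9345 (iv D8346) (iv F9231)
def n9347 : Q := act 0 n5615
theorem D9347 : act 0 n5615 = n9347 := rfl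
theorem F15528 : act 3 n9347 = n5774 := d2_2 (iv F9236) D9347 (iv D5774)
def n9348 : Q := act 2 n5615
theorem D9348 : act 2 n5615 = n9348 := rfl
theorem F15530 : act 5 n9348 = n8349 := d13_2 (iv F9237) D9348 (iv D8349)
def n9357 : Q := act 2 n5621
theorem D9357 : act 2 n5621 = n9357 := rfl
theorem F15543 : act 5 n9357 = n8759 := d13_2 (iv F9307) D9357 F14663
def n9358 : Q := act 3 n5622
theorem D9358 : act 3 n5622 = n9358 := rfl
theorem F15547 : act 1 n9358 = n8453 := d7_1 D9358 (iv D8453) F11485
def n9360 : Q := act 6 n5622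
theorem D9360 : act 6 n5622 = n9360 := rfl
theorem F15551 : act 2 n9360 = n5640 := d14_1 D9360 (iv D5640) (iv F9245)
def n9368 : Q := act 5 n5625
theorem D9368 : act 5 n5625 = n9368 := rfl
theorem F15560 : act 2 n9368 = n5643 := d13_1 D9368 (iv D5643) (iv F9248)
def n9381 : Q := act 6 n5630
theorem D9381 : act 6 n5630 = n9381 := rfl
theorem F15577 : act 4 n9381 = n8975 := d19_1 D9381 F14977 F12949
theorem F15578 : act 1 n7561 = n9381 := d8_3 F15577 (iv D8975) (iv F12521)
def n9382 : Q := act 1 n5631
theorem D9382 : act 1 n5631 = n9382 := rfl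
theorem F15580 : act 6 n9382 = n7561 := d10_2 D5631 D9382 F15578 (iv D9381) (iv D5630)
theorem F15581 : act 2 n7563 = n9382 := d14_3 F15580 F12520 D7563
def n9385 : Q := act 5 n5632
theorem D9385 : act 5 n5632 = n9385 := rfl
def n9386 : Q := act 1 n5633
theorem D9386 : act 1 n5633 = n9386 := rfl
def n9387 : Q := act 2 n5634
theorem D9387 : act 2 n5634 = n9387 := rfl
theorem F15583 : act 0 n9387 = n8277 := d1_1 D9387 F13933 (iv F9306)
theorem F15584 : act 1 n9387 = n7563 := d6_1 D9387 F15581 (iv D9382) F9251 D5634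
def n9388 : Q := act 2 n5635
theorem D9388 : act 2 n5635 = n9388 := rfl
theorem F15589 : act 4 n9388 = n8467 := d12_2 F12961 D9388 (iv F14218)
theorem F15591 : act 6 n9388 = n5648 := d14_2 (iv F9256) D9388 (iv D5648)
theorem F15592 : act 1 n7375 = n9388 := d8_3 F15589 (iv D8467) (iv F12197)
def n9389 : Q := act 3 n5636
theorem D9389 : act 3 n5636 = n9389 := rfl
theorem F15593 : act 6 n9389 = n5650 := d17_2 (iv F9258) D9389 (iv D5650)
def n9391 : Q := act 2 n5638
theorem D9391 : act 2 n5638 = n9391 := rfl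
theorem F15597 : act 6 n9391 = n5724 := d14_2 F9359 D9391 (iv D5724)
def n9392 : Q := act 1 n5640
theorem D9392 : act 1 n5640 = n9392 := rfl
theorem F15599 : act 5 n9392 = n6922 := d9_2 F9265 D9392 F11359 D6963 F11425
theorem F15600 : act 6 n9392 = n6986 := d10_2 D5640 D9392 (iv D6986) (iv D4371) (iv F6339)
theorem F15601 : act 2 n7401 = n9392 := d14_3 F15600 (iv F13088) (iv F12972)
theorem F15602 : act 0 n9392 = n6924 := d22_4 (iv D6924) (iv F11301) (iv F11466) (iv F15600)
theorem F15603 : act 4 n9392 = n8594 := d12_2 (iv F12247) F15601 F14382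
theorem F15604 : act 1 n8594 = n6315 := d8_1 F15603 F10353 D9392
def n9394 : Q := act 2 n5644
theorem D9394 : act 2 n5644 = n9394 := rfl
theorem F15606 : act 0 n9394 = n5645 := d1_1 D9394 (iv D5645) D5644
def n9395 : Q := act 3 n5645
theorem D9395 : act 3 n5645 = n9395 := rfl
theorem F15608 : act 1 n9395 = n5650 := d7_1 D9395 (iv D5650) (iv F9272)
def n9396 : Q := act 5 n5645
theorem D9396 : act 5 n5645 = n9396 := rfl
theorem F15610 : act 2 n9396 = n5646 := d13_1 D9396 (iv D5646) D5645
theorem F15611 : act 6 n6971 = n9396 := d14_0 F15610 (iv F9741) D6971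
def n9397 : Q := act 2 n5647
theorem D9397 : act 2 n5647 = n9397 := rfl
theorem F15613 : act 6 n9397 = n8594 := d14_2 F9368 D9397 F14382
theorem F15614 : act 1 n6856 = n9397 := d10_5 F15613 F15604 (iv D6315) (iv F7289) D6856
def n9398 : Q := act 1 n5648
theorem D9398 : act 1 n5648 = n9398 := rfl
theorem F15617 : act 6 n9398 = n6854 := d10_2 F15591 D9398 (iv F11482) D7375 F15592
theorem F15618 : act 0 n6860 = n9398 := d5_3 F15617 F11206 D6860
def n9400 : Q := act 5 n5648
theorem D9400 : act 5 n5648 = n9400 := rfl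
theorem F15621 : act 2 n9400 = n5649 := d13_1 D9400 (iv D5649) D5648
def n9409 : Q := act 2 n5655
theorem D9409 : act 2 n5655 = n9409 := rfl
theorem F15632 : act 0 n9409 = n5656 := d1_1 D9409 (iv D5656) D5655
theorem F15633 : act 5 n9409 = n8121 := d13_2 F13477 D9409 (iv D8121)
def n9410 : Q := act 1 n5656
theorem D9410 : act 1 n5656 = n9410 := rfl
theorem F15634 : act 2 n9410 = n5659 := d6_2 D5656 D9410 (iv D5659) (iv D3687) D3686
def n9412 : Q := act 5 n5656
theorem D9412 : act 5 n5656 = n9412 := rfl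
theorem F15635 : act 0 n9412 = n8121 := d4_1 D9412 (iv F15633) F15632
theorem F15636 : act 2 n9412 = n5657 := d13_1 D9412 (iv D5657) D5656
theorem F15637 : act 6 n9011 = n9412 := d14_0 F15636 F9354 D9011
def n9413 : Q := act 6 n5656
theorem D9413 : act 6 n5656 = n9413 := rfl
theorem F15638 : act 2 n9413 = n5658 := d14_1 D9413 (iv D5658) D5656
def n9414 : Q := act 0 n5659
theorem D9414 : act 0 n5659 = n9414 := rfl
def n9416 : Q := act 5 n5659
theorem D9416 : act 5 n5659 = n9416 := rfl
def n9417 : Q := act 6 n5659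
theorem D9417 : act 6 n5659 = n9417 := rfl
theorem F15640 : act 1 n9417 = n5686 := d10_1 D9417 (iv D5686) (iv D3698) (iv F6347) D5659
def n9418 : Q := act 2 n5660
theorem D9418 : act 2 n5660 = n9418 := rfl
theorem F15643 : act 3 n9418 = n9205 := d21_1 D9418 (iv D9205) (iv D5547) (iv D3637) F4744 D2682 D3688 (iv F9285)
def n9419 : Q := act 4 n5660
theorem D9419 : act 4 n5660 = n9419 := rfl
theorem F15644 : act 0 n9419 = n5662 := d3_1 D9419 (iv D5662) (iv F9285)
theorem F15645 : act 6 n9419 = n5688 := d19_2 (iv F9286) D9419 (iv D5688)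
def n9421 : Q := act 3 n5661
theorem D9421 : act 3 n5661 = n9421 := rfl
theorem F15647 : act 2 n9421 = n9204 := d11_1 D9421 (iv D9204) (iv D5546) F6287 D3687 D5660 D9418 F15643 (iv D9205) (iv D5547) (iv D3637) F4744 D2682 D3688 D5661
theorem F15648 : act 6 n9421 = n5693 := d17_2 (iv F9287) D9421 (iv D5693)
def n9422 : Q := act 4 n5661
theorem D9422 : act 4 n5661 = n9422 := rfl
theorem F15649 : act 2 n9422 = n5662 := d12_1 D9422 (iv D5662) D5661
def n9424 : Q := act 5 n5662
theorem D9424 : act 5 n5662 = n9424 := rfl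
def n9425 : Q := act 1 n5663
theorem D9425 : act 1 n5663 = n9425 := rfl
theorem F15653 : act 3 n9425 = n5664 := d7_2 (iv F9289) D9425 (iv D5664)
def n9426 : Q := act 0 n5664
theorem D9426 : act 0 n5664 = n9426 := rfl
def n9427 : Q := act 2 n5664
theorem D9427 : act 2 n5664 = n9427 := rfl
theorem F15654 : act 1 n9427 = n5666 := d6_1 D9427 (iv D5666) (iv D3690) (iv F6349) D5664
def n9428 : Q := act 6 n5664
theorem D9428 : act 6 n5664 = n9428 := rfl
def n9440 : Q := act 5 n5678
theorem D9440 : act 5 n5678 = n9440 := rfl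
theorem F15669 : act 0 n9440 = n7759 := d4_1 D9440 (iv D7759) (iv F13638)
def n9442 : Q := act 1 n5679
theorem D9442 : act 1 n5679 = n9442 := rfl
theorem F15675 : act 6 n9442 = n7221 := d10_2 (iv F13641) D9442 (iv D7221) D7223 (iv F13033)
theorem F15676 : act 0 n7894 = n9442 := d5_3 F15675 (iv F12349) F13081
def n9446 : Q := act 5 n5684
theorem D9446 : act 5 n5684 = n9446 := rfl
theorem F15681 : act 3 n9446 = n5685 := d16_1 D9446 (iv D5685) D5684
def n9447 : Q := act 6 n5684
theorem D9447 : act 6 n5684 = n9447 := rfl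
theorem F15682 : act 3 n9447 = n5686 := d17_1 D9447 (iv D5686) D5684
def n9449 : Q := act 6 n5685
theorem D9449 : act 6 n5685 = n9449 := rfl
theorem F15686 : act 5 n9449 = n7934 := d22_2 D5685 D9449 (iv D7934) F13646
def n9452 : Q := act 4 n5687
theorem D9452 : act 4 n5687 = n9452 := rfl
theorem F15691 : act 0 n9452 = n5694 := d3_1 D9452 (iv D5694) (iv F9330)
def n9454 : Q := act 5 n5688
theorem D9454 : act 5 n5688 = n9454 := rfl
theorem F15697 : act 0 n9454 = n5696 := d4_1 D9454 (iv D5696) (iv F9332)
theorem F15699 : act 6 n9454 = n9424 := d22_1 D9454 (iv D9424) F9288 (iv F9332)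
def n9472 : Q := act 6 n5696
theorem D9472 : act 6 n5696 = n9472 := rfl
theorem F15725 : act 4 n9472 = n5698 := d19_1 D9472 (iv D5698) (iv F9341)
theorem F15726 : act 5 n9472 = n9419 := d20_1 D9472 F15645 D9454 F15699 (iv D9424) F9288 D5696
def n9479 : Q := act 0 n5701
theorem D9479 : act 0 n5701 = n9479 := rfl
def n9480 : Q := act 2 n5701
theorem D9480 : act 2 n5701 = n9480 := rfl
theorem F15733 : act 1 n9480 = n5703 := d6_1 D9480 (iv D5703) (iv D3707) (iv F6361) D5701
def n9484 : Q := act 5 n5703
theorem D9484 : act 5 n5703 = n9484 := rfl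
theorem F15738 : act 2 n9484 = n5704 := d13_1 D9484 (iv D5704) D5703
def n9491 : Q := act 2 n5709
theorem D9491 : act 2 n5709 = n9491 := rfl
theorem F15750 : act 6 n9491 = n8737 := d14_2 (iv F9369) D9491 F14624
def n9492 : Q := act 2 n5710
theorem D9492 : act 2 n5710 = n9492 := rfl
theorem F15754 : act 5 n9492 = n9397 := d13_2 (iv F9366) D9492 (iv D9397)
theorem F15755 : act 6 n9492 = n6793 := d14_2 (iv F9367) D9492 (iv F11312)
def n9508 : Q := act 1 n5718
theorem D9508 : act 1 n5718 = n9508 := rfl
theorem F15777 : act 2 n9508 = n5876 := d6_2 (iv F9378) D9508 (iv F9631) F10191 (iv D5722)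
theorem F15778 : act 5 n9508 = n5875 := d9_2 D5718 D9508 F9606 (iv F10213) (iv D5717)
def n9509 : Q := act 2 n5719
theorem D9509 : act 2 n5719 = n9509 := rfl
theorem F15780 : act 1 n9509 = n5811 := d6_1 D9509 F9495 D8506 (iv F14524) F14522
theorem F15781 : act 5 n9509 = n5724 := d13_2 (iv F9380) D9509 (iv D5724)
def n9519 : Q := act 2 n5727
theorem D9519 : act 2 n5727 = n9519 := rfl
theorem F15795 : act 0 n9519 = n5728 := d1_1 D9519 (iv D5728) D5727
theorem F15797 : act 5 n9519 = n6548 := d13_2 F14998 D9519 (iv F14996)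
def n9522 : Q := act 5 n5728
theorem D9522 : act 5 n5728 = n9522 := rfl
theorem F15801 : act 0 n9522 = n6548 := d4_1 D9522 (iv F15797) F15795
theorem F15802 : act 2 n9522 = n5729 := d13_1 D9522 (iv D5729) D5728
theorem F15803 : act 4 n9522 = n6734 := d18_1 D9522 F13132 F13131
def n9523 : Q := act 6 n5728
theorem D9523 : act 6 n5728 = n9523 := rfl
theorem F15805 : act 2 n9523 = n5730 := d14_1 D9523 (iv D5730) D5728
theorem F15806 : act 5 n9523 = n8983 := d22_2 (iv D9522) D9523 (iv F14993) (iv F15801)
def n9527 : Q := act 6 n5731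
theorem D9527 : act 6 n5731 = n9527 := rfl
def n9551 : Q := act 5 n5750
theorem D9551 : act 5 n5750 = n9551 := rfl
theorem F15839 : act 3 n9551 = n5751 := d16_1 D9551 (iv D5751) D5750
def n9553 : Q := act 1 n5751
theorem D9553 : act 1 n5751 = n9553 := rfl
def n9592 : Q := act 1 n5770
theorem D9592 : act 1 n5770 = n9592 := rfl
def n9597 : Q := act 6 n5773
theorem D9597 : act 6 n5773 = n9597 := rfl
theorem F15898 : act 1 n9597 = n9527 := d10_1 D9597 (iv D9527) (iv D5731) (iv F6395) D5773
def n9601 : Q := act 3 n5777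
theorem D9601 : act 3 n5777 = n9601 := rfl
theorem F15904 : act 1 n9601 = n5778 := d7_1 D9601 (iv D5778) D5777
def n9631 : Q := act 6 n5792
theorem D9631 : act 6 n5792 = n9631 := rfl
theorem F15935 : act 4 n9631 = n5795 := d19_1 D9631 (iv D5795) (iv F9471)
def n9632 : Q := act 1 n5793
theorem D9632 : act 1 n5793 = n9632 := rfl
theorem F15936 : act 3 n9632 = n5796 := d7_2 (iv F9472) D9632 (iv D5796)
def n9633 : Q := act 2 n5793
theorem D9633 : act 2 n5793 = n9633 := rfl
def n9634 : Q := act 6 n5793
theorem D9634 : act 6 n5793 = n9634 := rfl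
theorem F15939 : act 3 n9634 = n5797 := d17_1 D9634 (iv D5797) (iv F9472)
def n9635 : Q := act 3 n5794
theorem D9635 : act 3 n5794 = n9635 := rfl
def n9636 : Q := act 6 n5794
theorem D9636 : act 6 n5794 = n9636 := rfl
theorem F15941 : act 2 n9636 = n5795 := d14_1 D9636 (iv D5795) D5794
def n9638 : Q := act 0 n5796
theorem D9638 : act 0 n5796 = n9638 := rfl
theorem F15945 : act 1 n9638 = n8502 := d0_2 D5796 D9638 (iv D8502) (iv D5170) (iv D3460) (iv D2572) (iv F4013) D2711 D3751
def n9639 : Q := act 2 n5796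
theorem D9639 : act 2 n5796 = n9639 := rfl
theorem F15946 : act 1 n9639 = n6743 := d6_1 D9639 (iv D6743) (iv D4240) (iv F6406) D5796
def n9640 : Q := act 5 n5796
theorem D9640 : act 5 n5796 = n9640 := rfl
def n9641 : Q := act 6 n5796
theorem D9641 : act 6 n5796 = n9641 := rfl
def n9664 : Q := act 2 n5807
theorem D9664 : act 2 n5807 = n9664 := rfl
theorem F15979 : act 0 n9664 = n5808 := d1_1 D9664 (iv D5808) D5807
def n9670 : Q := act 2 n5810
theorem D9670 : act 2 n5810 = n9670 := rfl
theorem F15987 : act 1 n9670 = n8503 := d6_1 D9670 (iv D8503) (iv D5170) (iv F6416) D5810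
def n9737 : Q := act 3 n5843
theorem D9737 : act 3 n5843 = n9737 := rfl
theorem F16077 : act 1 n9737 = n7946 := d7_1 D9737 (iv D7946) (iv F9551)
def n9739 : Q := act 5 n5843
theorem D9739 : act 5 n5843 = n9739 := rfl
def n9787 : Q := act 0 n5869
theorem D9787 : act 0 n5869 = n9787 := rfl
theorem F16167 : act 3 n9787 = n5871 := d2_2 (iv F9603) D9787 (iv D5871)
def n9796 : Q := act 5 n5873
theorem D9796 : act 5 n5873 = n9796 := rfl
theorem F16178 : act 1 n9796 = n6321 := d9_1 D9796 (iv D6321) D6320 F10363 F9641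
theorem F16180 : act 6 n9796 = n6095 := d20_2 D5873 D9796 F9892 F11155 (iv F11154) (iv D6097) F6687
def n9797 : Q := act 2 n5874
theorem D9797 : act 2 n5874 = n9797 := rfl
theorem F16181 : act 0 n9797 = n5875 := d1_1 D9797 (iv D5875) D5874
theorem F16182 : act 1 n9797 = n6425 := d6_1 D9797 (iv D6425) D6424 F13683 (iv F11300)
def n9798 : Q := act 5 n5874
theorem D9798 : act 5 n5874 = n9798 := rfl
theorem F16186 : act 6 n9798 = n6100 := d22_1 D9798 (iv D6100) F6689 D5874
def n9801 : Q := act 1 n5877
theorem D9801 : act 1 n5877 = n9801 := rfl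
theorem F16192 : act 2 n9801 = n6342 := d6_2 D5877 D9801 (iv D6342) F6881 (iv F6528)
def n9802 : Q := act 3 n5877
theorem D9802 : act 3 n5877 = n9802 := rfl
theorem F16195 : act 6 n9802 = n8022 := d17_2 (iv F9608) D9802 (iv D8022)
def n9803 : Q := act 2 n5878
theorem D9803 : act 2 n5878 = n9803 := rfl
def n9805 : Q := act 6 n5878
theorem D9805 : act 6 n5878 = n9805 := rfl
theorem F16197 : act 3 n9805 = n5879 := d17_1 D9805 (iv D5879) D5878
theorem F16198 : act 5 n5931 = n9805 := d16_0 F16197 (iv F9611) D5931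
def n9817 : Q := act 6 n5884
theorem D9817 : act 6 n5884 = n9817 := rfl
theorem F16210 : act 0 n9817 = n5886 := d5_1 D9817 (iv D5886) D5884
theorem F16211 : act 3 n9817 = n5894 := d17_1 D9817 (iv D5894) (iv F9616)
theorem F16213 : act 1 n6782 = n9817 := d7_3 F16211 F10131 (iv F11055)
def n9820 : Q := act 1 n5886
theorem D9820 : act 1 n5886 = n9820 := rfl
theorem F16215 : act 0 n9820 = n6808 := d0_1 D9820 (iv D6808) (iv D4271) (iv D3010) (iv F5264) D4258 D6782 F16213 F16210
theorem F16217 : act 6 n9820 = n5887 := d10_2 D5886 D9820 (iv D5887) (iv D3800) D3799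
def n9822 : Q := act 0 n5887
theorem D9822 : act 0 n5887 = n9822 := rfl
theorem F16224 : act 3 n9822 = n5899 := d2_2 (iv F9618) D9822 (iv D5899)
theorem F16225 : act 6 n9822 = n6808 := d5_2 F16217 D9822 (iv F16215)
def n9824 : Q := act 5 n5887
theorem D9824 : act 5 n5887 = n9824 := rfl
theorem F16227 : act 3 n9824 = n5901 := d16_1 D9824 (iv D5901) (iv F9618)
def n9834 : Q := act 6 n5892
theorem D9834 : act 6 n5892 = n9834 := rfl
theorem F16244 : act 1 n9834 = n6789 := d10_1 D9834 (iv D6789) (iv F10131) (iv D5894) D5892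
theorem F16245 : act 2 n9834 = n6695 := d14_1 D9834 (iv D6695) (iv F11629)
theorem F16247 : act 5 n9834 = n6332 := d22_2 (iv F11631) D9834 (iv D6332) F10025
def n9835 : Q := act 1 n5893
theorem D9835 : act 1 n5893 = n9835 := rfl
theorem F16248 : act 0 n9835 = n7143 := d0_1 D9835 (iv D7143) F7496 D4455 (iv F9644) (iv D5913) F6495 (iv F6493) (iv F9622)
theorem F16249 : act 2 n9835 = n6596 := d6_2 D5893 D9835 F10815 (iv F11629) (iv D5892)
def n9837 : Q := act 6 n5893
theorem D9837 : act 6 n5893 = n9837 := rfl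
theorem F16252 : act 0 n9837 = n5896 := d5_1 D9837 (iv D5896) (iv F9622)
theorem F16255 : act 5 n9837 = n8607 := d22_2 F14407 D9837 (iv D8607) (iv F14406)
def n9840 : Q := act 6 n5895
theorem D9840 : act 6 n5895 = n9840 := rfl
theorem F16257 : act 3 n9840 = n5896 := d17_1 D9840 (iv D5896) D5895
theorem F16258 : act 1 n8386 = n9840 := d7_3 F16257 F10141 (iv F14087)
def n9841 : Q := act 5 n5896
theorem D9841 : act 5 n5896 = n9841 := rfl
theorem F16259 : act 0 n9841 = n8607 := d4_1 D9841 (iv F16255) F16252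
theorem F16260 : act 1 n9841 = n7004 := d9_1 D9841 (iv D7004) F11471 D5100 (iv F10141)
theorem F16263 : act 6 n6949 = n5949 := d24_9 D5896 D9841 F16260 (iv F11521) (iv D7012) D7011 F11519 D7017 F11528 (iv D5949) (iv D3831) (iv D2760) (iv F4870) (iv F6493)
theorem E1734 : n8754 = n4346 := (c20_7 F16263 (iv D5949) (iv F8856) D8755 F15056 (iv F15055) (iv F14652) D6949)
theorem E1737 : n6603 = n5948 := (((iv F10822)).symm.trans (sb E1734 F14652))
theorem F16268 : act 1 n5948 = n4176 := (sb E1737 (iv D6603))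
theorem E1738 : n9022 = n6704 := ((c9_4 (iv F15055) F16268 (iv F7181) D6704 (iv D9022) D9020)).symm
theorem F16275 : act 2 n6704 = n5465 := (sb E1738 F15058)
theorem E1739 : n9012 = n6706 := (c6_2 F16275 (iv F15042) (iv D6706) (iv D4221) (iv F7180) D6704)
theorem F16279 : act 0 n6706 = n5658 := (sb E1739 F15041)
theorem F16280 : act 1 n6706 = n5465 := (sb E1739 F15042)
theorem F16282 : act 6 n6706 = n5655 := (sb E1739 F15043)
theorem E1740 : n6716 = n4911 := (c23_8 D5465 (iv F16275) (iv D6704) F7179 D4225 F7185 D4228 D6716 (iv F12384) (iv F12551) (iv D7576) (iv F12544) (iv D7572) (iv D4670) D4669 D7569 (iv F15006) (iv D8991) (iv F9040) (iv D5463))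
theorem E1741 : n8051 = n4228 := ((D8051).symm.trans (sb E1740 (iv D6716)))
theorem F16283 : act 0 n4228 = n4911 := (sb E1741 (iv D8051))
theorem E1742 : n8067 = n6717 := (((D6717).symm.trans (sb E1741 (iv F13422)))).symm
theorem E1743 : n6540 = n5969 := (((iv F10738)).symm.trans (sb E1741 F13399))
theorem F16284 : act 0 n6717 = n4919 := (sb E1742 (iv D8067))
theorem F16285 : act 4 n6717 = n6021 := (sb E1742 F13423)
theorem F16286 : act 1 n5969 = n4141 := (sb E1743 (iv D6540))
theorem F16287 : act 4 n5969 = n4228 := (sb E1743 F10738)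
theorem F16288 : act 4 n6715 = n8773 := d18_3 F14691 F16287 (iv F10963)
theorem F16289 : act 0 n7469 = n6715 := d3_3 F16288 (iv D8773) (iv F12383)
theorem F16290 : act 1 n8773 = n6539 := d8_1 F16288 F10737 D6715
theorem F16291 : act 0 n6724 = n8157 := d0_5 D7469 F16289 (iv D6715) (iv F7190) D6724 (iv D8157) (iv F13583) F13586 F12374
theorem F16292 : act 0 n8049 = n6662 := d2_3 F10897 F16283 (iv F13395)
theorem F16293 : act 0 n8052 = n6718 := d5_3 (iv D6718) F16283 D8052
theorem E1744 : n9409 = n6696 := (c14_2 F16282 D9409 F10944 D6706)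
theorem F16294 : act 0 n6696 = n5656 := (sb E1744 F15632)
theorem F16296 : act 5 n6696 = n8121 := (sb E1744 F15633)
theorem E1745 : n9011 = n6707 := ((c22_3 (iv F16296) F10944 D6707 F15637 F15635)).symm
theorem F16298 : act 6 n6707 = n9412 := (sb E1745 F15637)
theorem E1746 : n9413 = n6705 := (c22_4 D6707 F16298 (iv D9412) D9413 (iv D6705))
theorem F16299 : act 2 n6705 = n5658 := (sb E1746 F15638)
theorem F16300 : act 6 n6705 = n5656 := (sb E1746 (iv D9413))
theorem F16304 : act 1 n8023 = n8607 := d0_8 F16260 F11510 F7788 F7785 F5566 (iv F5860) D4897 D8023 (iv F16259)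
theorem F16305 : act 6 n8661 = n8023 := d10_0 F16304 (iv D8607) F8737 D5260 D8661
def n9842 : Q := act 3 n5900
theorem D9842 : act 3 n5900 = n9842 := rfl
theorem F16307 : act 1 n9842 = n5920 := d7_1 D9842 (iv D5920) (iv F9630)
theorem F16308 : act 5 n9842 = n9267 := d16_2 F10190 D9842 F15422
def n9844 : Q := act 5 n5903
theorem D9844 : act 5 n5903 = n9844 := rfl
theorem F16312 : act 0 n9844 = n5906 := d4_1 D9844 (iv D5906) (iv F9632)
theorem F16313 : act 2 n9844 = n5904 := d13_1 D9844 (iv D5904) D5903
theorem F16314 : act 6 n9844 = n8612 := d22_1 D9844 (iv D8612) F8741 (iv F9632)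
theorem F16315 : act 1 n7071 = n9844 := d23_2 (iv F11355) (iv F11644) F16312 (iv D5906) (iv D3808) (iv D2746) (iv F4860) (iv F4865) F4864 D2751 F6503 (iv D2804) D2803 (iv F6662) (iv F10169) D4955 F10193 F11649 F11646
def n9845 : Q := act 1 n5904
theorem D9845 : act 1 n5904 = n9845 := rfl
theorem F16316 : act 0 n9845 = n6323 := d0_1 D9845 (iv D6323) (iv D4026) (iv D2872) (iv F5023) D4025 F10365 (iv D5907) (iv F9633)
theorem F16317 : act 2 n9845 = n7073 := d6_2 F16313 D9845 (iv D7073) (iv F11644) F16315
theorem F16318 : act 4 n9845 = n6910 := d8_2 (iv F11296) D9845 F11326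
theorem F16320 : act 6 n7081 = n9845 := d14_0 F16317 F11652 D7081
def n9847 : Q := act 4 n5905
theorem D9847 : act 4 n5905 = n9847 := rfl
theorem F16321 : act 1 n9847 = n5924 := d8_1 D9847 (iv D5924) (iv F9635)
def n9849 : Q := act 1 n5906
theorem D9849 : act 1 n5906 = n9849 := rfl
theorem F16323 : act 5 n9849 = n5926 := d9_2 D5906 D9849 (iv D5926) (iv D3819) (iv F6494)
def n9851 : Q := act 2 n5907
theorem D9851 : act 2 n5907 = n9851 := rfl
theorem F16327 : act 0 n9851 = n6322 := d1_1 D9851 (iv D6322) F10365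
theorem F16328 : act 4 n9851 = n9394 := d12_2 (iv F10366) D9851 (iv D9394)
theorem F16329 : act 5 n9851 = n5910 := d13_2 (iv F9637) D9851 (iv D5910)
theorem F16330 : act 6 n8429 = n9851 := d24_0 F16329 F9640 (iv F6903) (iv F9643) F11776 (iv F11789) (iv D7157) F7511 (iv D3745) D3744 F6398 D5172 F8641 D8429
theorem F16331 : act 1 n9851 = n8505 := d10_1 F16330 (iv D8505) (iv D5170) (iv F8593) D8429
theorem F16332 : act 2 n8505 = n9849 := d6_2 D9851 F16331 (iv D9849) F9636 D5907
theorem F16333 : act 6 n9849 = n8503 := d14_2 D8505 F16332 (iv D8503)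
def n9854 : Q := act 2 n5909
theorem D9854 : act 2 n5909 = n9854 := rfl
theorem F16341 : act 0 n9854 = n5910 := d1_1 D9854 (iv D5910) D5909
theorem F16343 : act 5 n9854 = n6322 := d13_2 (iv F10364) D9854 (iv D6322)
def n9857 : Q := act 3 n5912
theorem D9857 : act 3 n5912 = n9857 := rfl
theorem F16346 : act 0 n9857 = n6352 := d2_1 D9857 (iv D6352) (iv F9642)
theorem F16347 : act 5 n9857 = n6355 := d16_2 (iv F9643) D9857 (iv D6355)
def n9858 : Q := act 3 n5913
theorem D9858 : act 3 n5913 = n9858 := rfl
theorem F16348 : act 0 n9858 = n7136 := d2_1 D9858 F11753 (iv F9644)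
theorem F16349 : act 1 n9858 = n5914 := d7_1 D9858 (iv D5914) D5913
theorem F16350 : act 5 n9858 = n7138 := d16_2 F9645 D9858 F11758
def n9860 : Q := act 4 n5914
theorem D9860 : act 4 n5914 = n9860 := rfl
theorem F16355 : act 5 n9860 = n5938 := d18_2 (iv F9647) D9860 (iv D5938)
def n9866 : Q := act 1 n5917
theorem D9866 : act 1 n5917 = n9866 := rfl
theorem F16363 : act 3 n9866 = n5918 := d7_2 (iv F9650) D9866 (iv D5918)
theorem F16364 : act 6 n9866 = n8386 := d10_2 D5917 D9866 F16258 (iv D9840) F9625
def n9867 : Q := act 2 n5920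
theorem D9867 : act 2 n5920 = n9867 := rfl
theorem F16365 : act 5 n9867 = n8936 := d13_2 F10153 D9867 F14924
def n9869 : Q := act 2 n5922
theorem D9869 : act 2 n5922 = n9869 := rfl
theorem F16369 : act 4 n9869 = n8682 := d12_2 (iv F13735) D9869 (iv D8682)
theorem F16370 : act 6 n9869 = n5958 := d14_2 (iv F9655) D9869 (iv D5958)
def n9874 : Q := act 0 n5926
theorem D9874 : act 0 n5926 = n9874 := rfl
def n9876 : Q := act 6 n5926
theorem D9876 : act 6 n5926 = n9876 := rfl
theorem F16380 : act 4 n9876 = n6744 := d19_1 D9876 (iv F13607) F13354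
theorem F16381 : act 5 n6552 = n9876 := d18_0 F16380 (iv D6744) (iv F10758)
theorem F16382 : act 0 n8503 = n6552 := d22_4 F16381 (iv D9876) (iv F16323) F16333
theorem F16383 : act 0 n6541 = n9670 := d0_9 F15987 F16382 (iv D6552) (iv D4148) (iv D2946) F4206 D2943 D4142 D6541
theorem F16385 : act 4 n6742 = n8503 := d3_0 F16382 F10758 D6742
theorem F16387 : act 2 n7386 = n6742 := d12_3 F16385 (iv D8503) (iv F12214)
theorem F16388 : act 0 n6743 = n7386 := d1_3 F16387 (iv D6742) D6743
theorem F16394 : act 0 n7972 = n9639 := d0_9 F15946 F16388 (iv D7386) (iv D4577) (iv D3163) (iv F4501) D3302 D4863 D7972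
theorem F16395 : act 4 n8502 = n6743 := d3_0 F16388 F12214 D8502
theorem F16396 : act 4 n9639 = n9638 := d8_2 F16395 (iv F15946) F15945
theorem F16397 : act 2 n9638 = n7972 := d12_1 F16396 F13258 D9639
def n9877 : Q := act 3 n5927
theorem D9877 : act 3 n5927 = n9877 := rfl
theorem F16398 : act 5 n9877 = n5928 := d16_2 (iv F9659) D9877 (iv D5928)
theorem F16399 : act 6 n9877 = n6352 := d17_2 (iv F9660) D9877 (iv D6352)
def n9880 : Q := act 1 n5929
theorem D9880 : act 1 n5929 = n9880 := rfl
theorem F16400 : act 0 n9880 = n8963 := d0_1 D9880 (iv D8963) F8980 D5423 D8967 (iv F14966) F10043 (iv D5930) (iv F9661)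
theorem F16401 : act 2 n9880 = n5972 := d6_2 D5929 D9880 (iv D5972) (iv D3844) (iv F6532)
def n9881 : Q := act 3 n5929
theorem D9881 : act 3 n5929 = n9881 := rfl
theorem F16403 : act 0 n9881 = n5931 := d2_1 D9881 (iv D5931) (iv F9661)
theorem F16404 : act 5 n9881 = n8022 := d16_2 (iv F9663) D9881 (iv D8022)
theorem F16405 : act 6 n9881 = n7998 := d17_2 (iv F9664) D9881 (iv D7998)
def n9883 : Q := act 6 n5930
theorem D9883 : act 6 n5930 = n9883 := rfl
theorem F16407 : act 2 n9883 = n5936 := d14_1 D9883 (iv D5936) (iv F9665)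
theorem F16408 : act 5 n9883 = n6188 := d22_2 F10041 D9883 (iv D6188) D6185
def n9884 : Q := act 2 n5931
theorem D9884 : act 2 n5931 = n9884 := rfl
def n9885 : Q := act 4 n5931
theorem D9885 : act 4 n5931 = n9885 := rfl
def n9886 : Q := act 6 n5931
theorem D9886 : act 6 n5931 = n9886 := rfl
theorem F16409 : act 0 n9886 = n7998 := d5_1 D9886 (iv F16405) F16403
theorem F16410 : act 3 n9886 = n5932 := d17_1 D9886 (iv D5932) D5931
def n9887 : Q := act 1 n5932
theorem D9887 : act 1 n5932 = n9887 := rfl
theorem F16412 : act 2 n9887 = n6045 := d6_2 (iv F9667) D9887 (iv D6045) F6621 (iv F6538)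
def n9888 : Q := act 1 n5933
theorem D9888 : act 1 n5933 = n9888 := rfl
theorem F16416 : act 5 n9888 = n6915 := d9_2 (iv F10033) D9888 F11345 (iv D6180) D6178
theorem F16417 : act 6 n7403 = n9888 := d22_1 (iv F12255) F16416 (iv F13311) F13309
def n9890 : Q := act 6 n5933
theorem D9890 : act 6 n5933 = n9890 := rfl
theorem F16419 : act 0 n9890 = n5936 := d5_1 D9890 (iv D5936) D5933
theorem F16420 : act 1 n9890 = n7418 := d10_1 D9890 (iv D7418) (iv F12253) F16417 (iv D9888)
def n9891 : Q := act 2 n5934
theorem D9891 : act 2 n5934 = n9891 := rfl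
def n9892 : Q := act 4 n5934
theorem D9892 : act 4 n5934 = n9892 := rfl
theorem F16422 : act 1 n9892 = n5938 := d8_1 D9892 (iv D5938) (iv F9670)
def n9893 : Q := act 5 n5934
theorem D9893 : act 5 n5934 = n9893 := rfl
theorem F16424 : act 3 n9893 = n5935 := d16_1 D9893 (iv D5935) D5934
def n9894 : Q := act 6 n5934
theorem D9894 : act 6 n5934 = n9894 := rfl
theorem F16425 : act 3 n9894 = n5936 := d17_1 D9894 (iv D5936) D5934
def n9895 : Q := act 6 n5935
theorem D9895 : act 6 n5935 = n9895 := rfl
theorem F16426 : act 5 n9895 = n9890 := d22_2 D5935 D9895 (iv D9890) (iv D5933)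
def n9897 : Q := act 5 n5936
theorem D9897 : act 5 n5936 = n9897 := rfl
theorem F16429 : act 2 n9897 = n6188 := d13_1 D9897 (iv F16408) F16407
def n9898 : Q := act 1 n5937
theorem D9898 : act 1 n5937 = n9898 := rfl
def n9899 : Q := act 4 n5937
theorem D9899 : act 4 n5937 = n9899 := rfl
theorem F16433 : act 2 n9899 = n5938 := d12_1 D9899 (iv D5938) D5937
def n9901 : Q := act 6 n5938
theorem D9901 : act 6 n5938 = n9901 := rfl
def n9902 : Q := act 1 n5939
theorem D9902 : act 1 n5939 = n9902 := rfl
theorem F16441 : act 3 n9902 = n5940 := d7_2 (iv F9676) D9902 (iv D5940)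
def n9903 : Q := act 0 n5940
theorem D9903 : act 0 n5940 = n9903 := rfl
def n9904 : Q := act 5 n5940
theorem D9904 : act 5 n5940 = n9904 := rfl
theorem F16442 : act 1 n9904 = n7102 := d9_1 D9904 F11703 (iv D5918) (iv F6545) D5940
theorem F16443 : act 6 n7108 = n9904 := d24_0 (iv D9904) (iv D5940) (iv D3827) (iv F6496) D5913 (iv F11772) (iv D7147) F7505 (iv D4246) D4245 F7199 D4441 F7477 D7108
def n9913 : Q := act 6 n5943
theorem D9913 : act 6 n5943 = n9913 := rfl
theorem F16451 : act 2 n9913 = n5945 := d14_1 D9913 (iv D5945) (iv F9680)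
def n9921 : Q := act 1 n5947
theorem D9921 : act 1 n5947 = n9921 := rfl
theorem F16464 : act 3 n9921 = n5950 := d7_2 (iv F9685) D9921 (iv D5950)
def n9924 : Q := act 6 n5950
theorem D9924 : act 6 n5950 = n9924 := rfl
theorem F16473 : act 2 n9924 = n8057 := d14_1 D9924 (iv D8057) (iv F9687)
def n9927 : Q := act 6 n5961
theorem D9927 : act 6 n5961 = n9927 := rfl
theorem F16479 : act 1 n9927 = n9876 := d10_1 D9927 (iv D9876) (iv D5926) (iv F6556) D5961
def n9929 : Q := act 4 n5962
theorem D9929 : act 4 n5962 = n9929 := rfl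
theorem F16482 : act 1 n9929 = n5964 := d8_1 D9929 (iv D5964) D5962
theorem F16483 : act 3 n9929 = n7545 := d15_1 D9929 (iv D7545) (iv D4656) (iv F7846) (iv F13749)
def n9932 : Q := act 3 n5964
theorem D9932 : act 3 n5964 = n9932 := rfl
theorem F16490 : act 0 n9932 = n8694 := d2_1 D9932 (iv D8694) F13733
theorem F16491 : act 1 n9932 = n7545 := d7_1 D9932 (iv F16483) F16482
theorem F16492 : act 4 n9932 = n7500 := d15_2 D5964 D9932 (iv D7500) (iv F13705) (iv D5963)
def n9933 : Q := act 5 n5964
theorem D9933 : act 5 n5964 = n9933 := rfl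
theorem F16493 : act 0 n9933 = n8695 := d4_1 D9933 (iv D8695) F13733
theorem F16494 : act 2 n9933 = n5966 := d13_1 D9933 (iv D5966) (iv F9701)
def n9936 : Q := act 1 n5966
theorem D9936 : act 1 n5966 = n9936 := rfl
theorem F16499 : act 4 n9936 = n5967 := d8_2 (iv F9703) D9936 (iv D5967)
def n9937 : Q := act 0 n5967
theorem D9937 : act 0 n5967 = n9937 := rfl
theorem F16500 : act 3 n9937 = n5969 := d2_2 (iv F9704) D9937 (iv D5969)
def n9941 : Q := act 6 n5969
theorem D9941 : act 6 n5969 = n9941 := rfl
theorem F16504 : act 0 n9941 = n5970 := d5_1 D9941 (iv D5970) D5969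
theorem F16505 : act 4 n9941 = n6718 := d19_1 D9941 (iv D6718) (iv F16287)
theorem F16506 : act 5 n9941 = n8774 := d22_2 F14691 D9941 (iv D8774) D8773
def n9943 : Q := act 5 n5970
theorem D9943 : act 5 n5970 = n9943 := rfl
theorem F16509 : act 6 n9943 = n8773 := d20_2 D5970 D9943 F14691 D9941 F16506 (iv D8774) F8867
def n9944 : Q := act 0 n5971
theorem D9944 : act 0 n5971 = n9944 := rfl
def n9945 : Q := act 0 n5972
theorem D9945 : act 0 n5972 = n9945 := rfl
theorem F16510 : act 1 n9945 = n8734 := d0_2 D5972 D9945 F14616 D8735 F14620 F12123 (iv D5975) (iv D3846) (iv F6561)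
def n9946 : Q := act 3 n5972
theorem D9946 : act 3 n5972 = n9946 := rfl
def n9947 : Q := act 6 n5972
theorem D9947 : act 6 n5972 = n9947 := rfl
def n9948 : Q := act 2 n5973
theorem D9948 : act 2 n5973 = n9948 := rfl
theorem F16513 : act 0 n9948 = n5979 := d1_1 D9948 (iv D5979) (iv F9708)
theorem F16514 : act 3 n9948 = n6356 := d21_1 D9948 (iv D6356) (iv D4046) (iv D2888) F4158 D2769 D3847 (iv F9708)
def n9949 : Q := act 4 n5973
theorem D9949 : act 4 n5973 = n9949 := rfl
theorem F16515 : act 0 n9949 = n5980 := d3_1 D9949 (iv D5980) (iv F9708)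
def n9950 : Q := act 5 n5973
theorem D9950 : act 5 n5973 = n9950 := rfl
theorem F16516 : act 0 n9950 = n5981 := d4_1 D9950 (iv D5981) (iv F9708)
theorem F16517 : act 3 n9950 = n5974 := d16_1 D9950 (iv D5974) D5973
def n9951 : Q := act 3 n5975
theorem D9951 : act 3 n5975 = n9951 := rfl
theorem F16518 : act 0 n9951 = n5976 := d2_1 D9951 (iv D5976) D5975
def n9952 : Q := act 6 n5975
theorem D9952 : act 6 n5975 = n9952 := rfl
theorem F16519 : act 0 n9952 = n5978 := d5_1 D9952 (iv D5978) D5975
theorem F16520 : act 2 n9952 = n5989 := d14_1 D9952 (iv D5989) (iv F9712)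
def n9953 : Q := act 2 n5976
theorem D9953 : act 2 n5976 = n9953 := rfl
def n9954 : Q := act 4 n5976
theorem D9954 : act 4 n5976 = n9954 := rfl
theorem F16521 : act 1 n9954 = n5980 := d8_1 D9954 (iv D5980) (iv F9713)
def n9955 : Q := act 5 n5976
theorem D9955 : act 5 n5976 = n9955 := rfl
def n9956 : Q := act 6 n5976
theorem D9956 : act 6 n5976 = n9956 := rfl
theorem F16523 : act 3 n9956 = n5978 := d17_1 D9956 (iv D5978) D5976
def n9957 : Q := act 1 n5977
theorem D9957 : act 1 n5977 = n9957 := rfl
theorem F16524 : act 2 n9957 = n6048 := d6_2 (iv F9714) D9957 (iv D6048) F6631 (iv F6579)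
theorem F16525 : act 5 n9957 = n5983 := d9_2 D5977 D9957 (iv D5983) (iv D3848) D3846
def n9958 : Q := act 6 n5977
theorem D9958 : act 6 n5977 = n9958 := rfl
theorem F16527 : act 5 n9958 = n9952 := d22_2 D5977 D9958 (iv D9952) (iv D5975)
def n9959 : Q := act 1 n5978
theorem D9959 : act 1 n5978 = n9959 := rfl
theorem F16528 : act 6 n9959 = n5985 := d10_2 D5978 D9959 (iv D5985) (iv D3849) D3846
def n9960 : Q := act 5 n5978
theorem D9960 : act 5 n5978 = n9960 := rfl
theorem F16530 : act 2 n9960 = n5991 := d13_1 D9960 (iv D5991) (iv F9715)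
theorem F16532 : act 6 n9960 = n7262 := d20_2 D5978 D9960 (iv F11984) D9952 (iv F16527) (iv D9958) (iv D5977)
def n9961 : Q := act 1 n5979
theorem D9961 : act 1 n5979 = n9961 := rfl
def n9962 : Q := act 3 n5979
theorem D9962 : act 3 n5979 = n9962 := rfl
theorem F16533 : act 0 n9962 = n6356 := d2_1 D9962 (iv F16514) F16513
theorem F16534 : act 2 n9962 = n6355 := d11_1 D9962 (iv D6355) (iv D4045) F5074 D3844 D5973 D9948 F16514 (iv D6356) (iv D4046) (iv D2888) F4158 D2769 D3847 D5979
def n9963 : Q := act 4 n5979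
theorem D9963 : act 4 n5979 = n9963 := rfl
theorem F16536 : act 2 n9963 = n5980 := d12_1 D9963 (iv D5980) D5979
def n9964 : Q := act 5 n5979
theorem D9964 : act 5 n5979 = n9964 := rfl
theorem F16537 : act 2 n9964 = n5981 := d13_1 D9964 (iv D5981) D5979
def n9965 : Q := act 6 n5979
theorem D9965 : act 6 n5979 = n9965 := rfl
theorem F16538 : act 2 n9965 = n5982 := d14_1 D9965 (iv D5982) D5979
def n9966 : Q := act 5 n5980
theorem D9966 : act 5 n5980 = n9966 := rfl
theorem F16540 : act 4 n9966 = n5981 := d18_1 D9966 (iv D5981) D5980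
def n9967 : Q := act 6 n5980
theorem D9967 : act 6 n5980 = n9967 := rfl
theorem F16541 : act 4 n9967 = n5982 := d19_1 D9967 (iv D5982) D5980
def n9968 : Q := act 1 n5981
theorem D9968 : act 1 n5981 = n9968 := rfl
theorem F16542 : act 3 n9968 = n5983 := d7_2 (iv F9716) D9968 (iv D5983)
def n9970 : Q := act 1 n5982
theorem D9970 : act 1 n5982 = n9970 := rfl
theorem F16545 : act 3 n9970 = n5985 := d7_2 (iv F9717) D9970 (iv D5985)
def n9972 : Q := act 0 n5983
theorem D9972 : act 0 n5983 = n9972 := rfl
theorem F16549 : act 2 n9972 = n6052 := d1_2 (iv F9718) D9972 (iv D6052)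
def n9973 : Q := act 6 n5983
theorem D9973 : act 6 n5983 = n9973 := rfl
theorem F16550 : act 2 n9973 = n6053 := d14_1 D9973 (iv D6053) (iv F9718)
def n9975 : Q := act 0 n5985
theorem D9975 : act 0 n5985 = n9975 := rfl
def n9976 : Q := act 5 n5985
theorem D9976 : act 5 n5985 = n9976 := rfl
def n9978 : Q := act 2 n5987
theorem D9978 : act 2 n5987 = n9978 := rfl
theorem F16555 : act 1 n9978 = n8739 := d6_1 D9978 F14627 F12123 F9712 D5987
def n9999 : Q := act 6 n6004
theorem D9999 : act 6 n6004 = n9999 := rfl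
theorem F16590 : act 1 n9999 = n6757 := d10_1 D9999 F10997 F10987 F8270 D6004
theorem F16592 : act 4 n9999 = n9924 := d19_1 D9999 (iv D9924) (iv F9760)
def n10031 : Q := act 0 n6019
theorem D10031 : act 0 n6019 = n10031 := rfl
theorem F16640 : act 3 n10031 = n6021 := d2_2 (iv F9774) D10031 (iv D6021)
def n10032 : Q := act 2 n6019
theorem D10032 : act 2 n6019 = n10032 := rfl
def n10033 : Q := act 6 n6019
theorem D10033 : act 6 n6019 = n10033 := rfl
theorem F16641 : act 3 n10033 = n6022 := d17_1 D10033 (iv D6022) (iv F9774)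
def n10035 : Q := act 1 n6021
theorem D10035 : act 1 n6021 = n10035 := rfl
def n10036 : Q := act 6 n6021
theorem D10036 : act 6 n6021 = n10036 := rfl
theorem F16643 : act 0 n10036 = n6022 := d5_1 D10036 (iv D6022) D6021
theorem F16644 : act 2 n10036 = n9941 := d14_1 D10036 (iv D9941) (iv F9778)
theorem F16645 : act 5 n10036 = n9008 := d22_2 F15037 D10036 (iv D9008) D9007
def n10038 : Q := act 5 n6022
theorem D10038 : act 5 n6022 = n10038 := rfl
def n10042 : Q := act 3 n6024
theorem D10042 : act 3 n6024 = n10042 := rfl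
theorem F16653 : act 5 n10042 = n6091 := d16_2 (iv F9781) D10042 F9885
def n10043 : Q := act 3 n6025
theorem D10043 : act 3 n6025 = n10043 := rfl
theorem F16656 : act 5 n10043 = n6353 := d16_2 (iv F9785) D10043 (iv D6353)
def n10077 : Q := act 6 n6045
theorem D10077 : act 6 n6045 = n10077 := rfl
def n10078 : Q := act 0 n6048
theorem D10078 : act 0 n6048 = n10078 := rfl
theorem F16712 : act 3 n10078 = n8170 := d2_2 (iv F9817) D10078 (iv D8170)
theorem F16713 : act 5 n10078 = n6052 := d4_2 (iv F9818) D10078 (iv D6052)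
def n10079 : Q := act 6 n6048
theorem D10079 : act 6 n6048 = n10079 := rfl
def n10082 : Q := act 1 n6051
theorem D10082 : act 1 n6051 = n10082 := rfl
def n10083 : Q := act 1 n6052
theorem D10083 : act 1 n6052 = n10083 := rfl
theorem F16723 : act 3 n10083 = n8794 := d7_2 (iv F9830) D10083 (iv D8794)
def n10084 : Q := act 6 n6052
theorem D10084 : act 6 n6052 = n10084 := rfl
theorem F16724 : act 0 n10084 = n6053 := d5_1 D10084 (iv D6053) D6052
theorem F16726 : act 5 n10084 = n10079 := d22_2 F16713 D10084 (iv D10079) D10078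
def n10085 : Q := act 1 n6053
theorem D10085 : act 1 n6053 = n10085 := rfl
def n10086 : Q := act 5 n6053
theorem D10086 : act 5 n6053 = n10086 := rfl
theorem F16730 : act 3 n10086 = n8800 := d16_1 D10086 (iv D8800) (iv F9831)
theorem F16731 : act 6 n10086 = n10078 := d20_2 D6053 D10086 F16713 D10084 F16726 (iv D10079) F9818
def n10088 : Q := act 1 n6057
theorem D10088 : act 1 n6057 = n10088 := rfl
theorem F16734 : act 2 n10088 = n9904 := d6_2 (iv F14086) D10088 F16442 F11702 D8383
def n10089 : Q := act 0 n6058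
theorem D10089 : act 0 n6058 = n10089 := rfl
theorem F16737 : act 2 n10089 = n9903 := d1_2 (iv F9836) D10089 (iv D9903)
theorem F16738 : act 3 n10089 = n8811 := d2_2 (iv F9837) D10089 (iv D8811)
def n10090 : Q := act 6 n6058
theorem D10090 : act 6 n6058 = n10090 := rfl
theorem F16739 : act 1 n10090 = n10077 := d10_1 D10090 (iv D10077) (iv D6045) (iv F6643) D6058
def n10091 : Q := act 2 n6061
theorem D10091 : act 2 n6061 = n10091 := rfl
theorem F16742 : act 1 n10091 = n6758 := d6_1 D10091 (iv F11000) (iv D6458) F6997 D6061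
theorem F16743 : act 4 n10091 = n7048 := d12_2 F10083 D10091 F11588
theorem F16744 : act 5 n10091 = n6894 := d13_2 (iv F9844) D10091 (iv D6894)
def n10092 : Q := act 6 n6061
theorem D10092 : act 6 n6061 = n10092 := rfl
theorem F16745 : act 0 n10092 = n7048 := d5_1 D10092 F11591 F11463
theorem F16746 : act 1 n10092 = n6906 := d10_1 D10092 F11318 (iv D6067) F6660 D6061
theorem F16747 : act 3 n10092 = n6895 := d17_1 D10092 (iv D6895) (iv F9843)
theorem F16748 : act 5 n10092 = n6144 := d20_1 D10092 (iv F11272) (iv F11465) (iv F11591) F11590 (iv D6895) (iv F9844)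
def n10093 : Q := act 2 n6063
theorem D10093 : act 2 n6063 = n10093 := rfl
def n10094 : Q := act 1 n6066
theorem D10094 : act 1 n6066 = n10094 := rfl
theorem F16751 : act 5 n10094 = n6067 := d9_2 D6066 D10094 (iv D6067) (iv D3896) D3895
def n10095 : Q := act 2 n6067
theorem D10095 : act 2 n6067 = n10095 := rfl
def n10096 : Q := act 5 n6068
theorem D10096 : act 5 n6068 = n10096 := rfl
theorem F16754 : act 1 n10096 = n7067 := d9_1 D10096 (iv F11648) (iv F11649) (iv D6070) D6068
theorem F16755 : act 2 n10096 = n8100 := d13_1 D10096 (iv D8100) F10197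
def n10097 : Q := act 2 n6071
theorem D10097 : act 2 n6071 = n10097 := rfl
def n10101 : Q := act 4 n6076
theorem D10101 : act 4 n6076 = n10101 := rfl
theorem F16766 : act 2 n10101 = n6077 := d12_1 D10101 (iv D6077) D6076
def n10104 : Q := act 2 n6080
theorem D10104 : act 2 n6080 = n10104 := rfl
theorem F16773 : act 6 n10104 = n7022 := d14_2 F9869 D10104 F11542
def n10114 : Q := act 3 n6086
theorem D10114 : act 3 n6086 = n10114 := rfl
theorem F16785 : act 1 n10114 = n6087 := d7_1 D10114 (iv D6087) D6086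
def n10116 : Q := act 2 n6087
theorem D10116 : act 2 n6087 = n10116 := rfl
theorem F16786 : act 0 n10116 = n6089 := d1_1 D10116 (iv D6089) (iv F9880)
def n10117 : Q := act 4 n6087
theorem D10117 : act 4 n6087 = n10117 := rfl
theorem F16788 : act 0 n10117 = n6090 := d3_1 D10117 (iv D6090) (iv F9880)
def n10118 : Q := act 6 n6087
theorem D10118 : act 6 n6087 = n10118 := rfl
theorem F16789 : act 0 n10118 = n6091 := d5_1 D10118 (iv D6091) (iv F9880)
theorem F16790 : act 3 n10118 = n6088 := d17_1 D10118 (iv D6088) D6087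
def n10120 : Q := act 1 n6089
theorem D10120 : act 1 n6089 = n10120 := rfl
def n10121 : Q := act 3 n6089
theorem D10121 : act 3 n6089 = n10121 := rfl
def n10122 : Q := act 4 n6089
theorem D10122 : act 4 n6089 = n10122 := rfl
theorem F16797 : act 2 n10122 = n6090 := d12_1 D10122 (iv D6090) D6089
def n10123 : Q := act 6 n6089
theorem D10123 : act 6 n6089 = n10123 := rfl
theorem F16798 : act 2 n10123 = n6091 := d14_1 D10123 (iv D6091) D6089
def n10124 : Q := act 6 n6090
theorem D10124 : act 6 n6090 = n10124 := rfl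
theorem F16799 : act 4 n10124 = n6091 := d19_1 D10124 (iv D6091) D6090
def n10125 : Q := act 1 n6091
theorem D10125 : act 1 n6091 = n10125 := rfl
theorem F16800 : act 3 n10125 = n6092 := d7_2 (iv F9885) D10125 (iv D6092)
def n10126 : Q := act 0 n6092
theorem D10126 : act 0 n6092 = n10126 := rfl
theorem F16801 : act 2 n10126 = n9975 := d1_2 (iv F9886) D10126 (iv D9975)
def n10128 : Q := act 0 n6093
theorem D10128 : act 0 n6093 = n10128 := rfl
theorem F16804 : act 5 n10128 = n9787 := d4_2 (iv F9888) D10128 (iv D9787)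
def n10129 : Q := act 2 n6093
theorem D10129 : act 2 n6093 = n10129 := rfl
theorem F16805 : act 1 n10129 = n8163 := d6_1 D10129 (iv D8163) (iv D4983) (iv F6681) D6093
def n10134 : Q := act 1 n6095
theorem D10134 : act 1 n6095 = n10134 := rfl
theorem F16814 : act 4 n10134 = n6144 := d8_2 (iv F9891) D10134 (iv D6144)
theorem F16815 : act 6 n10134 = n6901 := d10_2 F16180 D10134 F11286 (iv F10374) (iv F16178)
def n10140 : Q := act 0 n6101
theorem D10140 : act 0 n6101 = n10140 := rfl
theorem F16829 : act 3 n10140 = n8126 := d2_2 (iv F9903) D10140 (iv D8126)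
theorem F16830 : act 4 n10140 = n7049 := d3_2 F10233 D10140 F11592
def n10141 : Q := act 2 n6101
theorem D10141 : act 2 n6101 = n10141 := rfl
theorem F16833 : act 1 n10141 = n6104 := d6_1 D10141 (iv D6104) (iv D3916) (iv F6691) D6101
theorem F16834 : act 5 n10141 = n6804 := d13_2 (iv F9904) D10141 (iv D6804)
def n10143 : Q := act 0 n6102
theorem D10143 : act 0 n6102 = n10143 := rfl
def n10144 : Q := act 5 n6102
theorem D10144 : act 5 n6102 = n10144 := rfl
def n10145 : Q := act 1 n6103
theorem D10145 : act 1 n6103 = n10145 := rfl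
theorem F16841 : act 3 n10145 = n6108 := d7_2 (iv F9908) D10145 (iv D6108)
def n10146 : Q := act 2 n6103
theorem D10146 : act 2 n6103 = n10146 := rfl
theorem F16842 : act 0 n10146 = n6104 := d1_1 D10146 (iv D6104) D6103
theorem F16843 : act 5 n10146 = n6120 := d13_2 (iv F9909) D10146 (iv D6120)
def n10147 : Q := act 3 n6104
theorem D10147 : act 3 n6104 = n10147 := rfl
theorem F16844 : act 5 n10147 = n6122 := d16_2 (iv F9910) D10147 (iv D6122)
def n10148 : Q := act 6 n6104
theorem D10148 : act 6 n6104 = n10148 := rfl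
def n10157 : Q := act 1 n6109
theorem D10157 : act 1 n6109 = n10157 := rfl
theorem F16860 : act 4 n10157 = n6156 := d8_2 (iv F9917) D10157 (iv D6156)
def n10158 : Q := act 3 n6109
theorem D10158 : act 3 n6109 = n10158 := rfl
theorem F16861 : act 0 n10158 = n6110 := d2_1 D10158 (iv D6110) (iv F9916)
theorem F16862 : act 5 n10158 = n6130 := d16_2 (iv F9918) D10158 (iv D6130)
def n10160 : Q := act 4 n6110
theorem D10160 : act 4 n6110 = n10160 := rfl
theorem F16866 : act 5 n10160 = n6134 := d18_2 (iv F9920) D10160 (iv D6134)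
def n10161 : Q := act 6 n6110
theorem D10161 : act 6 n6110 = n10161 := rfl
theorem F16867 : act 3 n10161 = n6111 := d17_1 D10161 (iv D6111) D6110
def n10162 : Q := act 1 n6111
theorem D10162 : act 1 n6111 = n10162 := rfl
theorem F16868 : act 4 n10162 = n6161 := d8_2 (iv F9922) D10162 (iv D6161)
theorem F16869 : act 6 n10162 = n6161 := d10_2 D6111 D10162 (iv D6161) (iv D3945) (iv F6705)
def n10163 : Q := act 0 n6112
theorem D10163 : act 0 n6112 = n10163 := rfl
theorem F16870 : act 4 n10163 = n6162 := d3_2 (iv F9923) D10163 (iv D6162)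
theorem F16871 : act 6 n10163 = n6113 := d5_2 (iv F9924) D10163 (iv D6113)
def n10167 : Q := act 5 n6113
theorem D10167 : act 5 n6113 = n10167 := rfl
theorem F16878 : act 1 n10167 = n6839 := d9_1 D10167 (iv D6839) F7273 D6792 (iv F11080)
def n10171 : Q := act 1 n6116
theorem D10171 : act 1 n6116 = n10171 := rfl
theorem F16889 : act 5 n7081 = n10171 := d24_1 (iv F16320) (iv D10171) (iv F10304) (iv D6287) F6816 (iv D3986) (iv F6773) (iv D3978) D3979 F6775 (iv F11297) F8739 D5904 D9845
def n10175 : Q := act 0 n6119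
theorem D10175 : act 0 n6119 = n10175 := rfl
theorem F16899 : act 3 n10175 = n6125 := d2_2 (iv F9937) D10175 (iv D6125)
def n10179 : Q := act 1 n6120
theorem D10179 : act 1 n6120 = n10179 := rfl
def n10180 : Q := act 3 n6120
theorem D10180 : act 3 n6120 = n10180 := rfl
def n10181 : Q := act 6 n6120
theorem D10181 : act 6 n6120 = n10181 := rfl
theorem F16906 : act 5 n10181 = n10148 := d22_2 F16843 D10181 (iv D10148) (iv F16842)
def n10182 : Q := act 1 n6121
theorem D10182 : act 1 n6121 = n10182 := rfl
def n10183 : Q := act 2 n6122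
theorem D10183 : act 2 n6122 = n10183 := rfl
def n10184 : Q := act 4 n6122
theorem D10184 : act 4 n6122 = n10184 := rfl
def n10185 : Q := act 6 n6122
theorem D10185 : act 6 n6122 = n10185 := rfl
theorem F16909 : act 3 n10185 = n6123 := d17_1 D10185 (iv D6123) D6122
def n10188 : Q := act 1 n6124
theorem D10188 : act 1 n6124 = n10188 := rfl
def n10189 : Q := act 6 n6125
theorem D10189 : act 6 n6125 = n10189 := rfl
def n10190 : Q := act 1 n6126
theorem D10190 : act 1 n6126 = n10190 := rfl
theorem F16920 : act 0 n10190 = n6748 := d0_1 D10190 (iv D6748) (iv D4243) (iv D2992) F4242 (iv F4239) (iv F5224) D4218 (iv F10022)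
theorem F16921 : act 2 n10190 = n6129 := d6_2 D6126 D10190 (iv D6129) (iv D3928) D3927
theorem F16922 : act 4 n10190 = n6178 := d8_2 (iv F9948) D10190 (iv D6178)
theorem F16923 : act 5 n8023 = n10190 := d18_0 F16922 (iv F10033) (iv F13359)
def n10192 : Q := act 5 n6126
theorem D10192 : act 5 n6126 = n10192 := rfl
theorem F16926 : act 1 n10192 = n9837 := d9_1 D10192 F16255 (iv F16304) F16923 (iv D10190)
def n10193 : Q := act 6 n6126
theorem D10193 : act 6 n6126 = n10193 := rfl
def n10194 : Q := act 6 n6127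
theorem D10194 : act 6 n6127 = n10194 := rfl
theorem F16933 : act 5 n10194 = n10189 := d22_2 D6127 D10194 (iv D10189) (iv D6125)
theorem F16934 : act 1 n6795 = n10194 := d24_14 (iv D10194) (iv D6127) (iv D3927) D3929 F6721 D6112 F9924 D6115 F9928 (iv F16186) (iv D9798) F11300 F11048 D6795
def n10195 : Q := act 1 n6128
theorem D10195 : act 1 n6128 = n10195 := rfl
theorem F16936 : act 6 n10195 = n6132 := d10_2 D6128 D10195 (iv D6132) (iv D3929) D3927
def n10196 : Q := act 5 n6128
theorem D10196 : act 5 n6128 = n10196 := rfl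
theorem F16939 : act 6 n10196 = n8604 := d20_2 D6128 D10196 F14404 D10189 (iv F16933) (iv D10194) (iv D6127)
def n10197 : Q := act 0 n6129
theorem D10197 : act 0 n6129 = n10197 := rfl
theorem F16941 : act 2 n10197 = n6748 := d1_2 F16921 D10197 (iv F16920)
def n10199 : Q := act 5 n6129
theorem D10199 : act 5 n6129 = n10199 := rfl
theorem F16946 : act 2 n10199 = n8023 := d13_1 D10199 F16923 F16921
def n10201 : Q := act 2 n6130
theorem D10201 : act 2 n6130 = n10201 := rfl
theorem F16950 : act 3 n10201 = n10183 := d21_1 D10201 (iv D10183) (iv D6122) (iv D3925) F4949 D2821 D3930 (iv F9952)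
def n10203 : Q := act 6 n6130
theorem D10203 : act 6 n6130 = n10203 := rfl
theorem F16954 : act 3 n10203 = n6131 := d17_1 D10203 (iv D6131) D6130
theorem F16955 : act 5 n10203 = n10161 := d22_2 F16862 D10203 (iv D10161) (iv F16861)
def n10204 : Q := act 1 n6131
theorem D10204 : act 1 n6131 = n10204 := rfl
theorem F16956 : act 4 n10204 = n6192 := d8_2 (iv F9955) D10204 (iv D6192)
def n10207 : Q := act 3 n6133
theorem D10207 : act 3 n6133 = n10207 := rfl
theorem F16962 : act 2 n10207 = n10180 := d11_1 D10207 (iv D10180) (iv D6120) F6712 D3928 D6130 D10201 F16950 (iv D10183) (iv D6122) (iv D3925) F4949 D2821 D3930 D6133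
def n10216 : Q := act 2 n6138
theorem D10216 : act 2 n6138 = n10216 := rfl
theorem F16978 : act 1 n10216 = n6885 := d6_1 D10216 (iv F12192) (iv F12194) (iv D6919) F9971
theorem F16980 : act 5 n10216 = n6145 := d13_2 (iv F9969) D10216 (iv D6145)
def n10217 : Q := act 3 n6139
theorem D10217 : act 3 n6139 = n10217 := rfl
theorem F16982 : act 1 n10217 = n7998 := d7_1 D10217 (iv D7998) (iv F9972)
theorem F16983 : act 5 n10217 = n6147 := d16_2 (iv F9974) D10217 (iv D6147)
def n10223 : Q := act 3 n6145
theorem D10223 : act 3 n6145 = n10223 := rfl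
theorem F17000 : act 0 n10223 = n6147 := d2_1 D10223 (iv D6147) (iv F9983)
def n10225 : Q := act 2 n6147
theorem D10225 : act 2 n6147 = n10225 := rfl
def n10227 : Q := act 6 n6147
theorem D10227 : act 6 n6147 = n10227 := rfl
def n10236 : Q := act 6 n6156
theorem D10236 : act 6 n6156 = n10236 := rfl
theorem F17014 : act 2 n10236 = n8980 := d14_1 D10236 F14987 F11282
theorem F17015 : act 5 n10236 = n8970 := d22_2 F14965 D10236 (iv D8970) D8967
def n10237 : Q := act 2 n6157
theorem D10237 : act 2 n6157 = n10237 := rfl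
theorem F17017 : act 5 n10237 = n6189 := d13_2 (iv F9998) D10237 (iv D6189)
theorem F17018 : act 3 n10237 = n7054 := d21_1 D10237 (iv D7054) (iv D4409) (iv D3078) F4300 D2831 D3944 (iv F9997)
def n10241 : Q := act 4 n6158
theorem D10241 : act 4 n6158 = n10241 := rfl
theorem F17025 : act 5 n10241 = n6197 := d18_2 (iv F9999) D10241 (iv D6197)
def n10247 : Q := act 5 n6161
theorem D10247 : act 5 n6161 = n10247 := rfl
def n10248 : Q := act 2 n6162
theorem D10248 : act 2 n6162 = n10248 := rfl
def n10260 : Q := act 5 n6171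
theorem D10260 : act 5 n6171 = n10260 := rfl
theorem F17050 : act 1 n10260 = n6999 := d9_1 D10260 F11500 (iv D6080) (iv F6740) D6171
theorem F17053 : act 6 n10260 = n6910 := d20_2 F11322 D10260 (iv D6910) (iv F11321) (iv F11651) F11652 (iv F11329)
def n10267 : Q := act 3 n6175
theorem D10267 : act 3 n6175 = n10267 := rfl
theorem F17060 : act 0 n10267 = n6179 := d2_1 D10267 (iv D6179) (iv F10017)
def n10268 : Q := act 5 n6175
theorem D10268 : act 5 n6175 = n10268 := rfl
theorem F17062 : act 0 n10268 = n6180 := d4_1 D10268 (iv D6180) (iv F10017)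
theorem F17064 : act 4 n10268 = n6699 := d18_1 D10268 (iv D6699) F10021
theorem E1747 : n10083 = n7070 := ((c23_6 (iv D10268) (iv D6175) (iv F7439) (iv D4415) D4417 (iv F11641) (iv D10083) (iv D6052) (iv F9818) (iv F16524) (iv D9957) (iv F11983) (iv F11984) F9712 D5987 (iv F11346) (iv D6916) D6915 F11345 (iv F17062))).symm
theorem F17065 : act 1 n7070 = n6052 := (sb E1747 (iv D10083))
theorem F17066 : act 3 n7070 = n8794 := (sb E1747 F16723)
theorem F17067 : act 5 n8794 = n7069 := d16_2 D7070 F17066 (iv D7069)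
theorem F17068 : act 4 n7069 = n8816 := d18_1 F17067 (iv D8816) (iv F14726)
theorem F17069 : act 1 n6344 = n6690 := d8_3 (iv F11642) F17065 (iv F10418)
def n10269 : Q := act 6 n6175
theorem D10269 : act 6 n6175 = n10269 := rfl
def n10270 : Q := act 3 n6178
theorem D10270 : act 3 n6178 = n10270 := rfl
theorem F17074 : act 1 n10270 = n6179 := d7_1 D10270 (iv D6179) D6178
def n10271 : Q := act 2 n6179
theorem D10271 : act 2 n6179 = n10271 := rfl
def n10272 : Q := act 4 n6179
theorem D10272 : act 4 n6179 = n10272 := rfl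
def n10273 : Q := act 5 n6179
theorem D10273 : act 5 n6179 = n10273 := rfl
def n10275 : Q := act 6 n6180
theorem D10275 : act 6 n6180 = n10275 := rfl
theorem F17079 : act 5 n10275 = n10269 := d22_2 D6180 D10275 (iv D10269) F10017
def n10277 : Q := act 5 n6181
theorem D10277 : act 5 n6181 = n10277 := rfl
theorem F17082 : act 6 n10277 = n10268 := d20_2 D6181 D10277 (iv D10268) D10269 (iv F17079) (iv D10275) (iv D6180)
def n10278 : Q := act 0 n6183
theorem D10278 : act 0 n6183 = n10278 := rfl
theorem F17083 : act 1 n10278 = n6972 := d0_2 D6183 D10278 F11445 (iv D5642) (iv F9262) D9392 F15602 F11366 F10030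
def n10280 : Q := act 1 n6185
theorem D10280 : act 1 n6185 = n10280 := rfl
theorem F17088 : act 0 n10280 = n6208 := d0_1 D10280 (iv D6208) (iv D3967) (iv D2841) F4109 (iv F4107) (iv F4959) D3957 D6185
theorem F17089 : act 2 n10280 = n7148 := d6_2 (iv F10040) D10280 (iv D7148) F7507 (iv F9671)
def n10281 : Q := act 3 n6185
theorem D10281 : act 3 n6185 = n10281 := rfl
def n10282 : Q := act 6 n6185
theorem D10282 : act 6 n6185 = n10282 := rfl
theorem F17093 : act 0 n10282 = n6188 := d5_1 D10282 (iv D6188) D6185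
theorem F17094 : act 2 n10282 = n9895 := d14_1 D10282 (iv D9895) (iv F10040)
def n10285 : Q := act 5 n6186
theorem D10285 : act 5 n6186 = n10285 := rfl
theorem F17097 : act 3 n10285 = n6187 := d16_1 D10285 (iv D6187) D6186
def n10286 : Q := act 6 n6186
theorem D10286 : act 6 n6186 = n10286 := rfl
def n10287 : Q := act 6 n6187
theorem D10287 : act 6 n6187 = n10287 := rfl
theorem F17100 : act 2 n10287 = n9890 := d14_1 D10287 (iv D9890) (iv F10044)
theorem F17101 : act 5 n10287 = n10282 := d20_1 D10287 (iv D10282) F10041 D9883 F16408 (iv D6188) D6187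
def n10288 : Q := act 1 n6188
theorem D10288 : act 1 n6188 = n10288 := rfl
theorem F17102 : act 6 n10288 = n6192 := d10_2 D6188 D10288 (iv D6192) (iv D3959) D3957
def n10290 : Q := act 4 n6189
theorem D10290 : act 4 n6189 = n10290 := rfl
theorem F17104 : act 0 n10290 = n6197 := d3_1 D10290 (iv D6197) (iv F10045)
theorem F17105 : act 2 n10290 = n6190 := d12_1 D10290 (iv D6190) D6189
def n10291 : Q := act 6 n6189
theorem D10291 : act 6 n6189 = n10291 := rfl
theorem F17106 : act 0 n10291 = n6198 := d5_1 D10291 (iv D6198) (iv F10045)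
def n10292 : Q := act 6 n6190
theorem D10292 : act 6 n6190 = n10292 := rfl
theorem F17111 : act 4 n10292 = n6191 := d19_1 D10292 (iv D6191) D6190
def n10293 : Q := act 1 n6191
theorem D10293 : act 1 n6191 = n10293 := rfl
theorem F17113 : act 3 n10293 = n6192 := d7_2 (iv F10049) D10293 (iv D6192)
def n10294 : Q := act 0 n6192
theorem D10294 : act 0 n6192 = n10294 := rfl
def n10295 : Q := act 2 n6192
theorem D10295 : act 2 n6192 = n10295 := rfl
theorem F17114 : act 1 n10295 = n6194 := d6_1 D10295 (iv D6194) (iv D3960) (iv F6745) D6192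
def n10296 : Q := act 5 n6192
theorem D10296 : act 5 n6192 = n10296 := rfl
theorem F17115 : act 1 n10296 = n10247 := d9_1 D10296 (iv D10247) (iv D6161) (iv F6746) D6192
def n10297 : Q := act 2 n6193
theorem D10297 : act 2 n6193 = n10297 := rfl
theorem F17116 : act 0 n10297 = n6194 := d1_1 D10297 (iv D6194) D6193
theorem F17117 : act 5 n10297 = n10093 := d13_2 (iv F11332) D10297 (iv D10093)
theorem F17118 : act 0 n9386 = n10296 := d23_15 F17117 (iv D10093) (iv D6063) (iv F6658) (iv D3896) (iv F6633) D6050 (iv F14661) (iv F15543) (iv D9357) (iv D5621) F6331 D3677 (iv F9254) D9386 (iv D10296) D10295 F17114 (iv F17116)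
theorem F17119 : act 5 n10294 = n9386 := d4_0 F17118 (iv D10296) D10294
theorem F17120 : act 1 n9385 = n10294 := d9_5 F17119 (iv D9386) (iv D5633) D5632 D9385
def n10302 : Q := act 3 n6197
theorem D10302 : act 3 n6197 = n10302 := rfl
def n10303 : Q := act 6 n6197
theorem D10303 : act 6 n6197 = n10303 := rfl
theorem F17129 : act 4 n10303 = n6198 := d19_1 D10303 (iv D6198) D6197
def n10304 : Q := act 1 n6198
theorem D10304 : act 1 n6198 = n10304 := rfl
def n10306 : Q := act 1 n6199
theorem D10306 : act 1 n6199 = n10306 := rfl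
theorem F17133 : act 4 n10306 = n6200 := d8_2 (iv F10056) D10306 (iv D6200)
theorem F17134 : act 6 n10306 = n6213 := d10_2 D6199 D10306 (iv D6213) (iv D3970) (iv F6747)
def n10308 : Q := act 0 n6200
theorem D10308 : act 0 n6200 = n10308 := rfl
theorem F17138 : act 3 n10308 = n6202 := d2_2 (iv F10057) D10308 (iv D6202)
theorem F17139 : act 6 n10308 = n6214 := d5_2 (iv F10058) D10308 (iv D6214)
def n10309 : Q := act 2 n6200
theorem D10309 : act 2 n6200 = n10309 := rfl
theorem F17140 : act 6 n10309 = n6215 := d14_2 (iv F10058) D10309 (iv D6215)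
def n10310 : Q := act 5 n6200
theorem D10310 : act 5 n6200 = n10310 := rfl
theorem F17141 : act 3 n10310 = n6203 := d16_1 D10310 (iv D6203) (iv F10057)
def n10313 : Q := act 1 n6203
theorem D10313 : act 1 n6203 = n10313 := rfl
def n10316 : Q := act 6 n6204
theorem D10316 : act 6 n6204 = n10316 := rfl
theorem F17145 : act 1 n10316 = n10236 := d10_1 D10316 (iv D10236) (iv D6156) (iv F6753) D6204
def n10319 : Q := act 2 n6208
theorem D10319 : act 2 n6208 = n10319 := rfl
theorem F17150 : act 0 n10319 = n7148 := d1_1 D10319 (iv F17089) F17088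
theorem F17151 : act 1 n10319 = n7074 := d6_1 D10319 F11653 (iv D6400) F6957 D6208
def n10327 : Q := act 2 n6213
theorem D10327 : act 2 n6213 = n10327 := rfl
theorem F17162 : act 1 n10327 = n6875 := d6_1 D10327 F11243 F7301 (iv F6755) D6213
theorem F17163 : act 4 n10327 = n6215 := d12_2 (iv F10073) D10327 (iv D6215)
def n10329 : Q := act 2 n6214
theorem D10329 : act 2 n6214 = n10329 := rfl
def n10330 : Q := act 5 n6214
theorem D10330 : act 5 n6214 = n10330 := rfl
theorem F17168 : act 6 n10330 = n10310 := d22_1 D10330 (iv D10310) F10058 D6214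
def n10331 : Q := act 3 n6215
theorem D10331 : act 3 n6215 = n10331 := rfl
theorem F17169 : act 1 n10331 = n6874 := d7_1 D10331 (iv D6874) (iv F10075)
def n10332 : Q := act 5 n6215
theorem D10332 : act 5 n6215 = n10332 := rfl
def n10336 : Q := act 0 n6220
theorem D10336 : act 0 n6220 = n10336 := rfl
theorem F17175 : act 1 n10336 = n6855 := d0_2 D6220 D10336 F11208 (iv F11136) F11135 F10093 (iv D6224) (iv D3978) (iv F6760)
theorem F17176 : act 2 n10336 = n10092 := d1_2 F11588 D10336 F16745
theorem F17178 : act 5 n10336 = n6901 := d4_2 (iv F10084) D10336 (iv D6901)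
def n10337 : Q := act 6 n6220
theorem D10337 : act 6 n6220 = n10337 := rfl
theorem F17182 : act 4 n10337 = n10092 := d19_1 D10337 (iv D10092) (iv F10083)
def n10338 : Q := act 0 n6222
theorem D10338 : act 0 n6222 = n10338 := rfl
theorem F17185 : act 5 n10338 = n6344 := d4_2 (iv F10088) D10338 (iv D6344)
def n10339 : Q := act 2 n6222
theorem D10339 : act 2 n6222 = n10339 := rfl
theorem F17186 : act 1 n10339 = n6225 := d6_1 D10339 (iv D6225) (iv D3978) (iv F6767) D6222
def n10340 : Q := act 6 n6222
theorem D10340 : act 6 n6222 = n10340 := rfl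
theorem F17189 : act 4 n10340 = n10079 := d19_1 D10340 (iv D10079) (iv F10087)
def n10341 : Q := act 5 n6223
theorem D10341 : act 5 n6223 = n10341 := rfl
def n10342 : Q := act 3 n6225
theorem D10342 : act 3 n6225 = n10342 := rfl
theorem F17191 : act 0 n10342 = n8251 := d2_1 D10342 (iv D8251) (iv F10095)
def n10343 : Q := act 6 n6225
theorem D10343 : act 6 n6225 = n10343 := rfl
theorem F17194 : act 2 n10343 = n6226 := d14_1 D10343 (iv D6226) D6225
def n10344 : Q := act 1 n6226
theorem D10344 : act 1 n6226 = n10344 := rfl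
theorem F17198 : act 6 n10344 = n6227 := d10_2 D6226 D10344 (iv D6227) (iv D3979) D3978
def n10346 : Q := act 1 n6230
theorem D10346 : act 1 n6230 = n10346 := rfl
theorem F17201 : act 5 n10346 = n6231 := d9_2 D6230 D10346 (iv D6231) (iv D3981) D3980
def n10348 : Q := act 2 n6231
theorem D10348 : act 2 n6231 = n10348 := rfl
theorem F17204 : act 4 n10348 = n10095 := d12_2 (iv F10105) D10348 (iv D10095)
def n10349 : Q := act 6 n6231
theorem D10349 : act 6 n6231 = n10349 := rfl
theorem F17207 : act 4 n10349 = n6906 := d19_1 D10349 F11318 (iv F10105)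
def n10355 : Q := act 1 n6235
theorem D10355 : act 1 n6235 = n10355 := rfl
theorem F17218 : act 3 n10355 = n6244 := d7_2 (iv F10109) D10355 (iv D6244)
theorem F17219 : act 6 n8593 = n10355 := d17_0 F17218 (iv F10219) D8593
def n10357 : Q := act 5 n6235
theorem D10357 : act 5 n6235 = n10357 := rfl
theorem F17221 : act 0 n10357 = n6237 := d4_1 D10357 (iv D6237) D6235
theorem F17222 : act 3 n10357 = n6245 := d16_1 D10357 (iv D6245) (iv F10109)
def n10364 : Q := act 4 n6241
theorem D10364 : act 4 n6241 = n10364 := rfl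
theorem F17236 : act 1 n10364 = n6357 := d8_1 D10364 (iv D6357) (iv F10120)
def n10367 : Q := act 5 n6244
theorem D10367 : act 5 n6244 = n10367 := rfl
theorem F17242 : act 2 n10367 = n8093 := d13_1 D10367 (iv D8093) (iv F10217)
theorem F17243 : act 4 n10367 = n10096 := d18_1 D10367 (iv D10096) (iv F10218)
theorem F17244 : act 1 n6694 = n10367 := d8_3 F17243 F16754 F11635
def n10368 : Q := act 1 n6245
theorem D10368 : act 1 n6245 = n10368 := rfl
theorem F17245 : act 0 n10368 = n9834 := d0_1 D10368 F16244 F11071 (iv F7273) (iv F11172) F11173 F10284 F6811 (iv F10220)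
theorem F17246 : act 4 n10368 = n7072 := d8_2 (iv F10221) D10368 (iv F11649)
theorem F17247 : act 5 n10368 = n6694 := d9_2 D6245 D10368 F17244 (iv D10367) (iv D6244)
theorem F17248 : act 2 n6697 = n10368 := d13_3 F17247 F10942 D6697
theorem F17249 : act 6 n6331 = n10368 := d20_0 F17247 (iv D6694) (iv F11631) D9834 F16247 (iv D6332) D6331
def n10371 : Q := act 5 n6246
theorem D10371 : act 5 n6246 = n10371 := rfl
theorem F17252 : act 3 n10371 = n6247 := d16_1 D10371 (iv D6247) D6246
theorem F17254 : act 1 n7754 = n10371 := d7_3 F17252 (iv F10227) (iv F12857)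
def n10372 : Q := act 2 n6249
theorem D10372 : act 2 n6249 = n10372 := rfl
theorem F17256 : act 4 n10372 = n10141 := d12_2 (iv F10233) D10372 (iv D10141)
theorem F17257 : act 5 n10372 = n6254 := d13_2 (iv F10234) D10372 (iv D6254)
theorem F17258 : act 3 n10372 = n10225 := d21_1 D10372 (iv D10225) (iv D6147) (iv D3937) (iv F5365) D4405 D7049 F11592
def n10373 : Q := act 6 n6249
theorem D10373 : act 6 n6249 = n10373 := rfl
def n10375 : Q := act 0 n6251
theorem D10375 : act 0 n6251 = n10375 := rfl
theorem F17264 : act 3 n10375 = n6468 := d2_2 (iv F10240) D10375 F13614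
theorem F17265 : act 4 n10375 = n10143 := d3_2 (iv F10241) D10375 (iv D10143)
theorem F17267 : act 1 n6796 = n10375 := d7_3 F17264 F10607 D6796
def n10377 : Q := act 1 n6252
theorem D10377 : act 1 n6252 = n10377 := rfl
def n10380 : Q := act 6 n6253
theorem D10380 : act 6 n6253 = n10380 := rfl
theorem F17277 : act 5 n10380 = n10373 := d22_2 F11594 D10380 (iv D10373) (iv F11592)
def n10381 : Q := act 3 n6254
theorem D10381 : act 3 n6254 = n10381 := rfl
theorem F17278 : act 1 n10381 = n6260 := d7_1 D10381 (iv D6260) (iv F10249)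
theorem F17279 : act 5 n10381 = n10225 := d16_2 F17257 D10381 (iv F17258)
def n10383 : Q := act 5 n6255
theorem D10383 : act 5 n6255 = n10383 := rfl
theorem F17284 : act 6 n10383 = n7049 := d20_2 D6255 D10383 F11594 D10380 F17277 (iv D10373) F10234
def n10387 : Q := act 0 n6258
theorem D10387 : act 0 n6258 = n10387 := rfl
theorem F17294 : act 4 n10387 = n9820 := d3_2 F11113 D10387 F16215
def n10388 : Q := act 2 n6258
theorem D10388 : act 2 n6258 = n10388 := rfl
def n10389 : Q := act 5 n6258
theorem D10389 : act 5 n6258 = n10389 := rfl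
theorem F17296 : act 1 n10389 = n6303 := d9_1 D10389 (iv D6303) (iv D4015) (iv F6800) D6258
def n10393 : Q := act 6 n6260
theorem D10393 : act 6 n6260 = n10393 := rfl
theorem F17304 : act 5 n10393 = n7741 := d22_2 (iv F10256) D10393 (iv D7741) F8035
def n10410 : Q := act 2 n6269
theorem D10410 : act 2 n6269 = n10410 := rfl
theorem F17330 : act 4 n10410 = n8967 := d12_2 (iv F10267) D10410 F14964
theorem F17331 : act 6 n10410 = n8608 := d14_2 F10268 D10410 (iv D8608)
theorem F17332 : act 5 n10157 = n10410 := d18_0 F17330 F14965 (iv F16860)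
def n10415 : Q := act 5 n6272
theorem D10415 : act 5 n6272 = n10415 := rfl
theorem F17345 : act 4 n10415 = n8980 := d18_1 D10415 (iv D8980) (iv F10274)
theorem F17347 : act 1 n10415 = n10163 := d24_2 D6272 D10415 F16871 D10167 F16878 F11180 F11018 D6834 (iv F11169) F10364 (iv D4025) (iv D2871) (iv F5006) D3999
def n10416 : Q := act 2 n6273
theorem D10416 : act 2 n6273 = n10416 := rfl
theorem F17349 : act 1 n10416 = n6838 := d6_1 D10416 F11176 F7273 (iv F11075) F11074
theorem F17351 : act 6 n10416 = n6277 := d14_2 (iv F10276) D10416 (iv D6277)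
def n10419 : Q := act 1 n6277
theorem D10419 : act 1 n6277 = n10419 := rfl
theorem F17356 : act 2 n10419 = n6500 := d6_2 D6277 D10419 F10667 F10604 (iv D6276)
theorem F17358 : act 6 n10419 = n6499 := d10_2 F17351 D10419 F10665 D6838 (iv F17349)
def n10426 : Q := act 1 n6281
theorem D10426 : act 1 n6281 = n10426 := rfl
theorem F17371 : act 0 n10426 = n6882 := d0_1 D10426 F11253 (iv D5899) (iv D3806) (iv F4866) D3810 D5909 F10371 (iv F10290)
def n10427 : Q := act 2 n6282
theorem D10427 : act 2 n6282 = n10427 := rfl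
theorem F17375 : act 4 n10427 = n10104 := d12_2 (iv F10293) D10427 (iv D10104)
def n10428 : Q := act 5 n6282
theorem D10428 : act 5 n6282 = n10428 := rfl
theorem F17377 : act 1 n10428 = n7081 := d9_1 D10428 F16889 (iv D10171) F9931 D6282
theorem F17379 : act 6 n10428 = n6871 := d20_2 (iv F11240) D10428 F11534 D8614 F14425 F11221 D6873
theorem F17380 : act 2 n7080 = n10428 := d6_0 F17377 (iv D7081) (iv D4422) (iv F7445) D7080
theorem F17381 : act 5 n10427 = n7080 := d13_0 F17380 (iv D10428) D10427
def n10439 : Q := act 2 n6288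
theorem D10439 : act 2 n6288 = n10439 := rfl
theorem F17403 : act 4 n10439 = n10129 := d12_2 (iv F10306) D10439 (iv D10129)
def n10446 : Q := act 3 n6291
theorem D10446 : act 3 n6291 = n10446 := rfl
theorem F17419 : act 5 n10446 = n6298 := d16_2 (iv F10313) D10446 (iv D6298)
def n10459 : Q := act 3 n6296
theorem D10459 : act 3 n6296 = n10459 := rfl
theorem F17447 : act 0 n10459 = n6298 := d2_1 D10459 (iv D6298) (iv F10323)
def n10462 : Q := act 2 n6298
theorem D10462 : act 2 n6298 = n10462 := rfl
def n10463 : Q := act 4 n6298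
theorem D10463 : act 4 n6298 = n10463 := rfl
theorem F17455 : act 3 n10463 = n10184 := d15_1 D10463 (iv D10184) (iv D6122) (iv F6837) D6298
def n10467 : Q := act 1 n6300
theorem D10467 : act 1 n6300 = n10467 := rfl
theorem F17466 : act 5 n10467 = n6312 := d9_2 D6300 D10467 (iv D6312) (iv D4020) (iv F6838)
def n10478 : Q := act 0 n6305
theorem D10478 : act 0 n6305 = n10478 := rfl
def n10479 : Q := act 5 n6305
theorem D10479 : act 5 n6305 = n10479 := rfl
def n10480 : Q := act 6 n6305
theorem D10480 : act 6 n6305 = n10480 := rfl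
def n10485 : Q := act 5 n6309
theorem D10485 : act 5 n6309 = n10485 := rfl
theorem F17487 : act 3 n10485 = n6311 := d16_1 D10485 (iv D6311) (iv F10343)
theorem F17488 : act 6 n10485 = n7529 := d20_2 D6309 D10485 F12478 D7741 (iv F17304) (iv D10393) F10256
def n10488 : Q := act 1 n6311
theorem D10488 : act 1 n6311 = n10488 := rfl
def n10490 : Q := act 2 n6312
theorem D10490 : act 2 n6312 = n10490 := rfl
def n10503 : Q := act 2 n6320
theorem D10503 : act 2 n6320 = n10503 := rfl
theorem F17522 : act 6 n10503 = n6322 := d14_2 (iv F10362) D10503 (iv D6322)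
def n10504 : Q := act 3 n6322
theorem D10504 : act 3 n6322 = n10504 := rfl
def n10505 : Q := act 6 n6323
theorem D10505 : act 6 n6323 = n10505 := rfl
theorem F17524 : act 0 n10505 = n7081 := d5_1 D10505 F16320 F16316
theorem F17525 : act 1 n10505 = n6332 := d10_1 D10505 (iv D6332) (iv D4030) (iv F6857) D6323
def n10506 : Q := act 1 n6324
theorem D10506 : act 1 n6324 = n10506 := rfl
theorem F17530 : act 4 n10506 = n7080 := d8_2 (iv F10379) D10506 (iv D7080)
theorem F17531 : act 5 n10104 = n10506 := d18_0 F17530 (iv F17381) F17375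
theorem F17532 : act 6 n10506 = n7019 := d22_3 D7022 (iv F16773) F17531 F11536
theorem F17533 : act 0 n7000 = n10506 := d22_4 (iv F17531) F16773 (iv D7022) (iv F11501)
def n10507 : Q := act 3 n6324
theorem D10507 : act 3 n6324 = n10507 := rfl
theorem F17534 : act 0 n10507 = n6325 := d2_1 D10507 (iv D6325) (iv F10378)
theorem F17535 : act 6 n10507 = n6334 := d17_2 (iv F10380) D10507 (iv D6334)
def n10508 : Q := act 2 n6325
theorem D10508 : act 2 n6325 = n10508 := rfl
theorem F17536 : act 6 n10508 = n6337 := d14_2 (iv F10382) D10508 (iv D6337)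
def n10509 : Q := act 4 n6325
theorem D10509 : act 4 n6325 = n10509 := rfl
theorem F17537 : act 1 n10509 = n7850 := d8_1 D10509 (iv D7850) (iv F10381)
theorem F17539 : act 6 n10509 = n6338 := d19_2 (iv F10382) D10509 (iv D6338)
def n10510 : Q := act 5 n6325
theorem D10510 : act 5 n6325 = n10510 := rfl
def n10517 : Q := act 3 n6329
theorem D10517 : act 3 n6329 = n10517 := rfl
theorem F17556 : act 1 n10517 = n7857 := d7_1 D10517 (iv D7857) (iv F10388)
def n10521 : Q := act 3 n6333
theorem D10521 : act 3 n6333 = n10521 := rfl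
theorem F17567 : act 1 n10521 = n6334 := d7_1 D10521 (iv D6334) D6333
def n10522 : Q := act 5 n6333
theorem D10522 : act 5 n6333 = n10522 := rfl
theorem F17568 : act 4 n10522 = n7076 := d18_1 D10522 (iv D7076) (iv F10394)
def n10523 : Q := act 6 n6333
theorem D10523 : act 6 n6333 = n10523 := rfl
theorem F17569 : act 1 n10523 = n7019 := d10_1 D10523 (iv F17532) (iv D10506) F10380 D6333
def n10524 : Q := act 2 n6334
theorem D10524 : act 2 n6334 = n10524 := rfl
theorem F17571 : act 0 n10524 = n6337 := d1_1 D10524 (iv D6337) (iv F10395)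
theorem F17572 : act 3 n10524 = n10462 := d21_1 D10524 (iv D10462) (iv D6298) (iv D4013) F5018 D2875 D4033 (iv F10395)
def n10525 : Q := act 4 n6334
theorem D10525 : act 4 n6334 = n10525 := rfl
theorem F17574 : act 3 n10525 = n7078 := d15_1 D10525 (iv D7078) (iv D4420) (iv F6865) D6334
def n10527 : Q := act 1 n6335
theorem D10527 : act 1 n6335 = n10527 := rfl
theorem F17578 : act 4 n10527 = n7052 := d8_2 (iv F10398) D10527 (iv D7052)
def n10528 : Q := act 2 n6336
theorem D10528 : act 2 n6336 = n10528 := rfl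
theorem F17579 : act 4 n10528 = n7050 := d12_2 (iv F10400) D10528 (iv D7050)
def n10529 : Q := act 3 n6337
theorem D10529 : act 3 n6337 = n10529 := rfl
theorem F17582 : act 2 n10529 = n10459 := d11_1 D10529 (iv D10459) (iv D6296) F6834 D4031 D6334 D10524 F17572 (iv D10462) (iv D6298) (iv D4013) F5018 D2875 D4033 D6337
def n10530 : Q := act 4 n6337
theorem D10530 : act 4 n6337 = n10530 := rfl
theorem F17583 : act 1 n10530 = n7349 := d8_1 D10530 (iv D7349) (iv F10401)
def n10531 : Q := act 5 n6337
theorem D10531 : act 5 n6337 = n10531 := rfl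
def n10532 : Q := act 5 n6338
theorem D10532 : act 5 n6338 = n10532 := rfl
theorem F17587 : act 3 n10532 = n7055 := d16_1 D10532 F11602 (iv F10403)
theorem F17588 : act 4 n10532 = n6339 := d18_1 D10532 (iv D6339) D6338
def n10534 : Q := act 1 n6340
theorem D10534 : act 1 n6340 = n10534 := rfl
theorem F17593 : act 6 n10534 = n7267 := d10_2 D6340 D10534 (iv D7267) (iv D4522) (iv F6870)
def n10536 : Q := act 2 n6341
theorem D10536 : act 2 n6341 = n10536 := rfl
theorem F17598 : act 6 n10536 = n6765 := d14_2 (iv F10411) D10536 (iv D6765)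
def n10538 : Q := act 0 n6342
theorem D10538 : act 0 n6342 = n10538 := rfl
theorem F17605 : act 3 n10538 = n7479 := d2_2 (iv F10412) D10538 (iv D7479)
theorem F17607 : act 5 n10538 = n6410 := d4_2 (iv F10414) D10538 (iv D6410)
def n10539 : Q := act 6 n6342
theorem D10539 : act 6 n6342 = n10539 := rfl
def n10541 : Q := act 6 n6344
theorem D10541 : act 6 n6344 = n10541 := rfl
theorem F17612 : act 0 n10541 = n6346 := d5_1 D10541 (iv D6346) D6344
theorem F17613 : act 4 n10541 = n10084 := d19_1 D10541 (iv D10084) (iv F10418)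
theorem F17614 : act 5 n10541 = n10340 := d22_2 F17185 D10541 (iv D10340) D10338
def n10542 : Q := act 3 n6345
theorem D10542 : act 3 n6345 = n10542 := rfl
theorem F17615 : act 1 n10542 = n6352 := d7_1 D10542 (iv D6352) (iv F10419)
def n10543 : Q := act 6 n6345
theorem D10543 : act 6 n6345 = n10543 := rfl
theorem F17616 : act 2 n10543 = n6346 := d14_1 D10543 (iv D6346) D6345
theorem F17617 : act 4 n10543 = n9973 := d19_1 D10543 (iv D9973) (iv F10420)
def n10544 : Q := act 1 n6346
theorem D10544 : act 1 n6346 = n10544 := rfl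
theorem F17619 : act 6 n10544 = n6347 := d10_2 D6346 D10544 (iv D6347) (iv D4040) D4039
theorem F17620 : act 2 n9927 = n10544 := d14_3 F17619 F10422 D9927
def n10545 : Q := act 5 n6346
theorem D10545 : act 5 n6346 = n10545 := rfl
theorem F17621 : act 0 n10545 = n10340 := d4_1 D10545 (iv F17614) F17612
theorem F17622 : act 4 n10545 = n10086 := d18_1 D10545 (iv D10086) (iv F10421)
theorem F17623 : act 6 n10545 = n10338 := d20_2 D6346 D10545 F17185 D10541 F17614 (iv D10340) F10088
def n10547 : Q := act 5 n6348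
theorem D10547 : act 5 n6348 = n10547 := rfl
theorem F17626 : act 0 n10547 = n6350 := d4_1 D10547 (iv D6350) D6348
theorem F17627 : act 2 n10547 = n7460 := d13_1 D10547 (iv D7460) F10425
theorem F17629 : act 6 n10547 = n10341 := d22_1 D10547 (iv D10341) F10090 D6348
theorem F17630 : act 1 n6705 = n10547 := d6_5 F17627 (iv F13630) F9317 (iv F9284) (iv F16299)
def n10549 : Q := act 5 n6349
theorem D10549 : act 5 n6349 = n10549 := rfl
theorem F17634 : act 1 n10549 = n7331 := d9_1 D10549 (iv F12115) (iv F12116) F9785 (iv F10427)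
def n10550 : Q := act 1 n6350
theorem D10550 : act 1 n6350 = n10550 := rfl
theorem F17638 : act 0 n10550 = n6714 := d0_1 D10550 (iv D6714) (iv D4226) (iv D2982) (iv F5225) D4221 D6705 F17630 F17626
theorem F17640 : act 5 n10550 = n6351 := d9_2 D6350 D10550 (iv D6351) (iv D4042) D4041
def n10551 : Q := act 6 n6350
theorem D10551 : act 6 n6350 = n10551 := rfl
theorem F17644 : act 5 n10551 = n8445 := d20_1 D10551 F14174 D10547 F17629 (iv D10341) F10090 D6350
def n10552 : Q := act 0 n6351
theorem D10552 : act 0 n6351 = n10552 := rfl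
theorem F17646 : act 5 n10552 = n6714 := d4_2 F17640 D10552 (iv F17638)
def n10553 : Q := act 6 n6351
theorem D10553 : act 6 n6351 = n10553 := rfl
theorem F17647 : act 1 n10553 = n10539 := d10_1 D10553 (iv D10539) (iv D6342) (iv F6896) D6351
def n10554 : Q := act 2 n6352
theorem D10554 : act 2 n6352 = n10554 := rfl
theorem F17649 : act 5 n10554 = n6356 := d13_2 (iv F10431) D10554 (iv D6356)
def n10555 : Q := act 4 n6352
theorem D10555 : act 4 n6352 = n10555 := rfl
theorem F17650 : act 3 n10555 = n9966 := d15_1 D10555 F16540 F9716 (iv F6897) D6352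
theorem F17651 : act 5 n10555 = n6357 := d18_2 (iv F10431) D10555 (iv D6357)
def n10556 : Q := act 4 n6353
theorem D10556 : act 4 n6353 = n10556 := rfl
theorem F17652 : act 0 n10556 = n7515 := d3_1 D10556 F12453 (iv F10432)
theorem F17653 : act 3 n10556 = n8879 := d15_1 D10556 F14837 F8958 (iv F10168) D6353
def n10557 : Q := act 0 n6354
theorem D10557 : act 0 n6354 = n10557 := rfl
theorem F17656 : act 4 n10557 = n9945 := d3_2 (iv F10434) D10557 (iv D9945)
theorem F17657 : act 5 n10557 = n10319 := d4_2 F11777 D10557 F17150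
def n10558 : Q := act 3 n6354
theorem D10558 : act 3 n6354 = n10558 := rfl
theorem F17658 : act 1 n10558 = n6355 := d7_1 D10558 (iv D6355) D6354
def n10560 : Q := act 4 n6355
theorem D10560 : act 4 n6355 = n10560 := rfl
theorem F17661 : act 0 n10560 = n6357 := d3_1 D10560 (iv D6357) (iv F10435)
theorem F17662 : act 3 n10560 = n9949 := d15_1 D10560 (iv D9949) (iv D5973) (iv F6902) D6355
def n10561 : Q := act 1 n6356
theorem D10561 : act 1 n6356 = n10561 := rfl
def n10562 : Q := act 4 n6356
theorem D10562 : act 4 n6356 = n10562 := rfl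
theorem F17664 : act 2 n10562 = n6357 := d12_1 D10562 (iv D6357) D6356
def n10563 : Q := act 6 n6356
theorem D10563 : act 6 n6356 = n10563 := rfl
def n10564 : Q := act 6 n6357
theorem D10564 : act 6 n6357 = n10564 := rfl
theorem F17669 : act 4 n10564 = n6358 := d19_1 D10564 (iv D6358) D6357
def n10565 : Q := act 1 n6358
theorem D10565 : act 1 n6358 = n10565 := rfl
theorem F17670 : act 3 n10565 = n6359 := d7_2 (iv F10439) D10565 (iv D6359)
def n10566 : Q := act 5 n6358
theorem D10566 : act 5 n6358 = n10566 := rfl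
theorem F17672 : act 3 n10566 = n6360 := d16_1 D10566 (iv D6360) (iv F10439)
theorem F17673 : act 6 n10566 = n9857 := d20_2 D6358 D10566 F16347 F10436 (iv F16398) F16399 F10431
def n10567 : Q := act 0 n6359
theorem D10567 : act 0 n6359 = n10567 := rfl
theorem F17674 : act 4 n10567 = n9975 := d3_2 (iv F10440) D10567 (iv D9975)
def n10574 : Q := act 5 n6363
theorem D10574 : act 5 n6363 = n10574 := rfl
theorem F17687 : act 2 n10574 = n6365 := d13_1 D10574 (iv D6365) D6363
theorem F17688 : act 3 n10574 = n9867 := d16_1 D10574 F16365 F14925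
def n10576 : Q := act 1 n6365
theorem D10576 : act 1 n6365 = n10576 := rfl
theorem F17694 : act 5 n10576 = n7754 := d9_2 D6365 D10576 F17254 (iv D10371) F10223
theorem F17695 : act 0 n7753 = n10576 := d4_3 F17694 (iv D7754) (iv F12856)
def n10592 : Q := act 4 n6374
theorem D10592 : act 4 n6374 = n10592 := rfl
theorem F17723 : act 0 n10592 = n6376 := d3_1 D10592 (iv D6376) (iv F10470)
def n10594 : Q := act 4 n6375
theorem D10594 : act 4 n6375 = n10594 := rfl
theorem F17726 : act 2 n10594 = n6376 := d12_1 D10594 (iv D6376) D6375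
theorem F17727 : act 5 n10594 = n10122 := d18_2 (iv F10472) D10594 (iv D10122)
def n10596 : Q := act 6 n6376
theorem D10596 : act 6 n6376 = n10596 := rfl
theorem F17729 : act 3 n10596 = n10124 := d17_1 D10596 (iv D10124) (iv F10473)
def n10598 : Q := act 0 n6378
theorem D10598 : act 0 n6378 = n10598 := rfl
theorem F17732 : act 2 n10598 = n10567 := d1_2 (iv F10476) D10598 (iv D10567)
def n10603 : Q := act 1 n6381
theorem D10603 : act 1 n6381 = n10603 := rfl
theorem F17745 : act 5 n10603 = n10603 := d9_2 D6381 D10603 (iv D10603) (iv D6381) F6940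
def n10608 : Q := act 2 n6383
theorem D10608 : act 2 n6383 = n10608 := rfl
theorem F17758 : act 5 n10608 = n6395 := d13_2 (iv F10485) D10608 (iv D6395)
def n10615 : Q := act 1 n6387
theorem D10615 : act 1 n6387 = n10615 := rfl
theorem F17772 : act 5 n7222 = n10615 := d24_1 (iv F14678) (iv D10615) (iv F10522) (iv D6402) (iv F7094) (iv D4149) (iv F7088) (iv D4146) D4147 F7092 (iv F13594) F8792 D5325 D8765
def n10616 : Q := act 1 n6388
theorem D10616 : act 1 n6388 = n10616 := rfl
theorem F17774 : act 6 n10616 = n6389 := d10_2 D6388 D10616 (iv D6389) (iv D4065) D4064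
def n10617 : Q := act 0 n6389
theorem D10617 : act 0 n6389 = n10617 := rfl
theorem F17775 : act 4 n10617 = n6421 := d3_2 (iv F10500) D10617 (iv D6421)
theorem F17776 : act 5 n10617 = n9944 := d4_2 F13751 D10617 (iv D9944)
theorem F17777 : act 1 n9523 = n10617 := d23_2 F9459 (iv F15805) (iv D10617) (iv F13751) (iv F10468) (iv D6373) F6928 F5096 (iv D2807) (iv D2247) F2087 (iv F2084) (iv F4080) D2801 D3897 D6070 (iv F10193) D8122 F13538
def n10627 : Q := act 6 n6395
theorem D10627 : act 6 n6395 = n10627 := rfl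
def n10629 : Q := act 1 n6397
theorem D10629 : act 1 n6397 = n10629 := rfl
theorem F17801 : act 3 n10629 = n6403 := d7_2 (iv F10511) D10629 (iv D6403)
theorem F17802 : act 0 n7363 = n10629 := d2_3 F17801 F13673 D7363
def n10635 : Q := act 5 n6400
theorem D10635 : act 5 n6400 = n10635 := rfl
theorem F17812 : act 1 n10635 = n7222 := d9_1 D10635 F17772 (iv D10615) F10497 D6400
theorem F17814 : act 6 n8671 = n10635 := d24_0 (iv D10635) (iv D6400) D6401 F10518 D10616 F17774 (iv F13751) (iv D5971) (iv D3842) (iv D2766) (iv F4682) (iv F6129) D5268 D8671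
def n10636 : Q := act 6 n6400
theorem D10636 : act 6 n6400 = n10636 := rfl
def n10648 : Q := act 1 n6410
theorem D10648 : act 1 n6410 = n10648 := rfl
theorem F17838 : act 0 n10648 = n8098 := d0_1 D10648 F13493 (iv F10542) (iv D6416) (iv D4078) (iv D2910) (iv F5121) D4076 D6410
def n10650 : Q := act 6 n6410
theorem D10650 : act 6 n6410 = n10650 := rfl
theorem F17846 : act 5 n10650 = n10539 := d22_2 F17607 D10650 (iv D10539) D10538
def n10661 : Q := act 5 n6420
theorem D10661 : act 5 n6420 = n10661 := rfl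
def n10662 : Q := act 1 n6421
theorem D10662 : act 1 n6421 = n10662 := rfl
theorem F17861 : act 4 n10662 = n9523 := d8_2 F17775 D10662 F17777
theorem F17863 : act 5 n6736 = n10662 := d18_0 F17861 F15806 F14992
theorem F17864 : act 6 n7912 = n10662 := d19_0 F17861 (iv D9523) (iv F13131)
def n10664 : Q := act 5 n6421
theorem D10664 : act 5 n6421 = n10664 := rfl
theorem F17867 : act 0 n10664 = n6423 := d4_1 D10664 (iv D6423) D6421
theorem F17868 : act 1 n10664 = n6622 := d9_1 D10664 F10839 (iv F10977) F17863 (iv D10662)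
theorem F17871 : act 6 n10664 = n10661 := d22_1 D10664 (iv D10661) F10551 D6421
def n10665 : Q := act 3 n6422
theorem D10665 : act 3 n6422 = n10665 := rfl
theorem F17872 : act 5 n10665 = n10114 := d16_2 F13752 D10665 (iv D10114)
def n10667 : Q := act 5 n6424
theorem D10667 : act 5 n6424 = n10667 := rfl
theorem F17878 : act 2 n10667 = n6798 := d13_1 D10667 F11091 (iv F13683)
theorem F17880 : act 6 n10667 = n6797 := d22_1 D10667 (iv D6797) (iv F11050) (iv F13682)
def n10673 : Q := act 0 n6428
theorem D10673 : act 0 n6428 = n10673 := rfl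
theorem F17886 : act 5 n10673 = n6429 := d4_2 (iv F10557) D10673 (iv D6429)
def n10674 : Q := act 2 n6428
theorem D10674 : act 2 n6428 = n10674 := rfl
theorem F17887 : act 5 n10674 = n6430 := d13_2 (iv F10557) D10674 (iv D6430)
def n10675 : Q := act 6 n6428
theorem D10675 : act 6 n6428 = n10675 := rfl
def n10676 : Q := act 1 n6429
theorem D10676 : act 1 n6429 = n10676 := rfl
def n10677 : Q := act 2 n6429
theorem D10677 : act 2 n6429 = n10677 := rfl
theorem F17888 : act 0 n10677 = n6430 := d1_1 D10677 (iv D6430) D6429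
theorem F17889 : act 1 n9484 = n10677 := d23_2 D5704 (iv F15738) F17888 (iv F17887) (iv D10674) (iv D6428) (iv F6989) F6990 D6425 (iv F16182) F16181 (iv F15778) F15777 (iv F9631) (iv F13890) F13893 (iv F13895) F13898 (iv D5702)
theorem E1749 : n10676 = n9412 := (c6_4 (iv F15738) F17889 (iv D10677) D10676 F15636 (iv F9352))
theorem F17890 : act 1 n9412 = n6429 := (sb E1749 (iv D10676))
def n10678 : Q := act 6 n6429
theorem D10678 : act 6 n6429 = n10678 := rfl
theorem F17892 : act 1 n10678 = n6609 := d10_1 D10678 F10827 (iv F10954) F16298 F17890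
theorem F17893 : act 5 n10678 = n10675 := d22_2 F17886 D10678 (iv D10675) D10673
def n10679 : Q := act 3 n6430
theorem D10679 : act 3 n6430 = n10679 := rfl
def n10682 : Q := act 5 n6432
theorem D10682 : act 5 n6432 = n10682 := rfl
theorem F17897 : act 0 n10682 = n6434 := d4_1 D10682 (iv D6434) D6432
theorem F17898 : act 1 n10682 = n10338 := d9_1 D10682 F17185 F17069 (iv D6690) (iv F10559)
def n10683 : Q := act 6 n6432
theorem D10683 : act 6 n6432 = n10683 := rfl
theorem F17901 : act 2 n10683 = n10523 := d14_1 D10683 (iv D10523) F10560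
def n10684 : Q := act 1 n6433
theorem D10684 : act 1 n6433 = n10684 := rfl
theorem F17902 : act 0 n10684 = n7389 := d0_1 D10684 (iv D7389) (iv D4579) (iv D3164) F4391 (iv F5034) (iv F6864) D6333 (iv F10561)
theorem F17903 : act 2 n10684 = n6436 := d6_2 D6433 D10684 (iv D6436) (iv D4087) D4086
def n10686 : Q := act 5 n6433
theorem D10686 : act 5 n6433 = n10686 := rfl
theorem F17907 : act 0 n10686 = n10522 := d4_1 D10686 (iv D10522) (iv F10561)
theorem F17909 : act 2 n10686 = n6434 := d13_1 D10686 (iv D6434) D6433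
def n10688 : Q := act 6 n6434
theorem D10688 : act 6 n6434 = n10688 := rfl
theorem F17914 : act 5 n10688 = n10683 := d22_2 D6434 D10688 (iv D10683) (iv D6432)
def n10689 : Q := act 1 n6435
theorem D10689 : act 1 n6435 = n10689 := rfl
theorem F17915 : act 6 n10689 = n6439 := d10_2 D6435 D10689 (iv D6439) (iv D4088) D4086
def n10690 : Q := act 5 n6435
theorem D10690 : act 5 n6435 = n10690 := rfl
theorem F17917 : act 6 n10690 = n10682 := d20_2 D6435 D10690 (iv D10682) D10683 (iv F17914) (iv D10688) (iv D6434)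
def n10691 : Q := act 0 n6436
theorem D10691 : act 0 n6436 = n10691 := rfl
theorem F17919 : act 2 n10691 = n7389 := d1_2 F17903 D10691 (iv F17902)
theorem F17921 : act 5 n10691 = n9880 := d4_2 F14961 D10691 F16400
def n10700 : Q := act 5 n6439
theorem D10700 : act 5 n6439 = n10700 := rfl
theorem F17932 : act 1 n10700 = n10661 := d9_1 D10700 (iv D10661) (iv D6420) (iv F6978) D6439
theorem F17933 : act 1 n6734 = n10541 := d24_8 F17915 D10700 F17932 (iv F17871) (iv D10664) D10662 (iv F17864) (iv F13132) (iv D10541) (iv F17185) (iv F17898) (iv F17917) (iv D10690) D10689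
theorem F17934 : act 0 n10544 = n6737 := d0_3 F17933 F17612 D10544 (iv D6737) (iv D4237) (iv D2988) (iv F5233) D4236 D6734
theorem F17935 : act 1 n10084 = n9522 := d8_3 F15803 F17933 F17613
theorem F17936 : act 2 n9553 = n10084 := d6_0 F17935 F15802 F9396 (iv F9427) D9553
theorem F17938 : act 6 n9972 = n9553 := d14_0 F17936 (iv D10084) (iv F16549)
def n10709 : Q := act 6 n6444
theorem D10709 : act 6 n6444 = n10709 := rfl
theorem F17953 : act 1 n10709 = n8158 := d10_1 D10709 F13762 (iv D6416) (iv F6983) D6444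
def n10715 : Q := act 0 n6452
theorem D10715 : act 0 n6452 = n10715 := rfl
def n10717 : Q := act 6 n6452
theorem D10717 : act 6 n6452 = n10717 := rfl
theorem F17965 : act 1 n10717 = n10675 := d10_1 D10717 (iv D10675) (iv D6428) (iv F6986) D6452
theorem F17966 : act 5 n6607 = n10717 := d9_0 F17965 (iv F17893) F17892 (iv D6609) D6607
def n10724 : Q := act 0 n6457
theorem D10724 : act 0 n6457 = n10724 := rfl
theorem F17975 : act 6 n10724 = n8157 := d5_2 F10965 D10724 (iv F16291)
theorem F17976 : act 1 n6563 = n10724 := d10_5 F17975 (iv D8157) (iv D4973) (iv F7423) (iv F10773)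
def n10726 : Q := act 5 n6457
theorem D10726 : act 5 n6457 = n10726 := rfl
theorem F17977 : act 1 n10726 = n10667 := d9_1 D10726 (iv D10667) (iv D6424) (iv F6990) D6457
def n10727 : Q := act 6 n6458
theorem D10727 : act 6 n6458 = n10727 := rfl
def n10729 : Q := act 1 n6460
theorem D10729 : act 1 n6460 = n10729 := rfl
def n10737 : Q := act 6 n6464
theorem D10737 : act 6 n6464 = n10737 := rfl
theorem F17988 : act 0 n10737 = n6466 := d5_1 D10737 (iv D6466) D6464
theorem F17991 : act 5 n10737 = n10727 := d22_2 F11004 D10737 (iv D10727) (iv F11001)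
def n10738 : Q := act 3 n6465
theorem D10738 : act 3 n6465 = n10738 := rfl
theorem F17993 : act 1 n10738 = n6790 := d7_1 D10738 (iv D6790) (iv F10601)
def n10739 : Q := act 5 n6466
theorem D10739 : act 5 n6466 = n10739 := rfl
theorem F18000 : act 6 n10739 = n6759 := d20_2 D6466 D10739 F11004 D10737 F17991 (iv D10727) F10588
def n10741 : Q := act 1 n6470
theorem D10741 : act 1 n6470 = n10741 := rfl
theorem F18005 : act 3 n10741 = n6472 := d7_2 (iv F10611) D10741 (iv D6472)
theorem F18006 : act 4 n10741 = n6472 := d8_2 (iv F10612) D10741 (iv D6472)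
theorem F18007 : act 5 n10741 = n10741 := d9_2 D6470 D10741 (iv D10741) (iv D6470) F7009
def n10743 : Q := act 1 n6471
theorem D10743 : act 1 n6471 = n10743 := rfl
theorem F18012 : act 3 n10743 = n6474 := d7_2 (iv F10614) D10743 (iv D6474)
def n10745 : Q := act 0 n6472
theorem D10745 : act 0 n6472 = n10745 := rfl
def n10746 : Q := act 2 n6472
theorem D10746 : act 2 n6472 = n10746 := rfl
theorem F18021 : act 1 n10746 = n6481 := d6_1 D10746 (iv D6481) (iv D4112) (iv F7012) D6472
theorem F18022 : act 5 n10746 = n10746 := d13_2 F10616 D10746 (iv D10746)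
def n10747 : Q := act 6 n6472
theorem D10747 : act 6 n6472 = n10747 := rfl
def n10750 : Q := act 2 n6474
theorem D10750 : act 2 n6474 = n10750 := rfl
theorem F18024 : act 1 n10750 = n6485 := d6_1 D10750 (iv D6485) (iv D4114) (iv F7013) D6474
def n10753 : Q := act 0 n6476
theorem D10753 : act 0 n6476 = n10753 := rfl
theorem F18028 : act 5 n10753 = n6501 := d4_2 (iv F10625) D10753 (iv D6501)
def n10754 : Q := act 2 n6476
theorem D10754 : act 2 n6476 = n10754 := rfl
theorem F18029 : act 4 n10754 = n6481 := d12_2 (iv F10624) D10754 (iv D6481)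
theorem F18030 : act 5 n10754 = n6502 := d13_2 (iv F10625) D10754 (iv D6502)
def n10755 : Q := act 6 n6476
theorem D10755 : act 6 n6476 = n10755 := rfl
def n10756 : Q := act 1 n6477
theorem D10756 : act 1 n6477 = n10756 := rfl
theorem F18034 : act 4 n10756 = n6483 := d8_2 (iv F10627) D10756 (iv D6483)
def n10757 : Q := act 0 n6478
theorem D10757 : act 0 n6478 = n10757 := rfl
theorem F18036 : act 4 n10757 = n6484 := d3_2 (iv F10630) D10757 (iv D6484)
def n10762 : Q := act 2 n6480
theorem D10762 : act 2 n6480 = n10762 := rfl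
theorem F18045 : act 0 n10762 = n6481 := d1_1 D10762 (iv D6481) D6480
theorem F18046 : act 5 n10762 = n6510 := d13_2 (iv F10637) D10762 (iv D6510)
def n10763 : Q := act 3 n6481
theorem D10763 : act 3 n6481 = n10763 := rfl
theorem F18047 : act 5 n10763 = n6512 := d16_2 (iv F10638) D10763 (iv D6512)
def n10764 : Q := act 6 n6481
theorem D10764 : act 6 n6481 = n10764 := rfl
def n10765 : Q := act 1 n6482
theorem D10765 : act 1 n6482 = n10765 := rfl
theorem F18050 : act 6 n10765 = n6483 := d10_2 D6482 D10765 (iv D6483) (iv D4113) D4112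
def n10776 : Q := act 0 n6488
theorem D10776 : act 0 n6488 = n10776 := rfl
theorem F18063 : act 1 n10776 = n8590 := d0_2 D6488 D10776 F14380 (iv F10599) (iv D6464) (iv D4105) F5139 D2930 D4116
def n10777 : Q := act 2 n6488
theorem D10777 : act 2 n6488 = n10777 := rfl
theorem F18065 : act 4 n10777 = n6595 := d12_2 (iv F10646) D10777 (iv D6595)
def n10778 : Q := act 5 n6488
theorem D10778 : act 5 n6488 = n10778 := rfl
theorem F18066 : act 1 n10778 = n6529 := d9_1 D10778 (iv D6529) (iv D4135) (iv F7028) D6488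
def n10782 : Q := act 2 n6490
theorem D10782 : act 2 n6490 = n10782 := rfl
theorem F18073 : act 5 n10782 = n6534 := d13_2 (iv F10651) D10782 (iv D6534)
def n10783 : Q := act 4 n6490
theorem D10783 : act 4 n6490 = n10783 := rfl
theorem F18075 : act 3 n10783 = n6601 := d15_1 D10783 (iv D6601) (iv D4175) (iv F7030) D6490
theorem F18076 : act 5 n10783 = n6535 := d18_2 (iv F10651) D10783 (iv D6535)
def n10794 : Q := act 0 n6497
theorem D10794 : act 0 n6497 = n10794 := rfl
theorem F18098 : act 5 n10794 = n6498 := d4_2 (iv F10663) D10794 (iv D6498)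
def n10795 : Q := act 2 n6497
theorem D10795 : act 2 n6497 = n10795 := rfl
theorem F18099 : act 1 n10795 = n7282 := d6_1 D10795 (iv D7282) (iv D4528) (iv F7037) D6497
theorem F18101 : act 5 n10795 = n6499 := d13_2 (iv F10663) D10795 (iv D6499)
theorem F18102 : act 6 n8985 = n10795 := d10_0 F18099 F12022 (iv D5442) (iv F9001) D8985
def n10796 : Q := act 6 n6497
theorem D10796 : act 6 n6497 = n10796 := rfl
theorem F18103 : act 1 n10796 = n8983 := d10_1 D10796 (iv F14993) (iv D6548) F7086 D6497
def n10798 : Q := act 2 n6498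
theorem D10798 : act 2 n6498 = n10798 := rfl
theorem F18107 : act 0 n10798 = n6499 := d1_1 D10798 (iv D6499) D6498
theorem F18108 : act 4 n10798 = n6621 := d12_2 (iv F10664) D10798 (iv D6621)
def n10799 : Q := act 6 n6498
theorem D10799 : act 6 n6498 = n10799 := rfl
theorem F18109 : act 0 n10799 = n6500 := d5_1 D10799 (iv D6500) D6498
theorem F18111 : act 5 n10799 = n10796 := d22_2 F18098 D10799 (iv D10796) D10794
theorem F18112 : act 1 n9944 = n10799 := d9_5 F18111 F18103 (iv F15806) F17777 F17776
theorem F18113 : act 1 n10737 = n9874 := d0_4 F18112 F18109 F10667 (iv F17988) (iv D9874) (iv D5926) (iv F6558) D5971 D9944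
def n10800 : Q := act 3 n6499
theorem D10800 : act 3 n6499 = n10800 := rfl
theorem F18114 : act 1 n10800 = n6837 := d7_1 D10800 (iv D6837) (iv F10665)
def n10801 : Q := act 5 n6500
theorem D10801 : act 5 n6500 = n10801 := rfl
theorem F18117 : act 6 n10801 = n10794 := d20_2 D6500 D10801 F18098 D10799 F18111 (iv D10796) F10663
def n10802 : Q := act 1 n6501
theorem D10802 : act 1 n6501 = n10802 := rfl
theorem F18118 : act 3 n10802 = n6626 := d7_2 (iv F10669) D10802 (iv D6626)
theorem F18119 : act 4 n10802 = n6509 := d8_2 (iv F10670) D10802 (iv D6509)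
theorem F18120 : act 0 n8816 = n10802 := d3_3 F18119 (iv F11639) F17068
theorem F18121 : act 5 n10802 = n8814 := d4_2 D8816 F18120 (iv D8814)
def n10804 : Q := act 6 n6501
theorem D10804 : act 6 n6501 = n10804 := rfl
theorem F18125 : act 3 n10804 = n6628 := d17_1 D10804 (iv D6628) (iv F10669)
theorem F18126 : act 4 n10804 = n6511 := d19_1 D10804 (iv D6511) (iv F10670)
theorem F18127 : act 5 n10804 = n10755 := d22_2 F18028 D10804 (iv D10755) D10753
def n10805 : Q := act 3 n6502
theorem D10805 : act 3 n6502 = n10805 := rfl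
def n10806 : Q := act 6 n6502
theorem D10806 : act 6 n6502 = n10806 := rfl
theorem F18129 : act 2 n10806 = n6503 := d14_1 D10806 (iv D6503) D6502
theorem F18130 : act 4 n10806 = n6513 := d19_1 D10806 (iv D6513) (iv F10672)
def n10807 : Q := act 1 n6503
theorem D10807 : act 1 n6503 = n10807 := rfl
theorem F18132 : act 4 n10807 = n6514 := d8_2 (iv F10674) D10807 (iv D6514)
theorem F18133 : act 6 n10807 = n6504 := d10_2 D6503 D10807 (iv D6504) (iv D4124) D4123
def n10809 : Q := act 0 n6504
theorem D10809 : act 0 n6504 = n10809 := rfl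
theorem F18138 : act 3 n10809 = n6633 := d2_2 (iv F10675) D10809 (iv D6633)
def n10810 : Q := act 2 n6504
theorem D10810 : act 2 n6504 = n10810 := rfl
theorem F18140 : act 1 n10810 = n10810 := d6_1 D10810 (iv D10810) (iv D6504) F7042 D6504
theorem F18141 : act 4 n10810 = n6517 := d12_2 (iv F10676) D10810 (iv D6517)
def n10811 : Q := act 5 n6504
theorem D10811 : act 5 n6504 = n10811 := rfl
theorem F18144 : act 4 n10811 = n6518 := d18_1 D10811 (iv D6518) (iv F10676)
def n10812 : Q := act 1 n6505
theorem D10812 : act 1 n6505 = n10812 := rfl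
theorem F18145 : act 3 n10812 = n6636 := d7_2 (iv F10677) D10812 (iv D6636)
theorem F18146 : act 4 n10812 = n6519 := d8_2 (iv F10678) D10812 (iv D6519)
theorem F18147 : act 6 n8837 = n10812 := d19_0 F18146 (iv F14667) (iv F14788)
theorem F18148 : act 0 n10812 = n8840 := d5_1 F18147 (iv D8840) D8837
def n10820 : Q := act 2 n6508
theorem D10820 : act 2 n6508 = n10820 := rfl
theorem F18168 : act 4 n10820 = n6527 := d12_2 (iv F10684) D10820 (iv D6527)
def n10822 : Q := act 2 n6509
theorem D10822 : act 2 n6509 = n10822 := rfl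
theorem F18172 : act 3 n10822 = n10271 := d21_1 D10822 (iv D10271) (iv D6179) (iv D3954) (iv F5372) D4416 D7069 F11639
def n10823 : Q := act 5 n6509
theorem D10823 : act 5 n6509 = n10823 := rfl
theorem F18173 : act 0 n10823 = n8794 := d4_1 D10823 F17067 F11639
def n10825 : Q := act 1 n6510
theorem D10825 : act 1 n6510 = n10825 := rfl
def n10826 : Q := act 3 n6510
theorem D10826 : act 3 n6510 = n10826 := rfl
def n10827 : Q := act 6 n6510
theorem D10827 : act 6 n6510 = n10827 := rfl
theorem F18178 : act 0 n10827 = n6513 := d5_1 D10827 (iv D6513) (iv F10686)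
theorem F18179 : act 2 n10827 = n6511 := d14_1 D10827 (iv D6511) D6510
theorem F18180 : act 5 n10827 = n10764 := d22_2 F18046 D10827 (iv D10764) (iv F18045)
def n10829 : Q := act 2 n6512
theorem D10829 : act 2 n6512 = n10829 := rfl
def n10831 : Q := act 6 n6512
theorem D10831 : act 6 n6512 = n10831 := rfl
theorem F18183 : act 3 n10831 = n6513 := d17_1 D10831 (iv D6513) D6512
def n10832 : Q := act 1 n6513
theorem D10832 : act 1 n6513 = n10832 := rfl
theorem F18184 : act 6 n10832 = n10832 := d10_2 D6513 D10832 (iv D10832) (iv D6513) F7054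
def n10833 : Q := act 5 n6513
theorem D10833 : act 5 n6513 = n10833 := rfl
theorem F18185 : act 0 n10833 = n10764 := d4_1 D10833 (iv F18180) F18178
theorem F18186 : act 2 n10833 = n6515 := d13_1 D10833 (iv D6515) (iv F10691)
theorem F18187 : act 6 n10833 = n10762 := d20_2 D6513 D10833 F18046 D10827 F18180 (iv D10764) F10638
def n10834 : Q := act 0 n6514
theorem D10834 : act 0 n6514 = n10834 := rfl
theorem F18188 : act 3 n10834 = n6538 := d2_2 (iv F10692) D10834 (iv D6538)
theorem F18189 : act 6 n10834 = n6516 := d5_2 (iv F10693) D10834 (iv D6516)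
def n10835 : Q := act 2 n6514
theorem D10835 : act 2 n6514 = n10835 := rfl
theorem F18190 : act 6 n10835 = n6517 := d14_2 (iv F10693) D10835 (iv D6517)
def n10836 : Q := act 5 n6514
theorem D10836 : act 5 n6514 = n10836 := rfl
def n10837 : Q := act 1 n6516
theorem D10837 : act 1 n6516 = n10837 := rfl
theorem F18192 : act 3 n10837 = n6541 := d7_2 (iv F10697) D10837 (iv D6541)
def n10838 : Q := act 2 n6516
theorem D10838 : act 2 n6516 = n10838 := rfl
theorem F18193 : act 0 n10838 = n6517 := d1_1 D10838 (iv D6517) D6516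
def n10839 : Q := act 5 n6516
theorem D10839 : act 5 n6516 = n10839 := rfl
theorem F18195 : act 3 n10839 = n6542 := d16_1 D10839 (iv D6542) (iv F10697)
theorem F18196 : act 6 n10839 = n10836 := d22_1 D10839 (iv D10836) F10693 D6516
def n10840 : Q := act 3 n6517
theorem D10840 : act 3 n6517 = n10840 := rfl
def n10841 : Q := act 5 n6517
theorem D10841 : act 5 n6517 = n10841 := rfl
theorem F18198 : act 2 n10841 = n6518 := d13_1 D10841 (iv D6518) D6517
def n10843 : Q := act 0 n6519
theorem D10843 : act 0 n6519 = n10843 := rfl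
theorem F18202 : act 1 n10843 = n7363 := d0_2 D6519 D10843 F17802 (iv D10629) (iv D6397) (iv D4069) F5111 D2938 D4131
theorem F18205 : act 6 n10843 = n8804 := d5_2 F14667 D10843 F14746
def n10854 : Q := act 2 n6524
theorem D10854 : act 2 n6524 = n10854 := rfl
theorem F18219 : act 5 n10854 = n6527 := d13_2 (iv F10709) D10854 (iv D6527)
def n10857 : Q := act 1 n6526
theorem D10857 : act 1 n6526 = n10857 := rfl
theorem F18222 : act 3 n10857 = n6552 := d7_2 (iv F10713) D10857 (iv D6552)
def n10860 : Q := act 3 n6527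
theorem D10860 : act 3 n6527 = n10860 := rfl
def n10863 : Q := act 6 n6529
theorem D10863 : act 6 n6529 = n10863 := rfl
theorem F18232 : act 2 n10863 = n6918 := d14_1 D10863 (iv F11626) F11623
theorem F18234 : act 5 n10863 = n7071 := d22_2 D6529 D10863 (iv D7071) (iv F10029)
theorem F18235 : act 1 n6913 = n10863 := d24_14 (iv D10863) (iv D6529) (iv D4135) D4137 F7066 D6492 F10655 D6495 F10659 F13621 (iv D6568) F7107 (iv F7325) D6913
def n10864 : Q := act 1 n6530
theorem D10864 : act 1 n6530 = n10864 := rfl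
theorem F18236 : act 2 n10864 = n7843 := d6_2 F11633 D10864 (iv F13500) (iv F16755) F16754
theorem F18237 : act 4 n10864 = n6696 := d8_2 (iv F10718) D10864 (iv D6696)
theorem F18238 : act 6 n10864 = n6533 := d10_2 D6530 D10864 (iv D6533) (iv D4137) D4135
theorem F18239 : act 0 n7844 = n10864 := d3_3 F18237 F16294 (iv F12982)
def n10866 : Q := act 2 n6531
theorem D10866 : act 2 n6531 = n10866 := rfl
theorem F18245 : act 3 n10866 = n10829 := d21_1 D10866 (iv D10829) (iv D6512) (iv D4128) F5168 D2941 D4138 (iv F10719)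
def n10868 : Q := act 6 n6531
theorem D10868 : act 6 n6531 = n10868 := rfl
theorem F18248 : act 0 n10868 = n6536 := d5_1 D10868 (iv D6536) (iv F10719)
theorem F18249 : act 3 n10868 = n6532 := d17_1 D10868 (iv D6532) D6531
def n10869 : Q := act 1 n6532
theorem D10869 : act 1 n6532 = n10869 := rfl
theorem F18252 : act 2 n7585 = n10869 := d23_1 D7585 (iv D10869) F10720 D6537 F10730 (iv F16286) (iv D5969) (iv F8867) (iv F9020) (iv D5448) (iv F9015) (iv D5444) (iv D3587) D3586 D5439 (iv F14094) F14096 (iv F12569) (iv D7583)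
def n10870 : Q := act 0 n6533
theorem D10870 : act 0 n6533 = n10870 := rfl
theorem F18255 : act 6 n10870 = n7844 := d5_2 F18238 D10870 F18239
theorem F18256 : act 2 n7846 = n10870 := d14_3 F18255 (iv D7844) D7846
theorem F18257 : act 1 n10870 = n8758 := d6_1 F18256 F14660 (iv F9325) F13632 (iv F12985)
def n10871 : Q := act 2 n6533
theorem D10871 : act 2 n6533 = n10871 := rfl
theorem F18259 : act 1 n10871 = n7585 := d6_1 D10871 F18252 (iv D10869) F10721 D6533
theorem F18261 : act 6 n10871 = n7843 := d14_2 F18238 D10871 (iv F18236)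
theorem F18262 : act 5 n7579 = n10871 := d22_2 D7845 (iv F12984) F18261 (iv D7843)
def n10873 : Q := act 3 n6534
theorem D10873 : act 3 n6534 = n10873 := rfl
theorem F18267 : act 2 n10873 = n10826 := d11_1 D10873 (iv D10826) (iv D6510) F7053 D4136 D6531 D10866 F18245 (iv D10829) (iv D6512) (iv D4128) F5168 D2941 D4138 D6534
def n10876 : Q := act 6 n6535
theorem D10876 : act 6 n6535 = n10876 := rfl
theorem F18271 : act 3 n10876 = n6711 := d17_1 D10876 (iv D6711) (iv F10726)
def n10878 : Q := act 1 n6537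
theorem D10878 : act 1 n6537 = n10878 := rfl
theorem F18276 : act 2 n10878 = n10035 := d6_2 (iv F10730) D10878 (iv D10035) F9778 F16286
theorem F18277 : act 4 n10878 = n6713 := d8_2 (iv F10731) D10878 (iv D6713)
theorem F18278 : act 5 n10878 = n6713 := d9_2 D6537 D10878 (iv D6713) (iv D4225) (iv F7068)
def n10879 : Q := act 1 n6538
theorem D10879 : act 1 n6538 = n10879 := rfl
theorem F18279 : act 0 n10879 = n10088 := d0_1 D10879 (iv D10088) (iv F14659) (iv F18257) (iv D10870) (iv D6533) F7064 D4140 D6538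
theorem F18280 : act 4 n10879 = n6714 := d8_2 (iv F10734) D10879 (iv D6714)
def n10884 : Q := act 5 n6544
theorem D10884 : act 5 n6544 = n10884 := rfl
theorem F18287 : act 0 n10884 = n6546 := d4_1 D10884 (iv D6546) D6544
theorem F18288 : act 2 n10884 = n6546 := d13_1 D10884 (iv D6546) (iv F13665)
theorem F18290 : act 6 n10884 = n8761 := d22_1 D10884 (iv D8761) F13590 D6544
def n10885 : Q := act 6 n6546
theorem D10885 : act 6 n6546 = n10885 := rfl
theorem F18291 : act 0 n10885 = n8761 := d5_1 D10885 (iv F18290) F18287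
theorem F18292 : act 2 n10885 = n8761 := d14_1 D10885 (iv F18290) F18288
def n10886 : Q := act 1 n6549
theorem D10886 : act 1 n6549 = n10886 := rfl
theorem F18295 : act 0 n10886 = n10085 := d0_1 D10886 (iv D10085) (iv F16724) F17935 F15801 (iv D6548) F7083 D4146 D6549
def n10890 : Q := act 6 n6552
theorem D10890 : act 6 n6552 = n10890 := rfl
theorem F18306 : act 5 n9874 = n10890 := d22_0 (iv D10890) F16381 (iv D9876) D9874
def n10893 : Q := act 1 n6555
theorem D10893 : act 1 n6555 = n10893 := rfl
def n10895 : Q := act 2 n6556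
theorem D10895 : act 2 n6556 = n10895 := rfl
theorem F18311 : act 1 n10895 = n10348 := d6_1 D10895 (iv D10348) (iv D6231) (iv F7100) D6556
def n10896 : Q := act 5 n6556
theorem D10896 : act 5 n6556 = n10896 := rfl
theorem F18312 : act 1 n10896 = n10341 := d9_1 D10896 (iv D10341) (iv D6223) (iv F7101) D6556
theorem F18313 : act 6 n9410 = n10896 := d24_0 (iv D10896) (iv D6556) (iv D4152) (iv D2948) (iv D2316) D2318 (iv F4222) D2961 (iv F7134) D6606 (iv F10954) F16298 (iv D9412) D9410
theorem F18314 : act 2 n10896 = n9417 := d14_1 F18313 (iv D9417) (iv F15634)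
theorem F18315 : act 5 n9417 = n10895 := d13_2 D10896 F18314 (iv D10895)
def n10897 : Q := act 1 n6559
theorem D10897 : act 1 n6559 = n10897 := rfl
theorem F18316 : act 5 n10897 = n6560 := d9_2 D6559 D10897 (iv D6560) (iv D4154) D4153
def n10898 : Q := act 0 n6560
theorem D10898 : act 0 n6560 = n10898 := rfl
def n10900 : Q := act 6 n6560
theorem D10900 : act 6 n6560 = n10900 := rfl
theorem F18318 : act 1 n10900 = n10340 := d10_1 D10900 (iv D10340) (iv D6222) (iv F7105) D6560
def n10901 : Q := act 0 n6561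
theorem D10901 : act 0 n6561 = n10901 := rfl
theorem F18319 : act 1 n10901 = n6594 := d0_2 D6561 D10901 (iv D6594) (iv D4173) (iv D2958) (iv D2322) (iv F4213) D2950 D4155
theorem F18320 : act 2 n10901 = n7399 := d1_2 (iv F10767) D10901 (iv D7399)
theorem F18322 : act 5 n10901 = n10648 := d4_2 F13495 D10901 F17838
theorem F18323 : act 6 n8443 = n10901 := d24_0 F18322 (iv D10648) D10650 F17846 (iv F17647) (iv D10553) (iv F17640) (iv D10550) D10551 F17644 (iv D8445) (iv D5134) D5133 D8443
def n10902 : Q := act 6 n6561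
theorem D10902 : act 6 n6561 = n10902 := rfl
def n10903 : Q := act 1 n6562
theorem D10903 : act 1 n6562 = n10903 := rfl
theorem F18327 : act 0 n10903 = n8019 := d0_1 D10903 (iv D8019) (iv F8309) (iv F13696) (iv F17867) F17868 F10838 F7139 (iv F10769)
theorem F18329 : act 5 n6745 = n10903 := d24_1 D6745 (iv D10903) (iv D6562) (iv F7424) F7423 D4973 D8158 (iv F17953) (iv D10709) (iv F10982) (iv D6747) F7197 F7193 D4240
def n10904 : Q := act 5 n6564
theorem D10904 : act 5 n6564 = n10904 := rfl
theorem F18330 : act 2 n10904 = n8006 := d13_1 D10904 F13328 F13612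
theorem F18332 : act 6 n10904 = n8005 := d22_1 D10904 (iv D8005) (iv F12258) (iv F13608)
def n10905 : Q := act 1 n6566
theorem D10905 : act 1 n6566 = n10905 := rfl
theorem F18333 : act 6 n10905 = n6721 := d24_3 F13616 D6566 D10905 (iv D6721) (iv D4229) (iv F7187) (iv F7191) D6724 F10965 D10726 F17977 F17880 (iv D6797) (iv F10607)
def n10911 : Q := act 2 n6570
theorem D10911 : act 2 n6570 = n10911 := rfl
theorem F18340 : act 4 n10911 = n6579 := d12_2 (iv F10781) D10911 (iv D6579)
theorem F18341 : act 5 n10911 = n6627 := d13_2 (iv F10782) D10911 (iv D6627)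
def n10919 : Q := act 2 n6574
theorem D10919 : act 2 n6574 = n10919 := rfl
theorem F18355 : act 6 n10919 = n6637 := d14_2 (iv F10788) D10919 (iv D6637)
def n10920 : Q := act 3 n6575
theorem D10920 : act 3 n6575 = n10920 := rfl
theorem F18356 : act 6 n10920 = n6639 := d17_2 (iv F10790) D10920 (iv D6639)
def n10929 : Q := act 6 n6578
theorem D10929 : act 6 n6578 = n10929 := rfl
def n10931 : Q := act 3 n6579
theorem D10931 : act 3 n6579 = n10931 := rfl
theorem F18370 : act 0 n10931 = n6580 := d2_1 D10931 (iv D6580) (iv F10794)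
theorem F18371 : act 5 n10931 = n6651 := d16_2 (iv F10795) D10931 (iv D6651)
def n10932 : Q := act 2 n6580
theorem D10932 : act 2 n6580 = n10932 := rfl
def n10934 : Q := act 6 n6580
theorem D10934 : act 6 n6580 = n10934 := rfl
def n10935 : Q := act 1 n6581
theorem D10935 : act 1 n6581 = n10935 := rfl
def n10938 : Q := act 5 n6582
theorem D10938 : act 5 n6582 = n10938 := rfl
def n10951 : Q := act 0 n6590
theorem D10951 : act 0 n6590 = n10951 := rfl
theorem F18396 : act 5 n10951 = n6591 := d4_2 (iv F10810) D10951 (iv D6591)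
def n10953 : Q := act 6 n6590
theorem D10953 : act 6 n6590 = n10953 := rfl
def n10955 : Q := act 2 n6591
theorem D10955 : act 2 n6591 = n10955 := rfl
def n10956 : Q := act 6 n6591
theorem D10956 : act 6 n6591 = n10956 := rfl
theorem F18401 : act 0 n10956 = n6593 := d5_1 D10956 (iv D6593) D6591
theorem F18403 : act 5 n10956 = n10953 := d22_2 F18396 D10956 (iv D10953) D10951
def n10958 : Q := act 6 n6592
theorem D10958 : act 6 n6592 = n10958 := rfl
theorem F18405 : act 2 n10958 = n6593 := d14_1 D10958 (iv D6593) D6592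
def n10960 : Q := act 2 n6594
theorem D10960 : act 2 n6594 = n10960 := rfl
theorem F18409 : act 0 n10960 = n6595 := d1_1 D10960 (iv D6595) D6594
theorem F18410 : act 1 n10960 = n7141 := d6_1 D10960 (iv F12102) (iv F12244) (iv F18320) F18319
theorem F18411 : act 5 n7143 = n10960 := d23_0 (iv D10960) (iv F18319) (iv D10901) (iv F13495) (iv D8098) (iv D4938) F5931 (iv D3119) (iv F5651) F4581 (iv D2137) D2140 (iv F4656) D3488 D5228 F8736 D5893 D9835 F16248
def n10961 : Q := act 5 n6594
theorem D10961 : act 5 n6594 = n10961 := rfl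
theorem F18412 : act 0 n10961 = n6596 := d4_1 D10961 (iv D6596) D6594
theorem F18413 : act 1 n10961 = n10538 := d9_1 D10961 F17607 D10648 (iv F18322) F18319
theorem F18414 : act 2 n10961 = n7143 := d13_1 D10961 F18411 (iv D10960)
def n10962 : Q := act 6 n6594
theorem D10962 : act 6 n6594 = n10962 := rfl
theorem F18416 : act 1 n10962 = n8444 := d10_1 D10962 (iv D8444) D8443 F18323 F18319
def n10963 : Q := act 1 n6595
theorem D10963 : act 1 n6595 = n10963 := rfl
theorem F18417 : act 2 n10963 = n6598 := d6_2 D6595 D10963 (iv D6598) (iv D4174) D4173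
def n10966 : Q := act 6 n6596
theorem D10966 : act 6 n6596 = n10966 := rfl
theorem F18419 : act 5 n10966 = n10962 := d22_2 D6596 D10966 (iv D10962) (iv D6594)
def n10969 : Q := act 3 n6598
theorem D10969 : act 3 n6598 = n10969 := rfl
theorem F18422 : act 1 n10969 = n6599 := d7_1 D10969 (iv D6599) D6598
def n10970 : Q := act 5 n6598
theorem D10970 : act 5 n6598 = n10970 := rfl
theorem F18423 : act 1 n10970 = n6699 := d9_1 D10970 (iv D6699) (iv D4218) (iv F7130) D6598
def n10971 : Q := act 6 n6598
theorem D10971 : act 6 n6598 = n10971 := rfl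
def n10972 : Q := act 2 n6599
theorem D10972 : act 2 n6599 = n10972 := rfl
theorem F18424 : act 0 n10972 = n6600 := d1_1 D10972 (iv D6600) (iv F10816)
theorem F18426 : act 3 n10972 = n10932 := d21_1 D10972 (iv D10932) (iv D6580) (iv D4166) F5192 D2959 D4175 (iv F10816)
def n10973 : Q := act 4 n6599
theorem D10973 : act 4 n6599 = n10973 := rfl
theorem F18428 : act 5 n10973 = n6702 := d18_2 (iv F10817) D10973 (iv D6702)
def n10974 : Q := act 1 n6600
theorem D10974 : act 1 n6600 = n10974 := rfl
theorem F18429 : act 2 n10974 = n6943 := d6_2 D6600 D10974 (iv D6943) (iv D4343) (iv F7131)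
def n10975 : Q := act 3 n6600
theorem D10975 : act 3 n6600 = n10975 := rfl
theorem F18431 : act 2 n10975 = n10931 := d11_1 D10975 (iv D10931) (iv D6579) F7119 D4174 D6599 D10972 F18426 (iv D10932) (iv D6580) (iv D4166) F5192 D2959 D4175 D6600
def n10984 : Q := act 6 n6607
theorem D10984 : act 6 n6607 = n10984 := rfl
theorem F18447 : act 5 n10715 = n10984 := d22_0 (iv D10984) F17966 (iv D10717) D10715
theorem F18448 : act 1 n10715 = n10545 := d24_2 D10984 (iv F18447) F17623 F17185 F17069 (iv F10946) (iv D6697) D6696 F10944 D6707 F10954 (iv F10827) (iv D6609) D6607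
theorem F18449 : act 0 n10900 = n6723 := d0_3 F18448 F17621 (iv F18318) (iv D6723) F7188 F5232 (iv F6985) D6452 D10715
theorem F18450 : act 6 n6723 = n10898 := d5_2 D10900 F18449 (iv D10898)
def n10994 : Q := act 1 n6617
theorem D10994 : act 1 n6617 = n10994 := rfl
def n10996 : Q := act 3 n6618
theorem D10996 : act 3 n6618 = n10996 := rfl
theorem F18465 : act 1 n10996 = n8282 := d7_1 D10996 (iv D8282) (iv F10835)
def n11002 : Q := act 3 n6621
theorem D11002 : act 3 n6621 = n11002 := rfl
def n11008 : Q := act 1 n6625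
theorem D11008 : act 1 n6625 = n11008 := rfl
theorem F18487 : act 5 n11008 = n10724 := d9_2 D6625 D11008 (iv F17976) (iv D6563) (iv F7139)
def n11009 : Q := act 0 n6626
theorem D11009 : act 0 n6626 = n11009 := rfl
theorem F18489 : act 3 n11009 = n8816 := d2_2 F18118 D11009 F18120
theorem F18490 : act 4 n11009 = n6646 := d3_2 (iv F10845) D11009 (iv D6646)
theorem F18491 : act 5 n8782 = n11009 := d16_0 F18489 (iv D8816) (iv F14706)
def n11011 : Q := act 5 n6626
theorem D11011 : act 5 n6626 = n11011 := rfl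
theorem F18493 : act 0 n11011 = n8782 := d4_1 D11011 F18491 (iv D11009)
def n11016 : Q := act 1 n6628
theorem D11016 : act 1 n6628 = n11016 := rfl
theorem F18503 : act 4 n11016 = n6653 := d8_2 (iv F10849) D11016 (iv D6653)
def n11019 : Q := act 6 n6629
theorem D11019 : act 6 n6629 = n11019 := rfl
theorem F18505 : act 3 n11019 = n6630 := d17_1 D11019 (iv D6630) D6629
def n11023 : Q := act 2 n6631
theorem D11023 : act 2 n6631 = n11023 := rfl
theorem F18514 : act 6 n11023 = n6634 := d14_2 (iv F10854) D11023 (iv D6634)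
def n11029 : Q := act 3 n6634
theorem D11029 : act 3 n6634 = n11029 := rfl
theorem F18523 : act 1 n11029 = n7716 := d7_1 D11029 (iv D7716) (iv F10859)
def n11032 : Q := act 0 n6636
theorem D11032 : act 0 n6636 = n11032 := rfl
theorem F18530 : act 3 n11032 = n8840 := d2_2 F18145 D11032 (iv F18148)
theorem F18531 : act 4 n11032 = n6669 := d3_2 (iv F10863) D11032 (iv D6669)
theorem F18532 : act 6 n8788 = n11032 := d17_0 F18530 (iv D8840) (iv F14716)
def n11043 : Q := act 1 n6640
theorem D11043 : act 1 n6640 = n11043 := rfl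
theorem F18547 : act 4 n11043 = n6678 := d8_2 (iv F10870) D11043 (iv D6678)
def n11045 : Q := act 0 n6641
theorem D11045 : act 0 n6641 = n11045 := rfl
theorem F18553 : act 5 n11045 = n6643 := d4_2 (iv F10872) D11045 (iv D6643)
def n11047 : Q := act 6 n6641
theorem D11047 : act 6 n6641 = n11047 := rfl
def n11052 : Q := act 3 n6644
theorem D11052 : act 3 n6644 = n11052 := rfl
theorem F18564 : act 1 n11052 = n7693 := d7_1 D11052 (iv D7693) (iv F10877)
def n11056 : Q := act 5 n6646
theorem D11056 : act 5 n6646 = n11056 := rfl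
theorem F18573 : act 4 n11056 = n8782 := d18_1 D11056 F18491 F18490
def n11057 : Q := act 6 n6646
theorem D11057 : act 6 n6646 = n11057 := rfl
def n11061 : Q := act 6 n6647
theorem D11061 : act 6 n6647 = n11061 := rfl
theorem F18579 : act 2 n11061 = n6649 := d14_1 D11061 (iv D6649) D6647
def n11062 : Q := act 6 n6648
theorem D11062 : act 6 n6648 = n11062 := rfl
theorem F18581 : act 5 n11062 = n11057 := d22_2 D6648 D11062 (iv D11057) (iv D6646)
def n11063 : Q := act 1 n6649
theorem D11063 : act 1 n6649 = n11063 := rfl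
def n11064 : Q := act 5 n6649
theorem D11064 : act 5 n6649 = n11064 := rfl
theorem F18586 : act 3 n11064 = n6697 := d16_1 D11064 (iv D6697) (iv F10883)
theorem F18587 : act 6 n11064 = n11056 := d20_2 D6649 D11064 (iv D11056) D11057 (iv F18581) (iv D11062) (iv D6648)
def n11070 : Q := act 6 n6651
theorem D11070 : act 6 n6651 = n11070 := rfl
theorem F18592 : act 5 n11070 = n10934 := d22_2 F18371 D11070 (iv D10934) (iv F18370)
def n11080 : Q := act 5 n6656
theorem D11080 : act 5 n6656 = n11080 := rfl
theorem F18603 : act 6 n11080 = n10931 := d20_2 D6656 D11080 F18371 D11070 F18592 (iv D10934) F10796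
def n11083 : Q := act 5 n6657
theorem D11083 : act 5 n6657 = n11083 := rfl
def n11085 : Q := act 1 n6659
theorem D11085 : act 1 n6659 = n11085 := rfl
theorem F18606 : act 3 n11085 = n6714 := d7_2 (iv F10893) D11085 (iv D6714)
def n11091 : Q := act 6 n6662
theorem D11091 : act 6 n6662 = n11091 := rfl
theorem F18613 : act 1 n11091 = n10929 := d10_1 D11091 (iv D10929) (iv D6578) (iv F7158) D6662
theorem F18614 : act 3 n11091 = n6718 := d17_1 D11091 (iv D6718) (iv F10897)
def n11097 : Q := act 3 n6664
theorem D11097 : act 3 n6664 = n11097 := rfl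
theorem F18618 : act 0 n11097 = n6666 := d2_1 D11097 (iv D6666) (iv F10899)
theorem F18619 : act 2 n11097 = n10840 := d21_2 D6664 D11097 (iv D10840) (iv D6517) F7056 F5181 (iv F5220) D4201
def n11099 : Q := act 1 n6665
theorem D11099 : act 1 n6665 = n11099 := rfl
theorem F18623 : act 3 n11099 = n6723 := d7_2 (iv F10901) D11099 (iv D6723)
def n11104 : Q := act 6 n6667
theorem D11104 : act 6 n6667 = n11104 := rfl
theorem F18631 : act 2 n11104 = n6668 := d14_1 D11104 (iv D6668) (iv F10904)
def n11107 : Q := act 5 n6669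
theorem D11107 : act 5 n6669 = n11107 := rfl
def n11108 : Q := act 6 n6669
theorem D11108 : act 6 n6669 = n11108 := rfl
theorem F18640 : act 4 n11108 = n8788 := d19_1 D11108 F18532 F18531
theorem F18641 : act 1 n8779 = n11108 := d8_3 F18640 (iv D8788) (iv F14701)
def n11113 : Q := act 1 n6671
theorem D11113 : act 1 n6671 = n11113 := rfl
theorem F18646 : act 3 n11113 = n6731 := d7_2 (iv F10909) D11113 (iv D6731)
theorem F18647 : act 5 n11113 = n6675 := d9_2 D6671 D11113 (iv D6675) (iv D4206) D4204
def n11114 : Q := act 6 n6671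
theorem D11114 : act 6 n6671 = n11114 := rfl
theorem F18648 : act 3 n11114 = n6732 := d17_1 D11114 (iv D6732) (iv F10909)
theorem F18649 : act 5 n11114 = n11108 := d22_2 D6671 D11114 (iv D11108) (iv D6669)
def n11115 : Q := act 5 n6672
theorem D11115 : act 5 n6672 = n11115 := rfl
theorem F18651 : act 3 n11115 = n6733 := d16_1 D11115 (iv D6733) (iv F10910)
theorem F18652 : act 6 n11115 = n11107 := d20_2 D6672 D11115 (iv D11107) D11108 (iv F18649) (iv D11114) (iv D6671)
def n11122 : Q := act 6 n6675
theorem D11122 : act 6 n6675 = n11122 := rfl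
theorem F18654 : act 1 n11122 = n10953 := d10_1 D11122 (iv D10953) (iv D6590) (iv F7167) D6675
theorem F18655 : act 3 n11122 = n6736 := d17_1 D11122 (iv D6736) (iv F10914)
def n11126 : Q := act 0 n6678
theorem D11126 : act 0 n6678 = n11126 := rfl
def n11131 : Q := act 2 n6680
theorem D11131 : act 2 n6680 = n11131 := rfl
theorem F18665 : act 0 n11131 = n6681 := d1_1 D11131 (iv D6681) D6680
theorem F18666 : act 5 n11131 = n6685 := d13_2 (iv F10920) D11131 (iv D6685)
def n11133 : Q := act 6 n6681
theorem D11133 : act 6 n6681 = n11133 := rfl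
def n11141 : Q := act 6 n6684
theorem D11141 : act 6 n6684 = n11141 := rfl
theorem F18677 : act 3 n11141 = n6745 := d17_1 D11141 (iv D6745) (iv F10924)
def n11143 : Q := act 3 n6685
theorem D11143 : act 3 n6685 = n11143 := rfl
theorem F18679 : act 2 n11143 = n9635 := d21_2 D6685 D11143 (iv D9635) (iv D5794) F6405 F4801 (iv F5223) D4211
def n11144 : Q := act 6 n6685
theorem D11144 : act 6 n6685 = n11144 := rfl
theorem F18681 : act 2 n11144 = n6686 := d14_1 D11144 (iv D6686) D6685
theorem F18682 : act 5 n11144 = n11133 := d22_2 F18666 D11144 (iv D11133) (iv F18665)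
def n11146 : Q := act 2 n6687
theorem D11146 : act 2 n6687 = n11146 := rfl
theorem F18685 : act 3 n11146 = n9633 := d11_2 D6687 D11146 (iv D9633) F9472 F6406 (iv F7174) D6685 D11143 F18679 (iv D9635) (iv D5794) F6405 F4801 (iv F5223) D4212
def n11150 : Q := act 5 n6688
theorem D11150 : act 5 n6688 = n11150 := rfl
theorem F18692 : act 6 n11150 = n11131 := d20_2 D6688 D11150 F18666 D11144 F18682 (iv D11133) F10921
def n11152 : Q := act 1 n6691
theorem D11152 : act 1 n6691 = n11152 := rfl
theorem F18697 : act 0 n11152 = n8005 := d23_3 F16247 (iv F10937) D11152 (iv D8005) (iv D4885) (iv D3316) (iv F5658) (iv F5834) F5832 D3321 (iv F6507) (iv D2892) D2891 (iv F6788) (iv F10195) D7209 F11890 D10368 F17245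
theorem F18698 : act 5 n6897 = n11152 := d24_1 (iv F13613) (iv D11152) (iv D6691) D6690 (iv F17069) D10541 F17614 (iv F18318) (iv D10900) (iv F18316) (iv D10897) (iv F10776) (iv D6566) D6564
def n11155 : Q := act 1 n6695
theorem D11155 : act 1 n6695 = n11155 := rfl
theorem F18703 : act 5 n11155 = n6779 := d9_2 (iv F10943) D11155 (iv F11273) F18698 (iv D11152)
theorem F18704 : act 0 n11155 = n10667 := d23_3 (iv F16247) F16245 D11155 (iv D10667) F13683 (iv F11300) (iv D5874) D5876 (iv F15777) (iv D9508) F9377 F9375 F9364 D5710 F9365 D8093 (iv F17242) (iv F17244) F10941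
theorem F18705 : act 2 n6780 = n11155 := d1_0 F18704 F17878 F11089
def n11158 : Q := act 4 n6698
theorem D11158 : act 4 n6698 = n11158 := rfl
theorem F18708 : act 1 n11158 = n6702 := d8_1 D11158 (iv D6702) (iv F10947)
def n11161 : Q := act 6 n6699
theorem D11161 : act 6 n6699 = n11161 := rfl
theorem F18713 : act 5 n11161 = n10193 := d22_2 D6699 D11161 (iv D10193) F10022
def n11162 : Q := act 5 n6700
theorem D11162 : act 5 n6700 = n11162 := rfl
theorem F18717 : act 6 n11162 = n10192 := d20_2 D6700 D11162 (iv D10192) D10193 (iv F18713) (iv D11161) (iv D6699)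
def n11169 : Q := act 3 n6706
theorem D11169 : act 3 n6706 = n11169 := rfl
theorem F18740 : act 0 n11169 = n9202 := d2_1 D11169 F15333 (iv F16279)
theorem F18741 : act 1 n11169 = n8953 := d7_1 D11169 F14943 (iv F16280)
def n11178 : Q := act 0 n6713
theorem D11178 : act 0 n6713 = n11178 := rfl
theorem F18758 : act 1 n11178 = n9903 := d0_2 D6713 D11178 (iv D9903) (iv D5940) F6543 D3831 D5948 F16268 (iv F7184)
def n11179 : Q := act 2 n6713
theorem D11179 : act 2 n6713 = n11179 := rfl
theorem F18759 : act 1 n11179 = n6717 := d6_1 D11179 (iv D6717) (iv D4228) (iv F7185) D6713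
theorem F18760 : act 4 n11179 = n10035 := d12_2 F18277 D11179 (iv F18276)
theorem F18761 : act 5 n11179 = n10035 := d13_2 F18278 D11179 (iv F18276)
def n11180 : Q := act 6 n6713
theorem D11180 : act 6 n6713 = n11180 := rfl
theorem F18762 : act 1 n11180 = n10971 := d10_1 D11180 (iv D10971) (iv D6598) (iv F7186) D6713
def n11181 : Q := act 2 n6714
theorem D11181 : act 2 n6714 = n11181 := rfl
def n11182 : Q := act 6 n6714
theorem D11182 : act 6 n6714 = n11182 := rfl
theorem F18763 : act 1 n11182 = n6722 := d10_1 D11182 (iv D6722) (iv D4229) (iv F7187) D6714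
theorem F18764 : act 5 n11182 = n10553 := d22_2 F17646 D11182 (iv D10553) D10552
def n11183 : Q := act 2 n6715
theorem D11183 : act 2 n6715 = n11183 := rfl
theorem F18766 : act 1 n11183 = n9007 := d6_1 D11183 F15036 F16290 F10736 D6715
theorem F18768 : act 5 n11183 = n6717 := d13_2 (iv F10963) D11183 (iv D6717)
def n11184 : Q := act 6 n6715
theorem D11184 : act 6 n6715 = n11184 := rfl
theorem F18769 : act 1 n11184 = n10898 := d10_1 D11184 (iv F18450) (iv D6723) F7189 D6715
theorem F18770 : act 4 n11184 = n9943 := d19_1 D11184 F16509 (iv F16288)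
theorem F18771 : act 5 n11184 = n8052 := d22_2 (iv F10963) D11184 (iv D8052) (iv F16283)
def n11186 : Q := act 6 n6717
theorem D11186 : act 6 n6717 = n11186 := rfl
theorem F18774 : act 2 n11186 = n6718 := d14_1 D11186 (iv D6718) D6717
theorem F18775 : act 4 n11186 = n10036 := d19_1 D11186 (iv D10036) (iv F16285)
def n11188 : Q := act 5 n6719
theorem D11188 : act 5 n6719 = n11188 := rfl
theorem F18779 : act 0 n11188 = n6721 := d4_1 D11188 (iv D6721) D6719
def n11189 : Q := act 6 n6719
theorem D11189 : act 6 n6719 = n11189 := rfl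
theorem F18780 : act 0 n11189 = n6722 := d5_1 D11189 (iv D6722) D6719
theorem F18781 : act 5 n11189 = n10905 := d22_2 (iv D11188) D11189 F18333 (iv F18779)
theorem F18782 : act 1 n10904 = n11189 := d9_5 F18781 (iv D10905) (iv D6566) D6564 D10904
def n11193 : Q := act 1 n6721
theorem D11193 : act 1 n6721 = n11193 := rfl
theorem F18786 : act 6 n11193 = n10897 := d10_2 F18333 D11193 (iv D10897) (iv F10776) D10905
def n11194 : Q := act 5 n6722
theorem D11194 : act 5 n6722 = n11194 := rfl
theorem F18787 : act 0 n11194 = n10905 := d4_1 D11194 (iv F18781) F18780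
theorem F18788 : act 1 n11194 = n10650 := d9_1 D11194 F17846 (iv F17647) (iv F18764) F18763
def n11197 : Q := act 5 n6724
theorem D11197 : act 5 n6724 = n11197 := rfl
theorem F18792 : act 1 n11197 = n10552 := d9_1 D11197 F17646 (iv D6714) (iv F7191) D6724
theorem F18793 : act 6 n11197 = n11008 := d22_1 D11197 F18487 F17975 (iv F16291)
theorem F18794 : act 6 n10994 = n10552 := d10_4 F18793 (iv D11008) F10844 D10994 (iv F18792)
theorem F18795 : act 0 n10553 = n10994 := d5_3 F18794 (iv D10552) D10553
def n11201 : Q := act 2 n6737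
theorem D11201 : act 2 n6737 = n11201 := rfl
theorem F18808 : act 5 n10085 = n11201 := d23_0 (iv D11201) (iv D6737) (iv D4237) F5236 (iv F4801) (iv D2711) F4013 (iv F4012) (iv D2193) (iv F3837) (iv D2048) D2050 (iv F4502) D3302 D4863 (iv F13060) F13058 D10886 F18295
def n11202 : Q := act 5 n6737
theorem D11202 : act 5 n6737 = n11202 := rfl
theorem F18809 : act 1 n11202 = n6744 := d9_1 D11202 (iv D6744) (iv D4240) (iv F7193) D6737
theorem F18810 : act 2 n11202 = n10085 := d13_1 D11202 F18808 (iv D11201)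
def n11211 : Q := act 5 n6742
theorem D11211 : act 5 n6742 = n11211 := rfl
theorem F18826 : act 0 n11211 = n6744 := d4_1 D11211 (iv D6744) D6742
theorem F18827 : act 6 n11211 = n10903 := d22_1 D11211 (iv F18329) (iv D6745) D6742
theorem F18828 : act 1 n10902 = n11211 := d10_5 F18827 (iv D10903) (iv D6562) D6561 D10902
def n11212 : Q := act 6 n6742
theorem D11212 : act 6 n6742 = n11212 := rfl
theorem F18829 : act 0 n11212 = n6745 := d5_1 D11212 (iv D6745) D6742
theorem F18830 : act 1 n11212 = n8005 := d10_1 D11212 (iv F18332) F18782 (iv D11189) (iv F10981)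
theorem F18832 : act 5 n11212 = n8019 := d20_1 D11212 F13607 (iv D6744) D6745 F18329 (iv F18827) (iv D11211)
def n11214 : Q := act 5 n6743
theorem D11214 : act 5 n6743 = n11214 := rfl
theorem F18833 : act 2 n11214 = n6744 := d13_1 D11214 (iv D6744) D6743
theorem F18834 : act 1 n9973 = n11214 := d6_5 F18833 (iv F18809) F18810 (iv D10085) (iv F16550)
def n11215 : Q := act 6 n6743
theorem D11215 : act 6 n6743 = n11215 := rfl
theorem F18836 : act 2 n11215 = n6745 := d14_1 D11215 (iv D6745) D6743
def n11216 : Q := act 1 n6745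
theorem D11216 : act 1 n6745 = n11216 := rfl
theorem F18837 : act 0 n11216 = n9410 := d0_1 D11216 (iv D9410) (iv F16294) (iv D6696) (iv F10936) D11152 F18697 (iv F18830) F18829
theorem F18838 : act 5 n11216 = n10893 := d9_2 (iv F18329) D11216 (iv D10893) (iv F10770) D10903
theorem F18840 : act 2 n9414 = n11216 := d1_0 F18837 F15634 D9414
def n11221 : Q := act 3 n6748
theorem D11221 : act 3 n6748 = n11221 := rfl
def n11222 : Q := act 6 n6748
theorem D11222 : act 6 n6748 = n11222 := rfl
theorem F18852 : act 5 n11222 = n8661 := d22_2 F10984 D11222 F16305 (iv D8023)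
def n11224 : Q := act 4 n6749
theorem D11224 : act 4 n6749 = n11224 := rfl
theorem F18854 : act 0 n11224 = n6753 := d3_1 D11224 (iv D6753) (iv F10985)
def n11225 : Q := act 5 n6749
theorem D11225 : act 5 n6749 = n11225 := rfl
theorem F18857 : act 3 n11225 = n6750 := d16_1 D11225 (iv D6750) D6749
def n11226 : Q := act 6 n6749
theorem D11226 : act 6 n6749 = n11226 := rfl
theorem F18859 : act 3 n11226 = n6751 := d17_1 D11226 (iv D6751) D6749
def n11227 : Q := act 1 n6751
theorem D11227 : act 1 n6751 = n11227 := rfl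
def n11232 : Q := act 5 n6753
theorem D11232 : act 5 n6753 = n11232 := rfl
def n11233 : Q := act 6 n6753
theorem D11233 : act 6 n6753 = n11233 := rfl
theorem F18867 : act 4 n11233 = n6755 := d19_1 D11233 (iv D6755) D6753
def n11234 : Q := act 6 n6754
theorem D11234 : act 6 n6754 = n11234 := rfl
theorem F18868 : act 3 n11234 = n6756 := d17_1 D11234 (iv D6756) (iv F10993)
theorem F18869 : act 5 n11234 = n11226 := d22_2 D6754 D11234 (iv D11226) F10985
def n11235 : Q := act 5 n6755
theorem D11235 : act 5 n6755 = n11235 := rfl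
theorem F18871 : act 3 n11235 = n6757 := d16_1 D11235 (iv D6757) (iv F10994)
theorem F18872 : act 6 n11235 = n11225 := d20_2 D6755 D11235 (iv D11225) D11226 (iv F18869) (iv D11234) (iv D6754)
def n11236 : Q := act 1 n6756
theorem D11236 : act 1 n6756 = n11236 := rfl
def n11238 : Q := act 3 n6759
theorem D11238 : act 3 n6759 = n11238 := rfl
theorem F18880 : act 1 n11238 = n7224 := d7_1 D11238 (iv D7224) (iv F11002)
theorem F18881 : act 4 n11238 = n8126 := d15_2 (iv F11003) D11238 (iv F16829) F16830 (iv D7049)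
def n11241 : Q := act 2 n6764
theorem D11241 : act 2 n6764 = n11241 := rfl
theorem F18892 : act 0 n11241 = n6765 := d1_1 D11241 (iv D6765) D6764
theorem F18893 : act 4 n11241 = n7061 := d12_2 (iv F11011) D11241 (iv D7061)
def n11243 : Q := act 5 n6765
theorem D11243 : act 5 n6765 = n11243 := rfl
theorem F18896 : act 4 n11243 = n7064 := d18_1 D11243 (iv D7064) (iv F11014)
def n11246 : Q := act 2 n6767
theorem D11246 : act 2 n6767 = n11246 := rfl
theorem F18903 : act 0 n11246 = n6768 := d1_1 D11246 (iv D6768) D6767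
theorem F18905 : act 5 n11246 = n6835 := d13_2 (iv F11018) D11246 (iv D6835)
def n11247 : Q := act 3 n6768
theorem D11247 : act 3 n6768 = n11247 := rfl
theorem F18907 : act 5 n11247 = n6837 := d16_2 (iv F11021) D11247 (iv D6837)
def n11248 : Q := act 6 n6768
theorem D11248 : act 6 n6768 = n11248 := rfl
def n11254 : Q := act 2 n6772
theorem D11254 : act 2 n6772 = n11254 := rfl
theorem F18924 : act 1 n11254 = n7242 := d6_1 D11254 (iv D7242) (iv D4509) (iv F7211) D6772
theorem F18926 : act 6 n11254 = n6786 := d14_2 (iv F11033) D11254 (iv D6786)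
def n11257 : Q := act 3 n6775
theorem D11257 : act 3 n6775 = n11257 := rfl
theorem F18931 : act 0 n11257 = n10145 := d2_1 D11257 F16841 (iv F11042)
theorem F18932 : act 5 n11257 = n6790 := d16_2 (iv F11044) D11257 (iv D6790)
def n11259 : Q := act 1 n6780
theorem D11259 : act 1 n6780 = n11259 := rfl
theorem F18936 : act 0 n11259 = n6791 := d0_1 D11259 F11074 (iv D6273) (iv D4000) (iv F5029) D4029 D6328 F11343 F11089
theorem F18937 : act 2 n11259 = n6789 := d6_2 (iv F18705) D11259 (iv F16244) F16245 D11155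
theorem F18939 : act 5 n11259 = n6781 := d9_2 D6780 D11259 (iv D6781) (iv D4257) D4256
theorem F18940 : act 6 n11259 = n6788 := d10_2 F11086 D11259 (iv F11070) D10194 (iv F16934)
def n11263 : Q := act 6 n6783
theorem D11263 : act 6 n6783 = n11263 := rfl
theorem F18948 : act 2 n11263 = n6784 := d14_1 D11263 (iv D6784) D6783
def n11264 : Q := act 5 n6784
theorem D11264 : act 5 n6784 = n11264 := rfl
def n11265 : Q := act 1 n6785
theorem D11265 : act 1 n6785 = n11265 := rfl
theorem F18956 : act 3 n11265 = n6793 := d7_2 (iv F11061) D11265 (iv D6793)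
theorem F18957 : act 4 n11265 = n10355 := d8_2 (iv F11062) D11265 (iv D10355)
def n11267 : Q := act 5 n6785
theorem D11267 : act 5 n6785 = n11267 := rfl
theorem F18960 : act 0 n11267 = n6787 := d4_1 D11267 (iv D6787) D6785
theorem F18961 : act 3 n11267 = n6795 := d16_1 D11267 (iv D6795) (iv F11061)
theorem F18962 : act 4 n11267 = n10357 := d18_1 D11267 (iv D10357) (iv F11062)
def n11268 : Q := act 3 n6786
theorem D11268 : act 3 n6786 = n11268 := rfl
theorem F18964 : act 1 n11268 = n10920 := d7_1 D11268 (iv D10920) (iv F11063)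
def n11276 : Q := act 3 n6794
theorem D11276 : act 3 n6794 = n11276 := rfl
theorem F18984 : act 0 n11276 = n6796 := d2_1 D11276 (iv D6796) (iv F11082)
def n11277 : Q := act 5 n6794
theorem D11277 : act 5 n6794 = n11277 := rfl
theorem F18987 : act 0 n11277 = n6797 := d4_1 D11277 (iv D6797) (iv F11082)
theorem F18988 : act 1 n11277 = n10966 := d9_1 D11277 F18419 F18416 F14171 F13679
theorem F18989 : act 2 n11277 = n6795 := d13_1 D11277 (iv D6795) D6794
theorem F18990 : act 4 n11277 = n6927 := d18_1 D11277 (iv D6927) (iv F11083)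
theorem F18991 : act 6 n11277 = n11155 := d20_2 (iv F13681) D11277 F18703 F11050 D6797 (iv F17880) (iv D10667)
def n11279 : Q := act 4 n6796
theorem D11279 : act 4 n6796 = n11279 := rfl
theorem F18992 : act 1 n11279 = n10143 := d8_1 D11279 (iv F17265) (iv F17267)
theorem F18993 : act 3 n11279 = n6929 := d15_1 D11279 (iv D6929) (iv D4334) (iv F7233) D6796
def n11281 : Q := act 1 n6799
theorem D11281 : act 1 n6799 = n11281 := rfl
theorem F18995 : act 3 n11281 = n10729 := d7_2 (iv F11094) D11281 (iv D10729)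
def n11282 : Q := act 1 n6800
theorem D11282 : act 1 n6800 = n11282 := rfl
theorem F19000 : act 6 n11282 = n8105 := d10_2 D6800 D11282 (iv D8105) (iv D4942) (iv F7236)
def n11283 : Q := act 0 n6801
theorem D11283 : act 0 n6801 = n11283 := rfl
theorem F19003 : act 5 n11283 = n8126 := d4_2 (iv F11102) D11283 (iv D8126)
def n11284 : Q := act 2 n6801
theorem D11284 : act 2 n6801 = n11284 := rfl
theorem F19005 : act 5 n11284 = n8127 := d13_2 (iv F11102) D11284 (iv D8127)
def n11298 : Q := act 2 n6808
theorem D11298 : act 2 n6808 = n11298 := rfl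
theorem F19037 : act 4 n11298 = n10388 := d12_2 (iv F11113) D11298 (iv D10388)
def n11299 : Q := act 5 n6808
theorem D11299 : act 5 n6808 = n11299 := rfl
theorem F19040 : act 3 n11299 = n6819 := d16_1 D11299 (iv D6819) (iv F11112)
theorem F19042 : act 6 n11299 = n9824 := d22_1 D11299 (iv D9824) (iv F16217) F16215
def n11301 : Q := act 3 n6809
theorem D11301 : act 3 n6809 = n11301 := rfl
theorem F19044 : act 0 n11301 = n6810 := d2_1 D11301 (iv D6810) (iv F11114)
theorem F19045 : act 5 n11301 = n6845 := d16_2 (iv F11116) D11301 (iv D6845)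
def n11302 : Q := act 2 n6810
theorem D11302 : act 2 n6810 = n11302 := rfl
def n11304 : Q := act 6 n6810
theorem D11304 : act 6 n6810 = n11304 := rfl
def n11311 : Q := act 5 n6813
theorem D11311 : act 5 n6813 = n11311 := rfl
theorem F19065 : act 0 n11311 = n6815 := d4_1 D11311 (iv D6815) D6813
theorem F19067 : act 3 n11311 = n6830 := d16_1 D11311 (iv D6830) (iv F11123)
def n11321 : Q := act 2 n6820
theorem D11321 : act 2 n6820 = n11321 := rfl
theorem F19095 : act 3 n11321 = n11302 := d21_1 D11321 (iv D11302) (iv D6810) (iv D4272) F5283 D3014 D4278 (iv F11140)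
def n11324 : Q := act 3 n6821
theorem D11324 : act 3 n6821 = n11324 := rfl
theorem F19100 : act 2 n11324 = n11301 := d11_1 D11324 (iv D11301) (iv D6809) F7247 D4277 D6820 D11321 F19095 (iv D11302) (iv D6810) (iv D4272) F5283 D3014 D4278 D6821
def n11325 : Q := act 4 n6821
theorem D11325 : act 4 n6821 = n11325 := rfl
theorem F19102 : act 2 n11325 = n6822 := d12_1 D11325 (iv D6822) D6821
theorem F19103 : act 5 n11325 = n6875 := d18_2 (iv F11142) D11325 (iv D6875)
def n11326 : Q := act 6 n6821
theorem D11326 : act 6 n6821 = n11326 := rfl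
theorem F19104 : act 2 n11326 = n6823 := d14_1 D11326 (iv D6823) D6821
def n11327 : Q := act 6 n6822
theorem D11327 : act 6 n6822 = n11327 := rfl
theorem F19106 : act 4 n11327 = n6823 := d19_1 D11327 (iv D6823) D6822
def n11345 : Q := act 1 n6835
theorem D11345 : act 1 n6835 = n11345 := rfl
def n11346 : Q := act 3 n6835
theorem D11346 : act 3 n6835 = n11346 := rfl
theorem F19148 : act 0 n11346 = n6837 := d2_1 D11346 (iv D6837) (iv F11170)
def n11347 : Q := act 6 n6835
theorem D11347 : act 6 n6835 = n11347 := rfl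
theorem F19152 : act 5 n11347 = n11248 := d22_2 F18905 D11347 (iv D11248) (iv F18903)
def n11351 : Q := act 5 n6838
theorem D11351 : act 5 n6838 = n11351 := rfl
theorem F19158 : act 6 n11351 = n11246 := d20_2 D6838 D11351 F18905 D11347 F19152 (iv D11248) F11021
def n11363 : Q := act 3 n6844
theorem D11363 : act 3 n6844 = n11363 := rfl
theorem F19184 : act 1 n11363 = n6845 := d7_1 D11363 (iv D6845) D6844
def n11367 : Q := act 6 n6845
theorem D11367 : act 6 n6845 = n11367 := rfl
theorem F19191 : act 5 n11367 = n11304 := d22_2 F19045 D11367 (iv D11304) (iv F19044)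
def n11372 : Q := act 1 n6848
theorem D11372 : act 1 n6848 = n11372 := rfl
def n11382 : Q := act 2 n6853
theorem D11382 : act 2 n6853 = n11382 := rfl
theorem F19217 : act 4 n11382 = n10490 := d12_2 (iv F11205) D11382 (iv D10490)
def n11383 : Q := act 6 n6853
theorem D11383 : act 6 n6853 = n11383 := rfl
theorem F19218 : act 1 n11383 = n9822 := d10_1 D11383 F16225 (iv D6808) (iv F7288) D6853
theorem F19219 : act 3 n11383 = n6882 := d17_1 D11383 (iv D6882) (iv F11204)
def n11385 : Q := act 5 n6854
theorem D11385 : act 5 n6854 = n11385 := rfl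
theorem F19223 : act 0 n11385 = n6859 := d4_1 D11385 (iv D6859) (iv F11206)
theorem F19224 : act 2 n11385 = n6855 := d13_1 D11385 (iv D6855) D6854
theorem F19225 : act 4 n11385 = n6983 := d18_1 D11385 (iv D6983) (iv F11207)
def n11386 : Q := act 3 n6857
theorem D11386 : act 3 n6857 = n11386 := rfl
theorem F19226 : act 0 n11386 = n7338 := d2_1 D11386 (iv D7338) (iv F11475)
theorem F19227 : act 1 n11386 = n6858 := d7_1 D11386 (iv D6858) D6857
def n11387 : Q := act 6 n6857
theorem D11387 : act 6 n6857 = n11387 := rfl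
theorem F19228 : act 0 n11387 = n7340 := d5_1 D11387 (iv D7340) (iv F11475)
theorem F19230 : act 4 n11387 = n6990 := d19_1 D11387 (iv D6990) (iv F11213)
def n11388 : Q := act 2 n6858
theorem D11388 : act 2 n6858 = n11388 := rfl
def n11389 : Q := act 4 n6858
theorem D11389 : act 4 n6858 = n11389 := rfl
theorem F19231 : act 3 n11389 = n6992 := d15_1 D11389 (iv D6992) (iv D4373) (iv F7291) D6858
def n11390 : Q := act 5 n6858
theorem D11390 : act 5 n6858 = n11390 := rfl
theorem F19232 : act 3 n11390 = n6859 := d16_1 D11390 (iv D6859) D6858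
def n11391 : Q := act 6 n6858
theorem D11391 : act 6 n6858 = n11391 := rfl
theorem F19233 : act 3 n11391 = n6860 := d17_1 D11391 (iv D6860) D6858
def n11397 : Q := act 6 n6864
theorem D11397 : act 6 n6864 = n11397 := rfl
theorem F19249 : act 4 n11397 = n7005 := d19_1 D11397 (iv D7005) (iv F11225)
theorem F19250 : act 5 n11397 = n8741 := d22_2 F14629 D11397 (iv D8741) D8739
def n11401 : Q := act 1 n6866
theorem D11401 : act 1 n6866 = n11401 := rfl
theorem F19254 : act 4 n11401 = n7011 := d8_2 (iv F11227) D11401 (iv D7011)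
def n11403 : Q := act 1 n6867
theorem D11403 : act 1 n6867 = n11403 := rfl
theorem F19259 : act 3 n11403 = n11372 := d7_2 (iv F11229) D11403 (iv D11372)
def n11404 : Q := act 4 n6867
theorem D11404 : act 4 n6867 = n11404 := rfl
theorem F19261 : act 2 n11404 = n6868 := d12_1 D11404 (iv D6868) D6867
def n11405 : Q := act 6 n6867
theorem D11405 : act 6 n6867 = n11405 := rfl
theorem F19263 : act 2 n11405 = n6869 := d14_1 D11405 (iv D6869) D6867
def n11406 : Q := act 6 n6868
theorem D11406 : act 6 n6868 = n11406 := rfl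
theorem F19267 : act 3 n11406 = n7013 := d17_1 D11406 (iv D7013) (iv F11231)
theorem F19268 : act 4 n11406 = n6869 := d19_1 D11406 (iv D6869) D6868
def n11408 : Q := act 0 n6870
theorem D11408 : act 0 n6870 = n11408 := rfl
theorem F19271 : act 4 n11408 = n7015 := d3_2 (iv F11235) D11408 (iv D7015)
def n11411 : Q := act 2 n6871
theorem D11411 : act 2 n6871 = n11411 := rfl
theorem F19276 : act 0 n11411 = n6872 := d1_1 D11411 (iv D6872) D6871
theorem F19277 : act 4 n11411 = n7019 := d12_2 (iv F11236) D11411 (iv D7019)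
theorem F19279 : act 6 n11411 = n7080 := d14_2 F17379 D11411 F17380
theorem F19280 : act 1 n7077 = n11411 := d10_5 F19279 (iv D7080) (iv D4421) D4419 D7077
def n11415 : Q := act 6 n6874
theorem D11415 : act 6 n6874 = n11415 := rfl
theorem F19288 : act 2 n11415 = n11367 := d14_1 D11415 (iv D11367) (iv F11242)
def n11416 : Q := act 3 n6875
theorem D11416 : act 3 n6875 = n11416 := rfl
def n11417 : Q := act 6 n6875
theorem D11417 : act 6 n6875 = n11417 := rfl
theorem F19290 : act 2 n11417 = n6877 := d14_1 D11417 (iv D6877) (iv F11243)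
theorem F19291 : act 4 n11417 = n6876 := d19_1 D11417 (iv D6876) D6875
def n11418 : Q := act 1 n6876
theorem D11418 : act 1 n6876 = n11418 := rfl
def n11421 : Q := act 1 n6878
theorem D11421 : act 1 n6878 = n11421 := rfl
theorem F19299 : act 3 n11421 = n6879 := d7_2 (iv F11248) D11421 (iv D6879)
def n11423 : Q := act 2 n6879
theorem D11423 : act 2 n6879 = n11423 := rfl
theorem F19301 : act 1 n11423 = n6881 := d6_1 D11423 (iv D6881) (iv D4305) (iv F7305) D6879
def n11424 : Q := act 2 n6880
theorem D11424 : act 2 n6880 = n11424 := rfl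
theorem F19303 : act 0 n11424 = n6881 := d1_1 D11424 (iv D6881) D6880
theorem F19304 : act 1 n11424 = n7275 := d6_1 D11424 F12005 F7641 (iv F10229) F11344
def n11427 : Q := act 5 n6882
theorem D11427 : act 5 n6882 = n11427 := rfl
def n11443 : Q := act 3 n6894
theorem D11443 : act 3 n6894 = n11443 := rfl
theorem F19336 : act 1 n11443 = n11257 := d7_1 D11443 (iv D11257) (iv F11266)
def n11446 : Q := act 2 n6899
theorem D11446 : act 2 n6899 = n11446 := rfl
def n11447 : Q := act 2 n6906
theorem D11447 : act 2 n6906 = n11447 := rfl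
theorem F19343 : act 0 n11447 = n7050 := d1_1 D11447 (iv D7050) (iv F11316)
theorem F19344 : act 1 n11447 = n11385 := d6_1 D11447 F19224 (iv F17175) F17176 F16746
theorem F19345 : act 5 n11447 = n6919 := d13_2 (iv F11317) D11447 (iv D6919)
def n11451 : Q := act 5 n6912
theorem D11451 : act 5 n6912 = n11451 := rfl
def n11457 : Q := act 3 n6925
theorem D11457 : act 3 n6925 = n11457 := rfl
theorem F19367 : act 1 n11457 = n6926 := d7_1 D11457 (iv D6926) D6925
def n11459 : Q := act 2 n6926
theorem D11459 : act 2 n6926 = n11459 := rfl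
theorem F19373 : act 3 n11459 = n10097 := d11_2 D6926 D11459 (iv D10097) (iv D6071) (iv D3898) F4917 D3043 D4334 D6928 (iv F13528) (iv D8115) F8374 (iv F10178) F6661 D4332
def n11460 : Q := act 4 n6926
theorem D11460 : act 4 n6926 = n11460 := rfl
theorem F19374 : act 0 n11460 = n6929 := d3_1 D11460 (iv D6929) (iv F11367)
def n11461 : Q := act 5 n6926
theorem D11461 : act 5 n6926 = n11461 := rfl
theorem F19376 : act 3 n11461 = n6927 := d16_1 D11461 (iv D6927) D6926
theorem F19377 : act 6 n11461 = n11451 := d22_1 D11461 (iv D11451) F11335 (iv F11367)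
def n11471 : Q := act 3 n6933
theorem D11471 : act 3 n6933 = n11471 := rfl
theorem F19389 : act 0 n11471 = n6935 := d2_1 D11471 (iv D6935) (iv F11375)
theorem F19391 : act 5 n11471 = n7245 := d16_2 F11378 D11471 F11958
def n11474 : Q := act 5 n6935
theorem D11474 : act 5 n6935 = n11474 := rfl
theorem F19392 : act 0 n11474 = n7245 := d4_1 D11474 (iv F19391) F19389
theorem F19393 : act 3 n11474 = n6936 := d16_1 D11474 (iv D6936) D6935
def n11478 : Q := act 6 n6940
theorem D11478 : act 6 n6940 = n11478 := rfl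
theorem F19397 : act 3 n11478 = n6941 := d17_1 D11478 (iv D6941) D6940
theorem F19398 : act 5 n11478 = n7458 := d22_2 F12356 D11478 (iv D7458) (iv F12354)
def n11483 : Q := act 3 n6944
theorem D11483 : act 3 n6944 = n11483 := rfl
theorem F19404 : act 0 n11483 = n8867 := d2_1 D11483 F14817 (iv F11401)
def n11517 : Q := act 3 n6967
theorem D11517 : act 3 n6967 = n11517 := rfl
theorem F19444 : act 0 n11517 = n6968 := d2_1 D11517 (iv D6968) (iv F11436)
theorem F19445 : act 5 n11517 = n6974 := d16_2 (iv F11437) D11517 (iv D6974)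
def n11518 : Q := act 2 n6968
theorem D11518 : act 2 n6968 = n11518 := rfl
theorem F19446 : act 5 n11518 = n6976 := d13_2 (iv F11439) D11518 (iv D6976)
def n11519 : Q := act 4 n6968
theorem D11519 : act 4 n6968 = n11519 := rfl
theorem F19448 : act 5 n11519 = n6977 := d18_2 (iv F11439) D11519 (iv D6977)
def n11520 : Q := act 6 n6968
theorem D11520 : act 6 n6968 = n11520 := rfl
def n11527 : Q := act 3 n6973
theorem D11527 : act 3 n6973 = n11527 := rfl
theorem F19464 : act 1 n11527 = n6974 := d7_1 D11527 (iv D6974) D6973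
def n11529 : Q := act 6 n6973
theorem D11529 : act 6 n6973 = n11529 := rfl
def n11530 : Q := act 2 n6974
theorem D11530 : act 2 n6974 = n11530 := rfl
def n11531 : Q := act 4 n6974
theorem D11531 : act 4 n6974 = n11531 := rfl
def n11532 : Q := act 6 n6974
theorem D11532 : act 6 n6974 = n11532 := rfl
def n11545 : Q := act 6 n6982
theorem D11545 : act 6 n6982 = n11545 := rfl
theorem F19488 : act 0 n11545 = n6994 := d5_1 D11545 (iv D6994) (iv F11458)
theorem F19489 : act 3 n11545 = n6984 := d17_1 D11545 (iv D6984) D6982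
def n11546 : Q := act 1 n6983
theorem D11546 : act 1 n6983 = n11546 := rfl
theorem F19491 : act 4 n11546 = n11447 := d8_2 F19225 D11546 F19344
theorem F19494 : act 0 n10528 = n11546 := d3_3 F19491 F19343 (iv F17579)
def n11550 : Q := act 6 n6988
theorem D11550 : act 6 n6988 = n11550 := rfl
theorem F19501 : act 3 n11550 = n6990 := d17_1 D11550 (iv D6990) D6988
def n11551 : Q := act 1 n6990
theorem D11551 : act 1 n6990 = n11551 := rfl
theorem F19502 : act 6 n11551 = n6997 := d10_2 D6990 D11551 (iv D6997) (iv D4375) D4372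
def n11557 : Q := act 5 n6992
theorem D11557 : act 5 n6992 = n11557 := rfl
theorem F19508 : act 4 n11557 = n6993 := d18_1 D11557 (iv D6993) D6992
def n11559 : Q := act 1 n6993
theorem D11559 : act 1 n6993 = n11559 := rfl
theorem F19510 : act 3 n11559 = n6995 := d7_2 (iv F11491) D11559 (iv D6995)
def n11561 : Q := act 1 n6994
theorem D11561 : act 1 n6994 = n11561 := rfl
theorem F19513 : act 3 n11561 = n6997 := d7_2 (iv F11492) D11561 (iv D6997)
def n11564 : Q := act 6 n6995
theorem D11564 : act 6 n6995 = n11564 := rfl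
theorem F19519 : act 2 n11564 = n7894 := d14_1 D11564 (iv F13081) F12351
def n11568 : Q := act 5 n6997
theorem D11568 : act 5 n6997 = n11568 := rfl
def n11569 : Q := act 1 n6998
theorem D11569 : act 1 n6998 = n11569 := rfl
theorem F19524 : act 0 n11569 = n9416 := d23_3 D4378 (iv F11496) D11569 (iv D9416) (iv F15634) (iv D9410) (iv F16294) F16296 (iv D8121) (iv D4952) (iv F5943) (iv D3362) (iv F5935) D4939 (iv F13082) F13084 F13088 (iv D6986) F7375
theorem F19525 : act 5 n9414 = n11569 := d4_0 F19524 (iv D9416) D9414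
theorem F19526 : act 1 n11568 = n9414 := d9_5 F19525 (iv D11569) (iv D6998) D6997 D11568
def n11583 : Q := act 1 n7009
theorem D11583 : act 1 n7009 = n11583 := rfl
theorem F19546 : act 3 n11583 = n7011 := d7_2 (iv F11517) D11583 (iv D7011)
theorem F19547 : act 6 n11583 = n7014 := d10_2 D7009 D11583 (iv D7014) (iv D4384) (iv F7383)
def n11586 : Q := act 0 n7011
theorem D11586 : act 0 n7011 = n11586 := rfl
theorem F19551 : act 6 n11586 = n7015 := d5_2 (iv F11519) D11586 (iv D7015)
def n11587 : Q := act 2 n7011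
theorem D11587 : act 2 n7011 = n11587 := rfl
theorem F19552 : act 6 n11587 = n7016 := d14_2 (iv F11519) D11587 (iv D7016)
def n11588 : Q := act 5 n7011
theorem D11588 : act 5 n7011 = n11588 := rfl
def n11595 : Q := act 2 n7015
theorem D11595 : act 2 n7015 = n11595 := rfl
def n11596 : Q := act 5 n7015
theorem D11596 : act 5 n7015 = n11596 := rfl
theorem F19560 : act 6 n11596 = n11588 := d22_1 D11596 (iv D11588) F11519 D7015
theorem F19561 : act 1 n10277 = n11596 := d24_14 F19560 (iv D11588) (iv D7011) (iv D4382) D4381 F7788 D7454 F12360 (iv F16420) (iv D9890) F10033 (iv D6178) D6181 D10277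
def n11623 : Q := act 0 n7030
theorem D11623 : act 0 n7030 = n11623 := rfl
theorem F19613 : act 4 n11623 = n7032 := d3_2 (iv F11557) D11623 (iv D7032)
theorem F19614 : act 6 n11623 = n7127 := d5_2 (iv F11558) D11623 (iv D7127)
def n11624 : Q := act 2 n7030
theorem D11624 : act 2 n7030 = n11624 := rfl
theorem F19615 : act 4 n11624 = n7033 := d12_2 (iv F11557) D11624 (iv D7033)
def n11625 : Q := act 5 n7030
theorem D11625 : act 5 n7030 = n11625 := rfl
theorem F19617 : act 4 n11625 = n7034 := d18_1 D11625 (iv D7034) (iv F11557)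
def n11636 : Q := act 2 n7036
theorem D11636 : act 2 n7036 = n11636 := rfl
def n11637 : Q := act 5 n7036
theorem D11637 : act 5 n7036 = n11637 := rfl
def n11638 : Q := act 6 n7036
theorem D11638 : act 6 n7036 = n11638 := rfl
theorem F19629 : act 1 n11638 = n7142 := d10_1 D11638 (iv D7142) (iv D4453) (iv F7404) D7036
theorem F19631 : act 5 n11638 = n8028 := d24_1 D11638 (iv D8028) (iv D4899) (iv F8269) (iv F10987) (iv F10997) (iv D6757) (iv F7505) (iv D4458) (iv F7500) (iv D4455) D4456 F7503 D7036
theorem F19632 : act 2 n10550 = n11638 := d13_3 F19631 F13367 (iv F17640)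
theorem F19634 : act 6 n11636 = n10550 := d14_0 F19632 (iv D11638) D11636
theorem F19637 : act 5 n10994 = n11636 := d20_7 F19634 F17640 D10553 (iv F18764) (iv D11182) (iv F17646) (iv F18794)
theorem F19638 : act 2 n11637 = n10994 := d13_3 F19637 (iv D11636) D11637
def n11655 : Q := act 2 n7047
theorem D11655 : act 2 n7047 = n11655 := rfl
theorem F19666 : act 1 n11655 = n7421 := d6_1 D11655 (iv D7421) (iv D4597) (iv F7413) D7047
theorem F19668 : act 6 n11655 = n8967 := d14_2 (iv F11587) D11655 F14964
def n11657 : Q := act 1 n7050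
theorem D11657 : act 1 n7050 = n11657 := rfl
theorem F19671 : act 2 n11657 = n7052 := d6_2 D7050 D11657 (iv D7052) (iv D4408) D4407
def n11660 : Q := act 0 n7052
theorem D11660 : act 0 n7052 = n11660 := rfl
def n11661 : Q := act 3 n7052
theorem D11661 : act 3 n7052 = n11661 := rfl
theorem F19677 : act 1 n11661 = n7053 := d7_1 D11661 (iv D7053) D7052
def n11662 : Q := act 5 n7052
theorem D11662 : act 5 n7052 = n11662 := rfl
theorem F19678 : act 1 n11662 = n7076 := d9_1 D11662 (iv D7076) (iv D4419) (iv F7429) D7052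
def n11663 : Q := act 6 n7052
theorem D11663 : act 6 n7052 = n11663 := rfl
def n11664 : Q := act 4 n7053
theorem D11664 : act 4 n7053 = n11664 := rfl
theorem F19679 : act 0 n11664 = n7055 := d3_1 D11664 (iv D7055) (iv F11598)
def n11678 : Q := act 5 n7061
theorem D11678 : act 5 n7061 = n11678 := rfl
theorem F19704 : act 2 n11678 = n7062 := d13_1 D11678 (iv D7062) D7061
def n11684 : Q := act 5 n7068
theorem D11684 : act 5 n7068 = n11684 := rfl
theorem F19713 : act 0 n11684 = n10635 := d4_1 D11684 (iv D10635) (iv F11636)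
theorem F19714 : act 1 n11684 = n10078 := d9_1 D11684 F16713 (iv F17065) (iv D7070) D7068
theorem F19715 : act 2 n11684 = n7076 := d13_1 D11684 (iv D7076) (iv F11637)
theorem F19716 : act 4 n11684 = n10682 := d18_1 D11684 (iv D10682) (iv F11638)
def n11685 : Q := act 6 n7068
theorem D11685 : act 6 n7068 = n11685 := rfl
theorem F19718 : act 1 n11685 = n8612 := d10_1 D11685 (iv F16314) (iv F16315) (iv D7071) D7068
def n11689 : Q := act 5 n7074
theorem D11689 : act 5 n7074 = n11689 := rfl
theorem F19726 : act 0 n11689 = n7076 := d4_1 D11689 (iv D7076) D7074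
theorem F19727 : act 2 n11689 = n10635 := d13_1 D11689 (iv D10635) (iv F11653)
def n11690 : Q := act 6 n7074
theorem D11690 : act 6 n7074 = n11690 := rfl
theorem F19730 : act 0 n11690 = n7077 := d5_1 D11690 (iv D7077) D7074
theorem F19731 : act 2 n11690 = n10636 := d14_1 D11690 (iv D10636) (iv F11653)
def n11691 : Q := act 2 n7075
theorem D11691 : act 2 n7075 = n11691 := rfl
def n11694 : Q := act 6 n7075
theorem D11694 : act 6 n7075 = n11694 := rfl
theorem F19735 : act 3 n11694 = n7077 := d17_1 D11694 (iv D7077) D7075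
def n11695 : Q := act 6 n7076
theorem D11695 : act 6 n7076 = n11695 := rfl
theorem F19736 : act 5 n11695 = n11690 := d22_2 D7076 D11695 (iv D11690) (iv D7074)
def n11696 : Q := act 5 n7077
theorem D11696 : act 5 n7077 = n11696 := rfl
def n11697 : Q := act 6 n7078
theorem D11697 : act 6 n7078 = n11697 := rfl
theorem F19742 : act 4 n11697 = n7079 := d19_1 D11697 (iv D7079) D7078
def n11709 : Q := act 1 n7086
theorem D11709 : act 1 n7086 = n11709 := rfl
theorem F19760 : act 3 n11709 = n7087 := d7_2 (iv F11666) D11709 (iv D7087)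
theorem F19761 : act 5 n11709 = n9425 := d9_2 D7086 D11709 (iv D9425) (iv D5663) (iv F7449)
def n11710 : Q := act 0 n7087
theorem D11710 : act 0 n7087 = n11710 := rfl
theorem F19762 : act 5 n11710 = n9426 := d4_2 (iv F11668) D11710 (iv D9426)
theorem F19763 : act 1 n7842 = n11710 := d23_2 D4799 (iv F12979) (iv D11710) F11668 D9427 F15654 (iv F10205) (iv F10204) (iv D5669) (iv F9296) F8407 (iv D4955) (iv F10178) D6068 (iv F9987) (iv F11466) (iv F13088) (iv D7838) (iv D4797)
theorem F19765 : act 1 n9426 = n9854 := d9_3 D7842 F19763 F19762 F16343 F10375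
theorem E1751 : n10567 = n5701 := (c0_6 F19765 F16341 F9640 (iv F6904) D6359 D10567 (iv D5701) F6360 D5664 D9426)
theorem E1752 : n9479 = n6359 := ((D9479).symm.trans (sb E1751 (iv D10567)))
theorem E1753 : n10598 = n9480 := (((D9480).symm.trans (sb E1751 (iv F17732)))).symm
theorem E1754 : n9975 = n7886 := ((((iv F13063)).symm.trans (sb E1751 F17674))).symm
theorem F19766 : act 0 n6359 = n5701 := (sb E1752 (iv D9479))
theorem F19767 : act 0 n9480 = n6378 := (sb E1753 (iv D10598))
theorem F19769 : act 0 n7886 = n5985 := (sb E1754 (iv D9975))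
theorem F19770 : act 2 n7886 = n10126 := (sb E1754 (iv F16801))
theorem F19771 : act 1 n10126 = n7888 := d6_1 F19770 (iv D7888) (iv D4821) (iv F8134) D7886
def n11712 : Q := act 6 n7087
theorem D11712 : act 6 n7087 = n11712 := rfl
theorem F19778 : act 1 n11712 = n11663 := d10_1 D11712 (iv D11663) (iv D7052) (iv F7453) D7087
def n11716 : Q := act 2 n7091
theorem D11716 : act 2 n7091 = n11716 := rfl
theorem F19784 : act 0 n11716 = n7094 := d1_1 D11716 (iv D7094) (iv F11676)
def n11722 : Q := act 3 n7094
theorem D11722 : act 3 n7094 = n11722 := rfl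
def n11734 : Q := act 5 n7100
theorem D11734 : act 5 n7100 = n11734 := rfl
theorem F19819 : act 0 n11734 = n8386 := d4_1 D11734 (iv D8386) (iv F11697)
def n11735 : Q := act 6 n7100
theorem D11735 : act 6 n7100 = n11735 := rfl
theorem F19822 : act 3 n11735 = n7102 := d17_1 D11735 (iv D7102) D7100
theorem F19823 : act 5 n11735 = n9866 := d22_2 (iv D11734) D11735 F16364 (iv F19819)
def n11736 : Q := act 1 n7101
theorem D11736 : act 1 n7101 = n11736 := rfl
theorem F19824 : act 2 n11736 = n10776 := d6_2 (iv F11700) D11736 F18063 (iv D8590) (iv F8782)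
theorem F19825 : act 4 n11736 = n10960 := d8_2 F11762 D11736 F18410
theorem F19826 : act 5 n11736 = n7107 := d9_2 D7101 D11736 (iv D7107) (iv D4435) D4433
theorem F19827 : act 0 n10777 = n11736 := d3_3 F19825 F18409 (iv F18065)
def n11737 : Q := act 1 n7103
theorem D11737 : act 1 n7103 = n11737 := rfl
def n11738 : Q := act 3 n7103
theorem D11738 : act 3 n7103 = n11738 := rfl
theorem F19828 : act 0 n11738 = n7109 := d2_1 D11738 (iv D7109) (iv F11704)
theorem F19829 : act 2 n11738 = n11722 := d21_2 D7103 D11738 (iv D11722) (iv D7094) (iv D4429) F5383 D3090 (iv F7468)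
def n11739 : Q := act 4 n7103
theorem D11739 : act 4 n7103 = n11739 := rfl
theorem F19831 : act 2 n11739 = n7104 := d12_1 D11739 (iv D7104) D7103
def n11740 : Q := act 5 n7103
theorem D11740 : act 5 n7103 = n11740 := rfl
theorem F19832 : act 0 n11740 = n7111 := d4_1 D11740 (iv D7111) (iv F11704)
def n11741 : Q := act 6 n7103
theorem D11741 : act 6 n7103 = n11741 := rfl
theorem F19834 : act 0 n11741 = n7112 := d5_1 D11741 (iv D7112) (iv F11704)
theorem F19835 : act 2 n11741 = n7106 := d14_1 D11741 (iv D7106) D7103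
def n11742 : Q := act 5 n7104
theorem D11742 : act 5 n7104 = n11742 := rfl
theorem F19837 : act 4 n11742 = n7105 := d18_1 D11742 (iv D7105) D7104
def n11743 : Q := act 6 n7104
theorem D11743 : act 6 n7104 = n11743 := rfl
theorem F19838 : act 0 n11743 = n7114 := d5_1 D11743 (iv D7114) (iv F11705)
theorem F19839 : act 3 n11743 = n11623 := d17_1 D11743 F19614 F11740
theorem F19840 : act 4 n11743 = n7106 := d19_1 D11743 (iv D7106) D7104
def n11744 : Q := act 1 n7105
theorem D11744 : act 1 n7105 = n11744 := rfl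
theorem F19841 : act 3 n11744 = n7107 := d7_2 (iv F11707) D11744 (iv D7107)
def n11745 : Q := act 1 n7106
theorem D11745 : act 1 n7106 = n11745 := rfl
theorem F19842 : act 3 n11745 = n7108 := d7_2 (iv F11709) D11745 (iv D7108)
def n11746 : Q := act 0 n7107
theorem D11746 : act 0 n7107 = n11746 := rfl
theorem F19844 : act 4 n11746 = n9835 := d3_2 F11764 D11746 F16248
theorem F19845 : act 5 n11746 = n10777 := d4_2 F19826 D11746 F19827
def n11751 : Q := act 5 n7108
theorem D11751 : act 5 n7108 = n11751 := rfl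
theorem F19856 : act 4 n11751 = n11637 := d18_1 D11751 (iv D11637) (iv F11710)
def n11752 : Q := act 2 n7109
theorem D11752 : act 2 n7109 = n11752 := rfl
theorem F19858 : act 0 n11752 = n11722 := d1_1 D11752 (iv F19829) F19828
theorem F19859 : act 1 n11752 = n11691 := d6_1 D11752 (iv D11691) F11655 (iv F10053) (iv F11711)
theorem F19860 : act 3 n11752 = n11716 := d11_2 D7109 D11752 (iv D11716) (iv D7091) F7456 D4434 D7103 D11738 F19829 (iv D11722) (iv D7094) (iv D4429) F5383 D3090 D4437
def n11755 : Q := act 6 n7109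
theorem D11755 : act 6 n7109 = n11755 := rfl
theorem F19863 : act 3 n11755 = n7112 := d17_1 D11755 (iv D7112) D7109
def n11758 : Q := act 6 n7110
theorem D11758 : act 6 n7110 = n11758 := rfl
theorem F19868 : act 4 n11758 = n7112 := d19_1 D11758 (iv D7112) D7110
def n11760 : Q := act 6 n7111
theorem D11760 : act 6 n7111 = n11760 := rfl
theorem F19870 : act 2 n11760 = n7115 := d14_1 D11760 (iv D7115) (iv F11714)
def n11761 : Q := act 1 n7112
theorem D11761 : act 1 n7112 = n11761 := rfl
theorem F19873 : act 6 n11761 = n10304 := d10_2 D7112 D11761 (iv D10304) (iv D6198) (iv F7472)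
def n11762 : Q := act 5 n7112
theorem D11762 : act 5 n7112 = n11762 := rfl
theorem F19875 : act 2 n11762 = n7116 := d13_1 D11762 (iv D7116) (iv F11715)
def n11763 : Q := act 6 n7113
theorem D11763 : act 6 n7113 = n11763 := rfl
theorem F19877 : act 4 n11763 = n7115 := d19_1 D11763 (iv D7115) (iv F11716)
theorem F19878 : act 5 n11763 = n11743 := d22_2 D7113 D11763 (iv D11743) F11705
def n11764 : Q := act 5 n7114
theorem D11764 : act 5 n7114 = n11764 := rfl
theorem F19879 : act 0 n11764 = n11763 := d4_1 D11764 F19878 F19838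
theorem F19880 : act 3 n11764 = n11625 := d16_1 D11764 (iv D11625) (iv F11718)
theorem F19881 : act 4 n11764 = n7116 := d18_1 D11764 (iv D7116) (iv F11719)
def n11765 : Q := act 1 n7115
theorem D11765 : act 1 n7115 = n11765 := rfl
def n11766 : Q := act 1 n7116
theorem D11766 : act 1 n7116 = n11766 := rfl
theorem F19885 : act 5 n11766 = n11421 := d9_2 D7116 D11766 (iv D11421) (iv D6878) (iv F7475)
def n11769 : Q := act 5 n7117
theorem D11769 : act 5 n7117 = n11769 := rfl
theorem F19886 : act 1 n11769 = n11751 := d9_1 D11769 (iv D11751) (iv D7108) (iv F7477) D7117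
def n11787 : Q := act 2 n7127
theorem D11787 : act 2 n7127 = n11787 := rfl
theorem F19914 : act 4 n11787 = n7132 := d12_2 (iv F11741) D11787 (iv D7132)
def n11788 : Q := act 5 n7127
theorem D11788 : act 5 n7127 = n11788 := rfl
theorem F19916 : act 3 n11788 = n11742 := d16_1 D11788 (iv D11742) (iv F11740)
theorem F19918 : act 6 n11788 = n11625 := d22_1 D11788 (iv D11625) F11558 D7127
def n11792 : Q := act 6 n7129
theorem D11792 : act 6 n7129 = n11792 := rfl
theorem F19925 : act 3 n11792 = n11763 := d17_1 D11792 (iv D11763) (iv F11743)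
theorem F19926 : act 4 n11792 = n7137 := d19_1 D11792 (iv D7137) (iv F11744)
theorem F19927 : act 5 n11792 = n11623 := d20_1 D11792 F19614 D11788 F19918 (iv D11625) F11558 D7129
def n11793 : Q := act 0 n7130
theorem D11793 : act 0 n7130 = n11793 := rfl
theorem F19928 : act 3 n11793 = n11224 := d2_2 (iv F11745) D11793 F18854
theorem F19929 : act 4 n11793 = n7138 := d3_2 (iv F11746) D11793 (iv D7138)
def n11795 : Q := act 6 n7130
theorem D11795 : act 6 n7130 = n11795 := rfl
theorem F19933 : act 3 n11795 = n11233 := d17_1 D11795 (iv D11233) (iv F11745)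
theorem F19934 : act 4 n11795 = n7140 := d19_1 D11795 (iv D7140) (iv F11746)
def n11798 : Q := act 6 n7131
theorem D11798 : act 6 n7131 = n11798 := rfl
theorem F19936 : act 3 n11798 = n7142 := d17_1 D11798 (iv D7142) (iv F11747)
def n11799 : Q := act 1 n7132
theorem D11799 : act 1 n7132 = n11799 := rfl
def n11800 : Q := act 3 n7132
theorem D11800 : act 3 n7132 = n11800 := rfl
theorem F19937 : act 0 n11800 = n7134 := d2_1 D11800 (iv D7134) (iv F11748)
theorem F19938 : act 2 n11800 = n10331 := d21_2 D7132 D11800 (iv D10331) (iv D6215) F6757 F4968 (iv F5399) D4449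
def n11803 : Q := act 2 n7134
theorem D11803 : act 2 n7134 = n11803 := rfl
theorem F19943 : act 0 n11803 = n10331 := d1_1 D11803 (iv F19938) F19937
theorem F19944 : act 3 n11803 = n10329 := d11_2 D7134 D11803 (iv D10329) F10074 F6758 (iv F7492) D7132 D11800 F19938 (iv D10331) (iv D6215) F6757 F4968 (iv F5399) D4450
def n11810 : Q := act 1 n7137
theorem D11810 : act 1 n7137 = n11810 := rfl
theorem F19951 : act 3 n11810 = n7145 := d7_2 (iv F11756) D11810 (iv D7145)
def n11812 : Q := act 6 n7138
theorem D11812 : act 6 n7138 = n11812 := rfl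
theorem F19954 : act 3 n11812 = n7146 := d17_1 D11812 (iv D7146) (iv F11758)
def n11816 : Q := act 6 n7141
theorem D11816 : act 6 n7141 = n11816 := rfl
theorem F19962 : act 2 n11816 = n7337 := d14_1 D11816 F12121 F12102
theorem F19965 : act 1 n9019 = n11816 := d6_5 F19962 F15008 (iv D8991) (iv F9040) D9019
def n11818 : Q := act 1 n7144
theorem D11818 : act 1 n7144 = n11818 := rfl
theorem F19970 : act 4 n11818 = n11236 := d8_2 (iv F11765) D11818 (iv D11236)
def n11821 : Q := act 5 n7145
theorem D11821 : act 5 n7145 = n11821 := rfl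
theorem F19974 : act 1 n11821 = n11637 := d9_1 D11821 (iv D11637) (iv D7036) (iv F7503) D7145
def n11822 : Q := act 1 n7146
theorem D11822 : act 1 n7146 = n11822 := rfl
theorem F19976 : act 4 n11822 = n11227 := d8_2 (iv F11768) D11822 (iv D11227)
def n11823 : Q := act 3 n7148
theorem D11823 : act 3 n7148 = n11823 := rfl
theorem F19977 : act 1 n11823 = n7149 := d7_1 D11823 (iv D7149) D7148
theorem F19978 : act 5 n11823 = n10558 := d16_2 (iv F11777) D11823 (iv D10558)
def n11827 : Q := act 5 n7149
theorem D11827 : act 5 n7149 = n11827 := rfl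
theorem F19982 : act 1 n11827 = n9857 := d9_1 D11827 F16347 (iv F17658) (iv F19978) F19977
def n11928 : Q := act 1 n7200
theorem D11928 : act 1 n7200 = n11928 := rfl
theorem F20152 : act 3 n11928 = n8109 := d7_2 (iv F11871) D11928 (iv D8109)
def n11938 : Q := act 6 n7206
theorem D11938 : act 6 n7206 = n11938 := rfl
theorem F20175 : act 1 n8761 = n11938 := d24_14 (iv D11938) F11886 (iv F11002) (iv F18000) (iv D10739) (iv F10667) (iv D6500) (iv F10663) (iv D6497) (iv F7086) (iv D4145) D4144 (iv F13590) D8761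
def n11939 : Q := act 1 n7207
theorem D11939 : act 1 n7207 = n11939 := rfl
theorem F20176 : act 0 n11939 = n7579 := d0_1 D11939 (iv D7579) (iv D4679) (iv D3217) (iv F4488) D3291 D4839 F11920 F11917
theorem F20179 : act 6 n11939 = n7208 := d10_2 D7207 D11939 (iv D7208) (iv D4488) D4487
def n11940 : Q := act 2 n7208
theorem D11940 : act 2 n7208 = n11940 := rfl
theorem F20182 : act 5 n11940 = n10864 := d13_2 F13479 D11940 F18236
def n11941 : Q := act 1 n7209
theorem D11941 : act 1 n7209 = n11941 := rfl
theorem F20183 : act 0 n11941 = n7565 := d0_1 D11941 (iv D7565) (iv D4666) (iv D3212) (iv F4473) D3276 D4805 F10227 (iv F11889)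
theorem F20187 : act 6 n11941 = n7913 := d10_2 F11927 D11941 F13134 D7935 (iv F13189)
def n11942 : Q := act 0 n7211
theorem D11942 : act 0 n7211 = n11942 := rfl
theorem F20189 : act 3 n11942 = n10336 := d2_2 (iv F11893) D11942 (iv D10336)
def n11943 : Q := act 2 n7211
theorem D11943 : act 2 n7211 = n11943 := rfl
theorem F20192 : act 1 n11943 = n7216 := d6_1 D11943 (iv D7216) (iv D4495) (iv F7573) D7211
theorem F20195 : act 3 n11943 = n11446 := d21_1 D11943 (iv D11446) F11274 (iv F11269) (iv F16747) (iv F17176) (iv F20189) (iv D11942)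
def n11947 : Q := act 2 n7213
theorem D11947 : act 2 n7213 = n11947 := rfl
theorem F20204 : act 1 n11947 = n11446 := d6_1 D11947 (iv D11446) (iv D6899) (iv F7581) D7213
theorem F20206 : act 3 n7216 = n11947 := d7_0 F20204 (iv F20195) F20192
theorem F20207 : act 3 n8133 = n7222 := d21_5 D7216 F20206 (iv D11947) F11900 D8133 (iv D7222) (iv F11904) (iv D7215)
theorem F20209 : act 0 n7224 = n8133 := d21_8 (iv D8133) (iv F11900) D11947 (iv F20206) (iv D7216) F7588 D4498 D7224
theorem F20210 : act 4 n8139 = n7224 := d3_0 F20209 F13550 (iv F13556)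
theorem F20211 : act 1 n8126 = n8139 := d8_3 F20210 (iv F18880) F18881
theorem F20212 : act 3 n8155 = n8139 := d15_5 F20210 (iv D7224) F7591 D4972 D8155
theorem F20213 : act 0 n8141 = n8155 := d2_3 F20212 F13556 D8141
theorem F20214 : act 4 n8152 = n8141 := d3_0 F20213 (iv D8155) (iv F13580)
theorem F20215 : act 0 n8127 = n8178 := d0_3 F20211 F13556 (iv F13547) (iv D8178) (iv D4991) (iv D3381) (iv F5949) D4959 D8126
theorem F20216 : act 2 n8178 = n8126 := d1_2 D8127 F20215 (iv D8126)
theorem E1755 : n8178 = n2626 := ((c23_3 F5969 D3546 F6182 (iv F20215) (iv F19005) (iv D11284) (iv D6801) F7239 (iv D4110) (iv F7010) F7009 (iv F7235) D6799 F11093 D6801 D11283 F19003 (iv F20216) (iv D8178) (iv D4991))).symm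
theorem E1756 : n8127 = n3562 := ((((iv F6197)).symm.trans (sb E1755 (iv F20215)))).symm
theorem E1757 : n4991 = n3546 := ((((iv F6182)).symm.trans (sb E1755 (iv D8178)))).symm
theorem E1758 : n8126 = n2154 := ((((iv D2626)).symm.trans (sb E1755 F20216))).symm
theorem E1759 : n5389 = n4964 := ((D5389).symm.trans (sb E1756 F13547))
theorem E1760 : n4959 = n2625 := ((((iv D3562)).symm.trans (sb E1756 (iv D8127)))).symm
theorem E1762 : n5350 = n3381 := (((iv F8891)).symm.trans (sb E1757 (iv D4991)))
theorem E1764 : n8162 = n5352 := (((D5352).symm.trans (sb E1757 (iv F13772)))).symm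
theorem E1765 : n8170 = n5342 := ((((iv F8883)).symm.trans (sb E1757 (iv F13782)))).symm
theorem E1766 : n4992 = n3545 := (((iv F8441)).symm.trans (sb E1757 F8439))
theorem E1768 : n8139 = n1184 := ((((iv D2154)).symm.trans (sb E1758 F20211))).symm
theorem E1769 : n10140 = n1186 := (((F3961).symm.trans (sb E1758 (iv F16829)))).symm
theorem E1770 : n11238 = n2621 := ((((iv F4700)).symm.trans (sb E1758 (iv F18881)))).symm
theorem F20217 : act 1 n4964 = n3562 := (sb E1759 (iv D5389))
theorem E1774 : n8141 = n6943 := ((D8141).symm.trans (sb E1759 (iv F11400)))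
theorem E1778 : n3561 = n3364 := ((D3561).symm.trans (sb E1760 (iv D4959)))
theorem E1779 : n6101 = n2158 := (((F4709).symm.trans (sb E1760 (iv F9903)))).symm
theorem E1780 : n8124 = n3553 := ((((iv F6184)).symm.trans (sb E1760 (iv F13542)))).symm
theorem E1781 : n6801 = n2169 := (((F4710).symm.trans (sb E1760 (iv F11102)))).symm
theorem F20218 : act 0 n3381 = n3546 := (sb E1762 F8891)
theorem E1786 : n8795 = n4987 := ((((iv F8428)).symm.trans (sb E1762 (iv F14728)))).symm
theorem E1789 : n8180 = n5335 := (((iv F13799)).symm.trans (sb E1764 F13773))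
theorem E1790 : n8824 = n8787 := ((D8824).symm.trans (sb E1764 (iv F14715)))
theorem E1791 : n10078 = n8797 := (((D8797).symm.trans (sb E1765 (iv F16712)))).symm
theorem E1792 : n8171 = n5341 := (((iv F13786)).symm.trans (sb E1765 F13783))
theorem E1793 : n8800 = n8798 := (((D8798).symm.trans (sb E1765 (iv F14739)))).symm
theorem E1794 : n5349 = n3390 := ((D5349).symm.trans (sb E1766 F8440))
theorem F20219 : act 2 n3545 = n3381 := (sb E1766 (iv D4992))
theorem E1795 : n8181 = n5351 := (((D5351).symm.trans (sb E1766 D8181))).symm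
theorem E1797 : n4964 = n2144 := ((((iv F3950)).symm.trans (sb E1768 F13556))).symm
theorem E1798 : n4963 = n2150 := ((((iv F3957)).symm.trans (sb E1768 (iv D8139)))).symm
theorem E1799 : n8155 = n580 := (((F1934).symm.trans (sb E1768 (iv F20212)))).symm
theorem E1800 : n7224 = n2152 := ((((iv F3959)).symm.trans (sb E1768 F20210))).symm
theorem E1801 : n7049 = n2028 := ((((iv F3293)).symm.trans (sb E1769 F16830))).symm
theorem E1804 : n6759 = n3199 := ((((iv F5586)).symm.trans (sb E1770 (iv D11238)))).symm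
theorem E1808 : n6943 = n1180 := (((F3951).symm.trans (iv (sb E1774 (tr (iv D8141) E1797))))).symm
theorem E1809 : n8141 = n1180 := (E1774).trans E1808
theorem E1810 : n8152 = n2022 := ((((iv F3285)).symm.trans (sb E1809 (iv F20214)))).symm
theorem E1811 : n5385 = n2534 := (((F5949).symm.trans (sb E1778 D5385))).symm
theorem F20226 : act 1 n3364 = n2625 := (sb E1778 (iv D3561))
theorem E1812 : n3914 = n2633 := (((iv F6692)).symm.trans (sb E1778 F6196))
theorem E1813 : n5369 = n4957 := ((((iv F8386)).symm.trans (sb E1778 (iv F8911)))).symm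
theorem E1814 : n5387 = n2526 := ((((iv D3364)).symm.trans (sb E1778 D5387))).symm
theorem E1815 : n5388 = n3384 := ((((iv F5975)).symm.trans (sb E1778 D5388))).symm
theorem E1816 : n10141 = n2634 := (((D2634).symm.trans (sb E1779 D10141))).symm
theorem E1817 : n6249 = n2447 := ((((iv F4425)).symm.trans (sb E1779 (iv F10233)))).symm
theorem E1818 : n4269 = n1196 := (((F3970).symm.trans (sb E1779 F9904))).symm
theorem E1820 : n6458 = n4638 := ((((iv F7834)).symm.trans (sb E1780 F13541))).symm
theorem E1821 : n6462 = n2645 := (((F6185).symm.trans (sb E1780 F13543))).symm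
theorem E1822 : n4267 = n2653 := (((D2653).symm.trans (sb E1781 (iv D6801)))).symm
theorem F20228 : act 0 n4987 = n5342 := (sb E1786 F14727)
theorem E1825 : n8782 = n5009 := ((D8782).symm.trans (sb E1789 F13798))
theorem F20232 : act 3 n8787 = n5353 := (sb E1790 F14773)
theorem E1826 : n11684 = n5371 := (((F14732).symm.trans (sb E1791 (iv F19714)))).symm
theorem F20237 : act 6 n8797 = n10086 := (sb E1791 (iv F16731))
theorem E1827 : n8794 = n5000 := ((D8794).symm.trans (sb E1792 F13784))
theorem F20238 : act 2 n5341 = n4987 := (sb E1792 (iv D8171))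
theorem F20240 : act 0 n8798 = n8172 := (sb E1793 F14737)
theorem F20241 : act 3 n8798 = n10086 := (sb E1793 (iv F16730))
theorem E1828 : n8814 = n5008 := ((((iv F8458)).symm.trans (sb E1794 D8814))).symm
theorem F20243 : act 1 n3390 = n3545 := (sb E1794 (iv D5349))
theorem F20244 : act 2 n5351 = n4993 := (sb E1795 F13800)
theorem E1832 : n3562 = n2603 := (((D2603).symm.trans (sb E1797 F20217))).symm
theorem E1833 : n3368 = n2599 := ((((iv F4670)).symm.trans (sb E1797 (iv D4964)))).symm
theorem E1834 : n8133 = n2601 := ((((iv F4676)).symm.trans (sb E1797 (iv F13550)))).symm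
theorem E1837 : n8138 = n2617 := (((D2617).symm.trans (sb E1798 D8138))).symm
theorem E1838 : n3370 = n2612 := ((((iv F4687)).symm.trans (sb E1798 F8393))).symm
theorem E1840 : n8111 = n1182 := ((((iv D2150)).symm.trans (sb E1798 (iv F13523)))).symm
theorem E1841 : n8140 = n2618 := (((D2618).symm.trans (sb E1798 D8140))).symm
theorem E1842 : n4972 = n1031 := ((((iv F1634)).symm.trans (sb E1799 (iv D8155)))).symm
theorem E1843 : n4498 = n2441 := ((((iv F4412)).symm.trans (sb E1800 (iv D7224)))).symm
theorem E1846 : n4405 = n2443 := ((((iv F4416)).symm.trans (sb E1801 (iv D7049)))).symm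
theorem E1848 : n10383 = n2448 := (((D2448).symm.trans (sb E1801 (iv F17284)))).symm
theorem E1853 : n4639 = n4248 := ((D4639).symm.trans (sb E1804 (iv D6759)))
theorem E1854 : n6464 = n2462 := (((F5588).symm.trans (sb E1804 F11004))).symm
theorem E1855 : n10739 = n4640 := (((D4640).symm.trans (sb E1804 (iv F18000)))).symm
theorem E1862 : n4343 = n2146 := (((D2146).symm.trans (sb E1808 (iv D6943)))).symm
theorem E1863 : n10974 = n630 := (((F1930).symm.trans (sb E1808 (iv F18429)))).symm
theorem E1867 : n7647 = n2435 := (((D2435).symm.trans (sb E1810 F13581))).symm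
theorem E1868 : n4970 = n2433 := ((((iv F4403)).symm.trans (sb E1810 (iv D8152)))).symm
theorem E1869 : n7611 = n1029 := ((((iv D2022)).symm.trans (sb E1810 F13582))).symm
theorem E1870 : n8708 = n3381 := (((D3381).symm.trans (sb E1811 (iv F14582)))).symm
theorem E1871 : n3577 = n3377 := ((((iv F5963)).symm.trans (sb E1811 F8937))).symm
theorem E1874 : n8900 = n3382 := (((D3382).symm.trans (sb E1811 D8900))).symm
theorem E1875 : n3578 = n2814 := ((D3578).symm.trans (sb E1812 F6691))
theorem E1876 : n3990 = n3211 := ((((iv F5609)).symm.trans (sb E1812 (iv F6793)))).symm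
theorem E1877 : n3579 = n2813 := ((D3579).symm.trans (sb E1812 (iv D3914)))
theorem E1879 : n7507 = n4100 := (((F8385).symm.trans (sb E1813 (iv F12435)))).symm
theorem E1880 : n8862 = n3363 := ((((iv D4957)).symm.trans (sb E1813 D8862))).symm
theorem E1882 : n3627 = n3007 := ((((iv F5275)).symm.trans (sb E1814 F8938))).symm
theorem E1884 : n5552 = n4998 := (((D4998).symm.trans (sb E1815 (iv F9160)))).symm
theorem E1885 : n8906 = n2535 := ((((iv D3384)).symm.trans (sb E1815 D8906))).symm
theorem E1886 : n6104 = n3581 := (((D3581).symm.trans (sb E1816 F16833))).symm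
theorem E1887 : n10372 = n2859 := ((((iv F5005)).symm.trans (sb E1816 (iv F17256)))).symm
theorem E1888 : n6804 = n2178 := (((F4720).symm.trans (sb E1816 F16834))).symm
theorem E1889 : n4151 = n3203 := ((((iv F5599)).symm.trans (sb E1817 F10232))).symm
theorem E1890 : n3992 = n2042 := (((F4426).symm.trans (sb E1817 F10234))).symm
theorem E1892 : n3008 = n2177 := (((D2177).symm.trans (sb E1818 (iv D4269)))).symm
theorem E1893 : n7508 = n6758 := ((D7508).symm.trans (sb E1820 F11000))
theorem E1894 : n4105 = n3240 := (((F7836).symm.trans (sb E1820 F10588))).symm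
theorem E1896 : n4103 = n3605 := (((D3605).symm.trans (sb E1821 (iv D6462)))).symm
theorem E1898 : n4110 = n3625 := (((D3625).symm.trans (sb E1822 F7239))).symm
theorem E1899 : n6799 = n3626 := (((D3626).symm.trans (sb E1822 (iv F11093)))).symm
theorem E1900 : n6479 = n3628 := (((D3628).symm.trans (sb E1822 (iv F10635)))).symm
theorem E1901 : n11011 = n8215 := ((((iv F13842)).symm.trans (sb E1825 (iv F18493)))).symm
theorem E1902 : n11056 = n8217 := (((D8217).symm.trans (sb E1825 (iv F18573)))).symm
theorem E1904 : n10635 = n8865 := ((((iv F14814)).symm.trans (sb E1826 F19713))).symm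
theorem E1905 : n8866 = n7076 := ((D8866).symm.trans (sb E1826 F19715))
theorem E1906 : n10682 = n8867 := (((D8867).symm.trans (sb E1826 F19716))).symm
theorem E1907 : n7068 = n3608 := (((F8915).symm.trans (sb E1826 (iv D11684)))).symm
theorem E1908 : n10823 = n8195 := ((((iv F13813)).symm.trans (sb E1827 (iv F18173)))).symm
theorem E1911 : n10802 = n3417 := (((F8459).symm.trans (sb E1828 (iv F18121)))).symm
theorem E1912 : n3519 = n2626 := ((D3519).symm.trans (sb E1832 F6197))
theorem E1913 : n3520 = n2625 := ((D3520).symm.trans (sb E1832 (iv D3562)))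
theorem E1914 : n5370 = n3517 := ((((iv F6143)).symm.trans (sb E1832 (iv F8913)))).symm
theorem E1915 : n3498 = n2654 := (((iv F6118)).symm.trans (sb E1832 F6198))
theorem E1916 : n3635 = n3521 := (((D3521).symm.trans (sb E1832 (iv F6286)))).symm
theorem E1917 : n3515 = n2528 := ((D3515).symm.trans (sb E1833 (iv D3368)))
theorem E1918 : n2530 = n2439 := (((F4671).symm.trans (sb E1833 F5957))).symm
theorem E1920 : n4945 = n2142 := ((((iv D2599)).symm.trans (sb E1833 (iv F8371)))).symm
theorem E1921 : n4965 = n2620 := ((((iv F4699)).symm.trans (sb E1833 D4965))).symm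
theorem E1922 : n7222 = n3181 := ((((iv F5558)).symm.trans (sb E1834 F20207))).symm
theorem E1925 : n8710 = n3545 := (((D3545).symm.trans (sb E1837 (iv F14585)))).symm
theorem E1926 : n4969 = n3539 := ((((iv F6171)).symm.trans (sb E1837 F13555))).symm
theorem E1927 : n4497 = n3537 := ((((iv F6166)).symm.trans (sb E1838 (iv F7590)))).symm
theorem E1929 : n4971 = n3198 := ((((iv F5585)).symm.trans (sb E1838 D4971))).symm
theorem E1931 : n8143 = n2151 := (((D2151).symm.trans (sb E1840 (iv F13563)))).symm
theorem E1932 : n9225 = n3548 := (((D3548).symm.trans (sb E1841 (iv F15370)))).symm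
theorem E1935 : n3371 = n2026 := ((((iv F3291)).symm.trans (sb E1842 (iv D4972)))).symm
theorem E1938 : n3193 = n3125 := (((iv F5575)).symm.trans (sb E1843 (iv D4498)))
theorem E1939 : n7206 = n2025 := ((((iv D2441)).symm.trans (sb E1843 (iv F11886)))).symm
theorem E1942 : n3204 = n3076 := ((D3204).symm.trans (sb E1846 (iv D4405)))
theorem E1943 : n4155 = n2038 := (((F4417).symm.trans (sb E1846 F7424))).symm
theorem E1944 : n6563 = n3205 := (((D3205).symm.trans (sb E1846 (iv F10773)))).symm
theorem E1947 : n6255 = n2475 := ((((iv F4470)).symm.trans (sb E1848 (iv D10383)))).symm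
theorem F20249 : act 2 n4248 = n3199 := (sb E1853 (iv D4639))
theorem E1951 : n7509 = n6288 := ((((iv F10305)).symm.trans (sb E1853 D7509))).symm
theorem E1952 : n5206 = n3241 := (((iv F8698)).symm.trans (sb E1853 F7838))
theorem E1953 : n7510 = n6760 := (((D6760).symm.trans (sb E1853 D7510))).symm
theorem E1954 : n5217 = n2036 := ((((iv D2462)).symm.trans (sb E1854 F10599))).symm
theorem E1955 : n10737 = n3242 := (((D3242).symm.trans (sb E1854 D10737))).symm
theorem E1956 : n6466 = n4725 := ((((iv F7987)).symm.trans (sb E1855 (iv D10739)))).symm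
theorem E1957 : n3563 = n2605 := (((D2605).symm.trans (sb E1862 F7344))).symm
theorem E1958 : n3047 = n2606 := (((D2606).symm.trans (sb E1862 (iv D4343)))).symm
theorem E1959 : n6944 = n2435 := ((((iv F4406)).symm.trans (sb E1862 D6944))).symm
theorem E1960 : n3066 = n2593 := ((((iv F4661)).symm.trans (sb E1862 F7346))).symm
theorem E1962 : n6600 = n1277 := (((D1277).symm.trans (sb E1863 (iv D10974)))).symm
theorem E1964 : n6434 = n3183 := ((((iv F5563)).symm.trans (sb E1867 F12693))).symm
theorem E1965 : n4711 = n3177 := ((((iv F5549)).symm.trans (sb E1867 (iv D7647)))).symm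
theorem E1966 : n6416 = n2021 := ((((iv D2433)).symm.trans (sb E1868 (iv F10543)))).symm
theorem E1967 : n8153 = n2446 := ((((iv F4424)).symm.trans (sb E1868 D8153))).symm
theorem E1968 : n4695 = n2020 := (((D2020).symm.trans (sb E1869 (iv D7611)))).symm
theorem E1969 : n5293 = n3546 := (((F20218).symm.trans (sb E1870 (iv D8708)))).symm
theorem E1970 : n5305 = n4983 := ((((iv F8417)).symm.trans (sb E1870 F14583))).symm
theorem E1971 : n5420 = n3910 := ((((iv F6681)).symm.trans (sb E1871 D5420))).symm
theorem E1972 : n4981 = n4662 := (((iv F8412)).symm.trans (sb E1871 (iv F7872)))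
theorem E1974 : n5422 = n4984 := (((D4984).symm.trans (sb E1871 D5422))).symm
theorem E1975 : n8360 = n4994 := (((D4994).symm.trans (sb E1874 (iv F14874)))).symm
theorem E1976 : n5423 = n3916 := (((D3916).symm.trans (sb E1875 D5423))).symm
theorem E1978 : n4663 = n2864 := ((((iv F5014)).symm.trans (sb E1875 (iv F7873)))).symm
theorem E1981 : n4646 = n2948 := (((iv F7852)).symm.trans (sb E1876 F6792))
theorem E1982 : n4664 = n2853 := ((D4664).symm.trans (sb E1876 (iv D3990)))
theorem E1984 : n2675 = n2348 := (((F4931).symm.trans (sb E1877 F6216))).symm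
theorem E1985 : n5427 = n3915 := (((D3915).symm.trans (sb E1877 D5427))).symm
theorem F20254 : act 1 n4100 = n4638 := (sb E1879 (iv D7507))
theorem E1988 : n5477 = n2923 := (((F5946).symm.trans (sb E1880 F14810))).symm
theorem E1990 : n5522 = n2927 := (((F5274).symm.trans (sb E1882 (iv F9128)))).symm
theorem E1991 : n5526 = n4266 := (((D4266).symm.trans (sb E1882 (iv F9133)))).symm
theorem F20255 : act 5 n3007 = n2653 := (sb E1882 (iv D3627))
theorem E1995 : n9216 = n8190 := ((((iv F13809)).symm.trans (sb E1884 D9216))).symm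
theorem E1996 : n9313 = n3383 := (((D3383).symm.trans (sb E1885 F15480))).symm
theorem E1997 : n10146 = n5429 := (((D5429).symm.trans (sb E1886 (iv F16842)))).symm
theorem E1998 : n10147 = n3045 := (((F6217).symm.trans (sb E1886 D10147))).symm
theorem E1999 : n6291 = n3999 := ((((iv F6805)).symm.trans (sb E1886 (iv F10312)))).symm
theorem E2000 : n5430 = n3925 := ((D5430).symm.trans (sb E1886 F9910))
theorem E2001 : n10148 = n5431 := (((D5431).symm.trans (sb E1886 D10148))).symm
theorem E2002 : n10225 = n3994 := ((((iv F6799)).symm.trans (sb E1887 F17258))).symm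
theorem E2003 : n6254 = n2280 := (((F5006).symm.trans (sb E1887 F17257))).symm
theorem E2004 : n4272 = n2677 := (((D2677).symm.trans (sb E1888 F11107))).symm
theorem E2006 : n4647 = n4404 := ((D4647).symm.trans (sb E1889 (iv F7421)))
theorem E2007 : n2950 = n2466 := (((F5600).symm.trans (sb E1889 F7099))).symm
theorem E2008 : n6555 = n3254 := ((((iv F5720)).symm.trans (sb E1889 D6555))).symm
theorem E2009 : n2854 = n2474 := (((D2474).symm.trans (sb E1890 (iv D3992)))).symm
theorem E2010 : n2952 = n2673 := (((D2673).symm.trans (sb E1892 F5277))).symm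
theorem E2011 : n2674 = n2349 := ((D2674).symm.trans (sb E1892 F5278))
theorem E2012 : n4164 = n2676 := (((D2676).symm.trans (sb E1892 (iv F7118)))).symm
theorem F20257 : act 2 n6758 = n4638 := (sb E1893 (iv D7508))
theorem E2013 : n6465 = n4724 := ((F10999).symm.trans (sb E1893 F12439))
theorem E2015 : n4723 = n2924 := ((D4723).symm.trans (sb E1894 (iv D4105)))
theorem E2016 : n5475 = n2928 := ((D5475).symm.trans (sb E1896 F7003))
theorem E2017 : n6460 = n5476 := (((D5476).symm.trans (sb E1896 (iv F10592)))).symm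
theorem E2018 : n5478 = n4115 := ((D5478).symm.trans (sb E1896 (iv F7026)))
theorem E2020 : n6476 = n5067 := ((((iv F8528)).symm.trans (sb E1898 D6476))).symm
theorem E2021 : n6470 = n5521 := (((D5521).symm.trans (sb E1898 (iv F10610)))).symm
theorem E2022 : n6477 = n5523 := (((D5523).symm.trans (sb E1898 D6477))).symm
theorem E2023 : n11281 = n5524 := (((D5524).symm.trans (sb E1899 D11281))).symm
theorem E2024 : n5525 = n5476 := ((D5525).symm.trans (sb E1899 (tr F11094 E2017)))
theorem E2027 : n5530 = n4111 := ((D5530).symm.trans (sb E1900 (iv D6479)))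
theorem E2028 : n6626 = n5072 := (((F13843).symm.trans (sb E1901 (iv D11011)))).symm
theorem E2029 : n6646 = n5076 := (((F13845).symm.trans (sb E1902 (iv D11056)))).symm
theorem F20262 : act 6 n8217 = n11064 := (sb E1902 (iv F18587))
theorem E2030 : n8865 = n4602 := (((D4602).symm.trans (iv (sb E1904 (tr F17812 E1922))))).symm
theorem E2031 : n10635 = n4602 := (E1904).trans E2030
theorem E2032 : n11689 = n7432 := (((D7432).symm.trans (sb E2031 (iv F19727)))).symm
theorem E2033 : n7405 = n6400 := (((iv F12261)).symm.trans (sb E2031 (iv D10635)))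
theorem E2034 : n8671 = n7433 := (((D7433).symm.trans (sb E2031 (iv F17814)))).symm
theorem F20263 : act 2 n7076 = n5371 := (sb E1905 (iv D8866))
theorem E2035 : n5483 = n4419 := ((((iv D7076)).symm.trans (sb E1905 F14816))).symm
theorem E2036 : n11483 = n3183 := (((iv F19404)).symm.trans (sb E1906 (tr F17897 E1964)))
theorem F20264 : act 1 n8867 = n10338 := (sb E1906 F17898)
theorem E2037 : n6432 = n5484 := (((F14818).symm.trans (sb E1906 (iv D10682)))).symm
theorem E2038 : n6400 = n5480 := ((((iv F9061)).symm.trans (sb E1907 F11636))).symm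
theorem E2039 : n5058 = n4416 := (((iv F8510)).symm.trans (sb E1907 (iv D7068)))
theorem E2041 : n11685 = n5485 := (((D5485).symm.trans (sb E1907 D11685))).symm
theorem E2042 : n6509 = n5056 := (((F13815).symm.trans (sb E1908 (iv D10823)))).symm
theorem E2045 : n6501 = n5071 := (((D5071).symm.trans (sb E1911 (iv D10802)))).symm
theorem F20269 : act 0 n2626 = n2603 := (sb E1912 (iv D3519))
theorem E2047 : n5287 = n3554 := ((((iv F6186)).symm.trans (sb E1912 (iv F8820)))).symm
theorem E2048 : n5249 = n2170 := (((F4711).symm.trans (sb E1912 (iv F8769)))).symm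
theorem F20270 : act 2 n2625 = n2603 := (sb E1913 (iv D3520))
theorem E2052 : n5288 = n3553 := ((((iv F6184)).symm.trans (sb E1913 (iv F8821)))).symm
theorem E2053 : n5250 = n2169 := (((F4710).symm.trans (sb E1913 (iv F8770)))).symm
theorem E2054 : n5297 = n2659 := ((((iv F4748)).symm.trans (sb E1913 D5297))).symm
theorem E2055 : n5245 = n3606 := (((iv F8760)).symm.trans (sb E1914 F8914))
theorem E2057 : n3629 = n2591 := ((D3629).symm.trans (sb E1915 (iv D3498)))
theorem E2059 : n5544 = n3576 := ((((iv F6214)).symm.trans (sb E1916 D5544))).symm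
theorem E2060 : n5298 = n2657 := ((D5298).symm.trans (sb E1916 (iv D3635)))
theorem F20272 : act 1 n2528 = n2599 := (sb E1917 (iv D3515))
theorem E2062 : n3195 = n2106 := (((F4586).symm.trans (sb E1917 F6141))).symm
theorem E2063 : n5279 = n3366 := ((((iv F5954)).symm.trans (sb E1917 (iv F8812)))).symm
theorem E2064 : n5275 = n2105 := ((((iv D2528)).symm.trans (sb E1917 (iv F8804)))).symm
theorem E2065 : n5283 = n2541 := ((((iv F4604)).symm.trans (sb E1917 D5283))).symm
theorem E2067 : n3372 = n3196 := (((D3196).symm.trans (sb E1918 D3372))).symm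
theorem E2071 : n3357 = n2597 := (((D2597).symm.trans (sb E1920 (iv D4945)))).symm
theorem E2072 : n5022 = n3552 := (((D3552).symm.trans (sb E1921 (iv F8475)))).symm
theorem E2073 : n10615 = n2432 := ((((iv D3181)).symm.trans (sb E1922 F17772))).symm
theorem E2074 : n8765 = n3202 := ((((iv F5598)).symm.trans (sb E1922 F14678))).symm
theorem E2079 : n8210 = n3390 := ((((iv F20243)).symm.trans (sb E1925 F14586))).symm
theorem E2080 : n5335 = n5307 := (((iv F8875)).symm.trans (sb E1925 F14587))
theorem E2083 : n7221 = n5333 := ((((iv F8872)).symm.trans (sb E1926 (iv F11909)))).symm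
theorem E2084 : n8151 = n5337 := (((D5337).symm.trans (sb E1926 D8151))).symm
theorem E2086 : n7205 = n2611 := ((((iv D3537)).symm.trans (sb E1927 (iv F11884)))).symm
theorem E2087 : n7223 = n4629 := ((((iv F7829)).symm.trans (sb E1927 D7223))).symm
theorem E2089 : n5682 = n4637 := (((D4637).symm.trans (sb E1929 (iv F9328)))).symm
theorem E2090 : n4951 = n2440 := ((((iv D3198)).symm.trans (sb E1929 F8399))).symm
theorem E2091 : n5599 = n2619 := (((D2619).symm.trans (sb E1931 (iv F13564)))).symm
theorem E2092 : n8728 = n5356 := (((D5356).symm.trans (sb E1932 F15367))).symm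
theorem E2093 : n5556 = n5358 := (((D5358).symm.trans (sb E1932 (iv D9225)))).symm
theorem E2094 : n9218 = n5354 := ((((iv F8896)).symm.trans (sb E1932 F15369))).symm
theorem E2095 : n4950 = n1030 := ((((iv D2026)).symm.trans (sb E1935 (iv F8380)))).symm
theorem E2096 : n4973 = n2444 := (((D2444).symm.trans (sb E1935 D4973))).symm
theorem F20273 : act 0 n3125 = n3537 := (sb E1938 (iv F6163))
theorem E2097 : n4626 = n2404 := ((((iv D3125)).symm.trans (sb E1938 D4626))).symm
theorem F20274 : act 2 n3125 = n2441 := (sb E1938 F5575)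
theorem E2098 : n4495 = n4037 := (((iv F7588)).symm.trans (sb E1938 (iv F6882)))
theorem F20275 : act 4 n3125 = n2439 := (sb E1938 F5576)
theorem E2099 : n4487 = n2438 := (((iv F7562)).symm.trans (sb E1938 (iv D3193)))
theorem E2100 : n4627 = n4499 := (((D4499).symm.trans (sb E1938 D4627))).symm
theorem E2102 : n11938 = n2442 := (((D2442).symm.trans (sb E1939 D11938))).symm
theorem F20276 : act 2 n3076 = n2443 := (sb E1942 (iv D3204))
theorem E2104 : n4648 = n2828 := (((F5365).symm.trans (sb E1942 D4648))).symm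
theorem E2105 : n4401 = n2467 := (((iv F7407)).symm.trans (sb E1942 F5601))
theorem E2107 : n6561 = n1035 := ((((iv D2038)).symm.trans (sb E1943 D6561))).symm
theorem E2108 : n6562 = n2468 := (((D2468).symm.trans (sb E1943 D6562))).symm
theorem E2109 : n10724 = n4650 := (((D4650).symm.trans (sb E1944 F17976))).symm
theorem E2110 : n4157 = n3250 := ((((iv F5714)).symm.trans (sb E1944 (iv D6563)))).symm
theorem E2111 : n6593 = n3272 := (((D3272).symm.trans (sb E1947 (iv F10813)))).symm
theorem E2115 : n8571 = n4726 := (((iv F14352)).symm.trans (sb E1951 F12440))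
theorem E2116 : n4706 = n3477 := (((iv F7953)).symm.trans (sb E1952 (iv D5206)))
theorem F20277 : act 5 n3241 = n4248 := (sb E1952 F8698)
theorem E2117 : n8573 = n4727 := (((D4727).symm.trans (sb E1952 D8573))).symm
theorem E2118 : n7679 = n6276 := (((F11006).symm.trans (sb E1953 (iv F12735)))).symm
theorem E2119 : n8590 = n2414 := ((((iv F4371)).symm.trans (sb E1954 (iv F14380)))).symm
theorem E2120 : n3483 = n2458 := ((((iv F4443)).symm.trans (sb E1954 (iv D5217)))).symm
theorem E2122 : n9874 = n4728 := (((D4728).symm.trans (sb E1955 F18113))).symm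
theorem E2123 : n7680 = n6500 := ((D7680).symm.trans (sb E1956 (iv F10667)))
theorem E2124 : n5352 = n3525 := (((D3525).symm.trans (sb E1957 (iv F8894)))).symm
theorem E2125 : n4342 = n3526 := (((D3526).symm.trans (sb E1957 (iv F7343)))).symm
theorem F20279 : act 3 n2605 = n2626 := (sb E1957 (iv D3563))
theorem E2127 : n3502 = n2656 := (((iv F6126)).symm.trans (sb E1957 F6199))
theorem E2128 : n5391 = n3527 := (((D3527).symm.trans (sb E1957 D5391))).symm
theorem E2129 : n4175 = n2224 := (((F4681).symm.trans (sb E1958 (iv F7131)))).symm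
theorem E2130 : n3528 = n2367 := ((D3528).symm.trans (sb E1958 (iv D3047)))
theorem E2131 : n4344 = n3186 := ((((iv F5567)).symm.trans (sb E1958 D4344))).symm
theorem E2132 : n3503 = n2376 := (((iv F6127)).symm.trans (sb E1958 F5339))
theorem E2133 : n4345 = n3529 := (((D3529).symm.trans (sb E1958 D4345))).symm
theorem E2135 : n9184 = n3187 := (((D3187).symm.trans (sb E1959 (iv F15313)))).symm
theorem E2136 : n4389 = n2140 := ((((iv D2593)).symm.trans (sb E1960 D4389))).symm
theorem F20280 : act 3 n2593 = n2654 := (sb E1960 F5353)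
theorem E2140 : n10972 = n2223 := (((D2223).symm.trans (sb E1962 (iv F18424)))).symm
theorem E2141 : n10975 = n2083 := ((((iv F3400)).symm.trans (sb E1962 D10975))).symm
theorem E2149 : n10686 = n4605 := (((D4605).symm.trans (sb E1964 (iv F17909)))).symm
theorem E2150 : n4590 = n4086 := (((iv F7751)).symm.trans (sb E1964 (iv D6434)))
theorem E2151 : n10688 = n4606 := (((D4606).symm.trans (sb E1964 D10688))).symm
theorem E2152 : n7645 = n4594 := (((D4594).symm.trans (sb E1965 D7645))).symm
theorem E2153 : n3234 = n2430 := ((((iv D3177)).symm.trans (sb E1965 (iv D4711)))).symm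
theorem E2157 : n4078 = n2429 := ((((iv F4397)).symm.trans (sb E1966 (iv D6416)))).symm
theorem E2159 : n7464 = n3210 := (((D3210).symm.trans (sb E1967 F13586))).symm
theorem E2160 : n8119 = n2027 := ((((iv D2446)).symm.trans (sb E1967 F13585))).symm
theorem E2161 : n3226 = n2427 := (((D2427).symm.trans (sb E1968 (iv D4695)))).symm
theorem E2164 : n4716 = n2431 := (((D2431).symm.trans (sb E1968 (iv F7969)))).symm
theorem E2167 : n8711 = n5353 := (((D5353).symm.trans (sb E1969 D8711))).symm
theorem E2168 : n8734 = n8163 := (((D8163).symm.trans (sb E1970 D8734))).symm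
theorem E2170 : n8438 = n8164 := (((D8164).symm.trans (sb E1970 (iv F14162)))).symm
theorem E2171 : n8963 = n6093 := (((D6093).symm.trans (sb E1971 D8963))).symm
theorem E2178 : n7559 = n6252 := ((D7559).symm.trans (sb E1972 (iv F10247)))
theorem E2179 : n8165 = n5137 := ((D8165).symm.trans (sb E1974 (iv F8984)))
theorem E2181 : n8185 = n5084 := ((D8185).symm.trans (sb E1975 (iv D8360)))
theorem E2183 : n8967 = n6103 := (((D6103).symm.trans (sb E1976 D8967))).symm
theorem F20283 : act 2 n3916 = n3581 := (sb E1976 F8985)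
theorem E2185 : n6270 = n4009 := ((((iv F6825)).symm.trans (sb E1976 (iv F10270)))).symm
theorem E2187 : n8970 = n6105 := (((D6105).symm.trans (sb E1976 D8970))).symm
theorem F20284 : act 2 n2864 = n3211 := (sb E1978 (iv D4663))
theorem F20286 : act 1 n2948 = n3203 := (sb E1981 (iv D4646))
theorem E2202 : n3270 = n2271 := ((((iv D2853)).symm.trans (sb E1982 F7874))).symm
theorem E2203 : n7563 = n3991 := (((D3991).symm.trans (sb E1982 D7563))).symm
theorem F20289 : act 5 n2348 = n2177 := (sb E1984 (iv D2675))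
theorem E2209 : n8279 = n6102 := (((D6102).symm.trans (sb E1985 (iv F13940)))).symm
theorem E2212 : n9044 = n4102 := (((D4102).symm.trans (sb E1988 (iv F15092)))).symm
theorem F20292 : act 5 n2923 = n3605 := (sb E1988 (iv D5477))
theorem E2216 : n9148 = n4107 := ((((iv F7010)).symm.trans (sb E1990 (iv F15256)))).symm
theorem F20295 : act 5 n4266 = n3626 := (sb E1991 (iv D5526))
theorem F20303 : act 6 n8190 = n9209 := (sb E1995 F15353)
theorem E2222 : n5598 = n4995 := (((D4995).symm.trans (sb E1996 (iv D9313)))).symm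
theorem E2224 : n6905 = n6120 := ((F11283).symm.trans (sb E1997 F16843))
theorem E2226 : n6122 = n4339 := (((D4339).symm.trans (sb E1998 F16844))).symm
theorem E2227 : n10446 = n6258 := ((((iv F10253)).symm.trans (sb E1999 D10446))).symm
theorem E2228 : n6271 = n4013 := ((D6271).symm.trans (sb E1999 F10313))
theorem E2230 : n3679 = n3019 := (((F6713).symm.trans (sb E2000 F8992))).symm
theorem E2232 : n10181 = n8980 := (((D8980).symm.trans (sb E2001 (iv F16906)))).symm
theorem E2233 : n6259 = n6147 := ((D6259).symm.trans (sb E2002 (iv D10225)))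
theorem E2234 : n10381 = n2867 := (((F6800).symm.trans (sb E2002 (iv F17279)))).symm
theorem E2235 : n3995 = n2870 := (((D2870).symm.trans (sb E2003 F10249))).symm
theorem E2236 : n6809 = n3678 := (((D3678).symm.trans (sb E2004 (iv F11114)))).symm
theorem E2237 : n3671 = n3010 := (((iv F6332)).symm.trans (sb E2004 (iv D4272)))
theorem E2238 : n6810 = n2373 := (((F4767).symm.trans (sb E2004 D6810))).symm
theorem E2239 : n6811 = n3680 := (((D3680).symm.trans (sb E2004 D6811))).symm
theorem F20305 : act 2 n4404 = n3203 := (sb E2006 (iv D4647))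
theorem E2241 : n7528 = n3936 := (((F7417).symm.trans (sb E2006 D7528))).symm
theorem E2242 : n4156 = n3249 := ((F7418).symm.trans (sb E2006 F7854))
theorem E2243 : n7002 = n4755 := (((iv F11506)).symm.trans (sb E2006 (iv F8040)))
theorem E2244 : n3248 = n2317 := ((D3248).symm.trans (sb E2007 (iv D2950)))
theorem E2245 : n10893 = n4759 := (((D4759).symm.trans (sb E2008 D10893))).symm
theorem E2246 : n3268 = n2320 := ((D3268).symm.trans (sb E2009 F4991))
theorem E2247 : n3269 = n2272 := ((D3269).symm.trans (sb E2009 F4992))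
theorem E2248 : n3271 = n2957 := ((D3271).symm.trans (sb E2009 (iv F5202)))
theorem E2249 : n4161 = n3428 := ((((iv F6031)).symm.trans (sb E2010 D4161))).symm
theorem E2250 : n3668 = n3003 := ((D3668).symm.trans (sb E2010 (iv F5265)))
theorem E2251 : n4162 = n3670 := (((D3670).symm.trans (sb E2010 D4162))).symm
theorem F20306 : act 2 n2349 = n2177 := (sb E2011 (iv D2674))
theorem E2253 : n3674 = n3011 := (((D3011).symm.trans (sb E2011 D3674))).symm
theorem E2254 : n3677 = n2953 := ((D3677).symm.trans (sb E2012 (iv D4164)))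
theorem E2255 : n7677 = n4261 := ((D7677).symm.trans (sb E2013 F10601))
theorem E2256 : n10738 = n7678 := (((D7678).symm.trans (sb E2013 D10738))).symm
theorem F20307 : act 5 n4724 = n6758 := (sb E2013 (iv F10999))
theorem F20311 : act 1 n2924 = n3240 := (sb E2015 (iv D4723))
theorem F20312 : act 3 n2924 = n3605 := (sb E2015 F7980)
theorem F20313 : act 0 n2928 = n3605 := (sb E2016 (iv D5475))
theorem E2260 : n8292 = n4112 := (((D4112).symm.trans (sb E2016 (iv F13958)))).symm
theorem E2261 : n9039 = n4108 := ((((iv F7012)).symm.trans (sb E2016 D9039))).symm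
theorem E2262 : n9041 = n4113 := (((D4113).symm.trans (sb E2016 D9041))).symm
theorem E2263 : n10729 = n9042 := (((D9042).symm.trans (sb E2017 D10729))).symm
theorem E2264 : n9045 = n6475 := ((D9045).symm.trans (sb E2017 (iv F10622)))
theorem E2265 : n9047 = n6487 := (((D6487).symm.trans (sb E2018 D9047))).symm
theorem F20315 : act 4 n4115 = n3628 := (sb E2018 F9059)
theorem F20316 : act 6 n4115 = n3605 := (sb E2018 (iv D5478))
theorem E2268 : n10754 = n8320 := (((D8320).symm.trans (sb E2020 D10754))).symm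
theorem E2269 : n8321 = n4123 := ((D8321).symm.trans (sb E2020 F10625))
theorem E2270 : n10755 = n8322 := (((D8322).symm.trans (sb E2020 D10755))).symm
theorem E2271 : n10741 = n9146 := (((D9146).symm.trans (sb E2021 D10741))).symm
theorem E2274 : n10756 = n9151 := (((D9151).symm.trans (sb E2022 D10756))).symm
theorem E2275 : n9153 = n9042 := ((D9153).symm.trans (sb E2023 (tr F18995 E2263)))
theorem E2278 : n9043 = n3626 := ((D9043).symm.trans (sb E2024 (iv D5525)))
theorem E2280 : n9159 = n6475 := (((E2264).symm.trans ((D9045).symm.trans (sb E2024 D9159)))).symm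
theorem E2282 : n9168 = n6478 := (((D6478).symm.trans (sb E2027 D9168))).symm
theorem E2285 : n8334 = n4194 := ((D8334).symm.trans (sb E2028 F10845))
theorem E2287 : n4594 = n3632 := (((F8537).symm.trans (sb E2029 (tr (iv F12691) E2152)))).symm
theorem E2289 : n8301 = n4214 := (((iv F13971)).symm.trans (sb E2029 F10881))
theorem E2291 : n7431 = n5371 := ((D7431).symm.trans (sb E2030 F14814))
theorem E2292 : n7405 = n5480 := (E2033).trans E2038
theorem E2293 : n9065 = n7433 := (((D7433).symm.trans (sb E2030 (iv F15126)))).symm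
theorem F20319 : act 0 n7432 = n7076 := (sb E2032 F19726)
theorem E2295 : n9050 = n4588 := (((iv F15104)).symm.trans (sb E2292 (iv D7405)))
theorem E2296 : n7027 = n4086 := (((iv F11552)).symm.trans (sb E2292 (tr F12260 E2150)))
theorem E2297 : n7522 = n5268 := (((iv F12466)).symm.trans (sb E2034 (iv D8671)))
theorem F20324 : act 2 n4419 = n3608 := (sb E2035 (iv D5483))
theorem E2300 : n9060 = n7075 := (((D7075).symm.trans (sb E2035 D9060))).symm
theorem E2301 : n9061 = n6333 := ((((iv F10394)).symm.trans (sb E2035 D9061))).symm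
theorem E2302 : n9062 = n7077 := (((D7077).symm.trans (sb E2035 D9062))).symm
theorem E2303 : n8867 = n4604 := (((D4604).symm.trans (sb E2036 F19404))).symm
theorem E2305 : n10683 = n9063 := (((D9063).symm.trans (sb E2037 D10683))).symm
theorem E2306 : n4588 = n4070 := ((E2295).symm.trans (((iv F15104)).symm.trans (sb E2038 (iv D6400))))
theorem E2308 : n10636 = n9054 := (((D9054).symm.trans (sb E2038 D10636))).symm
theorem F20325 : act 1 n4416 = n3608 := (sb E2039 F8510)
theorem F20326 : act 3 n4416 = n3411 := (sb E2039 (iv D5058))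
theorem E2312 : n9064 = n8612 := ((D9064).symm.trans (sb E2041 F19718))
theorem E2313 : n8296 = n4127 := ((D8296).symm.trans (sb E2042 (iv D6509)))
theorem E2314 : n10822 = n3410 := ((((iv D5056)).symm.trans (sb E2042 D10822))).symm
theorem E2316 : n8330 = n4123 := ((D8330).symm.trans (sb E2045 (iv D6501)))
theorem E2319 : n10804 = n8333 := (((D8333).symm.trans (sb E2045 D10804))).symm
theorem F20327 : act 0 n3554 = n3517 := (sb E2047 (iv D5287))
theorem E2327 : n8641 = n2552 := ((((iv F4611)).symm.trans (sb E2048 D8641))).symm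
theorem F20329 : act 2 n3553 = n3517 := (sb E2052 (iv D5288))
theorem E2340 : n8701 = n3611 := ((((iv F6253)).symm.trans (sb E2052 D8701))).symm
theorem E2341 : n8626 = n2653 := (((D2653).symm.trans (sb E2053 (iv F14454)))).symm
theorem F20330 : act 2 n2659 = n3521 := (sb E2054 F8831)
theorem E2345 : n5479 = n3496 := ((D5479).symm.trans (sb E2055 (iv D5245)))
theorem E2349 : n5531 = n3481 := ((((iv F6092)).symm.trans (sb E2057 D5531))).symm
theorem F20332 : act 1 n2591 = n2654 := (sb E2057 (iv D3629))
theorem E2350 : n5524 = n3494 := ((((iv F6113)).symm.trans (sb E2057 (iv F9132)))).symm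
theorem E2355 : n9194 = n5419 := (((D5419).symm.trans (sb E2059 (iv F15322)))).symm
theorem E2356 : n8380 = n3634 := (((D3634).symm.trans (sb E2060 F14080))).symm
theorem F20333 : act 5 n2657 = n3521 := (sb E2060 (iv D5298))
theorem F20334 : act 1 n2106 = n2439 := (sb E2062 (iv D3195))
theorem E2362 : n4622 = n1136 := ((((iv D2106)).symm.trans (sb E2062 (iv F7810)))).symm
theorem F20335 : act 1 n3366 = n3513 := (sb E2063 (iv D5279))
theorem E2364 : n6045 = n4493 := ((((iv F7582)).symm.trans (sb E2063 (iv F9811)))).symm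
theorem E2365 : n8677 = n2527 := ((((iv D3366)).symm.trans (sb E2063 (iv F14529)))).symm
theorem E2366 : n8687 = n3388 := ((((iv F5984)).symm.trans (sb E2063 D8687))).symm
theorem E2367 : n3511 = n2523 := ((((iv F4582)).symm.trans (sb E2064 (iv D5275)))).symm
theorem E2369 : n5368 = n3396 := (((D3396).symm.trans (sb E2065 (iv F8910)))).symm
theorem E2372 : n4633 = n3409 := ((D4633).symm.trans (sb E2067 (iv F6002)))
theorem E2378 : n4941 = n3492 := ((((iv F6110)).symm.trans (sb E2071 (iv F8366)))).symm
theorem E2379 : n4946 = n3512 := (((D3512).symm.trans (sb E2071 D4946))).symm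
theorem E2380 : n8244 = n5366 := (((D5366).symm.trans (sb E2072 (iv F13881)))).symm
theorem E2383 : n6387 = n3174 := ((((iv F5544)).symm.trans (sb E2073 (iv D10615)))).symm
theorem E2384 : n5325 = n4645 := (((D4645).symm.trans (sb E2074 (iv D8765)))).symm
theorem E2387 : n5008 = n5007 := (((iv F8458)).symm.trans (sb E2079 (iv D8210)))
theorem E2388 : n5023 = n5009 := (((D5009).symm.trans (sb E2079 F13838))).symm
theorem E2389 : n9267 = n5010 := (((D5010).symm.trans (sb E2079 (iv F15423)))).symm
theorem E2392 : n8784 = n5709 := ((((iv F9369)).symm.trans (sb E2080 D8784))).symm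
theorem E2394 : n9442 = n8778 := (((D8778).symm.trans (sb E2083 (iv F15675)))).symm
theorem E2396 : n8787 = n5308 := ((D8787).symm.trans (sb E2084 F13579))
theorem E2398 : n7226 = n3538 := (((D3538).symm.trans (sb E2086 (iv F11919)))).symm
theorem E2400 : n7207 = n3194 := ((((iv D4629)).symm.trans (sb E2087 F11914))).symm
theorem E2404 : n7502 = n3697 := (((iv F12428)).symm.trans (sb E2089 (iv D5682)))
theorem E2405 : n8120 = n3197 := (((D3197).symm.trans (sb E2090 D8120))).symm
theorem E2406 : n3661 = n3549 := (((D3549).symm.trans (sb E2091 (iv D5599)))).symm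
theorem E2410 : n8831 = n5301 := ((D8831).symm.trans (sb E2092 (iv D8728)))
theorem E2411 : n9219 = n8833 := (((D8833).symm.trans (sb E2092 (iv F15359)))).symm
theorem E2412 : n8827 = n5555 := (((iv F14778)).symm.trans (sb E2092 (iv F14611)))
theorem E2413 : n9202 = n5286 := (((F8900).symm.trans (sb E2093 (iv F15332)))).symm
theorem E2414 : n9223 = n8835 := ((((iv F14784)).symm.trans (sb E2093 (iv F15363)))).symm
theorem E2415 : n9081 = n8803 := ((((iv F14745)).symm.trans (sb E2093 (iv F15148)))).symm
theorem E2416 : n8836 = n3640 := ((D8836).symm.trans (sb E2093 (iv D5556)))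
theorem E2417 : n8829 = n5553 := ((D8829).symm.trans (sb E2094 (iv D9218)))
theorem E2418 : n8098 = n503 := (((F1632).symm.trans (sb E2095 (iv F13493)))).symm
theorem E2419 : n8157 = n3206 := (((D3206).symm.trans (sb E2096 D8157))).symm
theorem E2420 : n7479 = n1992 := (((F4352).symm.trans (sb E2097 D7479))).symm
theorem E2421 : n6342 = n3123 := ((((iv F5457)).symm.trans (sb E2097 (iv F10412)))).symm
theorem E2422 : n4688 = n1990 := ((((iv D2404)).symm.trans (sb E2097 (iv F7920)))).symm
theorem F20338 : act 3 n4037 = n3125 := (sb E2098 F7588)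
theorem E2426 : n7217 = n4042 := ((((iv F6896)).symm.trans (sb E2098 D7217))).symm
theorem F20339 : act 5 n2438 = n3125 := (sb E2099 F7562)
theorem F20340 : act 0 n4499 = n4629 := (sb E2100 (iv F7825))
theorem F20341 : act 2 n4499 = n3200 := (sb E2100 F7820)
theorem E2431 : n8761 = n3201 := (((D3201).symm.trans (sb E2102 (iv F20175)))).symm
theorem E2436 : n7529 = n3937 := (((D3937).symm.trans (sb E2104 D7529))).symm
theorem E2438 : n3934 = n3251 := (((iv F6731)).symm.trans (sb E2104 F7855))
theorem E2440 : n3235 = n3074 := (((iv F5691)).symm.trans (sb E2105 (iv D4401)))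
theorem F20343 : act 5 n2467 = n3076 := (sb E2105 F7407)
theorem E2441 : n7046 = n3252 := (((D3252).symm.trans (sb E2105 D7046))).symm
theorem E2444 : n10901 = n1995 := ((((iv F3228)).symm.trans (sb E2107 D10901))).symm
theorem E2446 : n10902 = n2039 := (((D2039).symm.trans (sb E2107 D10902))).symm
theorem E2447 : n10903 = n3253 := (((D3253).symm.trans (sb E2108 D10903))).symm
theorem E2448 : n7533 = n6457 := ((D7533).symm.trans (sb E2109 (iv D10724)))
theorem E2451 : n4750 = n4185 := ((D4750).symm.trans (sb E2110 (iv F7139)))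
theorem E2452 : n10956 = n4797 := (((D4797).symm.trans (sb E2111 (iv F18401)))).symm
theorem E2453 : n10958 = n4798 := (((D4798).symm.trans (sb E2111 (iv F18405)))).symm
theorem E2455 : n4795 = n4172 := (((iv F8095)).symm.trans (sb E2111 (iv D6593)))
theorem E2460 : n7636 = n5204 := (((iv F12673)).symm.trans (sb E2115 (iv D8571)))
theorem F20346 : act 1 n3477 = n3241 := (sb E2116 F7953)
theorem E2463 : n3232 = n2584 := (((F6085).symm.trans (sb E2116 (iv D4706)))).symm
theorem E2465 : n8614 = n7684 := (((D7684).symm.trans (sb E2117 (iv F14423)))).symm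
theorem F20348 : act 2 n6276 = n4725 := (sb E2118 F12733)
theorem F20349 : act 6 n6276 = n4724 := (sb E2118 (iv D7679))
theorem E2466 : n10776 = n3142 := (((D3142).symm.trans (sb E2119 (iv F18063)))).symm
theorem E2467 : n5216 = n2326 := (((F4372).symm.trans (sb E2119 (iv D8590)))).symm
theorem E2469 : n5218 = n2968 := ((((iv F5217)).symm.trans (sb E2120 D5218))).symm
theorem E2471 : n7686 = n5926 := ((D7686).symm.trans (sb E2122 (iv D9874)))
theorem E2472 : n10890 = n7688 := (((D7688).symm.trans (sb E2122 F18306))).symm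
theorem F20350 : act 1 n6500 = n4725 := (sb E2123 (iv D7680))
theorem F20351 : act 3 n6500 = n5482 := (sb E2123 F12736)
theorem F20353 : act 3 n3525 = n3546 := (sb E2124 (iv D5352))
theorem E2475 : n6940 = n5309 := (((D5309).symm.trans (sb E2125 (iv F11393)))).symm
theorem E2476 : n5310 = n3046 := ((D5310).symm.trans (sb E2125 (iv D4342)))
theorem E2478 : n5258 = n3063 := (((iv F8786)).symm.trans (sb E2125 F7342))
theorem F20354 : act 0 n2656 = n2593 := (sb E2127 (iv D3502))
theorem E2481 : n5257 = n3419 := ((((iv F6016)).symm.trans (sb E2127 D5257))).symm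
theorem F20355 : act 5 n2656 = n2605 := (sb E2127 F6126)
theorem E2482 : n8911 = n5312 := (((D5312).symm.trans (sb E2128 D8911))).symm
theorem E2483 : n6599 = n2757 := ((((iv F4873)).symm.trans (sb E2129 (iv F10816)))).symm
theorem E2484 : n2959 = n2759 := (((D2759).symm.trans (sb E2129 (iv D4175)))).symm
theorem E2485 : n6601 = n2510 := ((((iv F4559)).symm.trans (sb E2129 D6601))).symm
theorem E2486 : n2980 = n2749 := ((((iv F4870)).symm.trans (sb E2129 F7132))).symm
theorem F20357 : act 3 n2367 = n2606 := (sb E2130 (iv D3528))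
theorem E2489 : n5314 = n3014 := ((((iv F5295)).symm.trans (sb E2130 D5314))).symm
theorem E2492 : n6822 = n4613 := (((D4613).symm.trans (sb E2131 (iv F11143)))).symm
theorem E2493 : n4595 = n3067 := (((iv F7767)).symm.trans (sb E2131 F7347))
theorem E2494 : n6945 = n4614 := (((D4614).symm.trans (sb E2131 D6945))).symm
theorem E2495 : n5229 = n1868 := (((F4291).symm.trans (sb E2132 (iv F8737)))).symm
theorem E2496 : n5260 = n3068 := (((D3068).symm.trans (sb E2132 D5260))).symm
theorem E2498 : n5317 = n4384 := ((D5317).symm.trans (sb E2133 (iv F7389)))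
theorem E2501 : n5538 = n4615 := (((D4615).symm.trans (sb E2135 (iv D9184)))).symm
theorem E2503 : n3094 = n2587 := ((((iv F4656)).symm.trans (sb E2136 F7391))).symm
theorem E2507 : n10932 = n2509 := ((((iv F4557)).symm.trans (sb E2140 F18426))).symm
theorem E2510 : n10931 = n2510 := (((D2510).symm.trans (sb E2141 F18431))).symm
theorem E2523 : n10522 = n7438 := ((((iv F12326)).symm.trans (sb E2149 F17907))).symm
theorem F20363 : act 0 n4086 = n7409 := (sb E2150 D7409)
theorem E2525 : n3175 = n2914 := ((((iv D4086)).symm.trans (sb E2150 (iv D4590)))).symm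
theorem E2529 : n9063 = n7442 := (((D7442).symm.trans (sb E2151 (tr F17914 E2305)))).symm
theorem E2530 : n3168 = n2460 := (((iv F5533)).symm.trans (sb E2153 (iv D3234)))
theorem E2535 : n6417 = n2735 := ((((iv F5641)).symm.trans (sb E2157 D6417))).symm
theorem E2538 : n4659 = n4620 := ((D4659).symm.trans (sb E2159 F12374))
theorem E2540 : n4658 = n4617 := (((iv F7868)).symm.trans (sb E2159 (iv D7464)))
theorem E2541 : n6733 = n2445 := (((D2445).symm.trans (sb E2160 (iv F13534)))).symm
theorem E2542 : n2522 = n2455 := (((iv F5650)).symm.trans (sb E2161 (iv D3226)))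
theorem E2549 : n3236 = n3180 := (((D3180).symm.trans (sb E2164 (iv D4716)))).symm
theorem E2550 : n9322 = n8825 := (((D8825).symm.trans (sb E2167 F15498))).symm
theorem E2551 : n10129 = n9945 := (((iv F16805)).symm.trans (sb E2168 (iv F16510)))
theorem F20370 : act 1 n8164 = n5130 := (sb E2170 (iv D8438))
theorem E2552 : n10128 = n9880 := ((D10128).symm.trans (sb E2171 (iv F16400)))
theorem E2556 : n10377 = n7368 := ((D10377).symm.trans (sb E2178 (iv F12519)))
theorem F20376 : act 1 n5137 = n4984 := (sb E2179 (iv D8165))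
theorem E2557 : n8232 = n8131 := (((iv F13864)).symm.trans (sb E2181 F13803))
theorem F20381 : act 5 n5084 = n4994 := (sb E2181 (iv D8185))
theorem E2558 : n10145 = n6187 := ((D10145).symm.trans (sb E2183 (iv F14966)))
theorem E2559 : n10410 = n6290 := ((((iv F10310)).symm.trans (sb E2183 (iv F17330)))).symm
theorem E2560 : n6156 = n3924 := (((F9909).symm.trans (sb E2183 F14965))).symm
theorem E2561 : n11655 = n6124 := ((((iv F9946)).symm.trans (sb E2183 (iv F19668)))).symm
theorem F20386 : act 2 n4009 = n3999 := (sb E2185 (iv D6270))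
theorem F20387 : act 2 n6105 = n5431 := (sb E2187 F14970)
theorem E2565 : n10236 = n6121 := ((((iv F9941)).symm.trans (sb E2187 (iv F17015)))).symm
theorem F20390 : act 5 n2271 = n2474 := (sb E2202 (iv D3270))
theorem E2577 : n9387 = n6251 := (((D6251).symm.trans (sb E2203 (iv F15584)))).symm
theorem E2584 : n10143 = n8278 := ((D10143).symm.trans (sb E2209 F13939))
theorem E2586 : n10144 = n5045 := ((D10144).symm.trans (sb E2209 (iv D8279)))
theorem F20393 : act 5 n4102 = n5476 := (sb E2212 (iv D9044))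
theorem F20394 : act 5 n4107 = n5521 := (sb E2216 (iv D9148))
theorem E2599 : n9128 = n8174 := ((((iv F13789)).symm.trans (sb E2222 (iv F15224)))).symm
theorem E2602 : n10179 = n4317 := ((D10179).symm.trans (sb E2224 (iv D6905)))
theorem E2603 : n10180 = n6934 := ((D10180).symm.trans (sb E2224 (iv F11382)))
theorem E2604 : n4290 = n3060 := (((F7340).symm.trans (sb E2226 F9942))).symm
theorem E2605 : n10183 = n6936 := ((((iv F11385)).symm.trans (sb E2226 D10183))).symm
theorem E2606 : n10184 = n6819 := ((((iv F11138)).symm.trans (sb E2226 D10184))).symm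
theorem E2607 : n10185 = n6938 := (((D6938).symm.trans (sb E2226 D10185))).symm
theorem E2608 : n10389 = n6298 := ((D10389).symm.trans (sb E2227 F17419))
theorem E2609 : n4023 = n2868 := (((F6836).symm.trans (sb E2228 F10271))).symm
theorem E2612 : n5639 = n4288 := ((((iv F7277)).symm.trans (sb E2230 (iv F9260)))).symm
theorem F20398 : act 5 n3019 = n2677 := (sb E2230 (iv D3679))
theorem F20401 : act 6 n8980 = n6120 := (sb E2232 (iv D10181))
theorem E2616 : n10223 = n2870 := (((iv F17000)).symm.trans (sb E2233 (tr F10254 E2235)))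
theorem E2619 : n10217 = n4016 := (((iv F16983)).symm.trans (sb E2233 F10255))
theorem E2620 : n10227 = n6311 := ((D10227).symm.trans (sb E2233 (iv F10346)))
theorem E2621 : n6260 = n4015 := (((D4015).symm.trans (sb E2234 F17278))).symm
theorem E2622 : n4022 = n2856 := ((D4022).symm.trans (sb E2235 (iv D3995)))
theorem E2623 : n6261 = n4024 := (((D4024).symm.trans (sb E2235 D6261))).symm
theorem E2625 : n5622 = n4271 := (((iv F9245)).symm.trans (sb E2236 (iv D6809)))
theorem E2626 : n11301 = n3058 := (((F6340).symm.trans (sb E2236 D11301))).symm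
theorem E2627 : n6852 = n5640 := (((D5640).symm.trans (sb E2236 (iv F11203)))).symm
theorem F20403 : act 2 n3010 = n2677 := (sb E2237 F6332)
theorem E2629 : n5625 = n4273 := (((D4273).symm.trans (sb E2237 D5625))).symm
theorem E2630 : n11302 = n3059 := (((D3059).symm.trans (sb E2238 D11302))).symm
theorem E2632 : n11304 = n3061 := (((D3061).symm.trans (sb E2238 D11304))).symm
theorem E2634 : n6846 = n5643 := (((D5643).symm.trans (sb E2239 (iv F11194)))).symm
theorem E2635 : n6145 = n4015 := ((D6145).symm.trans (sb E2241 (tr F12475 E2621)))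
theorem E2636 : n6138 = n4748 := (((iv F9969)).symm.trans (sb E2241 F12474))
theorem E2638 : n4747 = n3040 := ((D4747).symm.trans (sb E2242 F7106))
theorem F20404 : act 5 n3249 = n4404 := (sb E2242 (iv F7418))
theorem E2639 : n7748 = n4378 := ((D7748).symm.trans (sb E2243 (iv D7002)))
theorem F20406 : act 6 n4755 = n4404 := (sb E2243 F11506)
theorem E2640 : n4743 = n1741 := (((F4213).symm.trans (sb E2244 D4743))).symm
theorem F20407 : act 1 n2317 = n2466 := (sb E2244 (iv D3248))
theorem F20408 : act 3 n2317 = n2474 := (sb E2244 F5710)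
theorem E2644 : n11216 = n7753 := ((((iv F12856)).symm.trans (sb E2245 (iv F18838)))).symm
theorem F20409 : act 0 n2320 = n2474 := (sb E2246 (iv D3268))
theorem E2645 : n4550 = n2954 := (((D2954).symm.trans (sb E2246 (iv F7682)))).symm
theorem E2646 : n4788 = n2849 := ((((iv F4975)).symm.trans (sb E2246 D4788))).symm
theorem E2647 : n4790 = n2955 := (((D2955).symm.trans (sb E2246 D4790))).symm
theorem F20411 : act 2 n2272 = n2474 := (sb E2247 (iv D3269))
theorem F20412 : act 4 n2957 = n2676 := (sb E2248 F5741)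
theorem E2650 : n4796 = n2321 := ((((iv D2957)).symm.trans (sb E2248 D4796))).symm
theorem F20413 : act 6 n2957 = n2474 := (sb E2248 (iv D3271))
theorem E2651 : n6570 = n2557 := ((((iv D3428)).symm.trans (sb E2249 D6570))).symm
theorem E2652 : n6571 = n4433 := ((((iv F11480)).symm.trans (sb E2249 D6571))).symm
theorem E2653 : n5096 = n2965 := ((D5096).symm.trans (sb E2249 F7109))
theorem E2655 : n4428 = n4258 := (((D4258).symm.trans (sb E2250 (iv F11481)))).symm
theorem F20414 : act 2 n3003 = n2673 := (sb E2250 (iv D3668))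
theorem E2657 : n5619 = n3012 := ((((iv F5292)).symm.trans (sb E2250 D5619))).symm
theorem F20415 : act 5 n3670 = n3009 := (sb E2251 F7112)
theorem E2662 : n5632 = n4274 := (((D4274).symm.trans (sb E2253 D5632))).symm
theorem F20416 : act 2 n3011 = n2676 := (sb E2253 F6334)
theorem E2663 : n5633 = n3004 := (((F5288).symm.trans (sb E2253 D5633))).symm
theorem E2664 : n5638 = n4163 := (((D4163).symm.trans (sb E2254 D5638))).symm
theorem F20417 : act 5 n2953 = n2676 := (sb E2254 (iv D3677))
theorem F20418 : act 1 n4261 = n4724 := (sb E2255 (iv D7677))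
theorem F20419 : act 1 n7678 = n6790 := (sb E2256 F17993)
theorem E2665 : n6480 = n5055 := ((D6480).symm.trans (sb E2260 (iv D8292)))
theorem F20423 : act 4 n4112 = n5067 := (sb E2260 F13959)
theorem F20424 : act 0 n4108 = n5476 := (sb E2261 F15084)
theorem F20426 : act 4 n4113 = n5523 := (sb E2262 F15089)
theorem F20428 : act 6 n6475 = n5476 := (sb E2264 (iv D9045))
theorem F20429 : act 4 n6487 = n5529 := (sb E2265 F15098)
theorem F20430 : act 6 n6487 = n5482 := (sb E2265 F15099)
theorem F20431 : act 4 n8320 = n6481 := (sb E2268 F18029)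
theorem F20432 : act 5 n8320 = n6502 := (sb E2268 F18030)
theorem F20433 : act 0 n4123 = n5069 := (sb E2269 F14003)
theorem F20434 : act 5 n4123 = n5067 := (sb E2269 (iv D8321))
theorem E2667 : n8329 = n6503 := (((D6503).symm.trans (sb E2269 (iv F14016)))).symm
theorem E2668 : n8333 = n8327 := ((((iv F14011)).symm.trans (sb E2270 (tr (iv F18127) E2319)))).symm
theorem F20436 : act 3 n9146 = n6472 := (sb E2271 F18005)
theorem F20437 : act 4 n9146 = n6472 := (sb E2271 F18006)
theorem F20438 : act 5 n9146 = n9146 := (sb E2271 (tr F18007 E2271))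
theorem F20443 : act 4 n9151 = n6483 := (sb E2274 F18034)
theorem F20444 : act 0 n9042 = n6395 := (sb E2275 F15268)
theorem E2670 : n6394 = n3496 := (((E2345).symm.trans ((F15090).symm.trans (sb E2275 F15270)))).symm
theorem E2671 : n9042 = n5239 := ((((iv F8749)).symm.trans (iv (sb E2275 (tr (iv D9153) E2350))))).symm
theorem F20445 : act 3 n3626 = n5476 := (sb E2278 (iv D9043))
theorem F20446 : act 3 n6475 = n5527 := (sb E2280 F15274)
theorem E2673 : n10757 = n5586 := ((D10757).symm.trans (sb E2282 F15289))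
theorem F20450 : act 0 n4194 = n5076 := (sb E2285 F14018)
theorem E2677 : n5076 = n4338 := (((iv F8537)).symm.trans (sb E2287 (iv F7764)))
theorem E2678 : n4383 = n4341 := (((iv F7385)).symm.trans (sb E2287 F7763))
theorem E2679 : n7409 = n5484 := ((((iv F9067)).symm.trans (sb E2287 (iv F12274)))).symm
theorem F20454 : act 5 n3632 = n3185 := (sb E2287 F7762)
theorem E2680 : n6935 = n4214 := ((D6935).symm.trans (iv (sb E2289 (tr F13971 E2677))))
theorem F20459 : act 0 n5371 = n4602 := (sb E2291 (iv D7431))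
theorem F20461 : act 5 n7433 = n5485 := (sb E2293 (iv D9065))
theorem F20464 : act 4 n4086 = n5480 := (sb E2296 F11552)
theorem F20465 : act 1 n5268 = n7433 := (sb E2297 F12466)
theorem E2687 : n11691 = n7678 := ((D11691).symm.trans (sb E2300 F15118))
theorem F20467 : act 2 n6333 = n5484 := (sb E2301 F15119)
theorem F20468 : act 2 n7077 = n5485 := (sb E2302 F15120)
theorem E2688 : n10338 = n7437 := (((D7437).symm.trans (sb E2303 F20264))).symm
theorem F20469 : act 4 n4604 = n5371 := (sb E2303 (iv D8867))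
theorem E2689 : n10683 = n7442 := (E2305).trans E2529
theorem F20471 : act 2 n7442 = n10523 := (sb E2689 F17901)
theorem E2691 : n5204 = n3967 := (((F6957).symm.trans (sb E2306 (iv F8690)))).symm
theorem F20472 : act 2 n9054 = n11690 := (sb E2308 (iv F19731))
theorem F20475 : act 1 n8612 = n5485 := (sb E2312 (iv D9064))
theorem F20477 : act 1 n4127 = n5056 := (sb E2313 (iv D8296))
theorem E2693 : n10271 = n4532 := ((((iv F7650)).symm.trans (sb E2314 F18172))).symm
theorem E2694 : n5071 = n5069 := (((F20433).symm.trans (sb E2316 (iv D8330)))).symm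
theorem E2695 : n10804 = n8327 := (E2319).trans E2668
theorem E2696 : n6628 = n5102 := (((F14010).symm.trans (sb E2695 F18125))).symm
theorem F20482 : act 4 n8327 = n6511 := (sb E2695 F18126)
theorem E2698 : n8212 = n3417 := ((((iv F6012)).symm.trans (sb E2327 F14468))).symm
theorem F20484 : act 2 n3611 = n5289 := (sb E2340 F14566)
theorem E2702 : n5241 = n3626 := (((D3626).symm.trans (sb E2341 (iv D8626)))).symm
theorem F20485 : act 1 n3496 = n3606 := (sb E2345 (iv D5479))
theorem E2707 : n9152 = n5210 := ((((iv F8706)).symm.trans (sb E2349 (iv F15264)))).symm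
theorem E2711 : n8962 = n5543 := ((D8962).symm.trans (sb E2355 (iv D9194)))
theorem E2712 : n5541 = n5094 := ((D5541).symm.trans (sb E2356 (iv D8380)))
theorem E2718 : n3191 = n2104 := (((D2104).symm.trans (sb E2362 (iv D4622)))).symm
theorem F20487 : act 1 n4493 = n3881 := (sb E2364 (iv D6045))
theorem E2722 : n9887 = n4313 := (((F7581).symm.trans (sb E2364 (iv F16412)))).symm
theorem E2723 : n6379 = n3122 := ((((iv D4493)).symm.trans (sb E2364 (iv F10479)))).symm
theorem E2724 : n10077 = n4510 := ((((iv F7619)).symm.trans (sb E2364 D10077))).symm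
theorem E2725 : n5273 = n3356 := ((((iv F5937)).symm.trans (sb E2365 (iv D8677)))).symm
theorem E2726 : n8813 = n5006 := (((D5006).symm.trans (sb E2366 (iv F14766)))).symm
theorem E2727 : n4691 = n3349 := ((((iv F5923)).symm.trans (sb E2367 (iv F7928)))).symm
theorem E2728 : n5237 = n3355 := (((D3355).symm.trans (sb E2367 (iv F8746)))).symm
theorem F20488 : act 5 n2523 = n2597 := (sb E2367 (iv D3511))
theorem E2730 : n8856 = n5020 := (((D5020).symm.trans (sb E2369 (iv F14802)))).symm
theorem E2736 : n7494 = n5051 := ((((iv F8497)).symm.trans (sb E2372 D7494))).symm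
theorem F20491 : act 3 n3409 = n3552 := (sb E2372 F7831)
theorem E2746 : n8104 = n5238 := (((D5238).symm.trans (sb E2378 D8104))).symm
theorem E2747 : n8114 = n5277 := (((D5277).symm.trans (sb E2379 D8114))).symm
theorem E2748 : n5278 = n4932 := ((D5278).symm.trans (sb E2379 F8373))
theorem E2749 : n8854 = n5398 := ((D8854).symm.trans (sb E2380 F13882))
theorem E2750 : n8850 = n8241 := (((iv F14799)).symm.trans (sb E2380 F13884))
theorem E2752 : n4064 = n3485 := ((((iv F6096)).symm.trans (sb E2383 (iv D6387)))).symm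
theorem F20492 : act 5 n3174 = n4070 := (sb E2383 F10497)
theorem F20493 : act 6 n4645 = n5268 := (sb E2384 F8864)
theorem E2763 : n8195 = n8194 := ((((iv F13812)).symm.trans (sb E2387 (iv F13814)))).symm
theorem E2764 : n8213 = n5079 := ((D8213).symm.trans (sb E2387 (iv F8542)))
theorem E2765 : n8216 = n6819 := ((D8216).symm.trans (sb E2388 (iv F11137)))
theorem E2766 : n8217 = n6936 := ((D8217).symm.trans (sb E2388 (iv F11386)))
theorem E2767 : n8218 = n5722 := ((D8218).symm.trans (sb E2388 (iv F9386)))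
theorem E2769 : n9842 = n5073 := ((((iv F8535)).symm.trans (sb E2389 (iv F16308)))).symm
theorem F20501 : act 5 n5709 = n8164 := (sb E2392 F14710)
theorem F20503 : act 0 n8778 = n7894 := (sb E2394 (iv F15676))
theorem F20504 : act 1 n8778 = n5679 := (sb E2394 (iv D9442))
theorem F20509 : act 0 n5308 = n8164 := (sb E2396 F14713)
theorem F20510 : act 3 n5308 = n5353 := (sb E2396 F20232)
theorem E2770 : n5334 = n4839 := ((D5334).symm.trans (sb E2398 (iv F11920)))
theorem F20512 : act 5 n3538 = n4499 := (sb E2398 (iv D7226))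
theorem E2771 : n11939 = n4628 := (((D4628).symm.trans (sb E2400 D11939))).symm
theorem E2776 : n5658 = n4636 := (((iv F9284)).symm.trans (sb E2404 (iv D7502)))
theorem E2777 : n5459 = n4634 := (((D4634).symm.trans (sb E2405 F13535))).symm
theorem E2780 : n5359 = n2669 := ((D5359).symm.trans (sb E2406 (iv D3661)))
theorem F20522 : act 1 n5301 = n5356 := (sb E2410 (iv D8831))
theorem F20523 : act 1 n8833 = n8723 := (sb E2411 (iv F15360))
theorem F20526 : act 6 n5555 = n5356 := (sb E2412 F14778)
theorem E2783 : n11169 = n5966 := ((((iv F13731)).symm.trans (sb E2413 (iv F18740)))).symm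
theorem E2784 : n8696 = n5545 := ((D8696).symm.trans (sb E2413 (iv D9202)))
theorem F20527 : act 6 n8835 = n5554 := (sb E2414 (iv D9223))
theorem F20528 : act 6 n8803 = n5492 := (sb E2415 (iv D9081))
theorem F20529 : act 6 n3640 = n5358 := (sb E2416 (iv D8836))
theorem F20531 : act 6 n5553 = n8833 := (sb E2417 (iv F14782))
theorem E2786 : n4938 = n1033 := (((D1033).symm.trans (sb E2418 (iv D8098)))).symm
theorem E2788 : n6724 = n4651 := (((D4651).symm.trans (sb E2419 (iv F16291)))).symm
theorem E2790 : n10538 = n2408 := ((((iv F4360)).symm.trans (sb E2420 (iv F17605)))).symm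
theorem F20532 : act 1 n3123 = n4037 := (sb E2421 (iv D6342))
theorem E2792 : n9801 = n4491 := ((((iv F7573)).symm.trans (sb E2421 (iv F16192)))).symm
theorem E2793 : n4076 = n2403 := ((((iv D3123)).symm.trans (sb E2421 F10414))).symm
theorem E2794 : n10539 = n3134 := ((((iv F5478)).symm.trans (sb E2421 D10539))).symm
theorem E2795 : n3221 = n2402 := (((D2402).symm.trans (sb E2422 (iv D4688)))).symm
theorem E2800 : n7260 = n6351 := (((D6351).symm.trans (sb E2426 (iv F11976)))).symm
theorem F20533 : act 3 n4042 = n4499 := (sb E2426 F11905)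
theorem E2804 : n10885 = n4642 := (((D4642).symm.trans (sb E2431 (iv F18291)))).symm
theorem E2805 : n4643 = n4642 := ((D4643).symm.trans (sb E2431 (tr (iv F18292) E2804)))
theorem E2806 : n5323 = n4644 := (((D4644).symm.trans (sb E2431 (iv D8761)))).symm
theorem E2807 : n10884 = n2464 := (((F5594).symm.trans (sb E2431 (iv F18290)))).symm
theorem E2809 : n10485 = n6148 := (((D6148).symm.trans (sb E2436 (iv F17488)))).symm
theorem E2812 : n6140 = n4753 := (((D4753).symm.trans (sb E2438 D6140))).symm
theorem F20535 : act 1 n3074 = n2467 := (sb E2440 F5691)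
theorem E2814 : n4715 = n4402 := (((D4402).symm.trans (sb E2440 D4715))).symm
theorem E2815 : n7001 = n4754 := (((D4754).symm.trans (sb E2441 F11580))).symm
theorem E2817 : n6594 = n2416 := (((D2416).symm.trans (sb E2444 F18319))).symm
theorem E2819 : n8443 = n2041 := ((((iv F3324)).symm.trans (sb E2444 (iv F18323)))).symm
theorem E2822 : n11211 = n2469 := (((D2469).symm.trans (sb E2446 F18828))).symm
theorem E2823 : n8019 = n4756 := (((D4756).symm.trans (sb E2447 F18327))).symm
theorem E2824 : n6745 = n4758 := (((D4758).symm.trans (sb E2447 (iv F18329)))).symm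
theorem E2825 : n7672 = n4666 := (((iv F12722)).symm.trans (sb E2448 F12481))
theorem F20541 : act 1 n4185 = n3250 := (sb E2451 (iv D4750))
theorem F20542 : act 3 n4185 = n3272 := (sb E2451 F8034)
theorem E2832 : n10953 = n7840 := (((D7840).symm.trans (sb E2452 F18403))).symm
theorem E2833 : n7834 = n6591 := (((iv F12962)).symm.trans (sb E2452 (iv D10956)))
theorem E2834 : n7835 = n6592 := (((iv F12965)).symm.trans (sb E2453 (iv D10958)))
theorem E2836 : n7836 = n6590 := ((((iv F10810)).symm.trans (sb E2455 D7836))).symm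
theorem F20544 : act 6 n4172 = n3272 := (sb E2455 F8095)
theorem E2839 : n7636 = n3967 := (E2460).trans E2691
theorem E2840 : n6208 = n4726 := ((D6208).symm.trans (sb E2839 F12673))
theorem F20546 : act 1 n2584 = n2458 := (sb E2463 (iv D3232))
theorem E2841 : n4703 = n3481 := ((((iv F6093)).symm.trans (sb E2463 (iv F7948)))).symm
theorem F20548 : act 5 n7684 = n6862 := (sb E2465 F14425)
theorem E2843 : n6488 = n4532 := (((D4532).symm.trans (sb E2466 (iv D10776)))).symm
theorem E2844 : n11736 = n4533 := (((D4533).symm.trans (sb E2466 (iv F19824)))).symm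
theorem E2846 : n8447 = n2966 := (((D2966).symm.trans (sb E2467 (iv F14179)))).symm
theorem E2850 : n5272 = n4193 := (((D4193).symm.trans (sb E2469 (iv F8796)))).symm
theorem E2853 : n9849 = n7695 := (((iv F16323)).symm.trans (sb E2471 (iv F12767)))
theorem E2854 : n9876 = n4730 := ((D9876).symm.trans (sb E2471 F12747))
theorem E2855 : n7692 = n6552 := (((iv F12761)).symm.trans (sb E2472 (iv D10890)))
theorem E2857 : n8739 = n7417 := ((D8739).symm.trans (sb E2475 (iv F12285)))
theorem E2858 : n8740 = n4341 := ((D8740).symm.trans (sb E2475 (iv D6940)))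
theorem E2860 : n7453 = n4297 := (((F8849).symm.trans (sb E2475 (iv F12356)))).symm
theorem E2861 : n11478 = n8741 := (((D8741).symm.trans (sb E2475 D11478))).symm
theorem E2863 : n8657 = n2374 := (((F5338).symm.trans (sb E2476 (iv F14498)))).symm
theorem E2867 : n4380 = n4277 := (((iv F7383)).symm.trans (sb E2478 F8784))
theorem E2869 : n5072 = n5025 := (((iv F8532)).symm.trans (sb E2481 F8781))
theorem E2870 : n5075 = n4276 := ((D5075).symm.trans (sb E2481 (iv F8779)))
theorem F20556 : act 3 n5312 = n5392 := (sb E2482 F14887)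
theorem E2872 : n10969 = n3825 := (((D3825).symm.trans (sb E2483 (iv F18422)))).symm
theorem E2873 : n4174 = n3826 := (((D3826).symm.trans (sb E2483 (iv D6599)))).symm
theorem E2874 : n10973 = n3327 := ((((iv F5861)).symm.trans (sb E2483 D10973))).symm
theorem E2875 : n4219 = n3812 := ((((iv F6496)).symm.trans (sb E2483 F10817))).symm
theorem F20557 : act 1 n2759 = n2367 := (sb E2484 F5204)
theorem E2877 : n3828 = n2322 := ((D3828).symm.trans (sb E2484 (iv D2959)))
theorem E2878 : n4117 = n3829 := (((D3829).symm.trans (sb E2484 (iv F7030)))).symm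
theorem E2879 : n3813 = n2333 := (((iv F6497)).symm.trans (sb E2484 F5205))
theorem E2880 : n4176 = n3830 := (((D3830).symm.trans (sb E2484 D4176))).symm
theorem E2881 : n10783 = n3329 := (((D3329).symm.trans (sb E2485 (iv F18075)))).symm
theorem E2882 : n4223 = n3319 := ((((iv F5844)).symm.trans (sb E2485 F10820))).symm
theorem E2884 : n3804 = n2340 := (((iv F6493)).symm.trans (sb E2486 F5227))
theorem E2885 : n4224 = n3814 := (((D3814).symm.trans (sb E2486 D4224))).symm
theorem E2892 : n7457 = n4278 := (((D4278).symm.trans (sb E2489 (iv F12364)))).symm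
theorem E2899 : n11325 = n7456 := (((D7456).symm.trans (sb E2492 (iv F19102)))).symm
theorem E2900 : n7417 = n4302 := (((iv F12286)).symm.trans (sb E2492 F11144))
theorem E2901 : n11327 = n7458 := (((D7458).symm.trans (sb E2492 D11327))).symm
theorem E2902 : n7403 = n2390 := (((F5354).symm.trans (sb E2493 (iv F12253)))).symm
theorem E2903 : n7418 = n4392 := (((D4392).symm.trans (sb E2493 D7418))).symm
theorem E2905 : n7013 = n6941 := ((((iv F11396)).symm.trans (sb E2494 (iv F11525)))).symm
theorem E2906 : n8605 = n2388 := ((((iv F4313)).symm.trans (sb E2495 (iv F14406)))).symm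
theorem E2907 : n3488 = n2389 := (((D2389).symm.trans (sb E2495 (iv D5229)))).symm
theorem E2908 : n8607 = n2391 := (((D2391).symm.trans (sb E2495 D8607))).symm
theorem E2909 : n8661 = n4393 := (((D4393).symm.trans (sb E2496 D8661))).symm
theorem E2912 : n8756 = n7014 := (((D7014).symm.trans (sb E2498 D8756))).symm
theorem F20564 : act 6 n4615 = n3632 := (sb E2501 (iv D5538))
theorem E2920 : n3486 = n2841 := (((iv F6099)).symm.trans (sb E2503 F5393))
theorem E2930 : n6580 = n3327 := (((D3327).symm.trans (sb E2507 (iv D10932)))).symm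
theorem E2934 : n6579 = n3329 := (((D3329).symm.trans (sb E2510 (iv D10931)))).symm
theorem E2936 : n11080 = n3330 := (((D3330).symm.trans (sb E2510 (iv F18603)))).symm
theorem F20567 : act 4 n7438 = n7076 := (sb E2523 F17568)
theorem F20568 : act 5 n7438 = n6333 := (sb E2523 (iv D10522))
theorem F20570 : act 3 n2914 = n2430 := (sb E2525 F5546)
theorem F20576 : act 4 n7442 = n5485 := (sb E2529 F15122)
theorem F20577 : act 0 n2460 = n2430 := (sb E2530 F5533)
theorem F20578 : act 2 n2460 = n3074 := (sb E2530 (iv F5655))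
theorem F20579 : act 4 n2460 = n2584 := (sb E2530 F5534)
theorem F20580 : act 5 n2460 = n2427 := (sb E2530 (iv D3168))
theorem E2975 : n6443 = n3788 := (((D3788).symm.trans (sb E2535 (iv F10576)))).symm
theorem E2982 : n7468 = n3218 := (((iv F12382)).symm.trans (sb E2538 F7869))
theorem E2986 : n4235 = n3209 := ((F13588).symm.trans (sb E2540 (iv D4658)))
theorem E2987 : n7463 = n3217 := ((D7463).symm.trans (sb E2540 F7867))
theorem F20583 : act 5 n4617 = n3210 := (sb E2540 F7868)
theorem E2989 : n6732 = n3207 := (((D3207).symm.trans (sb E2541 F10974))).symm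
theorem E2990 : n3208 = n3207 := ((D3208).symm.trans (sb E2541 (tr F13758 E2989)))
theorem E2991 : n11115 = n2030 := (((F4420).symm.trans (sb E2541 (iv F18651)))).symm
theorem F20584 : act 1 n2455 = n2427 := (sb E2542 F5650)
theorem E2993 : n3224 = n2521 := (((iv F5667)).symm.trans (sb E2542 (iv F5652)))
theorem E2994 : n3354 = n3227 := (((D3227).symm.trans (sb E2542 D3354))).symm
theorem E3001 : n4601 = n4213 := ((D4601).symm.trans (sb E2549 (iv F7176)))
theorem F20585 : act 6 n3180 = n2460 := (sb E2549 (iv D3236))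
theorem F20586 : act 0 n8825 = n5604 := (sb E2550 F15495)
theorem F20587 : act 3 n8825 = n5747 := (sb E2550 F15496)
theorem F20588 : act 5 n8825 = n5602 := (sb E2550 (iv D9322))
theorem F20589 : act 1 n9945 = n8163 := (sb E2551 F16805)
theorem E3002 : n10557 = n10439 := (((iv F17656)).symm.trans (sb E2551 (iv F17403)))
theorem F20591 : act 0 n9880 = n6093 := (sb E2552 (iv D10128))
theorem E3004 : n10691 = n9787 := (((iv F17921)).symm.trans (sb E2552 F16804))
theorem F20593 : act 1 n7368 = n6252 := (sb E2556 (iv D10377))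
theorem F20596 : act 1 n8131 = n5084 := (sb E2557 F13864)
theorem E3008 : n11257 = n5930 := (((F10043).symm.trans (sb E2558 (iv F18931)))).symm
theorem E3009 : n10285 = n6108 := (((iv F17097)).symm.trans (sb E2558 F16841))
theorem E3012 : n10157 = n4012 := (((F10311).symm.trans (sb E2559 (iv F17332)))).symm
theorem E3013 : n8608 = n6300 := ((((iv F10335)).symm.trans (sb E2559 F17331))).symm
theorem E3014 : n6119 = n3943 := ((D6119).symm.trans (sb E2560 (iv D6156)))
theorem E3016 : n10188 = n7421 := ((D10188).symm.trans (sb E2561 F19666))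
theorem F20600 : act 2 n6124 = n7047 := (sb E2561 (iv D11655))
theorem E3017 : n10316 = n10182 := (((D10182).symm.trans (sb E2565 (iv F17145)))).symm
theorem F20602 : act 2 n6121 = n8980 := (sb E2565 F17014)
theorem E3029 : n10375 = n8277 := ((D10375).symm.trans (sb E2577 F15583))
theorem E3038 : n11279 = n5774 := ((((iv F13938)).symm.trans (sb E2584 (iv F18992)))).symm
theorem F20613 : act 5 n5045 = n6102 := (sb E2586 (iv D10144))
theorem F20627 : act 1 n8174 = n5513 := (sb E2599 (iv D9128))
theorem F20629 : act 1 n4317 = n6120 := (sb E2602 (iv D10179))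
theorem E3050 : n10207 = n4519 := (((F11381).symm.trans (sb E2603 (iv F16962)))).symm
theorem E3051 : n6845 = n4370 := ((((iv F7374)).symm.trans (sb E2604 (iv F11190)))).symm
theorem E3052 : n6848 = n4374 := ((((iv F7377)).symm.trans (sb E2604 D6848))).symm
theorem E3055 : n11474 = n10201 := (((iv F19393)).symm.trans (sb E2605 (iv F16950)))
theorem E3056 : n11299 = n10463 := (((iv F19040)).symm.trans (sb E2606 (iv F17455)))
theorem F20632 : act 3 n6938 = n6123 := (sb E2607 F16909)
theorem E3057 : n6303 = n4018 := (((F10329).symm.trans (sb E2608 F17296))).symm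
theorem E3058 : n6314 = n4016 := ((((iv F6842)).symm.trans (sb E2609 (iv F10350)))).symm
theorem F20634 : act 5 n2868 = n2870 := (sb E2609 (iv D4023))
theorem F20639 : act 5 n4288 = n3678 := (sb E2612 (iv D5639))
theorem E3067 : n6147 = n4021 := (((D4021).symm.trans (sb E2616 F17000))).symm
theorem E3069 : n7998 = n6305 := (((D6305).symm.trans (sb E2619 F16982))).symm
theorem E3071 : n6315 = n6311 := ((D6315).symm.trans (iv (sb E2620 (tr (iv D10227) E3067))))
theorem E3074 : n6313 = n3994 := (((D3994).symm.trans (sb E2622 (iv F10348)))).symm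
theorem F20641 : act 2 n2856 = n2870 := (sb E2622 (iv D4022))
theorem E3076 : n6318 = n3996 := (((D3996).symm.trans (sb E2622 D6318))).symm
theorem E3078 : n6321 = n6306 := ((D6321).symm.trans (sb E2623 (iv F10341)))
theorem E3079 : n6808 = n5144 := ((D6808).symm.trans (sb E2625 (iv F11485)))
theorem E3080 : n9358 = n3013 := (((F7247).symm.trans (sb E2625 D9358))).symm
theorem E3081 : n9360 = n4292 := ((((iv F7288)).symm.trans (sb E2625 D9360))).symm
theorem E3082 : n11324 = n4369 := (((D4369).symm.trans (sb E2626 (iv F19100)))).symm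
theorem F20643 : act 5 n5640 = n4291 := (sb E2627 (iv D6852))
theorem F20644 : act 2 n4273 = n3680 := (sb E2629 F9248)
theorem E3089 : n9368 = n4289 := ((((iv F7282)).symm.trans (sb E2629 D9368))).symm
theorem E3090 : n11321 = n4373 := (((D4373).symm.trans (sb E2630 (iv F19095)))).symm
theorem E3091 : n11367 = n4378 := (((D4378).symm.trans (sb E2632 (iv F19191)))).symm
theorem F20646 : act 6 n5643 = n4288 := (sb E2634 (iv D6846))
theorem E3095 : n6302 = n3936 := ((D6302).symm.trans (sb E2635 (iv D6145)))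
theorem E3097 : n10216 = n4018 := (((E3057).symm.trans ((D6303).symm.trans (sb E2635 (iv F16980))))).symm
theorem E3100 : n7733 = n5871 := ((D7733).symm.trans (sb E2636 F9968))
theorem F20647 : act 5 n4748 = n3936 := (sb E2636 F9969)
theorem F20649 : act 1 n3040 = n3249 := (sb E2638 (iv D4747))
theorem F20650 : act 1 n4378 = n4755 := (sb E2639 (iv D7748))
theorem E3105 : n7302 = n2322 := (((D2322).symm.trans (sb E2640 (iv F12066)))).symm
theorem E3111 : n10576 = n9410 := ((F17695).symm.trans (sb E2644 F18837))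
theorem F20655 : act 2 n7753 = n9414 := (sb E2644 (iv F18840))
theorem E3112 : n4165 = n3150 := ((D4165).symm.trans (sb E2645 (iv D4550)))
theorem E3113 : n4453 = n4166 := (((D4166).symm.trans (sb E2645 (iv F11478)))).symm
theorem F20657 : act 4 n2954 = n3428 := (sb E2645 F7683)
theorem E3115 : n7331 = n4167 := (((D4167).symm.trans (sb E2645 D7331))).symm
theorem E3116 : n3982 = n3972 := ((D3982).symm.trans (sb E2646 F11488))
theorem E3118 : n7824 = n4168 := (((D4168).symm.trans (sb E2647 D7824))).symm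
theorem F20658 : act 4 n2955 = n3670 := (sb E2647 F8087)
theorem E3123 : n7837 = n2956 := (((D2956).symm.trans (sb E2650 D7837))).symm
theorem E3125 : n10911 = n3429 := (((D3429).symm.trans (sb E2651 D10911))).symm
theorem E3128 : n6783 = n3089 := ((((iv D4433)).symm.trans (sb E2652 (iv F11057)))).symm
theorem E3130 : n7101 = n4187 := ((D7101).symm.trans (sb E2652 F10784))
theorem F20659 : act 5 n2965 = n3428 := (sb E2653 (iv D5096))
theorem E3132 : n5104 = n4188 := (((D4188).symm.trans (sb E2653 (iv F8572)))).symm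
theorem E3134 : n6782 = n3087 := ((D6782).symm.trans (sb E2655 (iv D4428)))
theorem E3135 : n7091 = n3005 := (((F7225).symm.trans (sb E2655 D7091))).symm
theorem E3137 : n7093 = n6784 := (((D6784).symm.trans (sb E2655 D7093))).symm
theorem F20660 : act 2 n3012 = n3670 := (sb E2657 F9242)
theorem E3151 : n9385 = n6815 := (((D6815).symm.trans (sb E2662 D9385))).symm
theorem E3152 : n9386 = n4259 := (((D4259).symm.trans (sb E2663 D9386))).symm
theorem E3153 : n6574 = n3719 := ((D6574).symm.trans (sb E2664 F9358))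
theorem E3154 : n9391 = n6575 := (((D6575).symm.trans (sb E2664 D9391))).symm
theorem F20661 : act 0 n5055 = n4112 := (sb E2665 (iv D6480))
theorem E3157 : n10762 = n8293 := (((D8293).symm.trans (sb E2665 D10762))).symm
theorem E3158 : n7290 = n4116 := (((iv F12036)).symm.trans (sb E2665 F10636))
theorem E3159 : n8294 = n4127 := ((D8294).symm.trans (sb E2665 F10637))
theorem E3160 : n8295 = n6515 := ((D8295).symm.trans (sb E2665 (iv F10696)))
theorem F20662 : act 0 n6503 = n8327 := (sb E2667 F14014)
theorem F20663 : act 5 n6503 = n5070 := (sb E2667 (iv D8329))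
theorem E3161 : n5212 = n4068 := (((iv F8709)).symm.trans (sb E2670 (iv D6394)))
theorem F20664 : act 3 n3496 = n4070 := (sb E2670 F10508)
theorem E3163 : n8578 = n6395 := (((iv F14364)).symm.trans (sb E2671 F20444))
theorem E3164 : n8621 = n5476 := ((D8621).symm.trans (sb E2671 (iv D9042)))
theorem E3165 : n9112 = n6484 := (((iv F15200)).symm.trans (sb E2673 F18036))
theorem E3172 : n6933 = n4194 := (((iv F11375)).symm.trans (sb E2677 (iv F20450)))
theorem F20672 : act 0 n4341 = n3067 := (sb E2678 F7384)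
theorem F20674 : act 3 n4341 = n6868 := (sb E2678 (iv F11231))
theorem F20675 : act 4 n4341 = n3063 := (sb E2678 (iv D4383))
theorem F20676 : act 0 n5484 = n4086 := (sb E2679 (iv F20363))
theorem F20677 : act 5 n5484 = n4604 := (sb E2679 F12275)
theorem F20678 : act 6 n5484 = n7442 := (sb E2679 (iv F12333))
theorem E3179 : n10201 = n6690 := (((D6690).symm.trans (sb E2680 (tr D11474 E3055)))).symm
theorem E3183 : n11752 = n6790 := (((F20419).symm.trans (sb E2687 (iv F19859)))).symm
theorem F20684 : act 2 n7678 = n7075 := (sb E2687 (iv D11691))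
theorem F20688 : act 6 n7437 = n10545 := (sb E2688 (iv F17623))
theorem E3188 : n7291 = n6179 := ((D7291).symm.trans (sb E2693 (iv D10271)))
theorem E3189 : n8325 = n8323 := (((iv F14008)).symm.trans (sb E2694 (iv F14007)))
theorem E3190 : n11016 = n5452 := ((((iv F9300)).symm.trans (sb E2696 D11016))).symm
theorem F20689 : act 1 n3417 = n5069 := (sb E2698 F13839)
theorem F20690 : act 5 n3417 = n5007 := (sb E2698 (iv D8212))
theorem F20696 : act 1 n3626 = n3494 := (sb E2702 (iv D5241))
theorem E3196 : n8580 = n5210 := ((D8580).symm.trans (sb E2707 (tr F15266 E2707)))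
theorem E3198 : n9245 = n9195 := (((D9195).symm.trans (sb E2711 (iv F15390)))).symm
theorem E3202 : n8345 = n5566 := ((((iv F9176)).symm.trans (sb E2712 (iv F14034)))).symm
theorem F20703 : act 2 n2104 = n2455 := (sb E2718 F5573)
theorem F20704 : act 5 n2104 = n2437 := (sb E2718 (iv D3191))
theorem E3205 : n6899 = n5932 := ((D6899).symm.trans (sb E2722 (iv D9887)))
theorem E3207 : n4484 = n4059 := (((iv F7556)).symm.trans (sb E2723 (iv D6379)))
theorem E3209 : n10090 = n7244 := (((D7244).symm.trans (sb E2724 (iv F16739)))).symm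
theorem E3210 : n4930 = n4062 := (((iv F8343)).symm.trans (sb E2725 F8797))
theorem E3211 : n8615 = n4940 := ((((iv F8364)).symm.trans (sb E2725 (iv F14427)))).symm
theorem F20705 : act 5 n3356 = n3510 := (sb E2725 (iv D5273))
theorem F20706 : act 6 n5006 = n5348 := (sb E2726 (iv D8813))
theorem E3213 : n7601 = n4929 := (((D4929).symm.trans (sb E2727 (iv F12610)))).symm
theorem F20707 : act 5 n3349 = n3223 := (sb E2727 (iv D4691))
theorem F20708 : act 5 n3355 = n3492 := (sb E2728 (iv D5237))
theorem F20709 : act 6 n5020 = n5366 := (sb E2730 (iv D8856))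
theorem F20711 : act 3 n5051 = n5366 := (sb E2736 F12418)
theorem E3226 : n8620 = n8086 := ((D8620).symm.trans (sb E2746 F13509))
theorem E3227 : n9201 = n5924 := (((F13734).symm.trans (sb E2747 (iv F15329)))).symm
theorem F20714 : act 5 n4932 = n3512 := (sb E2748 (iv D5278))
theorem F20715 : act 1 n5398 = n5366 := (sb E2749 (iv D8854))
theorem F20717 : act 5 n8241 = n5366 := (sb E2750 F14799)
theorem E3231 : n6383 = n3480 := ((((iv F6098)).symm.trans (sb E2752 (iv F10484)))).symm
theorem F20719 : act 5 n3485 = n2905 := (sb E2752 F6944)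
theorem F20727 : act 2 n8194 = n4999 := (sb E2763 (iv D8195))
theorem E3240 : n8350 = n8347 := (((D8347).symm.trans (sb E2764 (iv F14037)))).symm
theorem E3241 : n10463 = n8253 := ((E3056).symm.trans (((iv F19040)).symm.trans (sb E2765 (iv F13904))))
theorem E3242 : n11474 = n6690 := (E3055).trans E3179
theorem E3243 : n11064 = n7906 := ((((iv F13114)).symm.trans (sb E2766 F20262))).symm
theorem E3244 : n8335 = n5900 := (((F10190).symm.trans (sb E2767 (iv F14021)))).symm
theorem E3245 : n8336 = n5920 := ((D8336).symm.trans (sb E2769 F16307))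
theorem E3246 : n8779 = n3291 := ((((iv D4839)).symm.trans (sb E2770 D8779))).symm
theorem F20737 : act 1 n4839 = n3538 := (sb E2770 (iv D5334))
theorem E3248 : n7803 = n4041 := (((iv F12914)).symm.trans (sb E2770 F8873))
theorem E3250 : n7579 = n3335 := ((((iv F13702)).symm.trans (sb E2771 F20176))).symm
theorem E3252 : n7208 = n4689 := ((((iv F7923)).symm.trans (sb E2771 F20179))).symm
theorem E3258 : n7501 = n6705 := (((iv F12426)).symm.trans (sb E2776 (iv F16299)))
theorem E3263 : n7475 = n5657 := (((iv F12393)).symm.trans (sb E2777 (iv F9354)))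
theorem E3268 : n8804 = n3621 := ((((iv F6269)).symm.trans (sb E2780 (iv F14748)))).symm
theorem E3275 : n9936 = n8953 := ((D9936).symm.trans (sb E2783 F18741))
theorem E3276 : n9070 = n5925 := (((iv F15132)).symm.trans (sb E2784 F14558))
theorem E3279 : n8099 = n2035 := (((D2035).symm.trans (sb E2786 D8099))).symm
theorem E3280 : n7536 = n4231 := ((D7536).symm.trans (sb E2788 (iv D6724)))
theorem E3284 : n10961 = n3131 := (((D3131).symm.trans (sb E2790 (iv F18413)))).symm
theorem E3287 : n7211 = n5877 := ((D7211).symm.trans (sb E2792 (iv D9801)))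
theorem E3289 : n3118 = n2908 := (((iv F5446)).symm.trans (sb E2793 (iv D4076)))
theorem E3291 : n10553 = n4518 := (((D4518).symm.trans (sb E2794 (iv F17647)))).symm
theorem E3292 : n10650 = n2409 := ((((iv D3134)).symm.trans (sb E2794 (iv F17846)))).symm
theorem F20747 : act 0 n2402 = n2455 := (sb E2795 F5625)
theorem F20748 : act 5 n2402 = n2453 := (sb E2795 (iv D3221))
theorem E3293 : n3229 = n3120 := (((D3120).symm.trans (sb E2795 (iv F5679)))).symm
theorem F20749 : act 3 n6351 = n4531 := (sb E2800 F11977)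
theorem E3299 : n7516 = n3201 := ((((iv D4642)).symm.trans (sb E2805 (iv F12454)))).symm
theorem E3300 : n7515 = n5963 := ((D7515).symm.trans (sb E2805 (iv F13703)))
theorem E3301 : n5962 = n3557 := (((F7843).symm.trans (sb E2805 (iv F13749)))).symm
theorem E3303 : n3245 = n3244 := (((F7845).symm.trans (sb E2805 F7847))).symm
theorem E3304 : n8760 = n3559 := (((F7848).symm.trans (sb E2806 D8760))).symm
theorem E3305 : n4735 = n4144 := (((iv F8010)).symm.trans (sb E2806 F13590))
theorem E3306 : n6544 = n3246 := (((D3246).symm.trans (sb E2807 (iv D10884)))).symm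
theorem F20752 : act 3 n6148 = n6311 := (sb E2809 F17487)
theorem E3315 : n7743 = n6970 := ((D7743).symm.trans (sb E2812 (iv F11441)))
theorem E3316 : n7656 = n7020 := ((((iv F11538)).symm.trans (sb E2814 D7656))).symm
theorem E3319 : n7747 = n4377 := ((D7747).symm.trans (sb E2815 (iv D7001)))
theorem E3320 : n4173 = n3144 := (((D3144).symm.trans (sb E2817 (iv D6594)))).symm
theorem E3323 : n10962 = n3146 := (((D3146).symm.trans (sb E2817 D10962))).symm
theorem E3325 : n5133 = n2473 := (((D2473).symm.trans (sb E2819 (iv D8443)))).symm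
theorem E3330 : n6744 = n3255 := (((D3255).symm.trans (sb E2822 F18826))).symm
theorem E3331 : n6742 = n3257 := (((D3257).symm.trans (sb E2822 (iv D11211)))).symm
theorem E3334 : n11212 = n4765 := ((((iv F8054)).symm.trans (sb E2823 (iv F18832)))).symm
theorem E3335 : n11215 = n7752 := ((((iv F12854)).symm.trans (sb E2824 (iv F18836)))).symm
theorem E3336 : n11141 = n3275 := (((F8044).symm.trans (sb E2824 (iv F18677)))).symm
theorem E3337 : n4762 = n4240 := (((iv F8050)).symm.trans (sb E2824 (iv D6745)))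
theorem E3338 : n7565 = n4722 := ((D7565).symm.trans (sb E2825 (iv D7672)))
theorem E3339 : n11122 = n4829 := ((((iv F12978)).symm.trans (sb E2832 (iv F18654)))).symm
theorem E3340 : n10955 = n8467 := ((D10955).symm.trans (sb E2833 F14218))
theorem F20773 : act 6 n6592 = n4798 := (sb E2834 F12965)
theorem F20776 : act 0 n6590 = n7284 := (sb E2836 F12966)
theorem E3341 : n7905 = n4171 := ((((iv D6590)).symm.trans (sb E2836 (iv F13109)))).symm
theorem E3345 : n10280 = n7678 := ((((iv F12731)).symm.trans (sb E2840 (iv F17088)))).symm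
theorem E3346 : n10319 = n7681 := (((D7681).symm.trans (sb E2840 D10319))).symm
theorem F20782 : act 1 n3481 = n3230 := (sb E2841 (iv D4703))
theorem E3349 : n7628 = n5210 := ((((iv F8706)).symm.trans (sb E2841 D7628))).symm
theorem E3352 : n10777 = n6179 := (((E3188).symm.trans ((D7291).symm.trans (sb E2843 D10777)))).symm
theorem E3353 : n10778 = n7237 := ((((iv F11942)).symm.trans (sb E2843 D10778))).symm
theorem E3355 : n7238 = n7107 := (((iv F11944)).symm.trans (sb E2844 F19826))
theorem E3356 : n5138 = n4189 := (((D4189).symm.trans (sb E2846 (iv D8447)))).symm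
theorem E3358 : n6643 = n3701 := ((D6643).symm.trans (sb E2850 F9320))
theorem E3360 : n8676 = n6641 := ((((iv F10872)).symm.trans (sb E2850 D8676))).symm
theorem F20785 : act 2 n7695 = n8505 := (sb E2853 (iv F16332))
theorem E3361 : n8503 = n4732 := ((((iv D7695)).symm.trans (sb E2853 F16333))).symm
theorem E3362 : n9927 = n7690 := (((D7690).symm.trans (sb E2854 (iv F16479)))).symm
theorem E3363 : n10857 = n5494 := (((iv F18222)).symm.trans (sb E2855 F12759))
theorem F20789 : act 6 n6552 = n7688 := (sb E2855 F12761)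
theorem E3364 : n8739 = n4302 := (E2857).trans E2900
theorem E3365 : n6868 = n5309 := (((iv F11230)).symm.trans (sb E3364 (iv D8739)))
theorem E3366 : n9978 = n3027 := (((F7301).symm.trans (sb E3364 (iv F16555)))).symm
theorem E3367 : n7339 = n6875 := ((((iv F11243)).symm.trans (sb E3364 F14627))).symm
theorem E3368 : n7004 = n3024 := ((((iv D4302)).symm.trans (sb E3364 F14628))).symm
theorem F20790 : act 5 n4302 = n6864 := (sb E3364 F14629)
theorem E3370 : n6865 = n4611 := ((((iv F7787)).symm.trans (sb E2858 F14631))).symm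
theorem E3371 : n6864 = n4613 := ((D6864).symm.trans (sb E2860 F12354))
theorem F20792 : act 3 n8741 = n6941 := (sb E2861 F19397)
theorem E3373 : n11397 = n7458 := (((iv F19250)).symm.trans (sb E2861 F19398))
theorem E3374 : n6820 = n3062 := (((D3062).symm.trans (sb E2863 F14497))).symm
theorem E3376 : n7003 = n3014 := (((F7259).symm.trans (sb E2867 (iv F11508)))).symm
theorem F20796 : act 1 n4277 = n3063 := (sb E2867 F7383)
theorem E3380 : n5897 = n5117 := ((F10129).symm.trans (sb E2869 (iv F8584)))
theorem E3381 : n5144 = n5109 := ((E3079).symm.trans (((iv F11112)).symm.trans (sb E2870 (iv F8575))))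
theorem E3382 : n8341 = n5899 := ((((iv F10133)).symm.trans (sb E2870 D8341))).symm
theorem E3383 : n6598 = n5934 := (((D5934).symm.trans (sb E2872 (iv D10969)))).symm
theorem E3384 : n5937 = n2958 := ((D5937).symm.trans (sb E2873 (iv D4174)))
theorem E3385 : n6489 = n5938 := (((D5938).symm.trans (sb E2873 (iv F10648)))).symm
theorem E3386 : n5914 = n2978 := (((iv F9647)).symm.trans (sb E2873 F7130))
theorem E3387 : n5939 = n4225 := ((D5939).symm.trans (sb E2873 (iv F7186)))
theorem E3388 : n6702 = n4888 := ((((iv F8269)).symm.trans (sb E2874 F18428))).symm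
theorem E3390 : n6698 = n5913 := (((D5913).symm.trans (sb E2875 (iv F10947)))).symm
theorem F20800 : act 2 n2322 = n2759 := (sb E2877 (iv D3828))
theorem E3394 : n5943 = n2930 := ((((iv F5150)).symm.trans (sb E2877 D5943))).symm
theorem F20801 : act 1 n3829 = n3014 := (sb E2878 F7029)
theorem E3397 : n6490 = n4901 := ((((iv F8294)).symm.trans (sb E2878 D6490))).symm
theorem E3398 : n5916 = n2941 := (((iv F9649)).symm.trans (sb E2878 F7031))
theorem F20802 : act 3 n2333 = n2749 := (sb E2879 (iv D3813))
theorem F20803 : act 5 n2333 = n2759 := (sb E2879 F6497)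
theorem E3401 : n5917 = n2981 := (((D2981).symm.trans (sb E2879 D5917))).symm
theorem E3403 : n5947 = n4220 := ((D5947).symm.trans (sb E2880 (iv F7181)))
theorem E3404 : n6535 = n4889 := ((((iv F8271)).symm.trans (sb E2881 F18076))).symm
theorem E3405 : n4881 = n2994 := (((iv F8258)).symm.trans (sb E2882 F7182))
theorem E3406 : n6711 = n4890 := (((D4890).symm.trans (sb E2882 D6711))).symm
theorem E3408 : n5893 = n2993 := ((((iv F5241)).symm.trans (sb E2884 (iv F9622)))).symm
theorem F20804 : act 1 n2340 = n2749 := (sb E2884 F6493)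
theorem E3409 : n2920 = n2744 := (((iv F5133)).symm.trans (sb E2884 (iv D3804)))
theorem E3411 : n6536 = n5918 := (((D5918).symm.trans (sb E2885 (iv F10727)))).symm
theorem F20805 : act 4 n4278 = n4613 := (sb E2892 (iv D7457))
theorem F20808 : act 5 n7456 = n6875 := (sb E2899 F19103)
theorem F20809 : act 4 n7458 = n6823 := (sb E2901 F19106)
theorem E3413 : n4586 = n3095 := ((((iv F5395)).symm.trans (sb E2902 (iv D7403)))).symm
theorem E3414 : n9888 = n3096 := (((D3096).symm.trans (sb E2902 F16417))).symm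
theorem E3415 : n9890 = n7030 := (((D7030).symm.trans (sb E2903 (iv F16420)))).symm
theorem F20811 : act 2 n4392 = n4596 := (sb E2903 F12288)
theorem E3417 : n11406 = n8741 := ((((iv F20792)).symm.trans (sb E2905 (iv F19267)))).symm
theorem F20813 : act 4 n6941 = n4384 := (sb E2905 F11524)
theorem E3418 : n5228 = n2265 := (((F4315).symm.trans (sb E2906 (iv D8605)))).symm
theorem F20814 : act 1 n2389 = n2587 := (sb E2907 (iv D3488))
theorem E3421 : n5230 = n3029 := ((((iv F5320)).symm.trans (sb E2907 D5230))).symm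
theorem E3422 : n8023 = n3097 := (((D3097).symm.trans (sb E2908 (iv F16304)))).symm
theorem E3423 : n9837 = n3098 := (((D3098).symm.trans (sb E2908 (iv F16255)))).symm
theorem E3425 : n11222 = n7034 := (((D7034).symm.trans (sb E2909 (iv F18852)))).symm
theorem E3427 : n11583 = n6879 := (((iv F19547)).symm.trans (sb E2912 F14654))
theorem F20818 : act 3 n2841 = n2587 := (sb E2920 F6099)
theorem E3431 : n2915 = n2742 := (((iv F5129)).symm.trans (sb E2920 F6100))
theorem F20819 : act 5 n2841 = n2586 := (sb E2920 (iv D3486))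
theorem E3435 : n4898 = n4166 := ((D4898).symm.trans (sb E2930 (iv D6580)))
theorem E3437 : n4888 = n4197 := (((iv F8269)).symm.trans (sb E2930 F10796))
theorem E3441 : n6702 = n4197 := (E3388).trans E3437
theorem E3444 : n4901 = n3429 := ((D4901).symm.trans (sb E2934 (tr (iv F18340) E3125)))
theorem E3445 : n4889 = n4195 := (((iv F8271)).symm.trans (sb E2934 F10795))
theorem E3446 : n6658 = n4902 := (((D4902).symm.trans (sb E2934 (iv F10892)))).symm
theorem E3450 : n6656 = n3861 := ((((iv F6590)).symm.trans (sb E2936 (iv D11080)))).symm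
theorem E3468 : n4090 = n3800 := ((((iv F6488)).symm.trans (sb E2975 (iv D6443)))).symm
theorem E3475 : n4679 = n4619 := (((iv F7901)).symm.trans (sb E2982 (iv D7468)))
theorem E3476 : n6727 = n3264 := ((((iv F5732)).symm.trans (sb E2986 (iv F10968)))).symm
theorem E3477 : n4657 = n3264 := (((iv F7866)).symm.trans (sb E2986 (tr (iv F13668) E3476)))
theorem E3478 : n6672 = n2451 := (((F5607).symm.trans (sb E2986 (iv F10910)))).symm
theorem F20845 : act 3 n3217 = n4617 := (sb E2987 (iv D7463))
theorem E3482 : n11114 = n2450 := (((F5604).symm.trans (sb E2989 (iv F18648)))).symm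
theorem E3483 : n4234 = n2470 := (((F5605).symm.trans (sb E2989 (iv D6732)))).symm
theorem E3484 : n4655 = n2445 := ((((iv D3207)).symm.trans (sb E2990 (iv F7863)))).symm
theorem E3485 : n4654 = n4635 := ((D4654).symm.trans (sb E2990 (iv F7832)))
theorem E3486 : n4656 = n2450 := (((F5604).symm.trans (sb E2990 D4656))).symm
theorem E3487 : n2471 = n2470 := (((F5605).symm.trans (sb E2990 F5606))).symm
theorem E3488 : n11107 = n1039 := (((F3300).symm.trans (sb E2991 F18652))).symm
theorem F20846 : act 4 n2521 = n2455 := (sb E2993 F5667)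
theorem F20847 : act 5 n2521 = n2454 := (sb E2993 (iv D3224))
theorem E3490 : n4939 = n4698 := (((D4698).symm.trans (sb E2994 D4939))).symm
theorem F20848 : act 1 n4213 = n3180 := (sb E3001 (iv D4601))
theorem F20849 : act 0 n10439 = n6354 := (sb E3002 (iv D10557))
theorem F20850 : act 4 n10439 = n9945 := (sb E3002 F17656)
theorem F20851 : act 5 n10439 = n7681 := (sb E3002 (tr F17657 E3346))
theorem F20854 : act 2 n9787 = n7389 := (sb E3004 F17919)
theorem E3495 : n11443 = n3823 := ((((iv D5930)).symm.trans (sb E3008 (iv F19336)))).symm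
theorem E3497 : n6790 = n6185 := ((((iv F10041)).symm.trans (sb E3008 F18932))).symm
theorem E3499 : n6788 = n6186 := (((iv F11069)).symm.trans (sb E3009 (iv D10285)))
theorem E3501 : n6295 = n6109 := ((D6295).symm.trans (sb E3012 (iv D10157)))
theorem E3502 : n10467 = n5263 := ((D10467).symm.trans (sb E3013 F14411))
theorem E3503 : n10175 = n2831 := (((F6734).symm.trans (sb E3014 D10175))).symm
theorem F20861 : act 1 n3943 = n3924 := (sb E3014 (iv D6119))
theorem E3505 : n6157 = n3927 := ((D6157).symm.trans (sb E3014 F9937))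
theorem F20862 : act 1 n7421 = n6124 := (sb E3016 (iv D10188))
theorem F20865 : act 6 n10182 = n6204 := (sb E3017 (iv D10316))
theorem E3508 : n7955 = n6796 := ((F13932).symm.trans (sb E3029 (iv F17267)))
theorem E3512 : n9347 = n6929 := (((iv F15528)).symm.trans (sb E3038 F18993))
theorem E3516 : n7245 = n6133 := (((iv F11958)).symm.trans (sb E3050 (iv D10207)))
theorem E3517 : n11363 = n6985 := (((D6985).symm.trans (sb E3051 (iv F19184)))).symm
theorem E3518 : n6983 = n6874 := (((iv F11460)).symm.trans (sb E3051 (iv F11242)))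
theorem E3520 : n11372 = n6995 := (((D6995).symm.trans (sb E3052 D11372))).symm
theorem E3521 : n6993 = n6867 := (((iv F11491)).symm.trans (sb E3052 (iv F11229)))
theorem E3527 : n6133 = n4216 := (((F10934).symm.trans (sb E3242 (tr F19392 E3516)))).symm
theorem E3528 : n11299 = n8253 := (E3056).trans E3241
theorem E3530 : n6808 = n5109 := (E3079).trans E3381
theorem E3531 : n9824 = n8422 := ((((iv F14143)).symm.trans (sb E3528 F19042))).symm
theorem E3535 : n6901 = n6305 := (((D6305).symm.trans (sb E3058 (iv F11286)))).symm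
theorem F20890 : act 5 n4016 = n4021 := (sb E3058 (iv D6314))
theorem E3547 : n10478 = n9886 := ((D10478).symm.trans (sb E3069 (iv F16409)))
theorem E3548 : n10479 = n5878 := ((D10479).symm.trans (sb E3069 F13306))
theorem E3549 : n10480 = n9881 := ((D10480).symm.trans (sb E3069 (iv F16405)))
theorem E3550 : n10488 = n8594 := ((D10488).symm.trans (sb E3071 (iv F15604)))
theorem E3554 : n6258 = n4306 := ((D6258).symm.trans (sb E3074 F11483))
theorem F20897 : act 2 n3994 = n4021 := (sb E3074 (iv D6313))
theorem F20898 : act 2 n3996 = n4024 := (sb E3076 F10357)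
theorem F20900 : act 5 n6306 = n4024 := (sb E3078 (iv D6321))
theorem E3562 : n9820 = n3436 := (((F8574).symm.trans (sb E3530 (iv F16215)))).symm
theorem E3564 : n11298 = n3433 := ((((iv D5109)).symm.trans (sb E3530 D11298))).symm
theorem E3566 : n9822 = n8401 := (((D8401).symm.trans (sb E3530 (iv F16225)))).symm
theorem E3567 : n8453 = n4276 := (((D4276).symm.trans (sb E3080 F15547))).symm
theorem F20902 : act 2 n4292 = n5640 := (sb E3081 F15551)
theorem E3569 : n6982 = n6821 := ((D6982).symm.trans (sb E3082 (iv D11324)))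
theorem F20903 : act 2 n4289 = n5643 := (sb E3089 F15560)
theorem E3571 : n6991 = n3062 := ((D6991).symm.trans (sb E3090 (tr (iv D11321) E3374)))
theorem E3573 : n11415 = n6998 := ((((iv F11496)).symm.trans (sb E3091 (iv F19288)))).symm
theorem F20906 : act 2 n3936 = n4015 := (sb E3095 (iv D6302))
theorem E3580 : n6885 = n6298 := ((((iv F10329)).symm.trans (sb E3097 F16978))).symm
theorem F20908 : act 4 n5871 = n4748 := (sb E3100 (iv D7733))
theorem E3581 : n4538 = n2958 := (((D2958).symm.trans (sb E3105 (iv D7302)))).symm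
theorem F20909 : act 0 n9410 = n7753 := (sb E3111 (iv F17695))
theorem E3582 : n6365 = n5656 := ((((iv D9410)).symm.trans (sb E3111 (iv D10576)))).symm
theorem F20912 : act 0 n3150 = n2954 := (sb E3112 (iv D4165))
theorem E3583 : n6578 = n2418 := ((((iv D3150)).symm.trans (sb E3112 D6578))).symm
theorem E3584 : n4552 = n2969 := ((D4552).symm.trans (sb E3112 F7120))
theorem E3585 : n4553 = n4200 := ((D4553).symm.trans (sb E3112 (iv F7158)))
theorem F20913 : act 0 n4166 = n4551 := (sb E3113 (iv F11477))
theorem E3586 : n6233 = n3099 := (((iv F10107)).symm.trans (sb E3113 (iv D4453)))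
theorem F20914 : act 3 n4166 = n7131 := (sb E3113 (iv F11747))
theorem F20915 : act 4 n4166 = n4433 := (sb E3113 F7495)
theorem E3587 : n7141 = n2970 := (((F7121).symm.trans (sb E3113 D7141))).symm
theorem E3588 : n7142 = n6581 := (((D6581).symm.trans (sb E3113 D7142))).symm
theorem E3590 : n10549 = n6582 := (((D6582).symm.trans (sb E3115 (iv F17634)))).symm
theorem E3591 : n6232 = n2844 := ((((iv D3972)).symm.trans (sb E3116 D6232))).symm
theorem F20917 : act 1 n3972 = n2849 := (sb E3116 (iv D3982))
theorem E3592 : n6214 = n2851 := (((iv F10074)).symm.trans (sb E3116 F6781))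
theorem F20918 : act 4 n3972 = n4258 := (sb E3116 (iv F7226))
theorem E3593 : n6218 = n4503 := ((D6218).symm.trans (sb E3116 (iv F7597)))
theorem F20919 : act 4 n4168 = n5621 := (sb E3118 F12944)
theorem E3596 : n4833 = n4169 := (((D4169).symm.trans (sb E3123 F12968))).symm
theorem E3598 : n6627 = n5100 := (((D5100).symm.trans (sb E3125 F18341))).symm
theorem F20921 : act 2 n3089 = n4258 := (sb E3128 (iv D6783))
theorem E3604 : n11263 = n4436 := (((D4436).symm.trans (sb E3128 D11263))).symm
theorem F20922 : act 5 n4187 = n4433 := (sb E3130 (iv D7101))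
theorem E3606 : n8389 = n6630 := (((D6630).symm.trans (sb E3130 (iv F14091)))).symm
theorem F20923 : act 0 n4188 = n5102 := (sb E3132 F8571)
theorem E3607 : n8391 = n6631 := (((D6631).symm.trans (sb E3132 D8391))).symm
theorem F20925 : act 0 n3087 = n4258 := (sb E3134 (iv D6782))
theorem E3608 : n9817 = n2386 := ((((iv D3087)).symm.trans (sb E3134 F16213))).symm
theorem E3609 : n4429 = n4260 := ((D4429).symm.trans (sb E3134 F11055))
theorem E3612 : n11716 = n4261 := (((D4261).symm.trans (sb E3135 D11716))).symm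
theorem E3618 : n11264 = n7098 := ((D11264).symm.trans (sb E3137 (iv F11692)))
theorem E3619 : n10294 = n6787 := (((F11126).symm.trans (sb E3151 F17120))).symm
theorem E3620 : n10296 = n6785 := (((D6785).symm.trans (sb E3152 F17118))).symm
theorem E3622 : n10919 = n5726 := ((((iv F9395)).symm.trans (sb E3153 D10919))).symm
theorem E3623 : n4190 = n2695 := ((((iv D3719)).symm.trans (sb E3153 F10788))).symm
theorem E3624 : n5724 = n4191 := (((F10790).symm.trans (sb E3154 F15597))).symm
theorem F20929 : act 0 n8293 = n6481 := (sb E3157 F18045)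
theorem F20930 : act 5 n8293 = n6510 := (sb E3157 F18046)
theorem F20931 : act 6 n8293 = n10833 := (sb E3157 (iv F18187))
theorem F20932 : act 1 n4116 = n4532 := (sb E3158 (iv D7290))
theorem F20933 : act 3 n4116 = n5055 := (sb E3158 F12036)
theorem F20935 : act 5 n4127 = n5055 := (sb E3159 (iv D8294))
theorem F20936 : act 4 n6515 = n5070 := (sb E3160 F13962)
theorem F20937 : act 6 n6515 = n5055 := (sb E3160 (iv D8295))
theorem F20938 : act 0 n4068 = n3496 := (sb E3161 F8709)
theorem F20939 : act 4 n4068 = n3481 := (sb E3161 F8710)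
theorem E3626 : n6396 = n5248 := ((D6396).symm.trans (sb E3161 (iv F8767)))
theorem F20941 : act 0 n6395 = n5239 := (sb E3163 F14364)
theorem F20942 : act 3 n6395 = n5210 := (sb E3163 F14366)
theorem E3628 : n10608 = n5209 := (((iv F17758)).symm.trans (sb E3163 (iv D8578)))
theorem E3629 : n10627 = n8624 := ((D10627).symm.trans (sb E3163 (iv F14453)))
theorem F20943 : act 1 n5476 = n5239 := (sb E3164 (iv D8621))
theorem E3631 : n5505 = n4131 := (((F10642).symm.trans (sb E3165 (iv D9112)))).symm
theorem E3635 : n6647 = n4337 := ((D6647).symm.trans (sb E3172 (iv D6933)))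
theorem E3636 : n8003 = n6649 := (((D6649).symm.trans (sb E3172 (iv F13321)))).symm
theorem E3645 : n6331 = n6130 := ((F10935).symm.trans (sb E3179 (iv D10201)))
theorem E3648 : n11752 = n6185 := (E3183).trans E3497
theorem E3649 : n11722 = n3957 := ((((iv D6185)).symm.trans (sb E3648 F19858))).symm
theorem E3650 : n7109 = n5935 := (((F10040).symm.trans (sb E3648 (iv D11752)))).symm
theorem E3651 : n10281 = n4261 := ((D10281).symm.trans (sb E3648 (tr F19860 E3612)))
theorem E3654 : n10267 = n4533 := (((iv F17060)).symm.trans (sb E3188 F12038))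
theorem F20960 : act 2 n6179 = n4532 := (sb E3188 (iv D7291))
theorem E3655 : n10272 = n4539 := ((D10272).symm.trans (sb E3188 F12039))
theorem F20961 : act 2 n8323 = n5069 := (sb E3189 F14008)
theorem F20962 : act 5 n8323 = n5068 := (sb E3189 (iv D8325))
theorem E3656 : n6653 = n6025 := (((F10145).symm.trans (sb E3190 F18503))).symm
theorem F20964 : act 1 n5210 = n5210 := (sb E3196 (iv D8580))
theorem E3658 : n9847 = n9195 := (((iv F16321)).symm.trans (iv (sb E3198 (tr F15388 E3227))))
theorem F20971 : act 5 n5566 = n9195 := (sb E3202 (iv F15324))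
theorem F20973 : act 1 n5932 = n4313 := (sb E3205 (iv D6899))
theorem E3662 : n9886 = n4315 := (((iv F16410)).symm.trans (sb E3205 F11274))
theorem F20974 : act 1 n4059 = n3122 := (sb E3207 F7556)
theorem F20975 : act 3 n4059 = n3356 := (sb E3207 (iv F7557))
theorem E3663 : n7200 = n4067 := ((((iv F6954)).symm.trans (sb E3207 D7200))).symm
theorem F20977 : act 6 n7244 = n6058 := (sb E3209 (iv D10090))
theorem F20978 : act 0 n4062 = n3356 := (sb E3210 F8343)
theorem E3665 : n8084 = n6381 := ((((iv F10482)).symm.trans (sb E3210 (iv F13457)))).symm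
theorem F20979 : act 4 n4062 = n3349 := (sb E3210 (iv D4930))
theorem F20980 : act 5 n4940 = n5236 := (sb E3211 (iv D8615))
theorem F20981 : act 5 n4929 = n4690 := (sb E3213 (iv D7601))
theorem F20992 : act 5 n8086 = n5238 := (sb E3226 (iv D8620))
theorem F20993 : act 5 n5924 = n5545 := (sb E3227 (iv D9201))
theorem F20997 : act 1 n3480 = n4062 := (sb E3231 (iv D6383))
theorem F20998 : act 5 n3480 = n4068 := (sb E3231 F10485)
theorem F21008 : act 6 n8347 = n5080 := (sb E3240 (iv D8350))
theorem F21011 : act 3 n7906 = n6697 := (sb E3243 F18586)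
theorem F21012 : act 0 n5900 = n5077 := (sb E3244 F14019)
theorem E3683 : n8418 = n3806 := ((((iv D5900)).symm.trans (sb E3244 (iv F14137)))).symm
theorem F21014 : act 1 n5920 = n5073 := (sb E3245 (iv D8336))
theorem E3684 : n11108 = n2484 := ((((iv D3291)).symm.trans (sb E3246 F18641))).symm
theorem E3685 : n6348 = n4781 := ((((iv F8072)).symm.trans (sb E3246 F14700))).symm
theorem F21017 : act 3 n4041 = n4839 := (sb E3248 F12914)
theorem E3687 : n10871 = n4910 := (((D4910).symm.trans (sb E3250 F18262))).symm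
theorem E3691 : n11940 = n7599 := (((D7599).symm.trans (sb E3252 D11940))).symm
theorem F21029 : act 5 n6705 = n4635 := (sb E3258 (iv D7501))
theorem F21035 : act 3 n5657 = n5924 := (sb E3263 F13700)
theorem E3698 : n10843 = n2651 := ((((iv D3621)).symm.trans (sb E3268 (iv F18205)))).symm
theorem F21043 : act 1 n8953 = n5966 := (sb E3275 (iv D9936))
theorem F21044 : act 4 n8953 = n5967 := (sb E3275 F16499)
theorem F21045 : act 1 n5925 = n5488 := (sb E3276 (iv D9070))
theorem E3699 : n7911 = n2461 := (((D2461).symm.trans (sb E3279 F13497))).symm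
theorem E3700 : n6668 = n4669 := (((iv F10906)).symm.trans (sb E3280 F12485))
theorem E3703 : n6596 = n4511 := (((D4511).symm.trans (sb E3284 F18412))).symm
theorem E3704 : n7143 = n4512 := (((D4512).symm.trans (sb E3284 F18414))).symm
theorem E3708 : n9802 = n6220 := ((D9802).symm.trans (sb E3287 F11893))
theorem F21052 : act 1 n2908 = n2403 := (sb E3289 F5446)
theorem F21053 : act 3 n2908 = n2402 := (sb E3289 (iv D3118))
theorem E3714 : n10994 = n7258 := (((D7258).symm.trans (sb E3291 F18795))).symm
theorem E3716 : n11194 = n3133 := (((D3133).symm.trans (sb E3292 (iv F18788)))).symm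
theorem E3717 : n4702 = n4489 := (((D4489).symm.trans (sb E3293 D4702))).symm
theorem F21056 : act 5 n3120 = n2456 := (sb E3293 (iv D3229))
theorem F21058 : act 2 n3201 = n4642 := (sb E3299 (iv D7516))
theorem E3725 : n4734 = n2464 := (((F5594).symm.trans (sb E3299 F12456))).symm
theorem E3726 : n10556 = n4908 := (((F9699).symm.trans (sb E3300 (iv F17652)))).symm
theorem E3727 : n5377 = n3838 := ((((iv D5963)).symm.trans (sb E3300 F12452))).symm
theorem E3730 : n8766 = n5378 := (((D5378).symm.trans (sb E3301 (iv F14679)))).symm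
theorem E3731 : n9929 = n2629 := (((F6190).symm.trans (sb E3301 D9929))).symm
theorem E3735 : n4737 = n4144 := (((E3305).symm.trans ((D4735).symm.trans (sb E3303 D4737)))).symm
theorem F21060 : act 1 n3559 = n5324 := (sb E3304 F14666)
theorem E3738 : n4738 = n4565 := ((D4738).symm.trans (sb E3306 F13664))
theorem F21072 : act 3 n6970 = n4754 := (sb E3315 F12845)
theorem F21073 : act 6 n7020 = n4754 := (sb E3316 F12702)
theorem F21077 : act 5 n4377 = n4754 := (sb E3319 (iv D7747))
theorem E3742 : n6595 = n4539 := (((D4539).symm.trans (sb E3320 D6595))).symm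
theorem E3743 : n6597 = n4540 := (((D4540).symm.trans (sb E3320 D6597))).symm
theorem E3744 : n8444 = n3267 := ((((iv F5736)).symm.trans (sb E3323 F18416))).symm
theorem E3745 : n10966 = n4543 := (((D4543).symm.trans (sb E3323 (iv F18419)))).symm
theorem E3746 : n6447 = n3265 := (((D3265).symm.trans (sb E3325 F13757))).symm
theorem E3747 : n3444 = n3266 := (((D3266).symm.trans (sb E3325 F8598))).symm
theorem E3749 : n7364 = n3247 := ((((iv F5709)).symm.trans (sb E3325 (iv F12169)))).symm
theorem E3750 : n3443 = n3263 := ((((iv F5731)).symm.trans (sb E3325 (iv D5133)))).symm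
theorem E3753 : n11202 = n4760 := (((D4760).symm.trans (sb E3330 (iv F18809)))).symm
theorem E3754 : n11214 = n4761 := (((D4761).symm.trans (sb E3330 (iv F18833)))).symm
theorem E3756 : n6719 = n3149 := (((F5722).symm.trans (sb E3331 F10981))).symm
theorem E3759 : n8005 = n7770 := (((D7770).symm.trans (sb E3334 F18830))).symm
theorem E3760 : n7763 = n6743 := (((iv F12866)).symm.trans (sb E3335 (iv D11215)))
theorem E3761 : n6684 = n3279 := ((((iv F5754)).symm.trans (sb E3336 (iv D11141)))).symm
theorem F21083 : act 6 n4240 = n4758 := (sb E3337 F8050)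
theorem E3763 : n11941 = n4701 := (((F7977).symm.trans (sb E3338 (iv F20183)))).symm
theorem E3764 : n7671 = n6736 := (((iv F12720)).symm.trans (sb E3338 (iv F12531)))
theorem E3768 : n7779 = n6736 := (((iv F12885)).symm.trans (sb E3339 F18655))
theorem E3769 : n6675 = n3285 := ((((iv D4829)).symm.trans (sb E3339 (iv D11122)))).symm
theorem F21086 : act 2 n8467 = n6591 := (sb E3340 (iv D10955))
theorem E3770 : n7271 = n4210 := ((((iv F7171)).symm.trans (sb E3341 F13108))).symm
theorem E3776 : n7148 = n7075 := (((F20684).symm.trans (sb E3345 F17089))).symm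
theorem F21091 : act 1 n7681 = n7074 := (sb E3346 F17151)
theorem F21092 : act 4 n5210 = n6395 := (sb E3349 F12658)
theorem E3785 : n11746 = n10273 := (((D10273).symm.trans (sb E3352 (iv F19845)))).symm
theorem F21095 : act 1 n7237 = n6529 := (sb E3353 F18066)
theorem F21098 : act 2 n7107 = n4507 := (sb E3355 (iv D7238))
theorem F21099 : act 5 n7107 = n4533 := (sb E3355 F11944)
theorem E3787 : n6633 = n3446 := ((D6633).symm.trans (sb E3356 (iv D5138)))
theorem E3789 : n8368 = n6504 := ((((iv F10675)).symm.trans (sb E3356 (iv F14061)))).symm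
theorem E3791 : n6635 = n5441 := ((D6635).symm.trans (sb E3356 F9006))
theorem E3795 : n11045 = n5681 := ((((iv F9318)).symm.trans (sb E3358 (iv F18553)))).symm
theorem E3798 : n11047 = n8264 := ((D11047).symm.trans (sb E3360 F14523))
theorem E3799 : n9670 = n4537 := (((F8000).symm.trans (sb E3361 (iv F15987)))).symm
theorem E3800 : n7694 = n5170 := (((iv F12762)).symm.trans (sb E3361 (iv D8503)))
theorem F21102 : act 2 n7690 = n10544 := (sb E3362 F17620)
theorem F21104 : act 6 n7690 = n5961 := (sb E3362 (iv D9927))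
theorem E3802 : n9085 = n6526 := ((D9085).symm.trans (sb E3363 (iv D10857)))
theorem F21106 : act 0 n5309 = n4302 := (sb E3365 F11230)
theorem E3803 : n11404 = n8735 := ((((iv F14618)).symm.trans (sb E3365 (iv F19261)))).symm
theorem F21107 : act 3 n5309 = n4341 := (sb E3365 (iv F20674))
theorem E3804 : n4381 = n4298 := ((F8848).symm.trans (sb E3365 (iv D6868)))
theorem E3805 : n5987 = n3970 := ((((iv F6755)).symm.trans (sb E3366 (iv D9978)))).symm
theorem E3807 : n10327 = n5975 := (((iv F17162)).symm.trans (sb E3367 F12123))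
theorem E3808 : n5107 = n4301 := ((((iv D6875)).symm.trans (sb E3367 F12124))).symm
theorem E3809 : n7456 = n4554 := (((iv F20808)).symm.trans (sb E3367 (iv D7339)))
theorem E3811 : n4379 = n4278 := ((((iv F7262)).symm.trans (sb E3368 (iv D7004)))).symm
theorem F21108 : act 3 n4611 = n4297 := (sb E3370 (iv D6865))
theorem F21109 : act 0 n4613 = n4297 := (sb E3371 (iv D6864))
theorem E3816 : n4551 = n3329 := (((F7792).symm.trans (sb E3371 F11476))).symm
theorem F21110 : act 5 n4613 = n4302 := (sb E3371 (iv F20790))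
theorem E3819 : n7005 = n6823 := (((F20809).symm.trans (sb E3373 F19249))).symm
theorem F21113 : act 3 n3062 = n4277 := (sb E3374 (iv D6820))
theorem E3820 : n6878 = n4382 := (((D4382).symm.trans (sb E3374 (iv F11249)))).symm
theorem E3821 : n5099 = n3829 := ((((iv F20801)).symm.trans (sb E3376 F11509))).symm
theorem F21116 : act 0 n5117 = n4276 := (sb E3380 (iv F10130))
theorem F21118 : act 5 n5117 = n5024 := (sb E3380 F10126)
theorem E3827 : n3448 = n3436 := (((F8574).symm.trans (sb E3381 (iv D5144)))).symm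
theorem E3828 : n3450 = n3433 := ((((iv D5109)).symm.trans (sb E3381 F8607))).symm
theorem E3830 : n8455 = n8401 := (((D8401).symm.trans (sb E3381 D8455))).symm
theorem F21119 : act 2 n5899 = n5077 := (sb E3382 F14027)
theorem E3832 : n10963 = n9891 := (((D9891).symm.trans (sb E3383 (iv F18417)))).symm
theorem E3834 : n10970 = n9893 := (((D9893).symm.trans (sb E3383 D10970))).symm
theorem E3835 : n10971 = n9894 := (((D9894).symm.trans (sb E3383 D10971))).symm
theorem F21120 : act 1 n2958 = n9898 := (sb E3384 D9898)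
theorem F21121 : act 2 n2958 = n3826 := (sb E3384 (iv D5937))
theorem E3836 : n9899 = n4116 := ((((iv F7027)).symm.trans (sb E3384 D9899))).symm
theorem E3840 : n9860 = n4136 := (((iv F16355)).symm.trans (sb E3385 F10649))
theorem E3841 : n9901 = n6537 := ((D9901).symm.trans (sb E3385 (iv F10732)))
theorem E3842 : n9858 = n4218 := (((D4218).symm.trans (sb E3386 (iv F16349)))).symm
theorem F21122 : act 3 n2978 = n3812 := (sb E3386 (iv D5914))
theorem F21123 : act 5 n2978 = n3826 := (sb E3386 F9647)
theorem E3843 : n9902 = n6713 := (((D6713).symm.trans (sb E3387 D9902))).symm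
theorem F21125 : act 3 n4225 = n3827 := (sb E3387 F9676)
theorem E3844 : n11158 = n4541 := ((((iv F7667)).symm.trans (sb E3441 (iv F18708)))).symm
theorem E3848 : n6750 = n4541 := (((iv F10988)).symm.trans (sb E3390 (tr D11158 E3844)))
theorem F21127 : act 2 n2930 = n3829 := (sb E3394 F9680)
theorem E3861 : n9913 = n4118 := (((D4118).symm.trans (sb E3394 D9913))).symm
theorem E3866 : n6490 = n3429 := (E3397).trans E3444
theorem E3868 : n10782 = n2557 := ((((iv D3429)).symm.trans (sb E3866 D10782))).symm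
theorem E3869 : n5100 = n4138 := ((D5100).symm.trans (sb E3866 F10651))
theorem F21129 : act 5 n2941 = n3829 := (sb E3398 F9649)
theorem E3880 : n9866 = n4139 := ((((iv F7068)).symm.trans (sb E3401 D9866))).symm
theorem F21130 : act 3 n2981 = n3814 := (sb E3401 F9650)
theorem E3882 : n9921 = n6704 := (((D6704).symm.trans (sb E3403 D9921))).symm
theorem E3883 : n6535 = n4195 := (E3404).trans E3445
theorem E3886 : n6627 = n4138 := (E3598).trans E3869
theorem E3887 : n10876 = n6652 := (((D6652).symm.trans (sb E3883 D10876))).symm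
theorem E3888 : n8000 = n4247 := ((((iv F7200)).symm.trans (sb E3405 (iv F13309)))).symm
theorem F21135 : act 1 n2994 = n3319 := (sb E3405 F8258)
theorem E3891 : n8011 = n6652 := (((iv F13339)).symm.trans (sb E3406 (tr (iv F18271) E3887)))
theorem E3892 : n9835 = n4244 := ((((iv F7198)).symm.trans (sb E3408 D9835))).symm
theorem E3893 : n3803 = n2823 := (((F5242).symm.trans (sb E3408 (iv D5893)))).symm
theorem F21136 : act 2 n2744 = n2340 := (sb E3409 F5133)
theorem E3894 : n3799 = n2302 := (((iv F6486)).symm.trans (sb E3409 (iv D2920)))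
theorem F21137 : act 5 n2744 = n2389 := (sb E3409 F5132)
theorem E3895 : n3805 = n3449 := ((D3805).symm.trans (sb E3409 (iv F6048)))
theorem E3896 : n10868 = n6630 := (((E3606).symm.trans (((iv F14089)).symm.trans (sb E3411 (iv F18248))))).symm
theorem E3900 : n7402 = n2842 := (((F5394).symm.trans (sb E3413 D7402))).symm
theorem E3901 : n6916 = n4310 := ((((iv F7313)).symm.trans (sb E3413 (iv F11350)))).symm
theorem E3902 : n5933 = n4447 := (((D4447).symm.trans (sb E3414 (iv D9888)))).symm
theorem E3903 : n6915 = n4448 := (((D4448).symm.trans (sb E3414 F16416))).symm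
theorem E3904 : n11623 = n5936 := ((D11623).symm.trans (sb E3415 F16419))
theorem E3905 : n11624 = n10287 := ((D11624).symm.trans (sb E3415 (iv F17100)))
theorem E3906 : n11625 = n9895 := ((D11625).symm.trans (sb E3415 (iv F16426)))
theorem E3907 : n7010 = n6869 := ((F14632).symm.trans (sb E3417 F19268))
theorem E3908 : n8604 = n2838 := ((((iv F4962)).symm.trans (sb E3418 D8604))).symm
theorem E3914 : n5894 = n3088 := ((((iv F5385)).symm.trans (sb E3421 (iv F9624)))).symm
theorem E3915 : n4897 = n4449 := (((D4449).symm.trans (sb E3422 (iv D8023)))).symm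
theorem E3916 : n10199 = n4450 := (((D4450).symm.trans (sb E3422 (iv F16946)))).symm
theorem E3918 : n10192 = n4452 := (((D4452).symm.trans (sb E3423 (iv F16926)))).symm
theorem E3919 : n7133 = n6748 := (((iv F11751)).symm.trans (sb E3425 (iv D11222)))
theorem E3920 : n11421 = n7011 := (((iv F19299)).symm.trans (sb E3427 F19546))
theorem F21145 : act 2 n2742 = n2300 := (sb E3431 (iv D2915))
theorem E3930 : n7131 = n3327 := ((F20914).symm.trans (sb E3435 (iv D4898)))
theorem F21152 : act 5 n4197 = n3327 := (sb E3437 F8269)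
theorem F21153 : act 3 n4195 = n3319 := (sb E3445 (iv D4889))
theorem F21154 : act 5 n4195 = n3329 := (sb E3445 F8271)
theorem E3939 : n6005 = n4198 := (((iv F9761)).symm.trans (sb E3446 (iv D6658)))
theorem F21155 : act 6 n3861 = n4197 := (sb E3450 (iv D6656))
theorem E3950 : n5887 = n5147 := ((D5887).symm.trans (sb E3468 (iv F8613)))
theorem F21169 : act 0 n4619 = n3217 := (sb E3475 (iv D4679))
theorem E3958 : n7546 = n2484 := (((F5733).symm.trans (sb E3477 (iv F12498)))).symm
theorem E3961 : n4204 = n2482 := ((((iv F4485)).symm.trans (sb E3478 (iv D6672)))).symm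
theorem E3964 : n6671 = n2045 := (((F4431).symm.trans (sb E3482 (iv D11114)))).symm
theorem E3965 : n6731 = n3258 := (((D3258).symm.trans (sb E3483 D6731))).symm
theorem F21175 : act 5 n2470 = n2986 := (sb E3483 (iv D4234))
theorem F21176 : act 2 n2445 = n3207 := (sb E3484 (iv D4655))
theorem E3967 : n7544 = n2030 := (((F4420).symm.trans (sb E3484 D7544))).symm
theorem E3968 : n3259 = n2040 := (((F4421).symm.trans (sb E3484 F7864))).symm
theorem E3971 : n7500 = n3216 := ((D7500).symm.trans (sb E3485 F7862))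
theorem E3972 : n6705 = n6027 := (((iv F21029)).symm.trans (sb E3485 (iv F10209)))
theorem E3973 : n7476 = n6362 := (((iv F12395)).symm.trans (sb E3485 (iv F10452)))
theorem E3974 : n2450 = n2030 := ((F4429).symm.trans (sb E3486 (tr (iv F12496) E3967)))
theorem E3975 : n4656 = n2030 := (E3486).trans E3974
theorem E3976 : n7545 = n1188 := (((F3299).symm.trans (sb E3975 D7545))).symm
theorem E3977 : n2484 = n2451 := (((D2451).symm.trans (sb E3975 (tr D7546 E3958)))).symm
theorem E3978 : n3261 = n1039 := (((F3300).symm.trans (sb E3975 F7865))).symm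
theorem E3979 : n3258 = n3238 := ((D3258).symm.trans (sb E3487 (iv F5694)))
theorem E3980 : n2045 = n1039 := ((F4464).symm.trans (sb E3487 (tr D3261 E3978)))
theorem E3981 : n3262 = n2986 := (((F21175).symm.trans (sb E3487 D3262))).symm
theorem E3982 : n6671 = n1039 := (E3964).trans E3980
theorem E3983 : n6669 = n2046 := (((D2046).symm.trans (sb E3488 (iv D11107)))).symm
theorem E3984 : n7895 = n7616 := (((D7616).symm.trans (sb E3490 (iv F13082)))).symm
theorem E3985 : n7617 = n6068 := ((D7617).symm.trans (sb E3490 F10197))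
theorem E3989 : n6894 = n5931 := (((D5931).symm.trans (sb E3495 (iv D11443)))).symm
theorem E3992 : n6127 = n3958 := (((F10042).symm.trans (sb E3499 (iv F11070)))).symm
theorem F21188 : act 5 n6186 = n6108 := (sb E3499 F11069)
theorem E3995 : n11259 = n10286 := (((D10286).symm.trans (sb E3499 (iv F18940)))).symm
theorem E3997 : n6692 = n3920 := (((F9916).symm.trans (sb E3501 (iv F10938)))).symm
theorem F21189 : act 1 n6109 = n4012 := (sb E3501 (iv D6295))
theorem E3999 : n10158 = n4030 := ((D10158).symm.trans (sb E3501 F10321))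
theorem E4002 : n8665 = n6312 := ((D8665).symm.trans (sb E3502 F17466))
theorem E4003 : n6125 = n3944 := (((D3944).symm.trans (sb E3503 F16899))).symm
theorem E4004 : n10237 = n6126 := (((D6126).symm.trans (sb E3505 D10237))).symm
theorem F21191 : act 3 n3927 = n3943 := (sb E3505 (iv D6157))
theorem E4007 : n11276 = n4855 := (((iv F18984)).symm.trans (sb E3508 (iv D7955)))
theorem F21193 : act 4 n6796 = n5774 := (sb E3508 F13224)
theorem E4010 : n11460 = n5615 := (((iv F19374)).symm.trans (sb E3512 (iv D9347)))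
theorem F21203 : act 3 n6985 = n6844 := (sb E3517 (iv D11363))
theorem F21204 : act 0 n6874 = n4374 := (sb E3518 F11459)
theorem E4015 : n11546 = n10331 := ((((iv F17169)).symm.trans (sb E3518 D11546))).symm
theorem E4018 : n11559 = n11403 := (((iv F19510)).symm.trans (sb E3520 (iv F19259)))
theorem F21207 : act 3 n6867 = n4374 := (sb E3521 F11491)
theorem E4020 : n11557 = n8735 := (((E3803).symm.trans ((D11404).symm.trans (sb E3521 (iv F19508))))).symm
theorem E4023 : n5892 = n3930 := (((iv F11629)).symm.trans (sb E3527 (iv D6133)))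
theorem F21216 : act 3 n8422 = n5901 := (sb E3531 F16227)
theorem E4028 : n5147 = n5119 := ((((iv D8422)).symm.trans (sb E3531 (tr (iv D9824) E3950)))).symm
theorem E4031 : n10478 = n4315 := (E3547).trans E3662
theorem E4032 : n10336 = n5878 := (((E3548).symm.trans ((D10479).symm.trans (sb E3535 (iv F17178))))).symm
theorem E4033 : n10134 = n9881 := (((E3549).symm.trans ((D10480).symm.trans (sb E3535 (iv F16815))))).symm
theorem F21227 : act 0 n4315 = n6305 := (sb E4031 (iv D10478))
theorem F21230 : act 1 n8594 = n6311 := (sb E3550 (iv D10488))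
theorem E4040 : n10387 = n3028 := ((((iv D4306)).symm.trans (sb E3554 D10387))).symm
theorem F21233 : act 1 n4306 = n3994 := (sb E3554 (iv D6258))
theorem E4041 : n10388 = n4570 := ((((iv F7711)).symm.trans (sb E3554 D10388))).symm
theorem E4042 : n6884 = n3999 := ((D6884).symm.trans (sb E3554 F10253))
theorem E4044 : n5886 = n5116 := (((D5116).symm.trans (sb E3562 (iv D9820)))).symm
theorem E4045 : n5118 = n3028 := ((D5118).symm.trans (sb E3562 (tr (iv F17294) E4040)))
theorem E4046 : n5887 = n5119 := (E3950).trans E4028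
theorem E4047 : n5110 = n4570 := ((D5110).symm.trans (sb E3564 (tr F19037 E4041)))
theorem F21237 : act 1 n8401 = n11383 := (sb E3566 (iv F19218))
theorem F21238 : act 3 n8401 = n5899 := (sb E3566 F16224)
theorem E4048 : n5145 = n5117 := ((((iv F21116)).symm.trans (sb E3567 F14187))).symm
theorem E4051 : n11545 = n11326 := (((D11326).symm.trans (sb E3569 D11545))).symm
theorem E4053 : n4373 = n4372 := ((((iv F7376)).symm.trans (sb E3571 (iv D6991)))).symm
theorem F21241 : act 6 n6998 = n6874 := (sb E3573 (iv D11415))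
theorem E4059 : n10459 = n4308 := (((iv F17447)).symm.trans (sb E3580 F11256))
theorem E4060 : n10462 = n7374 := ((D10462).symm.trans (sb E3580 (iv F12192)))
theorem E4063 : n9898 = n3144 := ((F21120).symm.trans (sb E3581 (iv D4538)))
theorem F21246 : act 3 n2958 = n3150 := (sb E3581 F7662)
theorem E4066 : n8013 = n6696 := ((((iv F16294)).symm.trans (sb E3582 (iv F13344)))).symm
theorem E4067 : n10574 = n3686 := ((((iv D5656)).symm.trans (sb E3582 (iv F17687)))).symm
theorem E4072 : n10929 = n3152 := (((D3152).symm.trans (sb E3583 D10929))).symm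
theorem F21247 : act 4 n2969 = n3430 := (sb E3584 F7685)
theorem F21248 : act 5 n2969 = n3150 := (sb E3584 (iv D4552))
theorem F21249 : act 2 n4200 = n7334 := (sb E3585 (iv F12112))
theorem F21250 : act 4 n4200 = n3431 := (sb E3585 F7686)
theorem F21251 : act 6 n4200 = n3150 := (sb E3585 (iv D4553))
theorem F21252 : act 1 n3099 = n4166 := (sb E3586 F10107)
theorem E4076 : n7231 = n4454 := (((D4454).symm.trans (sb E3586 (iv F11933)))).symm
theorem E4079 : n11816 = n4198 := (((D4198).symm.trans (sb E3587 D11816))).symm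
theorem E4080 : n11638 = n10935 := (((D10935).symm.trans (sb E3588 (iv F19629)))).symm
theorem F21254 : act 3 n6581 = n11798 := (sb E3588 (iv F19936))
theorem E4084 : n10938 = n6349 := ((D10938).symm.trans (sb E3590 (iv D10549)))
theorem E4086 : n3984 = n3971 := ((((iv F6757)).symm.trans (sb E3591 F10106))).symm
theorem E4089 : n10329 = n3985 := (((D3985).symm.trans (sb E3592 D10329))).symm
theorem F21257 : act 3 n2851 = n3972 := (sb E3592 F10074)
theorem E4091 : n10330 = n3978 := ((((iv F6773)).symm.trans (sb E3592 D10330))).symm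
theorem E4092 : n10308 = n3986 := (((D3986).symm.trans (sb E3592 (iv F17139)))).symm
theorem F21258 : act 5 n4503 = n3972 := (sb E3593 (iv D6218))
theorem E4093 : n7232 = n6203 := ((D7232).symm.trans (sb E3593 F10079))
theorem E4098 : n7910 = n6587 := (((D6587).symm.trans (sb E3596 (iv F13122)))).symm
theorem E4099 : n3287 = n2973 := (((F7125).symm.trans (sb E3596 (iv D4833)))).symm
theorem E4103 : n6531 = n4187 := (((iv F10719)).symm.trans (sb E3886 F10846))
theorem F21263 : act 4 n4138 = n4195 := (sb E3886 F10847)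
theorem F21265 : act 2 n4436 = n6784 := (sb E3604 F18948)
theorem E4108 : n11023 = n7569 := ((D11023).symm.trans (sb E3607 F14096))
theorem E4110 : n5116 = n2566 := ((((iv F4627)).symm.trans (sb E3608 (tr F16210 E4044)))).symm
theorem F21269 : act 2 n4260 = n7094 := (sb E3609 D7094)
theorem F21270 : act 3 n4260 = n3087 := (sb E3609 (iv D4429))
theorem E4114 : n7097 = n6789 := (((D6789).symm.trans (sb E3609 D7097))).symm
theorem F21273 : act 0 n4261 = n7094 := (sb E3612 F19784)
theorem F21275 : act 5 n7098 = n6784 := (sb E3618 (iv D11264))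
theorem E4119 : n11267 = n6192 := (((iv F18960)).symm.trans (sb E3619 (iv D10294)))
theorem E4120 : n11265 = n10247 := ((D11265).symm.trans (sb E3620 F17115))
theorem E4121 : n6637 = n3718 := ((((iv D5726)).symm.trans (sb E3622 F18355))).symm
theorem F21277 : act 0 n2695 = n2967 := (sb E3623 (iv D4190))
theorem E4125 : n9509 = n6640 := (((D6640).symm.trans (sb E3624 (iv F15781)))).symm
theorem F21281 : act 6 n5248 = n4068 := (sb E3626 (iv D6396))
theorem F21282 : act 5 n5209 = n6395 := (sb E3628 F17758)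
theorem F21283 : act 6 n8624 = n6395 := (sb E3629 (iv D10627))
theorem E4127 : n9111 = n6520 := (((D6520).symm.trans (sb E3631 D9111))).symm
theorem E4131 : n11061 = n4883 := (((F10136).symm.trans (sb E3635 D11061))).symm
theorem F21290 : act 0 n6649 = n6937 := (sb E3636 F13317)
theorem E4132 : n11063 = n4891 := ((D11063).symm.trans (sb E3636 F13318))
theorem E4136 : n10368 = n10203 := (((D10203).symm.trans (sb E3645 F17249))).symm
theorem E4138 : n11738 = n6178 := ((((iv F10032)).symm.trans (sb E3649 (iv F19829)))).symm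
theorem E4139 : n7094 = n6186 := (((D6186).symm.trans (sb E3649 (iv D11722)))).symm
theorem E4141 : n9893 = n4437 := (((iv F16424)).symm.trans (sb E3650 (iv D7109)))
theorem E4144 : n11755 = n9895 := (((D9895).symm.trans (sb E3650 D11755))).symm
theorem F21296 : act 3 n4261 = n6185 := (sb E3651 (iv D10281))
theorem F21298 : act 0 n4533 = n6179 := (sb E3654 F17060)
theorem E4145 : n7293 = n6175 := ((D7293).symm.trans (sb E3654 (iv D10267)))
theorem F21299 : act 4 n4539 = n6179 := (sb E3655 (iv D10272))
theorem F21300 : act 1 n6025 = n4196 := (sb E3656 (iv D6653))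
theorem E4148 : n10043 = n4221 := ((D10043).symm.trans (sb E3656 F10888))
theorem F21302 : act 1 n9195 = n5924 := (sb E3658 F16321)
theorem F21303 : act 4 n9195 = n5905 := (sb E3658 (iv D9847))
theorem F21305 : act 3 n4315 = n5932 := (sb E3662 F16410)
theorem E4151 : n11928 = n6393 := (((D6393).symm.trans (sb E3663 D11928))).symm
theorem F21307 : act 0 n6381 = n4940 := (sb E3665 F13456)
theorem F21308 : act 3 n6381 = n4929 := (sb E3665 (iv D8084))
theorem F21309 : act 4 n6381 = n4929 := (sb E3665 (iv F13458))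
theorem F21321 : act 6 n3806 = n5117 := (sb E3683 (iv D8418))
theorem E4157 : n11108 = n2451 := (E3684).trans E3977
theorem E4158 : n2482 = n2046 := (((iv F4485)).symm.trans (sb E4157 (tr (iv D11108) E3983)))
theorem F21323 : act 4 n4781 = n5320 := (sb E3685 F10424)
theorem E4160 : n10547 = n7805 := (((D7805).symm.trans (sb E3685 D10547))).symm
theorem E4164 : n8049 = n7585 := ((D8049).symm.trans (sb E3687 F18259))
theorem F21331 : act 5 n7599 = n10864 := (sb E3691 F20182)
theorem E4170 : n6731 = n3238 := (E3965).trans E3979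
theorem E4171 : n7363 = n3620 := (((D3620).symm.trans (sb E3698 F18202))).symm
theorem E4172 : n4834 = n3237 := (((D3237).symm.trans (sb E3699 (iv D7911)))).symm
theorem E4173 : n7569 = n6661 := ((D7569).symm.trans (sb E3700 F10905))
theorem E4174 : n11104 = n5140 := ((((iv F9011)).symm.trans (sb E3700 (iv F18631)))).symm
theorem E4176 : n6659 = n5440 := (((F9012).symm.trans (sb E3700 F10907))).symm
theorem F21340 : act 1 n4511 = n4216 := (sb E3703 F10815)
theorem E4180 : n7246 = n4244 := ((D7246).symm.trans (sb E3703 (tr (iv F16249) E3892)))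
theorem F21341 : act 4 n4512 = n7107 := (sb E3704 F11764)
theorem E4189 : n10337 = n8022 := ((D10337).symm.trans (sb E3708 F16195))
theorem F21344 : act 1 n7258 = n6617 := (sb E3714 (iv D10994))
theorem F21345 : act 2 n7258 = n11637 := (sb E3714 (iv F19638))
theorem F21347 : act 6 n7258 = n10552 := (sb E3714 F18794)
theorem E4195 : n10905 = n4515 := (((D4515).symm.trans (sb E3716 F18787))).symm
theorem E4199 : n7623 = n7209 := (((D7209).symm.trans (sb E3717 (iv F12651)))).symm
theorem F21354 : act 2 n2464 = n3244 := (sb E3725 (iv D4734))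
theorem E4211 : n8879 = n5958 := ((((iv F9694)).symm.trans (sb E3726 F17653))).symm
theorem E4213 : n8880 = n2765 := ((((iv D3838)).symm.trans (sb E3727 D8880))).symm
theorem E4214 : n5964 = n3569 := ((D5964).symm.trans (sb E3727 F8924))
theorem E4217 : n8883 = n5327 := ((D8883).symm.trans (sb E3730 (iv D8766)))
theorem E4219 : n2162 = n1188 := ((F4714).symm.trans (sb E3731 (tr F16483 E3976)))
theorem E4222 : n7707 = n2944 := ((((iv D4144)).symm.trans (sb E3735 D7707))).symm
theorem E4224 : n7709 = n6403 := ((((iv F13673)).symm.trans (sb E3738 D7709))).symm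
theorem F21361 : act 1 n4565 = n3246 := (sb E3738 (iv D4738))
theorem E4227 : n9891 = n7306 := (((D7306).symm.trans (sb E3742 (tr D10963 E3832)))).symm
theorem E4230 : n7309 = n6718 := ((D7309).symm.trans (sb E3743 (iv F10964)))
theorem E4232 : n5136 = n4786 := ((((iv F8078)).symm.trans (sb E3744 F14170))).symm
theorem E4235 : n11277 = n7315 := (((D7315).symm.trans (sb E3745 (iv F18988)))).symm
theorem E4237 : n5130 = n4783 := (((D4783).symm.trans (sb E3746 F13756))).symm
theorem E4240 : n4778 = n4092 := (((iv F8069)).symm.trans (sb E3746 (iv D6447)))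
theorem E4241 : n5135 = n4202 := ((((iv F7160)).symm.trans (sb E3747 D5135))).symm
theorem E4242 : n5083 = n4785 := (((D4785).symm.trans (sb E3747 (iv F8546)))).symm
theorem E4243 : n4741 = n4566 := (((iv F8022)).symm.trans (sb E3747 (iv F7707)))
theorem E4244 : n4779 = n2563 := (((iv F8070)).symm.trans (sb E3747 (iv D3444)))
theorem F21371 : act 5 n3247 = n4565 := (sb E3749 (iv D7364))
theorem F21372 : act 4 n3263 = n4565 := (sb E3750 (iv F7706))
theorem E4246 : n5134 = n4780 := (((D4780).symm.trans (sb E3750 D5134))).symm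
theorem E4252 : n7759 = n6737 := ((D7759).symm.trans (sb E3753 (iv D11202)))
theorem E4254 : n9973 = n7761 := (((D7761).symm.trans (sb E3754 (iv F18834)))).symm
theorem E4255 : n4546 = n4229 := (((iv F7674)).symm.trans (sb E3756 (iv D6719)))
theorem F21375 : act 2 n7770 = n4886 := (sb E3759 F13323)
theorem F21376 : act 4 n7770 = n5906 := (sb E3759 F13324)
theorem E4260 : n10904 = n7329 := (((F12874).symm.trans (sb E3759 (iv F18332)))).symm
theorem F21380 : act 6 n6743 = n7752 := (sb E3760 F12866)
theorem F21381 : act 1 n3279 = n4211 := (sb E3761 (iv D6684))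
theorem F21382 : act 3 n3279 = n4240 := (sb E3761 F10924)
theorem E4262 : n7913 = n4719 := ((((iv F7974)).symm.trans (sb E3763 F20187))).symm
theorem E4263 : n4721 = n4236 := ((((iv D6736)).symm.trans (sb E3764 (iv D7671)))).symm
theorem E4267 : n4768 = n4236 := ((((iv D6736)).symm.trans (sb E3768 (iv D7779)))).symm
theorem E4270 : n11113 = n2481 := ((((iv D3285)).symm.trans (sb E3769 (iv F18647)))).symm
theorem E4271 : n6683 = n4524 := ((D6683).symm.trans (sb E3770 (iv D7271)))
theorem E4274 : n4459 = n4420 := (((F11655).symm.trans (sb E3776 (iv D7148)))).symm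
theorem E4275 : n11823 = n4419 := ((((iv D7075)).symm.trans (sb E3776 D11823))).symm
theorem F21396 : act 0 n10273 = n7107 := (sb E3785 (iv D11746))
theorem E4280 : n10273 = n6753 := (((D6753).symm.trans (iv (sb E3785 (tr F19844 E3892))))).symm
theorem F21398 : act 0 n3446 = n4189 := (sb E3787 (iv D6633))
theorem E4283 : n10809 = n5088 := ((((iv F8553)).symm.trans (sb E3787 (iv F18138)))).symm
theorem E4284 : n4568 = n4201 := (((iv F7709)).symm.trans (sb E3787 F10858))
theorem E4287 : n11023 = n6661 := (E4108).trans E4173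
theorem E4288 : n10811 = n8921 := ((D10811).symm.trans (sb E3789 F14898))
theorem F21400 : act 5 n5441 = n4189 := (sb E3791 (iv D6635))
theorem F21403 : act 0 n5681 = n6641 := (sb E3795 (iv D11045))
theorem F21408 : act 6 n8264 = n6641 := (sb E3798 (iv D11047))
theorem E4289 : n7298 = n6541 := (((iv F12055)).symm.trans (sb E3799 (iv F16383)))
theorem F21409 : act 2 n5170 = n4732 := (sb E3800 F12762)
theorem F21416 : act 4 n6526 = n5560 := (sb E3802 F15155)
theorem E4291 : n6989 = n6867 := ((F14619).symm.trans (sb E3803 (iv D11404)))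
theorem F21418 : act 1 n4298 = n4611 := (sb E3804 F7788)
theorem F21420 : act 5 n4298 = n3062 := (sb E3804 (iv D4381))
theorem E4292 : n6213 = n3852 := ((D6213).symm.trans (sb E3805 (iv D5987)))
theorem E4293 : n4432 = n4325 := (((iv F7465)).symm.trans (sb E3805 F9725))
theorem E4294 : n5148 = n4882 := (((iv F8619)).symm.trans (sb E3805 F10216))
theorem F21421 : act 1 n5975 = n6875 := (sb E3807 F17162)
theorem E4295 : n6239 = n6215 := (((iv F10114)).symm.trans (sb E3807 F17163))
theorem E4297 : n6821 = n3432 := (((iv F11142)).symm.trans (sb E3808 (iv D5107)))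
theorem E4298 : n8396 = n6876 := (((D6876).symm.trans (sb E3808 D8396))).symm
theorem F21423 : act 5 n4554 = n6875 := (sb E3809 F20808)
theorem F21424 : act 0 n4278 = n3062 := (sb E3811 (iv D4379))
theorem F21425 : act 1 n4278 = n3429 := (sb E3811 F11471)
theorem F21427 : act 0 n3329 = n4166 := (sb E3816 (iv F20913))
theorem F21428 : act 2 n3329 = n3150 := (sb E3816 (iv D4551))
theorem F21429 : act 4 n3329 = n3429 := (sb E3816 F7684)
theorem E4301 : n7334 = n4902 := (((D4902).symm.trans (sb E3816 D7334))).symm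
theorem E4303 : n11326 = n5108 := (((iv F19104)).symm.trans (sb E3819 F11513))
theorem F21430 : act 0 n4382 = n6823 := (sb E3820 F11247)
theorem F21431 : act 3 n4382 = n4304 := (sb E3820 F11248)
theorem F21432 : act 5 n4382 = n4303 := (sb E3820 (iv D6878))
theorem E4304 : n7100 = n5938 := ((((iv F9674)).symm.trans (sb E3821 (iv F11697)))).symm
theorem F21433 : act 3 n3829 = n3429 := (sb E3821 (iv D5099))
theorem E4306 : n8387 = n5945 := (((D5945).symm.trans (sb E3821 D8387))).symm
theorem E4308 : n2567 = n2560 := ((((iv D3436)).symm.trans (sb E3827 F6043))).symm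
theorem E4309 : n5146 = n5029 := ((((iv F8480)).symm.trans (sb E3827 D5146))).symm
theorem E4310 : n5106 = n4369 := (((iv F8573)).symm.trans (sb E3828 (iv F11484)))
theorem E4313 : n5152 = n5111 := (((D5111).symm.trans (sb E3828 D5152))).symm
theorem F21434 : act 4 n8401 = n6886 := (sb E3830 F14193)
theorem E4316 : n10970 = n4437 := (E3834).trans E4141
theorem E4317 : n6699 = n3961 := (((F7472).symm.trans (sb E4316 F18423))).symm
theorem F21435 : act 1 n9894 = n11180 := (sb E3835 (iv F18762))
theorem F21436 : act 2 n4116 = n5938 := (sb E3836 F16433)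
theorem F21437 : act 5 n4136 = n5938 := (sb E3840 F16355)
theorem F21439 : act 6 n6537 = n5938 := (sb E3841 (iv D9901))
theorem E4319 : n7136 = n6126 := ((((iv F10022)).symm.trans (sb E3842 F16348))).symm
theorem F21440 : act 3 n4218 = n5913 := (sb E3842 (iv D9858))
theorem E4320 : n7138 = n3961 := (((E4317).symm.trans ((D6699).symm.trans (sb E3842 F16350)))).symm
theorem F21441 : act 3 n6713 = n5940 := (sb E3843 F16441)
theorem E4322 : n7307 = n4245 := (((iv F12070)).symm.trans (sb E3848 F10986))
theorem E4323 : n7391 = n7310 := (((D7310).symm.trans (sb E3848 (iv F12226)))).symm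
theorem E4324 : n11225 = n3145 := ((((iv D4541)).symm.trans (sb E3848 (iv F18857)))).symm
theorem E4325 : n7311 = n5913 := ((D7311).symm.trans (sb E3848 F10988))
theorem E4326 : n7247 = n4243 := (((iv F11961)).symm.trans (sb E3848 (iv D6750)))
theorem E4327 : n7312 = n6757 := ((D7312).symm.trans (sb E3848 (iv F10997)))
theorem F21442 : act 2 n4118 = n5945 := (sb E3861 F16451)
theorem E4329 : n6534 = n3430 := (((D3430).symm.trans (sb E3868 F18073))).symm
theorem F21443 : act 5 n4138 = n3429 := (sb E3869 (iv D5100))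
theorem F21444 : act 6 n4138 = n5918 := (sb E3869 F10215)
theorem F21448 : act 3 n4139 = n5918 := (sb E3880 F16363)
theorem E4331 : n11735 = n6537 := (((D6537).symm.trans (sb E3880 (iv F19823)))).symm
theorem F21450 : act 3 n6704 = n5950 := (sb E3882 F16464)
theorem E4335 : n4880 = n3933 := (((F7201).symm.trans (sb E3888 (iv D8000)))).symm
theorem F21455 : act 3 n6652 = n4890 := (sb E3891 F13339)
theorem F21456 : act 0 n2823 = n2744 := (sb E3893 (iv D3803))
theorem F21458 : act 3 n2302 = n2744 := (sb E3894 F6486)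
theorem F21459 : act 6 n3449 = n2744 := (sb E3895 (iv D3805))
theorem E4337 : n11019 = n6532 := (((iv F18505)).symm.trans (sb E3896 F18249))
theorem E4338 : n6176 = n3962 := ((((iv F6747)).symm.trans (sb E3900 F12248))).symm
theorem E4339 : n6888 = n5429 := (((iv F11259)).symm.trans (sb E3901 F11347))
theorem E4340 : n7127 = n3825 := ((D7127).symm.trans (sb E3902 (iv D5933)))
theorem E4341 : n7128 = n6187 := ((D7128).symm.trans (sb E3902 (iv F10044)))
theorem E4343 : n7129 = n6178 := ((D7129).symm.trans (sb E3902 F10033))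
theorem E4344 : n7130 = n6180 := ((D7130).symm.trans (sb E3903 F11345))
theorem F21465 : act 0 n5936 = n7030 := (sb E3904 (iv D11623))
theorem E4345 : n11743 = n9894 := ((((iv F16425)).symm.trans (sb E3904 (iv F19839)))).symm
theorem F21466 : act 4 n5936 = n7032 := (sb E3904 F19613)
theorem E4346 : n11792 = n9897 := (((D9897).symm.trans (sb E3904 (iv F19927)))).symm
theorem F21468 : act 4 n10287 = n7033 := (sb E3905 F19615)
theorem F21469 : act 3 n9895 = n11764 := (sb E3906 (iv F19880))
theorem F21470 : act 4 n9895 = n7034 := (sb E3906 F19617)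
theorem E4347 : n11788 = n5935 := ((((iv D9895)).symm.trans (sb E3906 (iv F19918)))).symm
theorem E4349 : n11405 = n8398 := (((iv F19263)).symm.trans (sb E3907 (iv F14104)))
theorem E4350 : n10196 = n3963 := (((D3963).symm.trans (sb E3908 (iv F16939)))).symm
theorem F21474 : act 1 n3088 = n4260 := (sb E3914 F10131)
theorem E4353 : n8021 = n7132 := (((D7132).symm.trans (sb E3915 (iv F13357)))).symm
theorem E4355 : n7135 = n6129 := ((D7135).symm.trans (sb E3916 (iv D10199)))
theorem E4357 : n11162 = n7140 := (((D7140).symm.trans (sb E3918 (iv F18717)))).symm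
theorem F21475 : act 0 n6748 = n4451 := (sb E3919 F11749)
theorem E4360 : n11221 = n4454 := ((D11221).symm.trans (sb E3919 F11750))
theorem F21476 : act 5 n6748 = n4449 := (sb E3919 (iv D7133))
theorem E4361 : n11766 = n11588 := (((D11588).symm.trans (sb E3920 (iv F19885)))).symm
theorem F21480 : act 1 n3327 = n4449 := (sb E3930 (iv D7131))
theorem F21481 : act 3 n3327 = n4166 := (sb E3930 (iv F20914))
theorem E4365 : n11798 = n4899 := (((D4899).symm.trans (sb E3930 D11798))).symm
theorem F21483 : act 3 n4198 = n3861 := (sb E3939 (iv D6005))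
theorem F21493 : act 3 n5119 = n3806 := (sb E4046 F9618)
theorem E4376 : n4204 = n2046 := (E3961).trans E4158
theorem E4377 : n2973 = n2483 := (((D2483).symm.trans (sb E4376 (iv D4204)))).symm
theorem E4378 : n2986 = n2472 := ((((iv F4465)).symm.trans (sb E4376 F7163))).symm
theorem E4381 : n3287 = n2483 := (E4099).trans E4377
theorem E4382 : n2481 = n505 := ((((iv D1039)).symm.trans (sb E3982 (tr D11113 E4270)))).symm
theorem E4386 : n11113 = n505 := (E4270).trans E4382
theorem E4387 : n4720 = n505 := ((D4720).symm.trans (sb E4170 (tr (iv F18646) E4386)))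
theorem F21507 : act 2 n2040 = n2470 := (sb E3968 (iv D3259))
theorem F21510 : act 3 n3216 = n4635 := (sb E3971 (iv D7500))
theorem E4394 : n9932 = n2640 := (((F5617).symm.trans (sb E3971 (iv F16492)))).symm
theorem F21511 : act 5 n6027 = n4635 := (sb E3972 F21029)
theorem F21512 : act 6 n6027 = n5656 := (sb E3972 F16300)
theorem F21514 : act 6 n6362 = n4635 := (sb E3973 F12395)
theorem F21515 : act 0 n2030 = n2030 := (sb E3974 (iv D2450))
theorem E4396 : n3216 = n1032 := ((((iv D2030)).symm.trans (sb E3974 D3216))).symm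
theorem E4397 : n3207 = n2445 := ((((iv F4420)).symm.trans (sb E3974 (iv F5604)))).symm
theorem E4398 : n2640 = n581 := ((((iv D1188)).symm.trans (sb E3976 (tr (iv F16491) E4394)))).symm
theorem E4400 : n3291 = n3217 := (((D3217).symm.trans (sb E3977 D3291))).symm
theorem E4402 : n2189 = n2163 := (((F4433).symm.trans (sb E3977 F4490))).symm
theorem F21518 : act 0 n1039 = n1039 := (sb E3980 (iv D2045))
theorem E4406 : n2470 = n2040 := ((((iv F3321)).symm.trans (sb E3980 (iv F4464)))).symm
theorem E4407 : n1200 = n587 := (((F1647).symm.trans (sb E3980 F3329))).symm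
theorem E4408 : n3262 = n2472 := (E3981).trans E4378
theorem E4409 : n4776 = n3263 := (((D3263).symm.trans (sb E4408 D4776))).symm
theorem F21520 : act 1 n7616 = n4824 := (sb E3984 (iv D7895))
theorem F21521 : act 2 n7616 = n6149 := (sb E3984 (iv F13086))
theorem F21525 : act 2 n6068 = n4698 := (sb E3985 (iv D7617))
theorem F21533 : act 1 n5931 = n6775 := (sb E3989 F11266)
theorem E4412 : n9884 = n4311 := ((D9884).symm.trans (sb E3989 (iv D6894)))
theorem E4413 : n9885 = n6895 := ((D9885).symm.trans (sb E3989 (iv F11270)))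
theorem E4414 : n10091 = n9805 := (((F16198).symm.trans (sb E3989 (iv F16744)))).symm
theorem F21534 : act 6 n5931 = n4315 := (sb E3989 (iv F11267))
theorem E4415 : n6190 = n3955 := ((D6190).symm.trans (sb E3992 F9949))
theorem F21537 : act 5 n3958 = n3927 := (sb E3992 (iv D6127))
theorem F21539 : act 0 n10286 = n6791 := (sb E3995 F18936)
theorem F21540 : act 1 n10286 = n6780 := (sb E3995 (iv D11259))
theorem F21541 : act 2 n10286 = n6789 := (sb E3995 F18937)
theorem F21543 : act 5 n10286 = n6781 := (sb E3995 F18939)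
theorem E4419 : n6110 = n4215 := ((D6110).symm.trans (sb E3997 (iv D6692)))
theorem F21544 : act 3 n4030 = n6109 := (sb E3999 (iv D10158))
theorem E4423 : n10490 = n5264 := ((D10490).symm.trans (sb E4002 F14506))
theorem F21548 : act 0 n3944 = n3927 := (sb E4003 (iv D6125))
theorem E4425 : n6158 = n4218 := ((D6158).symm.trans (sb E4003 F10023))
theorem E4426 : n6159 = n3953 := ((D6159).symm.trans (sb E4003 F9947))
theorem F21549 : act 3 n6126 = n7054 := (sb E4004 F17018)
theorem F21550 : act 5 n6126 = n6189 := (sb E4004 F17017)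
theorem F21552 : act 0 n4855 = n6796 := (sb E4007 F18984)
theorem E4432 : n7819 = n6794 := (((iv F12931)).symm.trans (sb E4007 (iv D11276)))
theorem E4433 : n9145 = n6926 := (((iv F15252)).symm.trans (sb E4010 (iv D11460)))
theorem E4439 : n11803 = n10528 := (((iv F19943)).symm.trans (sb E4015 (iv F19494)))
theorem F21568 : act 3 n11403 = n6995 := (sb E4018 F19510)
theorem E4441 : n6992 = n6857 := ((((iv F14621)).symm.trans (sb E4020 (iv D11557)))).symm
theorem E4443 : n11545 = n5108 := (E4051).trans E4303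
theorem F21571 : act 2 n3930 = n4216 := (sb E4023 F11629)
theorem E4444 : n7066 = n6134 := (((D6134).symm.trans (sb E4023 F11630))).symm
theorem E4445 : n9834 = n6135 := (((D6135).symm.trans (sb E4023 D9834))).symm
theorem E4448 : n3453 = n3438 := (((F8586).symm.trans (sb E4028 F8614))).symm
theorem E4450 : n10092 = n9803 := (((D9803).symm.trans (sb E4032 F17176))).symm
theorem F21578 : act 4 n9881 = n6144 := (sb E4033 F16814)
theorem F21586 : act 3 n3999 = n4306 := (sb E4042 (iv D6884))
theorem E4455 : n3437 = n3159 := ((((iv F5518)).symm.trans (sb E4045 F8585))).symm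
theorem E4460 : n8254 = n7374 := (((D7374).symm.trans (sb E4047 (iv F13906)))).symm
theorem F21590 : act 1 n5117 = n3449 := (sb E4048 F8609)
theorem E4467 : n6994 = n6990 := ((((iv F11489)).symm.trans (sb E4443 F19488))).symm
theorem E4468 : n8395 = n6984 := (((iv F14099)).symm.trans (sb E4443 F19489))
theorem E4469 : n6988 = n3059 := ((((iv D4372)).symm.trans (sb E4053 (iv F11468)))).symm
theorem E4470 : n10529 = n4572 := ((((iv F7714)).symm.trans (sb E4059 (iv F17582)))).symm
theorem F21595 : act 3 n7374 = n10524 := (sb E4060 (iv F17572))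
theorem F21598 : act 1 n3144 = n2958 := (sb E4063 (iv F21120))
theorem F21599 : act 5 n6696 = n6362 := (sb E4066 F13345)
theorem E4471 : n9867 = n5545 := ((((iv F9152)).symm.trans (sb E4067 F17688))).symm
theorem E4474 : n11091 = n4557 := (((D4557).symm.trans (sb E4072 (iv F18613)))).symm
theorem F21605 : act 1 n4454 = n4512 := (sb E4076 F11932)
theorem E4476 : n9019 = n6657 := (((D6657).symm.trans (sb E4079 (iv F19965)))).symm
theorem F21608 : act 2 n10935 = n10550 := (sb E4080 (iv F19632))
theorem F21611 : act 6 n10935 = n7036 := (sb E4080 (iv D11638))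
theorem F21618 : act 5 n6349 = n6582 := (sb E4084 (iv D10938))
theorem F21619 : act 0 n3971 = n2851 := (sb E4086 (iv D3984))
theorem E4478 : n6224 = n6216 := (((D6216).symm.trans (sb E4086 (iv F10092)))).symm
theorem E4479 : n6240 = n6200 := ((((iv F10058)).symm.trans (sb E4086 D6240))).symm
theorem E4480 : n10528 = n6241 := (((D6241).symm.trans (sb E4089 (tr (iv F19944) E4439)))).symm
theorem E4481 : n10310 = n6226 := (((D6226).symm.trans (sb E4091 F17168))).symm
theorem F21621 : act 3 n3986 = n6202 := (sb E4092 F17138)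
theorem F21622 : act 6 n6203 = n4503 := (sb E4093 (iv D7232))
theorem E4487 : n4832 = n4205 := (((F10806).symm.trans (sb E4098 (iv D7910)))).symm
theorem E4488 : n4205 = n3289 := (((D3289).symm.trans (sb E4381 (tr D4832 E4487)))).symm
theorem E4489 : n2695 = n2188 := (((F4486).symm.trans (sb E4381 F5766))).symm
theorem E4490 : n4832 = n3289 := (E4487).trans E4488
theorem E4491 : n10866 = n2965 := ((((iv D4187)).symm.trans (sb E4103 D10866))).symm
theorem E4492 : n6629 = n4136 := ((D6629).symm.trans (sb E4103 (iv D6531)))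
theorem E4494 : n6665 = n6634 := (((iv F10902)).symm.trans (sb E4287 F18514))
theorem F21630 : act 1 n2566 = n3436 := (sb E4110 (iv D5116))
theorem E4496 : n3455 = n2125 := ((((iv D2566)).symm.trans (sb E4110 F8582))).symm
theorem F21632 : act 3 n6789 = n4431 := (sb E4114 F11689)
theorem E4504 : n10293 = n6795 := (((iv F17113)).symm.trans (sb E4119 F18961))
theorem E4505 : n10357 = n10204 := ((((iv F16956)).symm.trans (sb E4119 F18962))).symm
theorem F21644 : act 3 n10247 = n6793 := (sb E4120 F18956)
theorem F21645 : act 4 n10247 = n10355 := (sb E4120 F18957)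
theorem F21646 : act 0 n3718 = n4191 := (sb E4121 F10864)
theorem E4511 : n11043 = n5811 := ((D11043).symm.trans (sb E4125 F15780))
theorem F21651 : act 4 n6520 = n5585 := (sb E4127 F15198)
theorem F21653 : act 2 n4883 = n6649 := (sb E4131 F18579)
theorem F21654 : act 1 n4891 = n6649 := (sb E4132 (iv D11063))
theorem F21662 : act 2 n10203 = n6697 := (sb E4136 (iv F17248))
theorem F21663 : act 4 n10203 = n7072 := (sb E4136 F17246)
theorem E4513 : n10161 = n6694 := ((F16955).symm.trans (sb E4136 F17247))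
theorem E4514 : n10270 = n7103 := ((D10270).symm.trans (sb E4138 (iv D11738)))
theorem F21664 : act 0 n6186 = n4261 := (sb E4139 (iv F21273))
theorem F21665 : act 2 n6186 = n4260 := (sb E4139 (iv F21269))
theorem F21666 : act 3 n4437 = n5935 := (sb E4141 F16424)
theorem E4519 : n7111 = n5934 := ((D7111).symm.trans (sb E4141 (iv D9893)))
theorem E4520 : n11764 = n7112 := ((F21469).symm.trans (sb E4144 F19863))
theorem F21667 : act 3 n6175 = n4533 := (sb E4145 (iv D7293))
theorem F21670 : act 5 n4221 = n6353 := (sb E4148 F16656)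
theorem F21672 : act 3 n6393 = n8109 := (sb E4151 F20152)
theorem F21686 : act 6 n7805 = n10341 := (sb E4160 F17629)
theorem F21696 : act 0 n7585 = n6662 := (sb E4164 F16292)
theorem F21697 : act 1 n7585 = n4910 := (sb E4164 (iv D8049))
theorem E4525 : n10629 = n5511 := (((D5511).symm.trans (sb E4171 F17802))).symm
theorem E4526 : n4717 = n3288 := ((D4717).symm.trans (sb E4172 (iv D4834)))
theorem E4527 : n7798 = n2917 := (((F5693).symm.trans (sb E4172 (iv F12907)))).symm
theorem E4529 : n6667 = n3446 := ((((iv D5140)).symm.trans (sb E4174 (iv D11104)))).symm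
theorem F21714 : act 0 n5440 = n4199 := (sb E4176 (iv D6659))
theorem E4530 : n11085 = n7283 := ((((iv F12019)).symm.trans (sb E4176 D11085))).symm
theorem F21715 : act 3 n5440 = n4226 := (sb E4176 F10893)
theorem E4531 : n6749 = n4512 := (((iv F10985)).symm.trans (sb E4180 F11959))
theorem E4532 : n6754 = n4539 := ((D6754).symm.trans (sb E4180 F11960))
theorem E4533 : n7314 = n6755 := (((D6755).symm.trans (sb E4180 (iv F12080)))).symm
theorem F21730 : act 4 n8022 = n9803 := (sb E4189 (tr F17182 E4450))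
theorem E4540 : n6721 = n3147 := (((F7626).symm.trans (sb E4195 F18333))).symm
theorem F21738 : act 1 n7209 = n4701 := (sb E4199 (iv D7623))
theorem E4544 : n5402 = n5285 := (((F13737).symm.trans (sb E4211 F14837))).symm
theorem E4545 : n9869 = n6077 := (((iv F16370)).symm.trans (sb E4211 (iv F14838)))
theorem E4547 : n5403 = n3839 := (((D3839).symm.trans (sb E4213 F14839))).symm
theorem E4548 : n9932 = n581 := (E4394).trans E4398
theorem E4549 : n9933 = n5404 := (((D5404).symm.trans (sb E4214 D9933))).symm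
theorem E4554 : n8768 = n5406 := ((D8768).symm.trans (sb E4217 F14844))
theorem F21750 : act 0 n1188 = n1188 := (sb E4219 (iv D2162))
theorem E4556 : n2629 = n2156 := ((((iv F3965)).symm.trans (sb E4219 (iv F4714)))).symm
theorem E4557 : n3263 = n2336 := (((F5184).symm.trans (sb E4222 (tr F12785 E4409)))).symm
theorem E4558 : n7718 = n6925 := (((F13675).symm.trans (sb E4224 (iv F12812)))).symm
theorem F21753 : act 2 n7306 = n5934 := (sb E4227 (iv D9891))
theorem F21754 : act 1 n6718 = n4540 := (sb E4230 (iv D7309))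
theorem E4560 : n8409 = n7817 := (((D7817).symm.trans (sb E4232 (iv F14124)))).symm
theorem E4562 : n7717 = n7367 := (((iv F12808)).symm.trans (sb E4232 (iv F12177)))
theorem E4563 : n7818 = n5131 := ((D7818).symm.trans (sb E4232 F8601))
theorem F21755 : act 0 n7315 = n6797 := (sb E4235 F18987)
theorem F21756 : act 2 n7315 = n6795 := (sb E4235 F18989)
theorem F21757 : act 4 n7315 = n6927 := (sb E4235 F18990)
theorem F21758 : act 6 n7315 = n11155 := (sb E4235 F18991)
theorem E4567 : n8164 = n7810 := (((D7810).symm.trans (sb E4237 (iv F20370)))).symm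
theorem E4570 : n7799 = n3442 := (((iv F12909)).symm.trans (sb E4237 (iv D5130)))
theorem E4571 : n4092 = n1748 := ((((iv D2336)).symm.trans (iv (sb E4240 (tr (iv D4778) E4557))))).symm
theorem E4572 : n4778 = n1748 := (E4240).trans E4571
theorem E4573 : n2917 = n888 := ((((iv D1748)).symm.trans (sb E4572 (tr D7798 E4527)))).symm
theorem E4574 : n3442 = n1144 := (((F3902).symm.trans (sb E4572 (tr D7799 E4570)))).symm
theorem E4575 : n3288 = n2330 := ((((iv F4234)).symm.trans (sb E4572 F8068))).symm
theorem E4576 : n3265 = n2337 := (((D2337).symm.trans (sb E4572 F8069))).symm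
theorem E4577 : n4787 = n2324 := ((((iv F4224)).symm.trans (sb E4572 (iv F8081)))).symm
theorem E4578 : n6664 = n5441 := (((iv F10899)).symm.trans (sb E4241 (iv F9005)))
theorem E4582 : n7800 = n3422 := (((iv F12910)).symm.trans (sb E4242 (iv D5083)))
theorem F21760 : act 1 n4566 = n6634 := (sb E4243 (iv F10859))
theorem E4583 : n7716 = n7318 := ((((iv F12084)).symm.trans (sb E4243 D7716))).symm
theorem F21762 : act 4 n4566 = n3266 := (sb E4243 F8022)
theorem E4584 : n7799 = n1144 := (E4570).trans E4574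
theorem E4586 : n2563 = n2123 := (((F4240).symm.trans (iv (sb E4244 (tr (iv D4779) E4557))))).symm
theorem E4587 : n4779 = n2123 := (E4244).trans E4586
theorem E4588 : n3422 = n2554 := ((((iv F4613)).symm.trans (sb E4587 (tr D7800 E4582)))).symm
theorem E4589 : n3266 = n2564 := (((D2564).symm.trans (sb E4587 F8070))).symm
theorem E4590 : n7801 = n2546 := ((((iv F4607)).symm.trans (sb E4587 D7801))).symm
theorem E4591 : n4717 = n2330 := (E4526).trans E4575
theorem E4594 : n3445 = n2546 := (((E4590).symm.trans (((iv F12911)).symm.trans (sb E4246 F8599)))).symm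
theorem E4596 : n10544 = n9440 := (((iv F17934)).symm.trans (sb E4252 (iv F15669)))
theorem F21776 : act 4 n7761 = n10543 := (sb E4254 (iv F17617))
theorem F21777 : act 6 n7761 = n5983 := (sb E4254 (iv D9973))
theorem F21778 : act 0 n4229 = n3149 := (sb E4255 F7674)
theorem E4599 : n6663 = n3157 := (((iv F10898)).symm.trans (sb E4255 F7675))
theorem F21779 : act 6 n4229 = n4517 := (sb E4255 F7676)
theorem F21782 : act 2 n7329 = n8006 := (sb E4260 F18330)
theorem E4602 : n7666 = n4844 := ((D7666).symm.trans (sb E4262 F13134))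
theorem F21787 : act 3 n4236 = n7669 := (sb E4263 (iv F12717))
theorem E4606 : n7669 = n3285 := ((F21787).symm.trans (sb E4267 F8056))
theorem F21794 : act 1 n4524 = n4210 := (sb E4271 (iv D6683))
theorem E4609 : n3102 = n3084 := (((F7443).symm.trans (sb E4274 (iv D4459)))).symm
theorem F21797 : act 2 n4420 = n4457 := (sb E4274 F7507)
theorem E4610 : n7149 = n3082 := ((((iv D4420)).symm.trans (sb E4274 D7149))).symm
theorem E4611 : n7078 = n4579 := ((D7078).symm.trans (sb E4274 (iv F7727)))
theorem E4612 : n7150 = n7053 := ((((iv F11599)).symm.trans (sb E4274 D7150))).symm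
theorem E4613 : n7151 = n7079 := (((D7079).symm.trans (sb E4274 D7151))).symm
theorem E4614 : n10558 = n7076 := (((D7076).symm.trans (sb E4275 F19978))).symm
theorem E4615 : n11224 = n7107 := (((iv F18854)).symm.trans (sb E4280 F21396))
theorem E4616 : n11232 = n6179 := ((D11232).symm.trans (sb E4280 (iv D10273)))
theorem F21800 : act 0 n5088 = n6504 := (sb E4283 (iv D10809))
theorem F21801 : act 4 n4201 = n3446 := (sb E4284 F7709)
theorem F21802 : act 6 n4201 = n5440 := (sb E4284 F9009)
theorem F21804 : act 4 n8921 = n6518 := (sb E4288 F18144)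
theorem E4618 : n10837 = n5063 := (((iv F18192)).symm.trans (sb E4289 F12056))
theorem E4620 : n11403 = n7450 := ((D11403).symm.trans (sb E4291 (iv F12346)))
theorem F21811 : act 5 n6867 = n4372 := (sb E4291 (iv D6989))
theorem F21812 : act 1 n3852 = n3970 := (sb E4292 (iv D6213))
theorem F21813 : act 4 n3852 = n3971 := (sb E4292 F10073)
theorem E4623 : n10306 = n5989 := (((D5989).symm.trans (sb E4292 (iv F17134)))).symm
theorem F21814 : act 2 n4325 = n4448 := (sb E4293 (iv F7488))
theorem F21815 : act 3 n4325 = n3970 := (sb E4293 F7465)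
theorem F21816 : act 4 n4325 = n3088 := (sb E4293 (iv D4432))
theorem F21817 : act 5 n4325 = n4310 := (sb E4293 F7466)
theorem F21818 : act 2 n4882 = n4150 := (sb E4294 F8617)
theorem F21821 : act 5 n4882 = n3970 := (sb E4294 F8619)
theorem F21822 : act 0 n6215 = n3985 := (sb E4295 F10113)
theorem F21823 : act 4 n6215 = n5975 := (sb E4295 F10114)
theorem E4625 : n10332 = n5027 := ((D10332).symm.trans (sb E4295 F10115))
theorem F21824 : act 2 n3432 = n4278 := (sb E4297 (iv D6821))
theorem F21825 : act 5 n3432 = n4301 := (sb E4297 F11142)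
theorem F21826 : act 5 n6876 = n6990 := (sb E4298 F14101)
theorem F21828 : act 2 n4902 = n4200 := (sb E4301 (iv F21249))
theorem F21831 : act 2 n5108 = n6823 := (sb E4303 F19104)
theorem E4627 : n9892 = n4434 := (((iv F16422)).symm.trans (sb E4304 F11698))
theorem F21832 : act 3 n5938 = n4433 := (sb E4304 (iv D7100))
theorem F21833 : act 3 n5945 = n5101 := (sb E4306 F14088)
theorem E4629 : n2127 = n2126 := ((F4619).symm.trans (sb E4308 (iv D2567)))
theorem F21834 : act 1 n5029 = n3973 := (sb E4309 F8610)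
theorem F21835 : act 1 n4369 = n3433 := (sb E4310 F8573)
theorem F21836 : act 3 n4369 = n3432 := (sb E4310 (iv D5106))
theorem E4638 : n8467 = n8403 := (((D8403).symm.trans (sb E4313 D8467))).symm
theorem E4640 : n10268 = n6197 := (((D6197).symm.trans (sb E4317 (iv F17064)))).symm
theorem F21839 : act 1 n6126 = n4451 := (sb E4319 (iv D7136))
theorem E4643 : n7054 = n4455 := ((F21549).symm.trans (sb E4319 F11753))
theorem E4645 : n6189 = n4452 := ((F21550).symm.trans (sb E4319 F11754))
theorem F21840 : act 3 n3961 = n4457 := (sb E4320 F11758)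
theorem E4648 : n11793 = n6197 := (((D6197).symm.trans (sb E4320 (iv F19929)))).symm
theorem E4649 : n11812 = n6198 := (((D6198).symm.trans (sb E4320 D11812))).symm
theorem F21842 : act 0 n4245 = n4541 := (sb E4322 F12070)
theorem E4650 : n7348 = n4581 := ((((iv F7730)).symm.trans (sb E4322 (iv F12140)))).symm
theorem F21843 : act 1 n7310 = n5974 := (sb E4323 F12225)
theorem E4651 : n11664 = n7310 := ((D11664).symm.trans (iv (sb E4323 (tr F12227 E4612))))
theorem F21844 : act 5 n7310 = n4579 := (sb E4323 (iv D7391))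
theorem F21845 : act 6 n7310 = n7398 := (sb E4323 (iv F12243))
theorem E4652 : n11235 = n4542 := (((D4542).symm.trans (sb E4324 (iv F18872)))).symm
theorem F21846 : act 4 n5913 = n4541 := (sb E4325 (iv D7311))
theorem F21847 : act 5 n4243 = n4541 := (sb E4326 F11961)
theorem F21848 : act 6 n6757 = n4541 := (sb E4327 (iv D7312))
theorem E4653 : n10873 = n5069 := ((((iv F8530)).symm.trans (sb E4329 D10873))).symm
theorem F21850 : act 3 n6537 = n7102 := (sb E4331 F19822)
theorem F21852 : act 6 n3933 = n4325 := (sb E4335 F10140)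
theorem F21853 : act 3 n6532 = n6630 := (sb E4337 F18505)
theorem E4654 : n6199 = n6184 := ((D6199).symm.trans (sb E4338 (iv F10039)))
theorem F21854 : act 1 n5429 = n4310 := (sb E4339 F11259)
theorem F21856 : act 0 n3825 = n4447 := (sb E4340 (iv D7127))
theorem E4657 : n11787 = n5930 := ((((iv F9665)).symm.trans (sb E4340 D11787))).symm
theorem E4658 : n7104 = n5934 := (((D5934).symm.trans (sb E4340 F11740))).symm
theorem F21857 : act 4 n3825 = n4449 := (sb E4340 F11741)
theorem F21859 : act 4 n6187 = n4450 := (sb E4341 F11742)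
theorem F21861 : act 5 n6178 = n4447 := (sb E4343 (iv D7129))
theorem F21862 : act 1 n6180 = n4448 := (sb E4344 (iv D7130))
theorem F21863 : act 3 n6180 = n6753 := (sb E4344 F11745)
theorem E4663 : n11795 = n10275 := (((D10275).symm.trans (sb E4344 D11795))).symm
theorem F21865 : act 0 n9894 = n7114 := (sb E4345 F19838)
theorem F21866 : act 4 n9894 = n7106 := (sb E4345 F19840)
theorem F21867 : act 5 n9894 = n11763 := (sb E4345 (iv F19878))
theorem F21868 : act 3 n9897 = n11763 := (sb E4346 F19925)
theorem F21869 : act 4 n9897 = n7137 := (sb E4346 F19926)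
theorem E4664 : n11742 = n4437 := ((((iv F21666)).symm.trans (sb E4347 F19916))).symm
theorem F21872 : act 6 n8398 = n6867 := (sb E4349 (iv D11405))
theorem F21873 : act 5 n3963 = n6128 := (sb E4350 (iv D10196))
theorem E4667 : n11799 = n4896 := ((D11799).symm.trans (sb E4353 (iv D8021)))
theorem F21879 : act 2 n6129 = n4451 := (sb E4355 F11752)
theorem F21880 : act 5 n6129 = n4450 := (sb E4355 (iv D7135))
theorem F21881 : act 5 n7140 = n6700 := (sb E4357 (iv D11162))
theorem F21884 : act 3 n4454 = n6748 := (sb E4360 (iv D11221))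
theorem F21885 : act 1 n11588 = n7116 := (sb E4361 (iv D11766))
theorem F21888 : act 3 n4899 = n6581 := (sb E4365 (iv F21254))
theorem E4677 : n4206 = n2047 := (((F4487).symm.trans (sb E4377 D4206))).symm
theorem E4678 : n4169 = n3290 := (((D3290).symm.trans (sb E4377 (iv F7125)))).symm
theorem E4681 : n3283 = n1011 := ((((iv F1590)).symm.trans (sb E4382 D3283))).symm
theorem E4683 : n2186 = n289 := (((F844).symm.trans (sb E4382 F4481))).symm
theorem E4684 : n3285 = n1040 := (((D1040).symm.trans (sb E4382 D3285))).symm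
theorem E4685 : n3286 = n252 := ((((iv D505)).symm.trans (sb E4382 D3286))).symm
theorem E4688 : n3238 = n1036 := ((((iv F1641)).symm.trans (sb E4387 (iv D4720)))).symm
theorem E4690 : n7669 = n1040 := (E4606).trans E4684
theorem E4699 : n8694 = n1181 := ((((iv F1931)).symm.trans (sb E4548 F16490))).symm
theorem E4701 : n4044 = n2023 := ((((iv F3286)).symm.trans (sb E4396 (iv F10167)))).symm
theorem E4702 : n3873 = n518 := (((F1635).symm.trans (sb E4396 (iv F10176)))).symm
theorem E4703 : n4635 = n2027 := ((((iv F3292)).symm.trans (sb E4396 F21510))).symm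
theorem E4704 : n3872 = n2031 := (((D2031).symm.trans (sb E4396 F10161))).symm
theorem E4705 : n4050 = n502 := ((((iv D1032)).symm.trans (sb E4396 F10162))).symm
theorem F21898 : act 0 n2445 = n2445 := (sb E4397 (iv D3207))
theorem F21899 : act 2 n2445 = n2445 := (sb E4397 (iv F21176))
theorem E4706 : n4642 = n3201 := ((((iv F5593)).symm.trans (sb E4397 (iv F7844)))).symm
theorem E4707 : n3592 = n1181 := ((((iv F1931)).symm.trans (sb E4398 D3592))).symm
theorem E4708 : n3593 = n311 := (((F947).symm.trans (sb E4398 D3593))).symm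
theorem E4709 : n3569 = n1185 := ((((iv F1935)).symm.trans (sb E4398 (iv F6206)))).symm
theorem E4710 : n3594 = n1189 := (((D1189).symm.trans (sb E4398 D3594))).symm
theorem E4711 : n3595 = n286 := ((((iv D581)).symm.trans (sb E4398 D3595))).symm
theorem E4713 : n4839 = n4619 := ((((iv F21169)).symm.trans (sb E4400 D4839))).symm
theorem E4715 : n4781 = n4617 := (((F20845).symm.trans (sb E4400 (iv F8072)))).symm
theorem E4718 : n4838 = n4681 := (((D4681).symm.trans (sb E4400 (iv F8171)))).symm
theorem F21904 : act 6 n2163 = n1201 := (sb E4402 (iv D2189))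
theorem F21905 : act 0 n2040 = n2040 := (sb E4406 (iv D2470))
theorem F21906 : act 2 n2040 = n2040 := (sb E4406 (iv F21507))
theorem E4725 : n3244 = n2464 := ((((iv F4456)).symm.trans (sb E4406 (iv F5704)))).symm
theorem F21907 : act 0 n587 = n587 := (sb E4407 (iv D1200))
theorem E4726 : n2173 = n1194 := ((((iv F1949)).symm.trans (sb E4407 (iv F3988)))).symm
theorem F21910 : act 2 n4311 = n5931 := (sb E4412 (iv D9884))
theorem F21911 : act 4 n6895 = n5931 := (sb E4413 (iv D9885))
theorem F21912 : act 1 n9805 = n6758 := (sb E4414 F16742)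
theorem F21913 : act 2 n9805 = n6061 := (sb E4414 (iv D10091))
theorem F21914 : act 4 n9805 = n7048 := (sb E4414 F16743)
theorem F21915 : act 0 n3955 = n3962 := (sb E4415 F10047)
theorem E4730 : n10290 = n6180 := ((((iv F10034)).symm.trans (sb E4415 (iv F17105)))).symm
theorem E4731 : n10292 = n6182 := (((D6182).symm.trans (sb E4415 D10292))).symm
theorem F21917 : act 1 n4215 = n3944 := (sb E4419 F9919)
theorem F21918 : act 3 n4215 = n3920 := (sb E4419 (iv D6110))
theorem E4732 : n10160 = n4415 := ((((iv F10026)).symm.trans (sb E4419 D10160))).symm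
theorem F21919 : act 5 n4215 = n3930 := (sb E4419 F9920)
theorem F21922 : act 2 n5264 = n6312 := (sb E4423 (iv D10490))
theorem E4736 : n11382 = n7422 := ((((iv F12297)).symm.trans (sb E4423 (iv F19217)))).symm
theorem F21926 : act 2 n4218 = n3944 := (sb E4425 (iv D6158))
theorem E4738 : n10241 = n6175 := (((F10021).symm.trans (sb E4425 D10241))).symm
theorem F21927 : act 5 n4218 = n3961 := (sb E4425 F9999)
theorem F21928 : act 4 n3953 = n3944 := (sb E4426 (iv D6159))
theorem F21929 : act 5 n3953 = n3962 := (sb E4426 F10000)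
theorem E4742 : n6794 = n1742 := ((((iv D2324)).symm.trans (iv (sb E4432 (tr (iv D7819) E4577))))).symm
theorem E4743 : n7819 = n1742 := (E4432).trans E4742
theorem E4744 : n4855 = n2321 := ((((iv F4219)).symm.trans (sb E4743 F12931))).symm
theorem E4745 : n7315 = n2325 := (((D2325).symm.trans (sb E4743 F12932))).symm
theorem E4746 : n11457 = n5520 := (((iv F19367)).symm.trans (sb E4433 (iv D9145)))
theorem E4747 : n11461 = n8305 := ((D11461).symm.trans (sb E4433 F15253))
theorem E4749 : n11389 = n11386 := (((D11386).symm.trans (sb E4441 (iv F19231)))).symm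
theorem F21937 : act 0 n6134 = n4417 := (sb E4444 F11622)
theorem F21938 : act 2 n6134 = n6529 := (sb E4444 F11623)
theorem F21940 : act 2 n6135 = n6695 := (sb E4445 F16245)
theorem F21941 : act 5 n6135 = n6332 := (sb E4445 F16247)
theorem E4752 : n5121 = n3752 := ((D5121).symm.trans (sb E4448 (iv F6407)))
theorem E4754 : n5120 = n4573 := (((iv F8587)).symm.trans (sb E4448 (iv F7717)))
theorem F21943 : act 0 n9803 = n7048 := (sb E4450 F16745)
theorem F21944 : act 1 n9803 = n6906 := (sb E4450 F16746)
theorem F21945 : act 3 n9803 = n6895 := (sb E4450 F16747)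
theorem F21946 : act 5 n9803 = n6144 := (sb E4450 F16748)
theorem E4756 : n2570 = n2423 := ((((iv D3159)).symm.trans (sb E4455 F6036))).symm
theorem E4757 : n4571 = n4559 := ((D4571).symm.trans (sb E4455 (iv F7695)))
theorem F21949 : act 4 n3159 = n2560 := (sb E4455 (iv D3437))
theorem F21953 : act 4 n7374 = n5028 := (sb E4460 (iv D8254))
theorem E4762 : n11561 = n11551 := (((D11551).symm.trans (sb E4467 D11561))).symm
theorem E4763 : n11550 = n4375 := (((iv F19501)).symm.trans (sb E4467 F11492))
theorem F21955 : act 3 n6984 = n5108 := (sb E4468 F14099)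
theorem F21956 : act 3 n3059 = n4372 := (sb E4469 (iv D6988))
theorem E4765 : n7378 = n6337 := (((iv F12200)).symm.trans (sb E4470 (iv D10529)))
theorem E4768 : n8936 = n5924 := ((((iv F20993)).symm.trans (sb E4471 F16365))).symm
theorem F21959 : act 3 n4557 = n6718 := (sb E4474 F18614)
theorem F21960 : act 6 n4557 = n6662 := (sb E4474 (iv D11091))
theorem E4773 : n11083 = n8390 := ((D11083).symm.trans (sb E4476 F15052))
theorem F21967 : act 1 n6216 = n5024 := (sb E4478 (iv F10093))
theorem F21968 : act 0 n6200 = n3986 := (sb E4479 F10117)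
theorem E4776 : n10364 = n7050 := ((D10364).symm.trans (sb E4480 F17579))
theorem F21969 : act 3 n6226 = n6203 := (sb E4481 F17141)
theorem F21970 : act 5 n6226 = n6200 := (sb E4481 (iv D10310))
theorem E4780 : n3718 = n2697 := (((F5770).symm.trans (sb E4490 F8159))).symm
theorem E4781 : n4835 = n2974 := (((iv F8163)).symm.trans (sb E4488 F7164))
theorem E4783 : n5089 = n4836 := (((D4836).symm.trans (sb E4488 (iv F8555)))).symm
theorem E4786 : n2967 = n2696 := (((D2696).symm.trans (sb E4489 F21277))).symm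
theorem E4787 : n3653 = n2668 := ((((iv F4758)).symm.trans (sb E4489 (iv F6309)))).symm
theorem E4789 : n3719 = n2698 := (((D2698).symm.trans (sb E4489 D3719))).symm
theorem E4790 : n10829 = n4123 := ((((iv F7040)).symm.trans (sb E4491 F18245))).symm
theorem F21981 : act 3 n4136 = n4187 := (sb E4492 (iv D6629))
theorem E4793 : n11099 = n4566 := ((((iv F21760)).symm.trans (sb E4494 D11099))).symm
theorem E4794 : n11029 = n4230 := ((D11029).symm.trans (sb E4494 F10901))
theorem F21984 : act 5 n6634 = n4201 := (sb E4494 (iv D6665))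
theorem E4796 : n2569 = n1145 := ((((iv D2125)).symm.trans (sb E4496 (iv D3455)))).symm
theorem F21986 : act 1 n6795 = n6191 := (sb E4504 (iv D10293))
theorem F21987 : act 3 n6795 = n6192 := (sb E4504 F17113)
theorem F21988 : act 0 n10204 = n6237 := (sb E4505 F17221)
theorem F21989 : act 3 n10204 = n6245 := (sb E4505 F17222)
theorem E4801 : n7980 = n6678 := (((iv F13275)).symm.trans (sb E4511 F18547))
theorem F21998 : act 3 n6694 = n6111 := (sb E4513 F16867)
theorem E4802 : n11737 = n6179 := ((D11737).symm.trans (sb E4514 F17074))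
theorem F22000 : act 3 n7103 = n6178 := (sb E4514 (iv D10270))
theorem F22001 : act 0 n5934 = n11740 := (sb E4519 (iv F19832))
theorem E4809 : n7306 = n4439 := (((iv F21753)).symm.trans (sb E4519 F11714))
theorem F22002 : act 5 n5934 = n4437 := (sb E4519 (iv D7111))
theorem E4811 : n11760 = n9894 := (((D9894).symm.trans (sb E4519 D11760))).symm
theorem E4812 : n11763 = n11741 := ((((iv F19834)).symm.trans (sb E4520 F19879))).symm
theorem F22003 : act 3 n7112 = n9895 := (sb E4520 (iv F21469))
theorem E4813 : n11758 = n7116 := (((iv F19868)).symm.trans (sb E4520 F19881))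
theorem E4814 : n11762 = n7114 := ((D11762).symm.trans (sb E4520 (iv D11764)))
theorem F22012 : act 3 n5511 = n6403 := (sb E4525 F17801)
theorem E4815 : n3237 = n1745 := ((((iv D2330)).symm.trans (sb E4591 (iv D4717)))).symm
theorem F22013 : act 2 n3446 = n4203 := (sb E4529 F10904)
theorem F22014 : act 5 n3446 = n4202 := (sb E4529 (iv D6667))
theorem F22015 : act 3 n7283 = n6714 := (sb E4530 F18606)
theorem F22016 : act 0 n4512 = n4244 := (sb E4531 F10985)
theorem F22017 : act 3 n4512 = n4243 := (sb E4531 (iv D6749))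
theorem E4819 : n11226 = n7248 := (((D7248).symm.trans (sb E4531 D11226))).symm
theorem F22018 : act 3 n4539 = n4245 := (sb E4532 F10993)
theorem F22019 : act 5 n4539 = n4244 := (sb E4532 (iv D6754))
theorem E4820 : n11234 = n7308 := (((D7308).symm.trans (sb E4532 D11234))).symm
theorem F22020 : act 2 n6755 = n4543 := (sb E4533 F12079)
theorem E4821 : n11193 = n4544 := (((D4544).symm.trans (sb E4540 D11193))).symm
theorem F22025 : act 5 n3147 = n4229 := (sb E4540 (iv D6721))
theorem E4825 : n5285 = n2145 := ((((iv F3952)).symm.trans (iv (sb E4544 (tr (iv D5402) E4709))))).symm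
theorem E4826 : n5402 = n2145 := (E4544).trans E4825
theorem E4827 : n8721 = n2604 := (((D2604).symm.trans (sb E4826 (iv F14599)))).symm
theorem E4828 : n8932 = n2155 := ((((iv F3964)).symm.trans (sb E4826 D8932))).symm
theorem E4829 : n3901 = n1179 := ((((iv D2145)).symm.trans (sb E4826 F10166))).symm
theorem E4830 : n10101 = n5922 := (((iv F16766)).symm.trans (sb E4545 (iv D9869)))
theorem E4831 : n8682 = n1179 := (((E4829).symm.trans (((iv D6077)).symm.trans (sb E4545 F16369)))).symm
theorem E4833 : n3839 = n2151 := ((((iv F3958)).symm.trans (iv (sb E4547 (tr (iv D5403) E4709))))).symm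
theorem E4834 : n5403 = n2151 := (E4547).trans E4833
theorem E4835 : n8935 = n2620 := (((D2620).symm.trans (sb E4834 D8935))).symm
theorem E4836 : n5924 = n1182 := ((((iv D2151)).symm.trans (sb E4834 (tr D8936 E4768)))).symm
theorem E4837 : n8695 = n2155 := (((E4828).symm.trans (((iv F14914)).symm.trans (sb E4549 F16493)))).symm
theorem E4838 : n5966 = n2620 := (((E4835).symm.trans (((iv F14922)).symm.trans (sb E4549 F16494)))).symm
theorem F22042 : act 4 n5406 = n5327 := (sb E4554 (iv D8768))
theorem F22044 : act 0 n2156 = n2156 := (sb E4556 (iv D2629))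
theorem E4843 : n3570 = n2630 := (((D2630).symm.trans (sb E4556 D3570))).symm
theorem E4844 : n3557 = n2623 := ((((iv F4704)).symm.trans (sb E4556 (iv F6190)))).symm
theorem F22045 : act 1 n2336 = n2472 := (sb E4557 (iv D3263))
theorem E4845 : n4565 = n2944 := ((((iv F5184)).symm.trans (sb E4557 F21372))).symm
theorem E4846 : n2987 = n2473 := ((D2987).symm.trans (sb E4557 F5731))
theorem E4848 : n6925 = n2932 := ((((iv F5156)).symm.trans (iv (sb E4558 (tr F12811 E4577))))).symm
theorem E4849 : n7718 = n2932 := (E4558).trans E4848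
theorem E4850 : n4742 = n4121 := (((D4121).symm.trans (sb E4849 (iv D7718)))).symm
theorem F22050 : act 0 n7817 = n5115 := (sb E4560 F14123)
theorem E4851 : n7367 = n3140 := (((F7037).symm.trans (iv (sb E4562 (tr F12807 E4850))))).symm
theorem E4852 : n7717 = n3140 := (E4562).trans E4851
theorem E4853 : n4786 = n2547 := (((F5487).symm.trans (sb E4852 F12808))).symm
theorem E4854 : n5131 = n2114 := (((F4223).symm.trans (iv (sb E4563 (tr F12929 E4577))))).symm
theorem F22059 : act 0 n7810 = n5308 := (sb E4567 (iv F20509))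
theorem F22060 : act 3 n7810 = n4993 := (sb E4567 F13775)
theorem F22061 : act 5 n7810 = n5709 := (sb E4567 (iv F20501))
theorem F22062 : act 6 n7810 = n4983 := (sb E4567 (iv D8164))
theorem E4856 : n4783 = n2124 := (((D2124).symm.trans (sb E4584 F12909))).symm
theorem E4857 : n6403 = n2313 := ((((iv F4205)).symm.trans (sb E4571 (iv F10523)))).symm
theorem E4858 : n2301 = n1694 := ((((iv F2767)).symm.trans (sb E4573 (iv D2917)))).symm
theorem E4861 : n4094 = n1749 := (((D1749).symm.trans (sb E4573 D4094))).symm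
theorem E4866 : n2975 = n2485 := ((D2975).symm.trans (sb E4575 F5768))
theorem E4868 : n4782 = n2988 := (((D2988).symm.trans (sb E4576 D4782))).symm
theorem E4869 : n4740 = n2945 := ((((iv F5186)).symm.trans (sb E4576 (iv F8021)))).symm
theorem E4871 : n3267 = n2963 := (((D2963).symm.trans (sb E4577 (iv D4787)))).symm
theorem F22069 : act 0 n5441 = n4202 := (sb E4578 F10899)
theorem E4873 : n11097 = n8921 := ((((iv F14897)).symm.trans (sb E4578 D11097))).symm
theorem E4874 : n7800 = n2554 := (E4582).trans E4588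
theorem E4875 : n4785 = n3424 := (((D3424).symm.trans (sb E4874 F12910))).symm
theorem E4876 : n7318 = n6723 := (((D6723).symm.trans (iv (sb E4583 (tr (iv F18523) E4794))))).symm
theorem F22073 : act 1 n2123 = n2123 := (sb E4586 (iv D2563))
theorem E4877 : n3156 = n2421 := ((((iv F4385)).symm.trans (sb E4586 (iv F5511)))).symm
theorem F22074 : act 1 n2554 = n2554 := (sb E4588 (iv D3422))
theorem E4879 : n5061 = n3413 := ((((iv F6007)).symm.trans (sb E4588 (iv F8516)))).symm
theorem E4880 : n5084 = n3393 := ((((iv F5991)).symm.trans (sb E4588 D5084))).symm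
theorem E4881 : n4202 = n3446 := (((D3446).symm.trans (sb E4589 (iv F7160)))).symm
theorem E4882 : n4566 = n3157 := ((((iv F5513)).symm.trans (sb E4589 (iv F21762)))).symm
theorem E4883 : n5045 = n3405 := (((D3405).symm.trans (sb E4594 (iv F8493)))).symm
theorem E4884 : n4567 = n3139 := ((((iv F5485)).symm.trans (sb E4594 (iv F7708)))).symm
theorem E4885 : n5137 = n2565 := ((((iv F4626)).symm.trans (sb E4594 D5137))).symm
theorem F22079 : act 0 n9440 = n6737 := (sb E4596 F17934)
theorem F22081 : act 2 n9440 = n7690 := (sb E4596 (iv F21102))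
theorem F22083 : act 6 n9440 = n6347 := (sb E4596 F17619)
theorem F22090 : act 1 n3157 = n4201 := (sb E4599 (iv D6663))
theorem F22091 : act 3 n3157 = n4229 := (sb E4599 F10898)
theorem F22094 : act 1 n4844 = n4719 := (sb E4602 (iv D7666))
theorem E4888 : n4236 = n2041 := ((((iv F3323)).symm.trans (sb E4690 (iv F21787)))).symm
theorem E4889 : n2395 = n2394 := ((F5377).symm.trans (sb E4609 (iv D3102)))
theorem F22099 : act 2 n3084 = n3101 := (sb E4609 F5407)
theorem E4890 : n4460 = n2384 := ((((iv D3084)).symm.trans (sb E4609 D4460))).symm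
theorem E4891 : n4424 = n3164 := ((D4424).symm.trans (sb E4609 (iv F5526)))
theorem E4892 : n4461 = n4409 := ((((iv F7431)).symm.trans (sb E4609 D4461))).symm
theorem E4893 : n4462 = n4425 := (((D4425).symm.trans (sb E4609 D4462))).symm
theorem E4896 : n11827 = n4408 := ((((iv F7429)).symm.trans (sb E4610 D11827))).symm
theorem E4898 : n10525 = n7390 := (((D7390).symm.trans (sb E4611 (iv F17574)))).symm
theorem F22100 : act 4 n4579 = n4420 := (sb E4611 (iv D7078))
theorem E4899 : n11697 = n7392 := (((D7392).symm.trans (sb E4611 D11697))).symm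
theorem E4900 : n11661 = n5912 := (((iv F19677)).symm.trans (sb E4612 (iv F11776)))
theorem F22101 : act 2 n7053 = n5913 := (sb E4612 F11775)
theorem F22102 : act 2 n7079 = n7146 := (sb E4613 F11779)
theorem E4904 : n11662 = n6355 := (((iv F19678)).symm.trans (sb E4614 F17658))
theorem F22103 : act 3 n7076 = n6354 := (sb E4614 (iv D10558))
theorem E4905 : n11744 = n6197 := (((iv F19841)).symm.trans (sb E4615 (tr (iv F19928) E4648)))
theorem F22105 : act 5 n6179 = n6753 := (sb E4616 (iv D11232))
theorem F22107 : act 1 n5063 = n6516 := (sb E4618 (iv D10837))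
theorem F22111 : act 3 n7450 = n6995 := (sb E4620 F21568)
theorem F22113 : act 4 n5989 = n6200 := (sb E4623 F17133)
theorem F22116 : act 5 n5027 = n6215 := (sb E4625 (iv D10332))
theorem F22120 : act 1 n4434 = n5938 := (sb E4627 F16422)
theorem E4906 : n2568 = n1146 := (((F3929).symm.trans (sb E4629 (iv F4631)))).symm
theorem F22121 : act 1 n2126 = n2560 := (sb E4629 (iv F4619))
theorem E4907 : n2571 = n2195 := ((((iv F4015)).symm.trans (sb E4629 D2571))).symm
theorem F22126 : act 2 n8403 = n6591 := (sb E4638 F21086)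
theorem E4914 : n10303 = n10277 := ((D10303).symm.trans (sb E4640 (iv F17082)))
theorem F22130 : act 3 n4455 = n6126 := (sb E4643 (iv F21549))
theorem F22133 : act 5 n4452 = n6126 := (sb E4645 (iv F21550))
theorem E4917 : n10291 = n7140 := (((D7140).symm.trans (sb E4645 D10291))).symm
theorem F22134 : act 3 n6198 = n7146 := (sb E4649 F19954)
theorem F22135 : act 0 n4581 = n7310 := (sb E4650 F12139)
theorem E4918 : n7395 = n4558 := (((iv F12235)).symm.trans (sb E4650 (iv D7348)))
theorem E4919 : n7055 = n4581 := ((((iv F22135)).symm.trans (sb E4651 F19679))).symm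
theorem F22137 : act 3 n4542 = n6757 := (sb E4652 F18871)
theorem E4921 : n10826 = n8323 := ((((iv F20961)).symm.trans (sb E4653 F18267))).symm
theorem F22139 : act 4 n6184 = n3963 := (sb E4654 F10056)
theorem F22140 : act 6 n6184 = n3962 := (sb E4654 (iv D6199))
theorem F22141 : act 4 n5930 = n7132 := (sb E4657 F19914)
theorem E4922 : n11740 = n4438 := ((F22001).symm.trans (sb E4658 F11705))
theorem E4923 : n11739 = n4439 := (((E4809).symm.trans (((iv F21753)).symm.trans (sb E4658 (iv F19831))))).symm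
theorem F22142 : act 4 n5934 = n4434 := (sb E4658 (iv D7104))
theorem F22144 : act 3 n10275 = n11233 := (sb E4663 F19933)
theorem F22145 : act 4 n10275 = n7140 := (sb E4663 F19934)
theorem E4924 : n7110 = n7105 := ((D7110).symm.trans (sb E4664 F19837))
theorem F22146 : act 1 n4896 = n7132 := (sb E4667 (iv D11799))
theorem E4925 : n4171 = n2487 := (((D2487).symm.trans (sb E4677 F7167))).symm
theorem E4926 : n4210 = n3294 := ((((iv F5779)).symm.trans (sb E4678 (iv F7173)))).symm
theorem E4929 : n4822 = n493 := (((F1591).symm.trans (sb E4681 D4822))).symm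
theorem E4930 : n4823 = n1038 := ((((iv F1645)).symm.trans (sb E4681 D4823))).symm
theorem E4931 : n4824 = n491 := ((((iv D1011)).symm.trans (sb E4681 D4824))).symm
theorem E4936 : n2663 = n584 := ((((iv F949)).symm.trans (sb E4683 (iv F4752)))).symm
theorem E4937 : n2693 = n588 := (((D588).symm.trans (sb E4683 D2693))).symm
theorem E4938 : n2694 = n150 := ((((iv D289)).symm.trans (sb E4683 D2694))).symm
theorem E4939 : n4829 = n1010 := (((F1651).symm.trans (sb E4684 D4829))).symm
theorem E4940 : n4830 = n504 := (((D504).symm.trans (sb E4685 D4830))).symm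
theorem E4944 : n2461 = n2035 := ((((iv F3312)).symm.trans (sb E4688 (iv D3238)))).symm
theorem E4948 : n5302 = n2147 := (((D2147).symm.trans (sb E4699 F14554))).symm
theorem E4949 : n6349 = n2436 := (((D2436).symm.trans (sb E4701 (iv F10427)))).symm
theorem E4950 : n2885 = n1062 := (((F3287).symm.trans (sb E4701 (iv D4044)))).symm
theorem E4951 : n6353 = n2434 := ((((iv F4405)).symm.trans (sb E4701 D6353))).symm
theorem E4952 : n6025 = n2029 := ((((iv F3297)).symm.trans (sb E4701 (iv F9785)))).symm
theorem E4953 : n2891 = n1029 := ((((iv D2023)).symm.trans (sb E4701 F6900))).symm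
theorem E4954 : n2783 = n1064 := (((D1064).symm.trans (sb E4702 (iv D3873)))).symm
theorem E4955 : n2890 = n259 := ((((iv D518)).symm.trans (sb E4702 F6610))).symm
theorem E4956 : n3197 = n2440 := ((((iv F4411)).symm.trans (sb E4703 (iv D4635)))).symm
theorem E4957 : n5963 = n2442 := ((((iv F4415)).symm.trans (sb E4703 (iv F13705)))).symm
theorem E4958 : n6027 = n2446 := (((D2446).symm.trans (sb E4703 (iv F21511)))).symm
theorem E4959 : n6362 = n1030 := ((((iv D2027)).symm.trans (sb E4703 (iv F21514)))).symm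
theorem E4960 : n4052 = n2022 := (((F3304).symm.trans (sb E4704 F6921))).symm
theorem E4961 : n4891 = n1031 := (((D1031).symm.trans (sb E4705 (iv F8277)))).symm
theorem F22154 : act 0 n3201 = n3201 := (sb E4706 (iv D4642))
theorem F22155 : act 2 n3201 = n3201 := (sb E4706 (iv F21058))
theorem E4962 : n5319 = n2147 := (((D2147).symm.trans (sb E4707 (iv F8860)))).symm
theorem E4963 : n2796 = n631 := (((F1932).symm.trans (sb E4707 (iv F10165)))).symm
theorem E4964 : n5452 = n1187 := ((((iv F1938)).symm.trans (sb E4707 D5452))).symm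
theorem E4965 : n2803 = n578 := ((((iv D1181)).symm.trans (sb E4707 F10156))).symm
theorem E4966 : n3344 = n634 := (((D634).symm.trans (sb E4708 F10159))).symm
theorem E4972 : n3902 = n1180 := (((F1943).symm.trans (sb E4710 F10150))).symm
theorem E4973 : n3816 = n580 := (((D580).symm.trans (sb E4711 F10143))).symm
theorem E4974 : n3538 = n3335 := (((F7804).symm.trans (sb E4713 F20737))).symm
theorem E4976 : n4041 = n3189 := ((((iv D4619)).symm.trans (sb E4713 (iv F21017)))).symm
theorem E4985 : n5320 = n3532 := (((F7800).symm.trans (sb E4715 F21323))).symm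
theorem E4986 : n7805 = n3210 := (((F20583).symm.trans (sb E4715 D7805))).symm
theorem E4991 : n7923 = n4684 := ((((iv F7911)).symm.trans (sb E4718 D7923))).symm
theorem F22162 : act 0 n2464 = n2464 := (sb E4725 (iv D3244))
theorem F22163 : act 2 n2464 = n2464 := (sb E4725 (iv F21354))
theorem E4995 : n2649 = n2167 := (((F4455).symm.trans (sb E4725 F5703))).symm
theorem F22164 : act 0 n1194 = n1194 := (sb E4726 (iv D2173))
theorem F22165 : act 0 n6180 = n6197 := (sb E4730 F17104)
theorem F22166 : act 4 n6182 = n6191 := (sb E4731 F17111)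
theorem F22167 : act 5 n4415 = n6134 := (sb E4732 F16866)
theorem F22176 : act 2 n7422 = n6853 := (sb E4736 (iv D11382))
theorem F22177 : act 5 n6175 = n6197 := (sb E4738 F17025)
theorem E4997 : n4264 = n2318 := ((((iv F4215)).symm.trans (sb E4742 F11082))).symm
theorem E4998 : n4263 = n937 := (((F2844).symm.trans (sb E4742 (iv D6794)))).symm
theorem E5001 : n6796 = n2855 := ((((iv F4994)).symm.trans (sb E4744 F21552))).symm
theorem E5003 : n3741 = n2953 := ((((iv F5191)).symm.trans (sb E4744 F8199))).symm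
theorem E5004 : n4563 = n2957 := (((D2957).symm.trans (sb E4744 F8200))).symm
theorem E5006 : n6797 = n2323 := (((F4225).symm.trans (sb E4745 F21755))).symm
theorem E5007 : n4543 = n2964 := (((D2964).symm.trans (sb E4745 (iv D7315)))).symm
theorem E5008 : n6795 = n1857 := (((F4226).symm.trans (sb E4745 F21756))).symm
theorem E5009 : n6927 = n2933 := ((((iv F5160)).symm.trans (sb E4745 F21757))).symm
theorem E5010 : n11155 = n2317 := (((F4227).symm.trans (sb E4745 F21758))).symm
theorem E5011 : n5520 = n4114 := ((((iv F7022)).symm.trans (iv (sb E4746 (tr (iv D11457) E4848))))).symm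
theorem E5012 : n8305 = n4115 := ((((iv F7025)).symm.trans (iv (sb E4747 (tr F19376 E5009))))).symm
theorem E5013 : n11461 = n4115 := (E4747).trans E5012
theorem E5014 : n6926 = n2929 := ((((iv D4115)).symm.trans (sb E5013 (iv D11461)))).symm
theorem E5015 : n11451 = n3605 := (((F20316).symm.trans (sb E5013 F19377))).symm
theorem F22187 : act 4 n11386 = n6858 := (sb E4749 (iv D11389))
theorem E5016 : n8425 = n5797 := ((((iv F9475)).symm.trans (sb E4752 D8425))).symm
theorem F22190 : act 1 n3752 = n3438 := (sb E4752 (iv D5121))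
theorem E5018 : n5795 = n3439 := (((iv F9474)).symm.trans (sb E4752 F8588))
theorem E5024 : n7379 = n7351 := (((iv F12201)).symm.trans (sb E4754 (iv F12143)))
theorem F22191 : act 4 n4573 = n3438 := (sb E4754 F8587)
theorem E5030 : n3454 = n2000 := (((F4387).symm.trans (sb E4756 (iv F6050)))).symm
theorem E5031 : n3161 = n3160 := (((D3160).symm.trans (sb E4756 (iv F5521)))).symm
theorem E5032 : n3105 = n2426 := ((((iv F4393)).symm.trans (sb E4756 (iv F5413)))).symm
theorem E5034 : n7376 = n7349 := ((((iv F12141)).symm.trans (sb E4757 D7376))).symm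
theorem F22192 : act 3 n4559 = n3159 := (sb E4757 (iv D4571))
theorem E5036 : n7265 = n6337 := (((iv F11989)).symm.trans (sb E4757 (tr D7378 E4765)))
theorem F22196 : act 3 n11551 = n6997 := (sb E4762 F19513)
theorem F22197 : act 3 n4375 = n6990 := (sb E4763 F19501)
theorem F22198 : act 3 n6337 = n4572 := (sb E4765 F12200)
theorem F22206 : act 5 n8390 = n6657 := (sb E4773 (iv D11083))
theorem E5039 : n11657 = n6357 := ((D11657).symm.trans (sb E4776 F17236))
theorem E5041 : n4191 = n3721 := ((((iv F6376)).symm.trans (sb E4780 F21646))).symm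
theorem E5047 : n4208 = n3293 := ((D4208).symm.trans (sb E4781 F8165))
theorem E5053 : n7917 = n3425 := ((D7917).symm.trans (sb E4783 (iv D5089)))
theorem E5061 : n3720 = n2327 := ((D3720).symm.trans (sb E4786 (iv D2967)))
theorem E5063 : n4192 = n2190 := (((F4786).symm.trans (sb E4786 D4192))).symm
theorem E5065 : n5585 = n3659 := (((D3659).symm.trans (sb E4787 D5585))).symm
theorem E5070 : n5036 = n2702 := ((((iv F4791)).symm.trans (sb E4789 (iv F8489)))).symm
theorem E5071 : n6512 = n6502 := (((D6502).symm.trans (sb E4790 (iv D10829)))).symm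
theorem E5072 : n11099 = n3157 := (E4793).trans E4882
theorem E5073 : n6723 = n4229 := (((F22091).symm.trans (sb E5072 F18623))).symm
theorem E5078 : n2576 = n558 := ((((iv D1145)).symm.trans (sb E4796 (iv F4638)))).symm
theorem E5079 : n2573 = n560 := (((F1862).symm.trans (sb E4796 (iv F4634)))).symm
theorem E5090 : n11126 = n4868 := ((D11126).symm.trans (sb E4801 F13273))
theorem F22219 : act 1 n6179 = n7103 := (sb E4802 (iv D11737))
theorem F22221 : act 1 n4439 = n4539 := (sb E4809 (iv D7306))
theorem F22222 : act 2 n4439 = n5934 := (sb E4809 F21753)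
theorem F22223 : act 2 n9894 = n7115 := (sb E4811 F19870)
theorem F22224 : act 3 n11741 = n9897 := (sb E4812 (iv F21868))
theorem F22225 : act 4 n11741 = n7115 := (sb E4812 F19877)
theorem F22226 : act 5 n11741 = n9894 := (sb E4812 (iv F21867))
theorem F22227 : act 4 n7116 = n7112 := (sb E4813 F19868)
theorem F22228 : act 2 n7114 = n7116 := (sb E4814 F19875)
theorem F22229 : act 5 n7114 = n7112 := (sb E4814 (iv D11762))
theorem E5100 : n4719 = n2331 := (((D2331).symm.trans (sb E4815 D4719))).symm
theorem F22232 : act 3 n7248 = n6751 := (sb E4819 F18859)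
theorem F22233 : act 3 n7308 = n6756 := (sb E4820 F18868)
theorem E5102 : n7318 = n4229 := (E4876).trans E5073
theorem E5103 : n10897 = n7319 := (((D7319).symm.trans (sb E4821 F18786))).symm
theorem E5108 : n3523 = n2604 := (((D2604).symm.trans (sb E4825 F8818))).symm
theorem E5109 : n3516 = n2600 := ((((iv F4673)).symm.trans (sb E4825 (iv D5285)))).symm
theorem E5111 : n5299 = n3522 := (((D3522).symm.trans (sb E4827 (iv D8721)))).symm
theorem E5112 : n8144 = n3500 := ((((iv F6122)).symm.trans (sb E4827 (iv F14601)))).symm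
theorem E5113 : n8327 = n2628 := (((D2628).symm.trans (sb E4828 F14917))).symm
theorem E5114 : n5920 = n1184 := ((((iv D2155)).symm.trans (sb E4828 F14916))).symm
theorem E5115 : n6071 = n2139 := ((((iv F3946)).symm.trans (sb E4829 (iv F9858)))).symm
theorem E5116 : n6077 = n2143 := (((D2143).symm.trans (sb E4829 D6077))).symm
theorem E5117 : n6078 = n2144 := (((D2144).symm.trans (sb E4829 D6078))).symm
theorem E5118 : n5922 = n2598 := ((((iv F4668)).symm.trans (iv (sb E4830 (tr F16766 E5116))))).symm
theorem E5119 : n5277 = n2142 := (((D2142).symm.trans (sb E4831 (iv D8682)))).symm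
theorem E5122 : n2765 = n2616 := ((((iv F4694)).symm.trans (sb E4833 (iv D3839)))).symm
theorem E5123 : n9195 = n2108 := ((((iv F3906)).symm.trans (sb E4836 (iv F21302)))).symm
theorem E5124 : n5657 = n2148 := (((D2148).symm.trans (sb E4836 (iv F21035)))).symm
theorem E5125 : n3818 = n2149 := (((D2149).symm.trans (sb E4836 (iv D5924)))).symm
theorem E5126 : n5545 = n2150 := (((D2150).symm.trans (sb E4836 F20993))).symm
theorem E5127 : n5286 = n2618 := ((((iv F4695)).symm.trans (sb E4837 F14555))).symm
theorem E5129 : n8953 = n3552 := (((D3552).symm.trans (sb E4838 (iv F21043)))).symm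
theorem E5131 : n3840 = n3544 := ((((iv F6180)).symm.trans (sb E4838 F9703))).symm
theorem E5134 : n5406 = n3550 := ((((iv F6183)).symm.trans (sb E4843 D5406))).symm
theorem F22243 : act 0 n2623 = n2623 := (sb E4844 (iv D3557))
theorem F22244 : act 1 n2944 = n3246 := (sb E4845 F21361)
theorem E5137 : n4145 = n3247 := ((D4145).symm.trans (sb E4845 (iv F21371)))
theorem F22245 : act 0 n2473 = n2337 := (sb E4846 F5233)
theorem F22246 : act 2 n2473 = n2564 := (sb E4846 F5234)
theorem F22247 : act 5 n2473 = n2336 := (sb E4846 (iv D2987))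
theorem E5141 : n6497 = n4534 := ((D6497).symm.trans (sb E4850 F8023))
theorem E5142 : n6486 = n3624 := (((iv F10644)).symm.trans (sb E4850 F8024))
theorem E5143 : n7368 = n3158 := ((((iv F5515)).symm.trans (sb E4851 (iv F12179)))).symm
theorem E5144 : n7817 = n3406 := (((D3406).symm.trans (sb E4853 D7817))).symm
theorem E5146 : n5219 = n1139 := ((((iv D2114)).symm.trans (sb E4854 (iv F9308)))).symm
theorem E5148 : n7810 = n2185 := ((((iv F4001)).symm.trans (sb E4856 D7810))).symm
theorem E5149 : n7811 = n2556 := ((((iv F4615)).symm.trans (sb E4856 D7811))).symm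
theorem E5151 : n5511 = n2938 := ((((iv F5172)).symm.trans (sb E4857 (iv F22012)))).symm
theorem F22249 : act 1 n1694 = n1694 := (sb E4858 (iv D2301))
theorem E5152 : n2918 = n862 := (((F2768).symm.trans (sb E4858 D2918))).symm
theorem E5153 : n2906 = n2295 := ((((iv F4177)).symm.trans (sb E4858 (iv F5116)))).symm
theorem E5154 : n2919 = n1747 := ((((iv F2848)).symm.trans (sb E4858 D2919))).symm
theorem E5155 : n2912 = n860 := ((((iv D1694)).symm.trans (sb E4858 (iv F5125)))).symm
theorem E5164 : n6452 = n2338 := (((D2338).symm.trans (sb E4861 D6452))).symm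
theorem E5165 : n4084 = n1693 := (((F2851).symm.trans (sb E4861 F6986))).symm
theorem E5172 : n4209 = n3292 := (((D3292).symm.trans (sb E4866 D4209))).symm
theorem F22250 : act 3 n2485 = n2337 := (sb E4866 F5222)
theorem F22251 : act 5 n2485 = n2330 := (sb E4866 (iv D2975))
theorem E5173 : n7806 = n4237 := (((D4237).symm.trans (sb E4868 D7806))).symm
theorem E5175 : n7713 = n4146 := ((((iv F7087)).symm.trans (sb E4868 (iv F12800)))).symm
theorem E5177 : n4133 = n3622 := (((iv F7059)).symm.trans (sb E4869 F8020))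
theorem E5179 : n4182 = n3146 := ((D4182).symm.trans (sb E4871 F5736))
theorem F22254 : act 0 n8921 = n6666 := (sb E4873 F18618)
theorem F22255 : act 2 n8921 = n10840 := (sb E4873 F18619)
theorem E5180 : n6666 = n5088 := (((D5088).symm.trans (sb E4875 (iv F10903)))).symm
theorem E5183 : n4544 = n3147 := ((((iv F22025)).symm.trans (sb E5102 (iv D7318)))).symm
theorem F22256 : act 1 n2421 = n2421 := (sb E4877 (iv D3156))
theorem F22257 : act 1 n3413 = n3413 := (sb E4879 (iv D5061))
theorem E5190 : n8131 = n5015 := (((D5015).symm.trans (sb E4880 (iv F20596)))).symm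
theorem E5191 : n4994 = n3427 := ((((iv F6030)).symm.trans (sb E4880 F20381))).symm
theorem E5192 : n5441 = n4189 := (((F21398).symm.trans (sb E4881 (iv F22069)))).symm
theorem E5193 : n4203 = n2972 := ((F22013).symm.trans (sb E4881 (iv D4202)))
theorem E5194 : n6634 = n4201 := ((((iv F21801)).symm.trans (sb E4881 (iv F10860)))).symm
theorem F22258 : act 5 n3446 = n3446 := (sb E4881 (iv F22014))
theorem E5199 : n6102 = n5044 := (((D5044).symm.trans (sb E4883 F20613))).symm
theorem E5200 : n7319 = n4515 := ((((iv F7625)).symm.trans (sb E4884 (iv F12085)))).symm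
theorem E5201 : n4984 = n3447 := (((D3447).symm.trans (sb E4885 F20376))).symm
theorem E5202 : n6734 = n2039 := (((F3322).symm.trans (sb E4888 D6734))).symm
theorem E5206 : n3103 = n1879 := (((F4325).symm.trans (sb E4889 (iv F5408)))).symm
theorem F22260 : act 1 n2394 = n3084 := (sb E4889 (iv F5377))
theorem E5207 : n2194 = n2193 := (((F4327).symm.trans (sb E4889 F4329))).symm
theorem E5209 : n7153 = n2875 := ((((iv F5035)).symm.trans (sb E4890 D7153))).symm
theorem E5212 : n6338 = n4580 := (((D4580).symm.trans (sb E4891 (iv F10403)))).symm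
theorem F22261 : act 4 n3164 = n3084 := (sb E4891 (iv D4424))
theorem E5213 : n7085 = n4582 := (((D4582).symm.trans (sb E4891 D7085))).symm
theorem F22262 : act 2 n4409 = n4455 := (sb E4892 F7510)
theorem E5214 : n3745 = n3688 := (((F7449).symm.trans (sb E4893 F7511))).symm
theorem F22263 : act 2 n4425 = n4458 := (sb E4893 F7512)
theorem E5215 : n9857 = n7052 := (((D7052).symm.trans (sb E4896 F19982))).symm
theorem F22264 : act 4 n7390 = n6334 := (sb E4898 (iv D10525))
theorem F22265 : act 4 n7392 = n7079 := (sb E4899 F19742)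
theorem F22266 : act 1 n5912 = n7053 := (sb E4900 F19677)
theorem F22269 : act 1 n6355 = n7076 := (sb E4904 F19678)
theorem E5221 : n10302 = n7107 := ((D10302).symm.trans (sb E4905 F19841))
theorem F22270 : act 3 n1146 = n2126 := (sb E4906 (iv D2568))
theorem E5222 : n2710 = n2128 := (((D2128).symm.trans (sb E4906 (iv F4800)))).symm
theorem E5223 : n2707 = n1209 := ((((iv D2195)).symm.trans (sb E4907 (iv F4797)))).symm
theorem F22272 : act 4 n10277 = n6198 := (sb E4914 F17129)
theorem F22273 : act 6 n10277 = n6197 := (sb E4914 (iv D10303))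
theorem F22274 : act 0 n7140 = n6198 := (sb E4917 F17106)
theorem F22276 : act 3 n4558 = n4581 := (sb E4918 F12235)
theorem E5227 : n7264 = n4580 := (((iv F11987)).symm.trans (sb E4918 (iv D7395)))
theorem E5228 : n10532 = n4558 := ((((iv F22276)).symm.trans (sb E4919 (iv F17587)))).symm
theorem F22279 : act 3 n8323 = n6510 := (sb E4921 (iv D10826))
theorem F22280 : act 0 n4438 = n5934 := (sb E4922 (iv F22001))
theorem F22281 : act 5 n4438 = n7103 := (sb E4922 (iv D11740))
theorem F22282 : act 4 n4439 = n7103 := (sb E4923 (iv D11739))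
theorem F22283 : act 1 n7105 = n6197 := (sb E4924 F11712)
theorem F22284 : act 2 n7105 = n4438 := (sb E4924 F11713)
theorem F22285 : act 4 n7105 = n4437 := (sb E4924 (iv D7110))
theorem E5230 : n6590 = n2420 := (((F4495).symm.trans (sb E4925 D6590))).symm
theorem E5231 : n4849 = n4524 := ((D4849).symm.trans (sb E4926 (iv F21794)))
theorem E5237 : n7893 = n247 := ((((iv D493)).symm.trans (sb E4929 D7893))).symm
theorem E5238 : n7894 = n2044 := (((D2044).symm.trans (sb E4930 D7894))).symm
theorem E5239 : n7616 = n1008 := (((D1008).symm.trans (sb E4931 (iv F21520)))).symm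
theorem E5254 : n3648 = n1195 := (((D1195).symm.trans (sb E4936 D3648))).symm
theorem E5256 : n3715 = n556 := (((F955).symm.trans (sb E4937 D3715))).symm
theorem E5257 : n3716 = n288 := (((D288).symm.trans (sb E4938 D3716))).symm
theorem E5258 : n7840 = n1997 := (((D1997).symm.trans (sb E4939 F12978))).symm
theorem E5259 : n7906 = n1037 := (((D1037).symm.trans (sb E4940 D7906))).symm
theorem F22291 : act 1 n2035 = n2035 := (sb E4944 (iv D2461))
theorem E5263 : n3233 = n2459 := ((((iv F4447)).symm.trans (sb E4944 (iv F5689)))).symm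
theorem E5264 : n3228 = n1033 := ((((iv D2035)).symm.trans (sb E4944 (iv F5676)))).symm
theorem E5266 : n8726 = n2608 := (((D2608).symm.trans (sb E4948 (iv F14606)))).symm
theorem E5272 : n6582 = n3190 := (((D3190).symm.trans (sb E4949 F21618))).symm
theorem E5273 : n7227 = n3179 := ((((iv F5553)).symm.trans (sb E4949 (iv F11923)))).symm
theorem E5274 : n2287 = n2084 := (((D2084).symm.trans (sb E4950 (iv D2885)))).symm
theorem E5275 : n3871 = n1063 := ((((iv F1705)).symm.trans (sb E4950 (iv F6607)))).symm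
theorem E5276 : n2289 = n516 := ((((iv D1062)).symm.trans (sb E4950 F5069))).symm
theorem E5278 : n4221 = n2444 := ((((iv F4419)).symm.trans (sb E4951 (iv F21670)))).symm
theorem E5280 : n4196 = n2449 := (((D2449).symm.trans (sb E4952 F21300))).symm
theorem E5281 : n3988 = n2020 := (((D2020).symm.trans (sb E4953 (iv F6788)))).symm
theorem E5282 : n2236 = n2086 := (((D2086).symm.trans (sb E4954 (iv D2783)))).symm
theorem E5283 : n2892 = n1061 := (((F1709).symm.trans (sb E4954 F5896))).symm
theorem E5285 : n3321 = n517 := (((D517).symm.trans (sb E4955 (iv F6506)))).symm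
theorem E5286 : n4628 = n3194 := ((((iv F5578)).symm.trans (sb E4956 (iv F7824)))).symm
theorem E5288 : n4624 = n2024 := ((((iv D2440)).symm.trans (sb E4956 (iv F7814)))).symm
theorem E5290 : n7599 = n2025 := ((((iv D2442)).symm.trans (sb E4957 F13706))).symm
theorem E5291 : n5656 = n2433 := (((F4424).symm.trans (sb E4958 F21512))).symm
theorem E5292 : n6696 = n2026 := (((D2026).symm.trans (sb E4959 (iv F21599)))).symm
theorem E5293 : n6366 = n2435 := (((D2435).symm.trans (sb E4960 D6366))).symm
theorem E5294 : n6649 = n2028 := (((D2028).symm.trans (sb E4961 F21654))).symm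
theorem E5296 : n3888 = n2609 := (((D2609).symm.trans (sb E4962 F10163))).symm
theorem E5297 : n8383 = n2610 := (((D2610).symm.trans (sb E4962 (iv F14083)))).symm
theorem E5299 : n2242 = n1278 := (((D1278).symm.trans (sb E4963 (iv D2796)))).symm
theorem E5300 : n3815 = n633 := ((((iv F1012)).symm.trans (sb E4963 F6501))).symm
theorem E5301 : n2245 = n309 := ((((iv D631)).symm.trans (sb E4963 F4910))).symm
theorem E5302 : n5102 = n2161 := (((D2161).symm.trans (sb E4964 F9300))).symm
theorem E5303 : n3898 = n1178 := (((D1178).symm.trans (sb E4965 (iv F6662)))).symm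
theorem E5304 : n2518 = n1283 := (((D1283).symm.trans (sb E4966 (iv D3344)))).symm
theorem E5305 : n2804 = n630 := (((F1014).symm.trans (sb E4966 (iv F5911)))).symm
theorem E5314 : n5665 = n2146 := (((D2146).symm.trans (sb E4972 (iv F10147)))).symm
theorem E5315 : n5900 = n1186 := (((D1186).symm.trans (sb E4973 (iv F9630)))).symm
theorem E5316 : n2882 = n2513 := ((((iv D3335)).symm.trans (sb E4974 F6169))).symm
theorem E5317 : n4910 = n4499 := ((D4910).symm.trans (sb E4974 F20512))
theorem E5322 : n6350 = n4620 := (((D4620).symm.trans (sb E4976 D6350))).symm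
theorem E5323 : n6223 = n4599 := ((((iv F7773)).symm.trans (sb E4976 (iv F10090)))).symm
theorem E5336 : n5345 = n5324 := (((D5324).symm.trans (sb E4985 F10208))).symm
theorem E5339 : n10341 = n4661 := (((D4661).symm.trans (sb E4986 F21686))).symm
theorem E5345 : n7420 = n7273 := ((((iv F12002)).symm.trans (sb E4991 F13155))).symm
theorem F22304 : act 0 n2167 = n2167 := (sb E4995 (iv D2649))
theorem E5352 : n6468 = n2951 := (((D2951).symm.trans (sb E4997 (iv F10607)))).symm
theorem E5353 : n3006 = n1853 := (((F4216).symm.trans (sb E4997 (iv D4264)))).symm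
theorem E5354 : n3043 = n2925 := ((((iv F5144)).symm.trans (sb E4997 F7233))).symm
theorem E5355 : n6779 = n1739 := ((((iv D2318)).symm.trans (sb E4997 (iv F11050)))).symm
theorem E5356 : n6793 = n1856 := (((D1856).symm.trans (sb E4998 D6793))).symm
theorem E5357 : n6785 = n1288 := ((((iv F3826)).symm.trans (sb E4998 (iv F11061)))).symm
theorem E5358 : n3042 = n1825 := ((((iv F2956)).symm.trans (sb E4998 F7232))).symm
theorem E5359 : n6778 = n454 := ((((iv D937)).symm.trans (sb E4998 (iv F11048)))).symm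
theorem E5364 : n5774 = n3009 := ((((iv F5282)).symm.trans (sb E5001 F21193))).symm
theorem E5369 : n5615 = n4111 := ((((iv F7016)).symm.trans (sb E5003 (iv F9236)))).symm
theorem E5370 : n3441 = n2676 := (((F20417).symm.trans (sb E5003 F6396))).symm
theorem E5372 : n4172 = n3155 := ((D4172).symm.trans (sb E5004 (iv D4563)))
theorem E5376 : n4265 = n1855 := (((F4221).symm.trans (sb E5006 F11087))).symm
theorem E5378 : n4513 = n4183 := (((D4183).symm.trans (sb E5007 F7669))).symm
theorem E5379 : n6755 = n4184 := (((D4184).symm.trans (sb E5007 (iv F22020)))).symm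
theorem E5380 : n7295 = n4122 := ((((iv F7039)).symm.trans (sb E5007 (iv F12049)))).symm
theorem E5381 : n4511 = n4185 := (((D4185).symm.trans (sb E5007 F7671))).symm
theorem E5382 : n6191 = n2372 := (((D2372).symm.trans (sb E5008 F21986))).symm
theorem E5383 : n6192 = n2246 := ((((iv F4085)).symm.trans (sb E5008 F21987))).symm
theorem E5384 : n4333 = n2353 := ((((iv F4271)).symm.trans (sb E5008 F11085))).symm
theorem E5385 : n6780 = n1852 := (((F2998).symm.trans (sb E5008 F11086))).symm
theorem E5386 : n6913 = n2924 := (((F5161).symm.trans (sb E5009 F11370))).symm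
theorem E5387 : n6695 = n2466 := (((F20407).symm.trans (sb E5010 (iv D11155)))).symm
theorem E5388 : n6484 = n5513 := ((D6484).symm.trans (sb E5011 F9124))
theorem E5390 : n6478 = n3667 := (((iv F10630)).symm.trans (sb E5011 F9125))
theorem E5392 : n6487 = n5060 := ((D6487).symm.trans (sb E5012 (iv D8305)))
theorem E5393 : n5080 = n3628 := (((F20315).symm.trans (sb E5012 F13979))).symm
theorem E5394 : n4334 = n4104 := ((((iv F7005)).symm.trans (sb E5014 F11367))).symm
theorem E5395 : n11459 = n4109 := ((((iv F7013)).symm.trans (sb E5014 D11459))).symm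
theorem E5398 : n6912 = n2923 := ((((iv F20292)).symm.trans (sb E5015 (iv D11451)))).symm
theorem E5399 : n9634 = n5123 := (((iv F15939)).symm.trans (sb E5016 F14149))
theorem E5403 : n9636 = n3739 := ((((iv F6391)).symm.trans (sb E5018 (iv F15941)))).symm
theorem F22306 : act 3 n3439 = n3752 := (sb E5018 F9474)
theorem E5404 : n9631 = n4561 := ((((iv F7697)).symm.trans (sb E5018 (iv F15935)))).symm
theorem E5406 : n3750 = n2572 := (((F6038).symm.trans (sb E5018 (iv D5795)))).symm
theorem F22308 : act 3 n7351 = n4573 := (sb E5024 F12201)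
theorem E5416 : n4574 = n2424 := (((D2424).symm.trans (sb E5030 (iv F7719)))).symm
theorem F22309 : act 1 n3160 = n4559 := (sb E5031 (iv F7694))
theorem E5419 : n4036 = n3165 := ((((iv F5528)).symm.trans (sb E5031 (iv F6876)))).symm
theorem E5420 : n4575 = n3301 := ((((iv F5795)).symm.trans (sb E5031 D4575))).symm
theorem E5421 : n2709 = n2488 := ((((iv F4500)).symm.trans (sb E5032 F5414))).symm
theorem E5423 : n10530 = n7393 := (((iv F17583)).symm.trans (sb E5034 (iv F12231)))
theorem E5424 : n7393 = n4521 := ((E5423).symm.trans ((D10530).symm.trans (sb E5036 (iv D7265))))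
theorem E5425 : n10531 = n4559 := ((D10531).symm.trans (sb E5036 F11989))
theorem F22310 : act 1 n6357 = n7050 := (sb E5039 (iv D11657))
theorem E5428 : n10562 = n7052 := (((iv F17664)).symm.trans (sb E5039 F19671))
theorem E5429 : n5731 = n4536 := ((D5731).symm.trans (sb E5041 (iv F7658)))
theorem E5430 : n6639 = n5732 := (((D5732).symm.trans (sb E5041 D6639))).symm
theorem E5432 : n6575 = n3740 := ((((iv F6395)).symm.trans (sb E5041 (iv F10790)))).symm
theorem E5443 : n6678 = n4846 := (((D4846).symm.trans (sb E5047 D6678))).symm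
theorem E5446 : n5091 = n4850 := ((D5091).symm.trans (sb E5053 F13143))
theorem E5451 : n5594 = n2935 := ((((iv F5166)).symm.trans (sb E5061 (iv F9210)))).symm
theorem E5452 : n5729 = n2968 := (((D2968).symm.trans (sb E5061 D5729))).symm
theorem E5456 : n6641 = n2700 := (((D2700).symm.trans (sb E5063 D6641))).symm
theorem E5459 : n6520 = n5512 := ((((iv F9111)).symm.trans (sb E5065 (iv F21651)))).symm
theorem E5466 : n3735 = n3402 := ((D3735).symm.trans (sb E5070 (iv D5036)))
theorem E5467 : n10805 = n4128 := ((D10805).symm.trans (sb E5071 (iv D6512)))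
theorem E5469 : n10763 = n8320 := ((((iv F20432)).symm.trans (sb E5071 (iv F18047)))).symm
theorem E5470 : n10831 = n10806 := (((D10806).symm.trans (sb E5071 D10831))).symm
theorem E5471 : n10900 = n3149 := (((F21778).symm.trans (sb E5073 (iv F18449)))).symm
theorem E5472 : n4230 = n2984 := ((((iv D4229)).symm.trans (sb E5073 (iv D6723)))).symm
theorem E5475 : n10898 = n4517 := (((F21779).symm.trans (sb E5073 F18450))).symm
theorem E5482 : n2130 = n278 := (((F919).symm.trans (sb E5078 (iv D2576)))).symm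
theorem E5485 : n2129 = n1152 := (((D1152).symm.trans (sb E5079 (iv D2573)))).symm
theorem E5502 : n7937 = n4868 := ((D7937).symm.trans (iv (sb E5090 (tr (iv D11126) E5443))))
theorem E5508 : n4844 = n2976 := (((D2976).symm.trans (sb E5100 (iv F22094)))).symm
theorem E5509 : n4701 = n2034 := (((F4238).symm.trans (sb E5100 F7974))).symm
theorem E5511 : n10897 = n4515 := (E5103).trans E5200
theorem E5513 : n6560 = n4549 := ((((iv F7681)).symm.trans (sb E5511 F18316))).symm
theorem F22330 : act 2 n2604 = n2604 := (sb E5108 (iv D3523))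
theorem E5516 : n5303 = n3524 := (((D3524).symm.trans (sb E5108 D5303))).symm
theorem E5517 : n5254 = n3500 := ((((iv F6122)).symm.trans (sb E5108 (iv F8775)))).symm
theorem E5518 : n3836 = n3514 := ((((iv F6140)).symm.trans (sb E5109 F13712))).symm
theorem E5521 : n8723 = n5301 := (((D5301).symm.trans (sb E5111 D8723))).symm
theorem E5522 : n8724 = n5253 := ((((iv F8774)).symm.trans (sb E5111 D8724))).symm
theorem E5523 : n4966 = n2592 := ((((iv D3500)).symm.trans (sb E5112 (iv D8144)))).symm
theorem E5524 : n6503 = n3566 := (((D3566).symm.trans (sb E5113 (iv F20662)))).symm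
theorem E5525 : n6511 = n3556 := ((((iv F6189)).symm.trans (sb E5113 F20482))).symm
theorem E5526 : n8322 = n3568 := (((D3568).symm.trans (sb E5113 F14011))).symm
theorem E5527 : n5069 = n3565 := ((((iv F6202)).symm.trans (sb E5113 (iv D8327)))).symm
theorem E5528 : n5073 = n2154 := (((D2154).symm.trans (sb E5114 F21014))).symm
theorem E5530 : n4947 = n2583 := ((((iv F4652)).symm.trans (sb E5115 (iv F10202)))).symm
theorem E5531 : n10097 = n2589 := (((D2589).symm.trans (sb E5115 D10097))).symm
theorem E5536 : n9209 = n2603 := (((D2603).symm.trans (sb E5117 F15341))).symm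
theorem E5537 : n5274 = n3510 := ((((iv F6131)).symm.trans (sb E5118 (iv F13736)))).symm
theorem E5538 : n3817 = n2788 := (((F5046).symm.trans (sb E5118 (iv D5922)))).symm
theorem E5540 : n3512 = n2597 := (((D2597).symm.trans (sb E5119 (iv D5277)))).symm
theorem E5544 : n2794 = n2227 := (((iv F5050)).symm.trans (sb E5122 (iv D2765)))
theorem E5545 : n8346 = n2526 := ((((iv F4583)).symm.trans (sb E5123 F15323))).symm
theorem E5547 : n5905 = n2533 := (((D2533).symm.trans (sb E5123 F21303))).symm
theorem E5548 : n5566 = n2534 := (((D2534).symm.trans (sb E5123 (iv F20971)))).symm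
theorem E5549 : n5543 = n2535 := (((D2535).symm.trans (sb E5123 (iv D9195)))).symm
theorem E5550 : n3686 = n2612 := (((D2612).symm.trans (sb E5124 (iv D5657)))).symm
theorem E5551 : n2753 = n2240 := (((F5047).symm.trans (sb E5125 (iv D3818)))).symm
theorem E5552 : n5925 = n2615 := (((D2615).symm.trans (sb E5125 D5925))).symm
theorem E5553 : n3636 = n2617 := (((D2617).symm.trans (sb E5126 (iv D5545)))).symm
theorem E5554 : n5358 = n3548 := (((D3548).symm.trans (sb E5127 (iv F8900)))).symm
theorem E5555 : n5960 = n3542 := ((((iv F6175)).symm.trans (sb E5127 F13732))).symm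
theorem E5557 : n8328 = n5366 := (((D5366).symm.trans (sb E5129 F14942))).symm
theorem E5558 : n5465 = n3409 := ((((iv F20491)).symm.trans (sb E5129 F14943))).symm
theorem E5559 : n5967 = n5348 := ((((iv F8890)).symm.trans (sb E5129 F21044))).symm
theorem E5563 : n3889 = n2766 := (((iv F6642)).symm.trans (sb E5131 F6557))
theorem E5566 : n5346 = n5327 := (((iv F8888)).symm.trans (sb E5134 F22042))
theorem F22337 : act 0 n3247 = n2945 := (sb E5137 F7083)
theorem F22338 : act 2 n3247 = n3157 := (sb E5137 F7084)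
theorem E5573 : n10794 = n7292 := ((((iv F12040)).symm.trans (sb E5141 D10794))).symm
theorem F22341 : act 1 n4534 = n4121 := (sb E5141 (iv D6497))
theorem E5574 : n10795 = n7294 := ((((iv F12045)).symm.trans (sb E5141 D10795))).symm
theorem E5576 : n10796 = n3142 := ((((iv D4534)).symm.trans (sb E5141 D10796))).symm
theorem F22342 : act 3 n3624 = n4121 := (sb E5142 F10644)
theorem E5578 : n6252 = n4569 := (((D4569).symm.trans (sb E5143 F20593))).symm
theorem E5579 : n5115 = n5046 := (((D5046).symm.trans (sb E5144 F22050))).symm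
theorem E5583 : n3484 = n2107 := ((((iv F3905)).symm.trans (sb E5146 (iv D5219)))).symm
theorem E5587 : n5308 = n2687 := ((((iv F4779)).symm.trans (sb E5148 F22059))).symm
theorem E5588 : n4993 = n2662 := ((((iv F4751)).symm.trans (sb E5148 F22060))).symm
theorem E5589 : n5709 = n1199 := ((((iv D2185)).symm.trans (sb E5148 F22061))).symm
theorem E5590 : n4983 = n2690 := (((D2690).symm.trans (sb E5148 F22062))).symm
theorem E5591 : n7946 = n3426 := ((((iv F6027)).symm.trans (sb E5149 (iv F13208)))).symm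
theorem E5592 : n9125 = n4132 := (((D4132).symm.trans (sb E5151 D9125))).symm
theorem E5593 : n2303 = n1696 := (((D1696).symm.trans (sb E5152 F5130))).symm
theorem F22346 : act 1 n2295 = n2295 := (sb E5153 (iv D2906))
theorem E5598 : n4069 = n2904 := ((((iv F5113)).symm.trans (sb E5153 (iv F6956)))).symm
theorem E5599 : n4074 = n2312 := ((((iv F4203)).symm.trans (sb E5153 D4074))).symm
theorem E5600 : n4066 = n1669 := ((((iv D2295)).symm.trans (sb E5153 (iv F6950)))).symm
theorem E5601 : n2985 = n2335 := (((D2335).symm.trans (sb E5154 (iv F5232)))).symm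
theorem E5602 : n2299 = n1692 := (((D1692).symm.trans (sb E5155 (iv D2912)))).symm
theorem E5622 : n10715 = n2990 := (((D2990).symm.trans (sb E5164 D10715))).symm
theorem E5625 : n6428 = n2300 := (((D2300).symm.trans (sb E5165 D6428))).symm
theorem E5631 : n6680 = n4842 := (((D4842).symm.trans (sb E5172 D6680))).symm
theorem E5632 : n6681 = n4843 := (((D4843).symm.trans (sb E5172 D6681))).symm
theorem E5634 : n6737 = n5678 := ((D6737).symm.trans (sb E5173 (iv F13639)))
theorem E5636 : n6524 = n5515 := (((iv F10708)).symm.trans (sb E5175 F12799))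
theorem F22348 : act 3 n3622 = n2945 := (sb E5177 F7059)
theorem E5639 : n6617 = n4540 := ((((iv F7664)).symm.trans (sb E5179 D6617))).symm
theorem F22350 : act 1 n3146 = n2963 := (sb E5179 (iv D4182))
theorem E5640 : n6618 = n4542 := ((((iv F7668)).symm.trans (sb E5179 D6618))).symm
theorem F22351 : act 5 n3146 = n2964 := (sb E5179 F7137)
theorem E5642 : n8921 = n6504 := (((F21800).symm.trans (sb E5180 (iv F22254)))).symm
theorem F22353 : act 1 n3147 = n3147 := (sb E5183 (iv D4544))
theorem E5649 : n8231 = n4960 := ((D8231).symm.trans (sb E5190 (iv D8131)))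
theorem E5650 : n5094 = n3382 := ((D5094).symm.trans (sb E5191 (iv D4994)))
theorem F22357 : act 5 n4189 = n4189 := (sb E5192 F21400)
theorem E5654 : n6631 = n3586 := (((iv F10854)).symm.trans (sb E5192 (iv D5441)))
theorem F22358 : act 2 n2972 = n3446 := (sb E5193 (iv F22013))
theorem F22359 : act 5 n2972 = n2972 := (sb E5193 (iv D4203))
theorem F22360 : act 2 n4201 = n4189 := (sb E5194 (iv D6634))
theorem F22361 : act 5 n4201 = n4201 := (sb E5194 F21984)
theorem E5661 : n5143 = n3915 := (((iv F8606)).symm.trans (sb E5199 (iv D6102)))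
theorem E5663 : n5142 = n3918 := ((D5142).symm.trans (sb E5201 F8419))
theorem E5664 : n3707 = n3377 := (((iv F6363)).symm.trans (sb E5201 (iv D4984)))
theorem E5665 : n10541 = n2469 := (((D2469).symm.trans (sb E5202 F17933))).symm
theorem F22368 : act 3 n1879 = n2394 := (sb E5206 (iv D3103))
theorem E5669 : n2706 = n2688 := ((D2706).symm.trans (sb E5207 (iv F4781)))
theorem E5675 : n7394 = n4033 := (((D4033).symm.trans (sb E5209 (iv F12233)))).symm
theorem E5678 : n10530 = n4521 := (E5423).trans E5424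
theorem E5679 : n10509 = n7396 := (((D7396).symm.trans (sb E5212 (iv F17539)))).symm
theorem E5680 : n5662 = n4859 := ((((iv F8207)).symm.trans (sb E5213 F11663))).symm
theorem F22369 : act 4 n4582 = n4425 := (sb E5213 F11664)
theorem E5681 : n5780 = n5660 := ((((iv F9285)).symm.trans (sb E5214 (iv F9462)))).symm
theorem E5682 : n5661 = n4859 := ((D5661).symm.trans (sb E5214 (iv F8208)))
theorem E5684 : n11660 = n6352 := ((D11660).symm.trans (sb E5215 F16346))
theorem F22370 : act 3 n7052 = n5912 := (sb E5215 (iv D9857))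
theorem F22371 : act 5 n7052 = n6355 := (sb E5215 F16347)
theorem E5685 : n11663 = n10566 := ((D11663).symm.trans (sb E5215 (iv F17673)))
theorem F22375 : act 3 n7107 = n6197 := (sb E5221 (iv D10302))
theorem F22376 : act 3 n2128 = n2195 := (sb E5222 F4799)
theorem E5687 : n3743 = n2184 := ((((iv F4000)).symm.trans (sb E5223 (iv F6397)))).symm
theorem F22377 : act 3 n1209 = n2193 := (sb E5223 (iv D2707))
theorem F22378 : act 5 n4580 = n4558 := (sb E5227 F11987)
theorem E5692 : n7349 = n6339 := ((D7349).symm.trans (sb E5228 F17588))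
theorem E5693 : n7284 = n3152 := ((((iv F5502)).symm.trans (sb E5230 F20776))).symm
theorem E5695 : n7422 = n3138 := ((((iv D4524)).symm.trans (sb E5231 (iv F12295)))).symm
theorem E5705 : n6150 = n445 := (((F3625).symm.trans (sb E5237 F13087))).symm
theorem E5706 : n8778 = n2478 := (((D2478).symm.trans (sb E5238 (iv F20503)))).symm
theorem E5707 : n11564 = n2479 := (((D2479).symm.trans (sb E5238 (iv F19519)))).symm
theorem E5708 : n7451 = n2476 := ((((iv F4472)).symm.trans (sb E5238 (iv F13081)))).symm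
theorem E5709 : n4698 = n1990 := (((D1990).symm.trans (sb E5239 (iv D7616)))).symm
theorem E5710 : n6149 = n1809 := ((((iv F3715)).symm.trans (sb E5239 F21521))).symm
theorem E5731 : n5575 = n1141 := (((F1953).symm.trans (sb E5254 D5575))).symm
theorem E5733 : n5649 = n1143 := (((D1143).symm.trans (sb E5256 F9278))).symm
theorem E5734 : n5722 = n585 := (((D585).symm.trans (sb E5257 D5722))).symm
theorem E5735 : n4799 = n2418 := (((D2418).symm.trans (sb E5258 F12975))).symm
theorem E5736 : n4797 = n2410 := ((((iv F4363)).symm.trans (sb E5258 (iv D7840)))).symm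
theorem E5737 : n7261 = n2042 := (((D2042).symm.trans (sb E5259 F13112))).symm
theorem E5738 : n6938 = n1532 := ((((iv F2488)).symm.trans (sb E5259 (iv F13115)))).symm
theorem E5739 : n6697 = n2038 := ((((iv F3318)).symm.trans (sb E5259 F21011))).symm
theorem F22383 : act 1 n2459 = n2459 := (sb E5263 (iv D3233))
theorem E5746 : n4704 = n3231 := ((((iv F5686)).symm.trans (sb E5263 (iv F7950)))).symm
theorem E5747 : n4694 = n2033 := ((((iv D2459)).symm.trans (sb E5263 (iv F7937)))).symm
theorem E5748 : n2456 = n2032 := (((D2032).symm.trans (sb E5264 (iv D3228)))).symm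
theorem E5749 : n8767 = n3532 := (((D3532).symm.trans (sb E5266 (iv F14682)))).symm
theorem E5755 : n4167 = n3215 := ((((iv F5615)).symm.trans (sb E5272 (iv D6582)))).symm
theorem E5756 : n4621 = n4168 := ((D4621).symm.trans (sb E5272 F10799))
theorem E5757 : n4500 = n2431 := ((((iv D3179)).symm.trans (sb E5273 (iv D7227)))).symm
theorem E5759 : n2880 = n2512 := (((D2512).symm.trans (sb E5274 (iv F5054)))).symm
theorem E5760 : n2886 = n2514 := (((D2514).symm.trans (sb E5274 D2886))).symm
theorem E5761 : n2507 = n1550 := (((iv F4552)).symm.trans (sb E5274 (iv D2287)))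
theorem E5762 : n3320 = n2085 := (((D2085).symm.trans (sb E5275 F6603))).symm
theorem E5763 : n1552 = n1060 := (((D1060).symm.trans (sb E5276 (iv D2289)))).symm
theorem E5764 : n3206 = n2979 := ((D3206).symm.trans (sb E5278 (iv D4221)))
theorem E5766 : n3213 = n2971 := ((D3213).symm.trans (sb E5280 F7150))
theorem E5767 : n6652 = n3214 := (((D3214).symm.trans (sb E5280 (iv F10886)))).symm
theorem E5768 : n3212 = n2969 := (((iv F5611)).symm.trans (sb E5280 (iv D4196)))
theorem E5769 : n4489 = n2427 := (((D2427).symm.trans (sb E5281 (iv F10195)))).symm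
theorem E5772 : n2785 = n2520 := (((D2520).symm.trans (sb E5282 D2785))).symm
theorem E5773 : n2895 = n2083 := (((D2083).symm.trans (sb E5283 (iv F5089)))).symm
theorem E5775 : n2506 = n792 := ((((iv F1246)).symm.trans (sb E5285 (iv D3321)))).symm
theorem E5776 : n4038 = n3333 := (((iv F6886)).symm.trans (sb E5286 F13695))
theorem E5780 : n3192 = n2437 := (((D2437).symm.trans (sb E5288 (iv D4624)))).symm
theorem E5782 : n10864 = n2441 := (((D2441).symm.trans (sb E5290 F21331))).symm
theorem E5783 : n9410 = n3183 := (((D3183).symm.trans (sb E5291 D9410))).symm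
theorem E5784 : n4217 = n2443 := (((D2443).symm.trans (sb E5292 (iv D6696)))).symm
theorem E5785 : n4804 = n3185 := (((D3185).symm.trans (sb E5293 (iv F10458)))).symm
theorem E5788 : n6937 = n2447 := (((D2447).symm.trans (sb E5294 F21290))).symm
theorem E5789 : n4883 = n2274 := ((((iv F4124)).symm.trans (sb E5294 (iv F21653)))).symm
theorem E5790 : n4194 = n2448 := (((D2448).symm.trans (sb E5294 (iv D6649)))).symm
theorem E5792 : n6057 = n3535 := (((D3535).symm.trans (sb E5296 D6057))).symm
theorem E5793 : n6050 = n3507 := ((((iv F6129)).symm.trans (sb E5296 (iv F9824)))).symm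
theorem E5794 : n5097 = n2639 := ((((iv F4726)).symm.trans (sb E5297 (iv D8383)))).symm
theorem E5795 : n5621 = n3536 := (((D3536).symm.trans (sb E5297 F14084))).symm
theorem E5798 : n2790 = n2226 := (((D2226).symm.trans (sb E5299 (iv F4905)))).symm
theorem E5799 : n2797 = n2228 := (((D2228).symm.trans (sb E5299 D2797))).symm
theorem E5800 : n2221 = n1284 := (((iv F4065)).symm.trans (sb E5299 (iv D2242)))
theorem E5801 : n2750 = n1282 := (((D1282).symm.trans (sb E5300 (iv D3815)))).symm
theorem E5802 : n1286 = n629 := (((D629).symm.trans (sb E5301 (iv D2245)))).symm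
theorem E5803 : n4188 = n2637 := (((D2637).symm.trans (sb E5302 (iv F20923)))).symm
theorem E5804 : n5918 = n2638 := (((D2638).symm.trans (sb E5302 (iv F10214)))).symm
theorem E5805 : n3430 = n2636 := ((((iv F4724)).symm.trans (sb E5302 (iv D5102)))).symm
theorem E5806 : n3361 = n2137 := (((D2137).symm.trans (sb E5303 (iv F10169)))).symm
theorem E5807 : n2801 = n2138 := (((D2138).symm.trans (sb E5303 (iv D3898)))).symm
theorem E5808 : n4980 = n2140 := (((D2140).symm.trans (sb E5303 (iv F10171)))).symm
theorem E5810 : n3346 = n2238 := (((D2238).symm.trans (sb E5304 D3346))).symm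
theorem E5811 : n2776 = n1277 := (((D1277).symm.trans (sb E5305 F4918))).symm
theorem E5822 : n3690 = n2605 := (((D2605).symm.trans (sb E5314 (iv D5665)))).symm
theorem E5825 : n5077 = n2158 := (((D2158).symm.trans (sb E5315 F21012))).symm
theorem E5826 : n3806 = n2159 := (((D2159).symm.trans (sb E5315 (iv D5900)))).symm
theorem E5828 : n4042 = n3336 := (((D3336).symm.trans (sb E5316 D4042))).symm
theorem E5829 : n3323 = n2285 := (((iv F5853)).symm.trans (sb E5316 (iv D2882)))
theorem E5830 : n7585 = n4531 := ((((iv F7648)).symm.trans (sb E5317 (iv F21697)))).symm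
theorem E5838 : n10550 = n7469 := (((D7469).symm.trans (sb E5322 D10550))).symm
theorem E5839 : n7404 = n3977 := (((iv F12256)).symm.trans (sb E5323 (iv D6223)))
theorem E5863 : n8667 = n8174 := (((iv F14512)).symm.trans (sb E5336 (iv F13790)))
theorem E5866 : n10896 = n4606 := (((F7870).symm.trans (sb E5339 (iv F18312)))).symm
theorem E5877 : n4597 = n4526 := (((F12001).symm.trans (sb E5345 (iv D7420)))).symm
theorem E5891 : n4159 = n4106 := ((D4159).symm.trans (sb E5352 (iv D6468)))
theorem E5892 : n2365 = n2347 := ((D2365).symm.trans (sb E5353 (iv D3006)))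
theorem E5893 : n4259 = n2244 := ((((iv F4081)).symm.trans (sb E5353 (iv F7227)))).symm
theorem E5894 : n4256 = n935 := ((((iv D1853)).symm.trans (sb E5353 (iv F7220)))).symm
theorem E5895 : n4322 = n2304 := ((((iv D2925)).symm.trans (sb E5354 (iv F7325)))).symm
theorem E5896 : n6897 = n2316 := (((D2316).symm.trans (sb E5355 (iv F11273)))).symm
theorem E5897 : n5220 = n2370 := (((D2370).symm.trans (sb E5356 F11311))).symm
theorem E5898 : n10247 = n1486 := (((F2995).symm.trans (sb E5356 (iv F21644)))).symm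
theorem E5899 : n4331 = n2343 := ((((iv F4251)).symm.trans (sb E5356 F11081))).symm
theorem E5901 : n9492 = n939 := (((F2996).symm.trans (sb E5356 (iv F15755)))).symm
theorem E5903 : n6235 = n1527 := ((((iv F2482)).symm.trans (sb E5357 F11062))).symm
theorem E5905 : n3897 = n2350 := ((((iv F4264)).symm.trans (sb E5358 (iv F6661)))).symm
theorem E5908 : n6798 = n936 := (((D936).symm.trans (sb E5359 (iv F11091)))).symm
theorem E5913 : n5126 = n3670 := ((((iv F20415)).symm.trans (sb E5364 F9455))).symm
theorem E5920 : n9348 = n6471 := ((((iv F10613)).symm.trans (sb E5369 D9348))).symm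
theorem E5922 : n3676 = n2562 := ((D3676).symm.trans (sb E5370 (iv D3441)))
theorem E5925 : n6591 = n3137 := (((F5508).symm.trans (sb E5372 D6591))).symm
theorem F22413 : act 1 n3155 = n2957 := (sb E5372 (iv D4172))
theorem E5926 : n6592 = n4562 := ((((iv F7700)).symm.trans (sb E5372 D6592))).symm
theorem F22414 : act 3 n3155 = n2964 := (sb E5372 F7128)
theorem E5927 : n3272 = n3135 := (((F5510).symm.trans (sb E5372 F20544))).symm
theorem E5932 : n4283 = n2369 := (((D2369).symm.trans (sb E5376 (iv F7269)))).symm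
theorem E5933 : n6787 = n2231 := ((((iv F4072)).symm.trans (sb E5376 (iv F11065)))).symm
theorem E5934 : n3044 = n2352 := ((((iv F4268)).symm.trans (sb E5376 F7234))).symm
theorem E5936 : n7248 = n6621 := (((D6621).symm.trans (sb E5378 (iv F11962)))).symm
theorem E5938 : n6622 = n3131 := ((D6622).symm.trans (sb E5378 (iv D4513)))
theorem E5939 : n7140 = n3056 := (((F7138).symm.trans (sb E5379 (iv F11760)))).symm
theorem E5940 : n6623 = n4246 := ((D6623).symm.trans (sb E5379 F10994))
theorem E5941 : n11233 = n6499 := ((((iv F10666)).symm.trans (sb E5379 (iv F18867)))).symm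
theorem E5942 : n6624 = n4244 := ((D6624).symm.trans (sb E5379 (iv D6755)))
theorem F22415 : act 5 n4122 = n4534 := (sb E5380 (iv D7295))
theorem E5943 : n7237 = n6500 := (((D6500).symm.trans (sb E5380 F12050))).symm
theorem E5944 : n4216 = n3250 := (((F20541).symm.trans (sb E5381 F21340))).symm
theorem E5945 : n6625 = n3144 := ((D6625).symm.trans (sb E5381 F7621))
theorem E5946 : n3963 = n3055 := (((D3055).symm.trans (sb E5382 F10048))).symm
theorem E5947 : n3959 = n2805 := ((((iv F4919)).symm.trans (sb E5382 F10049))).symm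
theorem E5948 : n6182 = n3017 := ((((iv F5299)).symm.trans (sb E5382 (iv F22166)))).symm
theorem E5949 : n6160 = n3054 := ((((iv F5345)).symm.trans (sb E5382 F10050))).symm
theorem E5950 : n3958 = n3057 := (((D3057).symm.trans (sb E5382 (iv D6191)))).symm
theorem E5952 : n10204 = n2276 := ((((iv F4132)).symm.trans (sb E5383 (iv F16956)))).symm
theorem E5953 : n10288 = n2230 := (((F4086).symm.trans (sb E5383 (iv F17102)))).symm
theorem E5954 : n6070 = n3012 := ((((iv F5290)).symm.trans (sb E5384 (iv F9856)))).symm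
theorem E5956 : n10286 = n2364 := (((D2364).symm.trans (sb E5385 (iv F21540)))).symm
theorem E5957 : n10863 = n3240 := (((F20311).symm.trans (sb E5386 F18235))).symm
theorem E5958 : n6135 = n3249 := (((D3249).symm.trans (sb E5387 (iv F21940)))).symm
theorem E5959 : n6691 = n3203 := ((((iv F5600)).symm.trans (sb E5387 F10943))).symm
theorem F22416 : act 0 n5513 = n4114 := (sb E5388 (iv D6484))
theorem F22417 : act 3 n5513 = n4120 := (sb E5388 F10641)
theorem F22418 : act 1 n3667 = n4111 := (sb E5390 (iv D6478))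
theorem F22419 : act 4 n3667 = n4114 := (sb E5390 F10630)
theorem E5967 : n5529 = n3421 := (((F8514).symm.trans (sb E5392 F20429))).symm
theorem E5968 : n5482 = n4999 := (((F8515).symm.trans (sb E5392 F20430))).symm
theorem E5969 : n8349 = n5527 := ((((iv F9134)).symm.trans (sb E5393 D8349))).symm
theorem E5970 : n8347 = n2653 := ((((iv D3628)).symm.trans (sb E5393 (iv F21008)))).symm
theorem E5972 : n6928 = n6461 := ((((iv F10594)).symm.trans (sb E5394 D6928))).symm
theorem E5973 : n6471 = n2589 := (((iv F10614)).symm.trans (sb E5395 (tr F19373 E5531)))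
theorem E5975 : n8147 = n4102 := (((D4102).symm.trans (sb E5398 (iv F13571)))).symm
theorem E5978 : n5793 = n3460 := (((F8593).symm.trans (sb E5399 (iv D9634)))).symm
theorem E5986 : n5794 = n2715 := (((F6392).symm.trans (sb E5403 (iv D9636)))).symm
theorem E5987 : n5792 = n3163 := (((F7698).symm.trans (sb E5404 (iv D9631)))).symm
theorem F22424 : act 3 n2572 = n2711 := (sb E5406 F6405)
theorem E5989 : n5697 = n3461 := (((D3461).symm.trans (sb E5406 (iv F9343)))).symm
theorem E6004 : n4583 = n2877 := ((((iv F5040)).symm.trans (sb E5416 (iv F7735)))).symm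
theorem F22425 : act 4 n2424 = n3160 := (sb E5416 (iv D4574))
theorem E6005 : n4861 = n3162 := (((D3162).symm.trans (sb E5416 (iv F8218)))).symm
theorem E6006 : n3300 = n3299 := ((((iv F5790)).symm.trans (sb E5419 F6879))).symm
theorem E6007 : n4860 = n2489 := ((((iv D3301)).symm.trans (sb E5420 (iv F8212)))).symm
theorem E6008 : n3703 = n3298 := (((D3298).symm.trans (sb E5421 (iv F6356)))).symm
theorem F22426 : act 4 n4521 = n6337 := (sb E5678 (iv D10530))
theorem F22427 : act 2 n4521 = n4580 := (sb E5424 (iv D7393))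
theorem F22428 : act 5 n4559 = n6337 := (sb E5425 (iv D10531))
theorem F22429 : act 2 n7052 = n6357 := (sb E5428 F17664)
theorem E6010 : n10527 = n6356 := (((iv F17578)).symm.trans (sb E5428 (iv D10562)))
theorem E6014 : n9527 = n7242 := ((((iv F11953)).symm.trans (sb E5429 D9527))).symm
theorem E6018 : n10920 = n5770 := ((((iv F9451)).symm.trans (sb E5430 (iv F18356)))).symm
theorem E6020 : n6786 = n5773 := (((D5773).symm.trans (sb E5432 (iv F11063)))).symm
theorem E6029 : n8375 = n5843 := ((((iv F9551)).symm.trans (sb E5446 D8375))).symm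
theorem F22437 : act 1 n2935 = n3658 := (sb E5451 (iv D5594))
theorem E6033 : n9305 = n4126 := (((D4126).symm.trans (sb E5451 D9305))).symm
theorem E6035 : n4193 = n3730 := ((D4193).symm.trans (sb E5452 F9396))
theorem E6042 : n5681 = n3728 := (((D3728).symm.trans (sb E5456 (iv F21403)))).symm
theorem E6044 : n8264 = n3731 := (((D3731).symm.trans (sb E5456 (iv F21408)))).symm
theorem E6046 : n9126 = n7324 := ((D9126).symm.trans (sb E5459 (iv F12093)))
theorem E6052 : n5264 = n2545 := ((((iv D3402)).symm.trans (sb E5466 (iv F9419)))).symm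
theorem F22439 : act 3 n4128 = n6502 := (sb E5467 (iv D10805))
theorem F22440 : act 3 n8320 = n6481 := (sb E5469 (iv D10763))
theorem F22441 : act 3 n10806 = n6513 := (sb E5470 F18183)
theorem E6055 : n10340 = n3257 := ((((iv F5722)).symm.trans (sb E5471 F18318))).symm
theorem E6056 : n6542 = n4142 := ((((iv F7077)).symm.trans (sb E5472 (iv F10741)))).symm
theorem F22442 : act 5 n2984 = n2984 := (sb E5472 (iv D4230))
theorem E6058 : n11184 = n7257 := (((D7257).symm.trans (sb E5475 (iv F18769)))).symm
theorem E6067 : n1154 = n561 := (((D561).symm.trans (sb E5482 (iv D2130)))).symm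
theorem E6073 : n2396 = n1895 := (((F3859).symm.trans (sb E5485 (iv F4331)))).symm
theorem F22443 : act 3 n1152 = n1152 := (sb E5485 (iv D2129))
theorem E6074 : n2574 = n567 := (((F1868).symm.trans (sb E5485 D2574))).symm
theorem E6075 : n2201 = n1231 := (((F3862).symm.trans (sb E5485 (iv F4024)))).symm
theorem E6098 : n5777 = n4578 := (((F8233).symm.trans (sb E5502 (iv F13660)))).symm
theorem E6105 : n7929 = n4211 := (((D4211).symm.trans (sb E5508 (iv F13174)))).symm
theorem E6106 : n7933 = n4212 := (((D4212).symm.trans (sb E5508 (iv F13182)))).symm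
theorem F22448 : act 5 n2976 = n3292 := (sb E5508 (iv D4844))
theorem E6108 : n7209 = n2460 := (((D2460).symm.trans (sb E5509 (iv F21738)))).symm
theorem E6111 : n7329 = n4154 := ((D7329).symm.trans (sb E5513 (iv D6560)))
theorem E6120 : n8732 = n3568 := ((((iv F6204)).symm.trans (sb E5516 D8732))).symm
theorem F22454 : act 2 n3524 = n3524 := (sb E5516 F8840)
theorem E6122 : n8630 = n2592 := ((((iv D3500)).symm.trans (sb E5517 (iv F14455)))).symm
theorem E6124 : n3835 = n2763 := ((F13716).symm.trans (sb E5518 (iv D3836)))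
theorem E6125 : n8833 = n5356 := (((F20522).symm.trans (sb E5521 (iv F20523)))).symm
theorem E6126 : n9151 = n5304 := ((((iv F8843)).symm.trans (sb E5522 F15263))).symm
theorem E6127 : n3482 = n3369 := (((iv F6094)).symm.trans (sb E5523 (iv D4966)))
theorem E6131 : n10807 = n5396 := (((D5396).symm.trans (sb E5524 D10807))).symm
theorem E6132 : n10806 = n5397 := (((D5397).symm.trans (sb E5524 (iv F18129)))).symm
theorem E6133 : n5374 = n4129 := (((iv F8920)).symm.trans (sb E5524 F10674))
theorem E6134 : n5398 = n5070 := ((D5398).symm.trans (sb E5524 F20663))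
theorem E6135 : n5393 = n4123 := (((iv F8946)).symm.trans (sb E5524 (iv D6503)))
theorem E6136 : n10827 = n5375 := (((D5375).symm.trans (sb E5525 (iv F18179)))).symm
theorem E6137 : n4641 = n4137 := (((iv F7841)).symm.trans (sb E5525 F10688))
theorem E6138 : n6482 = n5376 := (((D5376).symm.trans (sb E5525 F10689))).symm
theorem E6139 : n5373 = n4127 := (((iv F8919)).symm.trans (sb E5525 (iv D6511)))
theorem E6140 : n5401 = n5067 := ((D5401).symm.trans (sb E5526 (iv D8322)))
theorem E6141 : n3417 = n2627 := ((((iv D3565)).symm.trans (sb E5527 (iv F20689)))).symm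
theorem E6142 : n8323 = n5394 := (((D5394).symm.trans (sb E5527 (iv F20961)))).symm
theorem E6143 : n5395 = n3416 := ((D5395).symm.trans (sb E5527 (iv D5069)))
theorem E6144 : n3420 = n2625 := (((D2625).symm.trans (sb E5528 F8533))).symm
theorem E6145 : n3418 = n2626 := (((D2626).symm.trans (sb E5528 F8534))).symm
theorem E6147 : n5010 = n1192 := (((F3962).symm.trans (sb E5528 F8535))).symm
theorem E6148 : n3358 = n3349 := ((((iv F5924)).symm.trans (sb E5530 (iv D4947)))).symm
theorem E6149 : n8115 = n3479 := (((D3479).symm.trans (sb E5530 D8115))).symm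
theorem E6150 : n8109 = n3480 := (((D3480).symm.trans (sb E5530 (iv F13517)))).symm
theorem E6155 : n5549 = n2626 := ((((iv F20269)).symm.trans (sb E5536 (iv D9209)))).symm
theorem E6156 : n8190 = n3521 := (((D3521).symm.trans (sb E5536 (iv F20303)))).symm
theorem E6157 : n4063 = n2900 := (((F6130).symm.trans (sb E5537 F8800))).symm
theorem E6158 : n8616 = n5236 := ((((iv F8744)).symm.trans (sb E5537 (iv F14431)))).symm
theorem E6159 : n4060 = n2899 := (((F6132).symm.trans (sb E5537 F8801))).symm
theorem F22458 : act 6 n3510 = n3510 := (sb E5537 (iv D5274))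
theorem E6161 : n2752 = n2239 := ((((iv D2788)).symm.trans (sb E5538 (iv D3817)))).symm
theorem E6162 : n4077 = n2878 := ((((iv F5042)).symm.trans (sb E5538 F13688))).symm
theorem E6163 : n3881 = n3842 := ((D3881).symm.trans (sb E5538 (iv F6560)))
theorem E6165 : n4692 = n3223 := ((((iv F5631)).symm.trans (sb E5540 (iv F7931)))).symm
theorem E6166 : n5238 = n3492 := ((((iv F6110)).symm.trans (sb E5540 (iv F8747)))).symm
theorem E6167 : n4932 = n2523 := ((((iv F20488)).symm.trans (sb E5540 (iv F20714)))).symm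
theorem F22459 : act 6 n2597 = n2597 := (sb E5540 (iv D3512))
theorem F22465 : act 3 n2227 = n2616 := (sb E5544 F5050)
theorem E6170 : n9345 = n2105 := ((((iv D2526)).symm.trans (sb E5545 (iv F15527)))).symm
theorem E6176 : n3808 = n2791 := ((((iv F5048)).symm.trans (sb E5547 (iv D5905)))).symm
theorem E6179 : n3645 = n3381 := (((D3381).symm.trans (sb E5548 (iv D5566)))).symm
theorem E6183 : n9068 = n3380 := ((((iv F5968)).symm.trans (sb E5549 (iv F15130)))).symm
theorem E6185 : n3539 = n2681 := ((D3539).symm.trans (sb E5550 (iv D3686)))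
theorem E6186 : n3819 = n2793 := (((D2793).symm.trans (sb E5551 D3819))).symm
theorem F22466 : act 6 n2240 = n2227 := (sb E5551 F4872)
theorem E6187 : n5488 = n3541 := (((D3541).symm.trans (sb E5552 F21045))).symm
theorem E6188 : n3545 = n2658 := ((D3545).symm.trans (sb E5553 (iv D3636)))
theorem E6189 : n5546 = n3546 := (((D3546).symm.trans (sb E5553 D5546))).symm
theorem E6190 : n3547 = n2660 := ((D3547).symm.trans (sb E5553 F6288))
theorem E6191 : n8835 = n5357 := (((D5357).symm.trans (sb E5554 (iv F14784)))).symm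
theorem E6192 : n8803 = n5344 := ((((iv F8885)).symm.trans (sb E5554 (iv F14745)))).symm
theorem F22467 : act 5 n3548 = n3548 := (sb E5554 (iv D5358))
theorem E6193 : n5354 = n3640 := (((iv F8896)).symm.trans (sb E5554 (iv F20529)))
theorem E6194 : n3887 = n3837 := (((iv F6637)).symm.trans (sb E5555 F9697))
theorem E6195 : n5103 = n5051 := ((((iv F20711)).symm.trans (sb E5557 F14012))).symm
theorem E6197 : n5074 = n5020 := ((((iv F20709)).symm.trans (sb E5557 F14013))).symm
theorem E6198 : n6704 = n5053 := ((((iv F8501)).symm.trans (sb E5558 (iv F16275)))).symm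
theorem E6199 : n9937 = n8811 := (((D8811).symm.trans (sb E5559 D9937))).symm
theorem E6201 : n6058 = n3841 := (((iv F9837)).symm.trans (sb E5559 F9704))
theorem F22468 : act 3 n2766 = n3544 := (sb E5563 F6642)
theorem F22469 : act 1 n5327 = n3558 := (sb E5566 F8887)
theorem E6209 : n8668 = n8175 := (((iv F14513)).symm.trans (sb E5566 (iv F13793)))
theorem E6218 : n10801 = n4532 := ((((iv D7292)).symm.trans (sb E5573 (iv F18117)))).symm
theorem F22476 : act 5 n7294 = n6499 := (sb E5574 F18101)
theorem E6219 : n8985 = n4533 := ((((iv D7294)).symm.trans (sb E5574 (iv F18102)))).symm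
theorem E6220 : n10799 = n4507 := ((((iv F7609)).symm.trans (sb E5576 (iv F18111)))).symm
theorem E6221 : n7371 = n4011 := ((D7371).symm.trans (sb E5578 F10244))
theorem E6224 : n8411 = n8281 := (((D8281).symm.trans (sb E5579 (iv F14126)))).symm
theorem E6225 : n3435 = n3407 := (((F8494).symm.trans (sb E5579 (iv D5115)))).symm
theorem E6229 : n2585 = n2531 := (((D2531).symm.trans (sb E5583 (iv D3484)))).symm
theorem E6235 : n5747 = n3701 := (((D3701).symm.trans (sb E5587 (iv F9423)))).symm
theorem E6237 : n5353 = n3642 := ((((iv F6295)).symm.trans (sb E5587 F20510))).symm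
theorem E6240 : n3525 = n2683 := (((F4780).symm.trans (sb E5587 (iv D5308)))).symm
theorem E6241 : n5351 = n3644 := ((((iv F6297)).symm.trans (sb E5588 (iv F20244)))).symm
theorem E6242 : n8172 = n3614 := ((((iv F6257)).symm.trans (sb E5588 (iv F13787)))).symm
theorem E6243 : n3644 = n2172 := ((((iv D2662)).symm.trans (sb E5588 (tr (iv F8893) E6241)))).symm
theorem E6244 : n9491 = n2184 := (((D2184).symm.trans (sb E5589 D9491))).symm
theorem E6247 : n8163 = n3706 := ((((iv F6361)).symm.trans (sb E5590 D8163))).symm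
theorem E6249 : n9737 = n5092 := (((D5092).symm.trans (sb E5591 (iv F16077)))).symm
theorem F22480 : act 4 n4132 = n5595 := (sb E5592 F15219)
theorem F22481 : act 2 n1696 = n1696 := (sb E5593 (iv D2303))
theorem E6251 : n2907 = n2296 := ((((iv F4180)).symm.trans (sb E5593 (iv F5118)))).symm
theorem F22482 : act 1 n2904 = n2904 := (sb E5598 (iv D4069))
theorem E6261 : n4143 = n2943 := (((D2943).symm.trans (sb E5599 (iv F7079)))).symm
theorem E6262 : n2902 = n2292 := (((D2292).symm.trans (sb E5600 (iv D4066)))).symm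
theorem F22483 : act 5 n2335 = n2335 := (sb E5601 (iv D2985))
theorem E6263 : n4231 = n2982 := ((((iv F5229)).symm.trans (sb E5601 D4231))).symm
theorem E6264 : n2909 = n2297 := (((D2297).symm.trans (sb E5602 (iv F5122)))).symm
theorem F22484 : act 6 n1692 = n1692 := (sb E5602 (iv D2299))
theorem E6284 : n10545 = n4240 := (((D4240).symm.trans (sb E5622 F18448))).symm
theorem E6287 : n10674 = n2742 := ((((iv F21145)).symm.trans (sb E5625 D10674))).symm
theorem E6300 : n11131 = n3698 := ((((iv F13644)).symm.trans (sb E5631 D11131))).symm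
theorem E6303 : n11133 = n7934 := (((D7934).symm.trans (sb E5632 D11133))).symm
theorem E6305 : n9440 = n4760 := (((F13638).symm.trans (sb E5634 (iv F22079)))).symm
theorem E6312 : n10854 = n9133 := (((D9133).symm.trans (sb E5636 D10854))).symm
theorem F22488 : act 3 n5515 = n4146 := (sb E5636 F10708)
theorem E6313 : n9134 = n4134 := ((D9134).symm.trans (sb E5636 F10709))
theorem E6318 : n7258 = n6718 := ((((iv F21754)).symm.trans (sb E5639 (iv F21344)))).symm
theorem F22490 : act 5 n4540 = n4183 := (sb E5639 F10834)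
theorem E6320 : n10996 = n6757 := (((F22137).symm.trans (sb E5640 D10996))).symm
theorem F22492 : act 5 n4542 = n4184 := (sb E5640 F10836)
theorem E6323 : n10840 = n10810 := (((D10810).symm.trans (sb E5642 F22255))).symm
theorem E6324 : n6518 = n4130 := (((F10676).symm.trans (sb E5642 F21804))).symm
theorem F22503 : act 5 n4960 = n5015 := (sb E5649 (iv D8231))
theorem F22504 : act 1 n3382 = n3427 := (sb E5650 (iv D5094))
theorem E6328 : n8319 = n4988 := ((((iv F8431)).symm.trans (sb E5650 (iv F14001)))).symm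
theorem F22507 : act 6 n3586 = n4189 := (sb E5654 F10854)
theorem F22519 : act 1 n3915 = n5044 := (sb E5661 F8606)
theorem F22520 : act 5 n3915 = n3447 := (sb E5661 (iv D5143))
theorem E6337 : n5703 = n3910 := (((F6702).symm.trans (sb E5663 (iv F9351)))).symm
theorem F22523 : act 1 n3377 = n2690 := (sb E5664 (iv D3707))
theorem E6338 : n6346 = n3255 := (((D3255).symm.trans (sb E5665 F17612))).symm
theorem E6339 : n10084 = n3243 := ((((iv F5702)).symm.trans (sb E5665 F17613))).symm
theorem E6343 : n3742 = n3699 := ((((iv F6352)).symm.trans (sb E5669 D3742))).symm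
theorem F22525 : act 1 n2688 = n2193 := (sb E5669 (iv D2706))
theorem E6344 : n3702 = n3298 := ((D3702).symm.trans (sb E5669 (iv F5786)))
theorem E6345 : n3744 = n3704 := (((D3704).symm.trans (sb E5669 D3744))).symm
theorem F22526 : act 4 n4033 = n4580 := (sb E5675 (iv D7394))
theorem E6354 : n7965 = n7850 := (((iv F13243)).symm.trans (sb E5679 F17537))
theorem E6355 : n9419 = n7961 := ((((iv F13236)).symm.trans (sb E5680 (iv F15644)))).symm
theorem F22528 : act 2 n4859 = n9422 := (sb E5680 (iv F15649))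
theorem F22529 : act 4 n4859 = n3688 := (sb E5680 (iv D5662))
theorem E6356 : n9424 = n7967 := (((D7967).symm.trans (sb E5680 D9424))).symm
theorem E6358 : n9418 = n7961 := ((D9418).symm.trans (sb E5681 (iv F13237)))
theorem E6360 : n9422 = n3688 := ((F22528).symm.trans (sb E5682 (iv D5661)))
theorem E6361 : n9421 = n7850 := (((E6354).symm.trans (((iv F13244)).symm.trans (sb E5682 D9421)))).symm
theorem F22530 : act 0 n6352 = n7052 := (sb E5684 (iv D11660))
theorem F22531 : act 1 n10566 = n11712 := (sb E5685 (iv F19778))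
theorem F22532 : act 6 n10566 = n7052 := (sb E5685 (iv D11663))
theorem E6364 : n5778 = n2686 := ((((iv F4778)).symm.trans (sb E5687 (iv F9460)))).symm
theorem F22533 : act 2 n6339 = n4559 := (sb E5692 F12141)
theorem F22534 : act 4 n6339 = n4558 := (sb E5692 (iv D7349))
theorem E6366 : n4557 = n4529 := ((D4557).symm.trans (sb E5693 (iv D7284)))
theorem E6367 : n7401 = n2411 := ((((iv D3138)).symm.trans (sb E5695 F12296))).symm
theorem E6368 : n6853 = n4525 := (((D4525).symm.trans (sb E5695 F22176))).symm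
theorem E6370 : n3940 = n353 := ((((iv F3621)).symm.trans (sb E5705 F9988))).symm
theorem E6374 : n5679 = n3277 := (((D3277).symm.trans (sb E5706 F20504))).symm
theorem E6375 : n5333 = n3273 := ((((iv F5744)).symm.trans (sb E5706 (iv D8778)))).symm
theorem E6376 : n6995 = n3274 := ((((iv F5746)).symm.trans (sb E5707 (iv D11564)))).symm
theorem E6377 : n4610 = n3275 := (((D3275).symm.trans (sb E5708 (iv D7451)))).symm
theorem E6379 : n6068 = n2341 := ((((iv F4245)).symm.trans (sb E5709 (iv F21525)))).symm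
theorem E6380 : n4081 = n2403 := (((D2403).symm.trans (sb E5709 F7942))).symm
theorem E6382 : n6922 = n2277 := ((((iv F4134)).symm.trans (sb E5710 (iv F11360)))).symm
theorem E6383 : n6986 = n2342 := (((D2342).symm.trans (sb E5710 (iv F11466)))).symm
theorem E6423 : n9180 = n2118 := (((D2118).symm.trans (sb E5731 F15307))).symm
theorem E6425 : n9400 = n2121 := (((D2121).symm.trans (sb E5733 (iv F15621)))).symm
theorem E6428 : n5901 = n1197 := (((D1197).symm.trans (sb E5734 (iv F10191)))).symm
theorem E6431 : n7842 = n3151 := (((D3151).symm.trans (sb E5735 (iv F12979)))).symm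
theorem E6432 : n7839 = n3136 := (((D3136).symm.trans (sb E5736 D7839))).symm
theorem E6433 : n6939 = n2280 := ((((iv F4142)).symm.trans (sb E5737 F11978))).symm
theorem E6434 : n4519 = n2475 := (((D2475).symm.trans (sb E5737 (iv D7261)))).symm
theorem E6435 : n6123 = n2279 := ((((iv F4141)).symm.trans (sb E5738 F20632))).symm
theorem E6436 : n4339 = n2281 := (((D2281).symm.trans (sb E5738 (iv D6938)))).symm
theorem E6437 : n10203 = n2467 := (((D2467).symm.trans (sb E5739 (iv F21662)))).symm
theorem F22541 : act 1 n3231 = n3231 := (sb E5746 (iv D4704))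
theorem E6443 : n3225 = n2454 := ((((iv F4436)).symm.trans (sb E5747 (iv D4694)))).symm
theorem E6444 : n3222 = n2453 := (((D2453).symm.trans (sb E5748 (iv F5628)))).symm
theorem E6445 : n3120 = n2455 := (((D2455).symm.trans (sb E5748 (iv F21056)))).symm
theorem F22542 : act 6 n2032 = n2032 := (sb E5748 (iv D2456))
theorem E6446 : n5327 = n5324 := (((D5324).symm.trans (sb E5749 (iv D8767)))).symm
theorem E6454 : n4671 = n4200 := (((iv F7885)).symm.trans (sb E5755 (iv F7156)))
theorem E6455 : n6581 = n4673 := ((((iv F7889)).symm.trans (sb E5755 (iv F10797)))).symm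
theorem F22546 : act 6 n4168 = n3190 := (sb E5756 (iv D4621))
theorem E6456 : n3169 = n3126 := (((iv F5535)).symm.trans (sb E5757 (iv D4500)))
theorem E6457 : n3980 = n3172 := ((((iv F5540)).symm.trans (sb E5757 F10180))).symm
theorem E6459 : n3834 = n3332 := (((D3332).symm.trans (sb E5759 (iv F6552)))).symm
theorem E6460 : n3334 = n2884 := ((D3334).symm.trans (sb E5759 (iv F5066)))
theorem E6461 : n3322 = n2284 := (((iv F5851)).symm.trans (sb E5759 (iv D2880)))
theorem E6462 : n3328 = n2517 := ((((iv F4570)).symm.trans (sb E5760 F6509))).symm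
theorem E6463 : n3337 = n2879 := ((D3337).symm.trans (sb E5760 F5073))
theorem E6464 : n2082 = n791 := ((((iv D1550)).symm.trans (sb E5761 (iv D2507)))).symm
theorem F22548 : act 6 n1550 = n2084 := (sb E5761 F4552)
theorem E6466 : n2777 = n2515 := (((D2515).symm.trans (sb E5762 (iv F5898)))).symm
theorem E6467 : n4890 = n2516 := (((D2516).symm.trans (sb E5762 (iv F8273)))).symm
theorem E6468 : n2505 = n2290 := ((((iv F4164)).symm.trans (sb E5762 (iv D3320)))).symm
theorem E6469 : n2079 = n793 := ((D2079).symm.trans (sb E5763 F2532))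
theorem E6470 : n2270 = n2080 := (((D2080).symm.trans (sb E5763 (iv F4118)))).symm
theorem E6471 : n2081 = n1553 := ((D2081).symm.trans (sb E5763 (iv F2537)))
theorem F22549 : act 1 n2979 = n2444 := (sb E5764 (iv D3206))
theorem F22550 : act 3 n2979 = n2449 := (sb E5764 F5603)
theorem F22551 : act 0 n2971 = n2449 := (sb E5766 (iv D3213))
theorem E6474 : n4670 = n4198 := ((((iv F7153)).symm.trans (sb E5766 D4670))).symm
theorem E6475 : n4672 = n2516 := ((D4672).symm.trans (sb E5767 (tr F21455 E6467)))
theorem E6476 : n4667 = n4195 := (((iv F7880)).symm.trans (sb E5767 (iv D6652)))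
theorem F22552 : act 6 n2969 = n2449 := (sb E5768 F5611)
theorem E6477 : n3987 = n2379 := (((F5646).symm.trans (sb E5769 (iv F10194)))).symm
theorem E6481 : n3340 = n2511 := (((F4578).symm.trans (sb E5772 F5895))).symm
theorem E6482 : n3343 = n2509 := (((D2509).symm.trans (sb E5773 (iv F5905)))).symm
theorem E6485 : n2508 = n1551 := ((((iv F2529)).symm.trans (sb E5775 (iv F4553)))).symm
theorem E6487 : n4907 = n4040 := ((D4907).symm.trans (sb E5776 (iv F6891)))
theorem F22558 : act 6 n2437 = n2437 := (sb E5780 (iv D3192))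
theorem E6492 : n6530 = n3199 := (((D3199).symm.trans (sb E5782 (iv D10864)))).symm
theorem E6493 : n7753 = n4604 := (((D4604).symm.trans (sb E5783 F20909))).symm
theorem E6494 : n5659 = n4605 := (((D4605).symm.trans (sb E5783 F15634))).symm
theorem E6496 : n6694 = n3076 := ((((iv F20276)).symm.trans (sb E5784 (iv F10942)))).symm
theorem E6497 : n3205 = n2977 := ((D3205).symm.trans (sb E5784 (iv D4217)))
theorem E6498 : n7853 = n4611 := (((D4611).symm.trans (sb E5785 D7853))).symm
theorem E6499 : n3632 = n3276 := (((iv F20454)).symm.trans (sb E5785 F8111))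
theorem E6504 : n4340 = n2859 := ((((iv F5004)).symm.trans (sb E5788 F11387))).symm
theorem E6505 : n7047 = n2856 := ((((iv F4997)).symm.trans (sb E5789 (iv F11585)))).symm
theorem E6506 : n4337 = n2860 := (((D2860).symm.trans (sb E5789 (iv F10136)))).symm
theorem F22559 : act 1 n2448 = n2969 := (sb E5790 (iv D4194))
theorem E6507 : n10088 = n5330 := (((D5330).symm.trans (sb E5792 D10088))).symm
theorem E6508 : n5233 = n3885 := (((iv F8740)).symm.trans (sb E5793 (iv D6050)))
theorem E6509 : n3588 = n3431 := (((iv F6223)).symm.trans (sb E5794 F8565))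
theorem E6510 : n7102 = n3590 := ((((iv F6226)).symm.trans (sb E5794 (iv F11702)))).symm
theorem E6511 : n3591 = n3428 := ((D3591).symm.trans (sb E5794 (iv D5097)))
theorem F22560 : act 4 n3536 = n4168 := (sb E5795 (iv F20919))
theorem E6515 : n3833 = n2762 := (((D2762).symm.trans (sb E5798 (iv F13725)))).symm
theorem E6516 : n2795 = n2764 := (((D2764).symm.trans (sb E5798 (iv F4909)))).symm
theorem E6517 : n2758 = n2235 := ((((iv F4074)).symm.trans (sb E5799 (iv F6502)))).symm
theorem E6518 : n2789 = n2767 := (((D2767).symm.trans (sb E5799 F4912))).symm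
theorem E6519 : n1276 = n635 := ((((iv D1284)).symm.trans (sb E5800 (iv D2221)))).symm
theorem E6520 : n2754 = n2241 := (((D2241).symm.trans (sb E5800 D2754))).symm
theorem F22561 : act 6 n1284 = n1278 := (sb E5800 F4065)
theorem E6521 : n2761 = n2233 := (((D2233).symm.trans (sb E5801 (iv F4877)))).symm
theorem E6522 : n3814 = n2234 := (((D2234).symm.trans (sb E5801 (iv F6498)))).symm
theorem E6523 : n2232 = n2219 := (((iv F4073)).symm.trans (sb E5801 (iv D2750)))
theorem E6524 : n1273 = n637 := ((D1273).symm.trans (sb E5802 F2083))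
theorem E6525 : n2244 = n1274 := (((D1274).symm.trans (sb E5802 (iv F4080)))).symm
theorem E6526 : n1281 = n1275 := (((D1275).symm.trans (sb E5802 F2084))).symm
theorem E6527 : n6630 = n3587 := (((D3587).symm.trans (sb E5803 (iv F10851)))).symm
theorem F22562 : act 4 n2637 = n2971 := (sb E5803 F7142)
theorem E6528 : n3583 = n2965 := (((iv F6220)).symm.trans (sb E5803 (iv D4188)))
theorem E6529 : n4139 = n3589 := (((D3589).symm.trans (sb E5804 (iv F21448)))).symm
theorem E6530 : n4138 = n3584 := ((((iv F6221)).symm.trans (sb E5804 (iv F21444)))).symm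
theorem F22563 : act 4 n2636 = n2969 := (sb E5805 (iv F21247))
theorem E6531 : n3585 = n2557 := ((D3585).symm.trans (sb E5805 (iv D3430)))
theorem E6532 : n2525 = n2521 := ((((iv F4581)).symm.trans (sb E5806 (iv D3361)))).symm
theorem E6533 : n2582 = n2350 := ((D2582).symm.trans (sb E5806 (tr (iv F10178) E5905)))
theorem E6534 : n4955 = n2584 := (((D2584).symm.trans (sb E5806 D4955))).symm
theorem E6535 : n2586 = n2347 := ((D2586).symm.trans (sb E5807 (tr F4917 E5892)))
theorem E6536 : n3899 = n2587 := (((D2587).symm.trans (sb E5807 D3899))).symm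
theorem E6537 : n3375 = n2594 := (((D2594).symm.trans (sb E5808 (iv D4980)))).symm
theorem E6540 : n2779 = n2225 := (((F4077).symm.trans (sb E5810 F5916))).symm
theorem E6541 : n2782 = n2223 := (((D2223).symm.trans (sb E5811 (iv F4895)))).symm
theorem E6551 : n2684 = n2656 := ((((iv F20355)).symm.trans (sb E5822 F6350))).symm
theorem E6555 : n5899 = n2634 := (((D2634).symm.trans (sb E5825 (iv F21119)))).symm
theorem E6556 : n3419 = n2182 := ((((iv F3999)).symm.trans (sb E5825 (iv D5077)))).symm
theorem E6557 : n5119 = n1854 := ((((iv F3973)).symm.trans (sb E5826 (iv F21493)))).symm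
theorem E6558 : n5117 = n2635 := (((D2635).symm.trans (sb E5826 F21321))).symm
theorem E6560 : n6351 = n4911 := (((D4911).symm.trans (sb E5828 D6351))).symm
theorem F22575 : act 3 n3336 = n4499 := (sb E5828 F20533)
theorem E6561 : n4912 = n4037 := ((D4912).symm.trans (sb E5828 F6896))
theorem E6562 : n4885 = n2846 := ((((iv F4970)).symm.trans (sb E5829 (iv F8263)))).symm
theorem F22576 : act 6 n2285 = n2513 := (sb E5829 F5853)
theorem E6564 : n7286 = n6662 := (((iv F12027)).symm.trans (sb E5830 F21696))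
theorem E6565 : n10869 = n7288 := ((((iv F12031)).symm.trans (sb E5830 F18252))).symm
theorem E6569 : n6715 = n6714 := ((F16289).symm.trans (sb E5838 F17638))
theorem E6570 : n10935 = n7576 := ((((iv F12551)).symm.trans (sb E5838 (iv F21608)))).symm
theorem E6572 : n6564 = n2949 := (((F6769).symm.trans (sb E5839 (iv F13608)))).symm
theorem E6573 : n4587 = n2848 := (((F6770).symm.trans (sb E5839 (iv D7404)))).symm
theorem F22603 : act 6 n8174 = n5324 := (sb E5863 F14512)
theorem E6585 : n9417 = n7441 := ((((iv F12330)).symm.trans (sb E5866 F18314))).symm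
theorem E6586 : n7442 = n6556 := ((D7442).symm.trans (sb E5866 (iv D10896)))
theorem E6596 : n7421 = n7275 := ((((iv F12005)).symm.trans (sb E5877 D7421))).symm
theorem F22621 : act 2 n4106 = n2951 := (sb E5891 (iv D4159))
theorem F22622 : act 1 n2347 = n1853 := (sb E5892 (iv D2365))
theorem E6608 : n3037 = n1822 := ((((iv D2347)).symm.trans (sb E5892 (iv F5334)))).symm
theorem E6609 : n4259 = n1274 := (E5893).trans E6525
theorem E6610 : n3004 = n2138 := ((((iv F3945)).symm.trans (sb E6609 (iv D4259)))).symm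
theorem E6611 : n5773 = n629 := ((((iv D1274)).symm.trans (sb E6609 (tr D6786 E6020)))).symm
theorem E6612 : n2231 = n2217 := (((D2217).symm.trans (sb E6609 (tr D6787 E5933)))).symm
theorem E6613 : n6772 = n2218 := (((D2218).symm.trans (sb E6609 (iv F11033)))).symm
theorem E6614 : n3002 = n1851 := (((D1851).symm.trans (sb E5894 (iv D4256)))).symm
theorem E6615 : n2218 = n1285 := ((((iv F3822)).symm.trans (sb E5894 (tr (iv F11031) E6613)))).symm
theorem E6616 : n5903 = n2922 := (((D2922).symm.trans (sb E5895 (iv F11293)))).symm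
theorem E6617 : n4312 = n2845 := ((((iv F4986)).symm.trans (sb E5896 (iv D6897)))).symm
theorem E6620 : n8593 = n2257 := (((F4284).symm.trans (sb E5897 D8593))).symm
theorem E6621 : n2997 = n2277 := (((iv F5251)).symm.trans (sb E5897 (tr (iv F11361) E6382)))
theorem E6622 : n8594 = n2382 := ((((iv F4305)).symm.trans (sb E5897 D8594))).symm
theorem E6623 : n6244 = n1861 := (((F4285).symm.trans (sb E5897 F10219))).symm
theorem E6624 : n10355 = n2251 := ((((iv F4094)).symm.trans (sb E5898 F21645))).symm
theorem E6625 : n6161 = n2260 := (((D2260).symm.trans (sb E5898 (iv D10247)))).symm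
theorem E6626 : n2865 = n2341 := (((iv F5016)).symm.trans (sb E5899 (tr (iv F9853) E6379)))
theorem E6630 : n9397 = n1863 := (((D1863).symm.trans (sb E5901 F15754))).symm
theorem E6631 : n6786 = n629 := (E6020).trans E6611
theorem E6633 : n2379 = n2273 := ((((iv F4123)).symm.trans (sb E5903 (tr F10109 E6477)))).symm
theorem E6635 : n6772 = n1285 := (E6613).trans E6615
theorem E6638 : n3987 = n2273 := (E6477).trans E6633
theorem E6639 : n3374 = n1823 := ((((iv D2350)).symm.trans (sb E5905 (iv F10183)))).symm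
theorem E6644 : n6328 = n1854 := (((D1854).symm.trans (sb E5908 (iv F11343)))).symm
theorem F22623 : act 1 n3670 = n3536 := (sb E5913 F9389)
theorem E6654 : n9348 = n2589 := (E5920).trans E5973
theorem E6655 : n5527 = n3494 := (((D3494).symm.trans (sb E6654 (tr F15530 E5969)))).symm
theorem E6658 : n5636 = n3440 := ((((iv F6040)).symm.trans (sb E5922 D5636))).symm
theorem E6659 : n2679 = n2542 := (((F4622).symm.trans (sb E5922 F6336))).symm
theorem E6661 : n8403 = n4522 := ((((iv F7635)).symm.trans (sb E5925 (iv F22126)))).symm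
theorem F22625 : act 3 n3137 = n4183 := (sb E5925 F10811)
theorem E6664 : n4798 = n4520 := (((F7702).symm.trans (sb E5926 F20773))).symm
theorem F22626 : act 3 n3135 = n4185 := (sb E5927 (iv F20542))
theorem E6671 : n6830 = n3050 := (((D3050).symm.trans (sb E5932 (iv F11158)))).symm
theorem E6672 : n6815 = n2773 := ((((iv F4888)).symm.trans (sb E5932 (iv F11127)))).symm
theorem E6675 : n6787 = n2217 := (E5933).trans E6612
theorem E6676 : n2773 = n2744 := (((D2744).symm.trans (sb E6675 (tr (iv F11126) E6672)))).symm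
theorem E6678 : n6237 = n2503 := ((((iv F4541)).symm.trans (sb E6675 F11066))).symm
theorem E6679 : n3011 = n2587 := (((iv F5286)).symm.trans (sb E5934 (tr (iv F6664) E6536)))
theorem E6682 : n11002 = n6751 := ((D11002).symm.trans (sb E5936 F22232))
theorem F22633 : act 0 n3131 = n4185 := (sb E5938 F10838)
theorem F22634 : act 6 n3131 = n4183 := (sb E5938 (iv D6622))
theorem E6685 : n6198 = n4364 := ((((iv F7367)).symm.trans (sb E5939 F22274))).symm
theorem E6686 : n4458 = n4366 := (((D4366).symm.trans (sb E5939 F11761))).symm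
theorem E6687 : n10275 = n4285 := ((((iv F7272)).symm.trans (sb E5939 (iv F22145)))).symm
theorem E6688 : n6700 = n4361 := ((((iv F7365)).symm.trans (sb E5939 F21881))).symm
theorem E6689 : n4452 = n4367 := (((D4367).symm.trans (sb E5939 (iv D7140)))).symm
theorem F22635 : act 3 n4246 = n4184 := (sb E5940 (iv D6623))
theorem E6693 : n10800 = n4285 := ((D10800).symm.trans (sb E5941 (tr (iv F22144) E6687)))
theorem E6694 : n10419 = n6753 := (((iv F17358)).symm.trans (sb E5941 (iv D11233)))
theorem F22636 : act 2 n4244 = n4185 := (sb E5942 F10841)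
theorem F22637 : act 6 n4244 = n4184 := (sb E5942 (iv D6624))
theorem E6697 : n6529 = n4725 := (((F20350).symm.trans (sb E5943 F21095))).symm
theorem E6698 : n4749 = n3930 := (((iv F8032)).symm.trans (sb E5944 (iv F21571)))
theorem F22638 : act 5 n3144 = n4185 := (sb E5945 (iv D6625))
theorem E6699 : n6200 = n4363 := (((D4363).symm.trans (sb E5946 D6200))).symm
theorem E6700 : n3903 = n2839 := (((iv F6669)).symm.trans (sb E5946 F6748))
theorem E6701 : n6184 = n4284 := ((((iv F7271)).symm.trans (sb E5946 (iv F22139)))).symm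
theorem E6702 : n6128 = n4360 := ((((iv F7363)).symm.trans (sb E5946 F21873))).symm
theorem E6703 : n4365 = n2838 := ((D4365).symm.trans (sb E5946 (iv D3963)))
theorem E6704 : n3904 = n2837 := ((D3904).symm.trans (sb E5947 F6745))
theorem E6705 : n6131 = n2862 := ((((iv F5010)).symm.trans (sb E5947 (iv F9955)))).symm
theorem E6706 : n3945 = n2834 := ((((iv F4958)).symm.trans (sb E5947 F6746))).symm
theorem E6707 : n3905 = n2836 := ((D3905).symm.trans (sb E5947 (iv D3959)))
theorem E6708 : n7072 = n4275 := ((((iv F7256)).symm.trans (sb E5948 (iv F11647)))).symm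
theorem E6709 : n6177 = n4251 := ((((iv F7207)).symm.trans (sb E5948 F10036))).symm
theorem E6710 : n4286 = n3955 := ((D4286).symm.trans (sb E5948 (iv D6182)))
theorem E6711 : n4362 = n3944 := ((D4362).symm.trans (sb E5949 (iv D6160)))
theorem E6712 : n6186 = n3041 := (((F5346).symm.trans (sb E5950 (iv F10042)))).symm
theorem E6713 : n4368 = n3927 := ((D4368).symm.trans (sb E5950 F21537))
theorem E6715 : n2503 = n2275 := (((F4130).symm.trans (sb E5952 (tr F21988 E6678)))).symm
theorem E6716 : n6245 = n2858 := ((((iv F5002)).symm.trans (sb E5952 F21989))).symm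
theorem E6718 : n6188 = n2772 := (((D2772).symm.trans (sb E5953 (iv D10288)))).symm
theorem E6719 : n3670 = n2584 := ((F20660).symm.trans (sb E5954 (tr (iv F10193) E6534)))
theorem E6720 : n6066 = n3003 := (((F5292).symm.trans (sb E5954 F9857))).symm
theorem E6722 : n6791 = n3039 := (((D3039).symm.trans (sb E5956 F21539))).symm
theorem E6723 : n6789 = n3040 := (((D3040).symm.trans (sb E5956 F21541))).symm
theorem E6724 : n6781 = n3035 := ((((iv F5332)).symm.trans (sb E5956 F21543))).symm
theorem E6725 : n6918 = n4724 := (((D4724).symm.trans (sb E5957 F18232))).symm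
theorem E6726 : n7071 = n4638 := ((((iv F7836)).symm.trans (sb E5957 F18234))).symm
theorem E6727 : n4748 = n3931 := ((D4748).symm.trans (sb E5958 F9960))
theorem E6728 : n6332 = n4404 := (((F20404).symm.trans (sb E5958 F21941))).symm
theorem E6729 : n4214 = n3254 := ((((iv F5720)).symm.trans (sb E5959 (iv D6691)))).symm
theorem E6730 : n9165 = n3391 := (((F6018).symm.trans (sb E5967 D9165))).symm
theorem E6734 : n8194 = n3607 := ((D8194).symm.trans (sb E5968 (iv D5482)))
theorem F22643 : act 3 n4999 = n6500 := (sb E5968 (iv F20351))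
theorem E6737 : n5079 = n2169 := ((((iv D2653)).symm.trans (sb E5970 (iv D8347)))).symm
theorem E6741 : n6800 = n3479 := (((iv F11098)).symm.trans (sb E5972 (tr (iv F13528) E6149)))
theorem E6743 : n10743 = n3492 := (((D3492).symm.trans (sb E5973 D10743))).symm
theorem E6744 : n4111 = n2139 := ((((iv D2589)).symm.trans (sb E5973 F10613))).symm
theorem E6745 : n4109 = n3493 := (((D3493).symm.trans (sb E5973 F10614))).symm
theorem E6746 : n4107 = n3495 := (((D3495).symm.trans (sb E5973 (iv D6471)))).symm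
theorem E6747 : n4967 = n4266 := ((((iv F7237)).symm.trans (sb E5975 (iv D8147)))).symm
theorem E6748 : n9632 = n5170 := (((D5170).symm.trans (sb E5978 D9632))).symm
theorem E6749 : n9633 = n3758 := ((((iv F6416)).symm.trans (sb E5978 D9633))).symm
theorem F22645 : act 3 n3460 = n3751 := (sb E5978 F9472)
theorem E6752 : n9635 = n3757 := ((((iv F6415)).symm.trans (sb E5986 D9635))).symm
theorem E6755 : n7968 = n4576 := ((((iv F7723)).symm.trans (sb E5987 (iv F13252)))).symm
theorem F22647 : act 3 n3461 = n3705 := (sb E5989 F9342)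
theorem F22648 : act 4 n2877 = n3165 := (sb E6004 (iv D4583))
theorem F22649 : act 4 n3162 = n3301 := (sb E6005 F8217)
theorem E6777 : n4857 = n4817 := (((iv F8203)).symm.trans (sb E6006 (iv F8127)))
theorem E6778 : n7963 = n3280 := ((((iv F5755)).symm.trans (sb E6007 (iv F13239)))).symm
theorem F22650 : act 4 n2489 = n3299 := (sb E6007 (iv D4860))
theorem E6779 : n5688 = n4856 := (((D4856).symm.trans (sb E6008 (iv F9332)))).symm
theorem F22651 : act 2 n3298 = n5694 := (sb E6008 (iv F9339))
theorem F22652 : act 4 n3298 = n2688 := (sb E6008 (iv D3703))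
theorem E6780 : n5696 = n4858 := (((D4858).symm.trans (sb E6008 D5696))).symm
theorem E6783 : n10561 = n6335 := ((D10561).symm.trans (sb E6010 (iv D10527)))
theorem F22653 : act 4 n6356 = n7052 := (sb E6010 F17578)
theorem E6785 : n11254 = n9597 := (((iv F18924)).symm.trans (sb E6014 (iv F15898)))
theorem E6786 : n11268 = n9592 := (((D9592).symm.trans (sb E6018 (iv F18964)))).symm
theorem E6789 : n9592 = n1060 := ((((iv F1695)).symm.trans (sb E6631 (tr D11268 E6786)))).symm
theorem E6790 : n6236 = n1060 := ((((iv F1696)).symm.trans (sb E6631 F11064))).symm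
theorem E6791 : n9597 = n635 := (((E6519).symm.trans ((D1276).symm.trans (sb E6631 (tr (iv F18926) E6785))))).symm
theorem E6792 : n9739 = n5588 := ((D9739).symm.trans (sb E6029 F14074))
theorem E6793 : n6508 = n5604 := ((D6508).symm.trans (sb E6033 F15468))
theorem E6795 : n6644 = n5751 := ((((iv F9427)).symm.trans (sb E6035 D6644))).symm
theorem F22665 : act 4 n3730 = n2976 := (sb E6035 F7147)
theorem E6797 : n3696 = n3694 := (((F6384).symm.trans (sb E6042 (iv D5681)))).symm
theorem E6800 : n5312 = n5270 := ((F9424).symm.trans (sb E6044 F13917))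
theorem F22668 : act 3 n7324 = n5512 := (sb E6046 (iv D9126))
theorem E6807 : n6312 = n3403 := (((D3403).symm.trans (sb E6052 F21922))).symm
theorem E6813 : n10079 = n4732 := ((((iv F8002)).symm.trans (sb E6055 F17189))).symm
theorem E6814 : n6222 = n4765 := (((D4765).symm.trans (sb E6055 (iv D10340)))).symm
theorem E6815 : n10839 = n6516 := ((((iv F10697)).symm.trans (sb E6056 (iv F18195)))).symm
theorem F22672 : act 5 n4142 = n4142 := (sb E6056 (iv D6542))
theorem F22673 : act 4 n7257 = n9943 := (sb E6058 F18770)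
theorem E6817 : n8052 = n4518 := (((F11974).symm.trans (sb E6058 F18771))).symm
theorem F22674 : act 3 n561 = n561 := (sb E6067 (iv D1154))
theorem E6829 : n2131 = n281 := (((F923).symm.trans (sb E6067 D2131))).symm
theorem E6830 : n1897 = n956 := ((((iv F3808)).symm.trans (sb E6067 F3890))).symm
theorem E6831 : n2132 = n1155 := (((D1155).symm.trans (sb E6067 D2132))).symm
theorem F22675 : act 3 n1895 = n1895 := (sb E6073 (iv D2396))
theorem E6840 : n3107 = n972 := (((F3045).symm.trans (sb E6073 D3107))).symm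
theorem E6841 : n2198 = n1228 := ((((iv F3864)).symm.trans (sb E6073 F4333))).symm
theorem E6842 : n2134 = n1167 := (((D1167).symm.trans (sb E6074 F4636))).symm
theorem E6844 : n2062 = n1047 := ((((iv F3817)).symm.trans (sb E6075 (iv F4025)))).symm
theorem F22676 : act 3 n1231 = n1231 := (sb E6075 F4023)
theorem E6845 : n1230 = n600 := ((((iv D1231)).symm.trans (sb E6075 (iv D2201)))).symm
theorem E6875 : n4858 = n3699 := (((iv F8204)).symm.trans (sb E6098 (tr (iv D5777) E6343)))
theorem E6876 : n9601 = n7385 := ((((iv F12213)).symm.trans (sb E6098 D9601))).symm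
theorem E6887 : n6685 = n5685 := ((D6685).symm.trans (sb E6105 (iv F13657)))
theorem F22679 : act 5 n4212 = n4843 := (sb E6106 (iv D7933))
theorem E6889 : n3074 = n2858 := ((F20578).symm.trans (sb E6108 (tr F11890 E6716)))
theorem F22682 : act 1 n4154 = n4549 := (sb E6111 (iv D7329))
theorem E6891 : n8006 = n3979 := (((F7104).symm.trans (sb E6111 F21782))).symm
theorem E6893 : n7770 = n3976 := (((F7105).symm.trans (sb E6111 (iv F12874)))).symm
theorem E6894 : n8928 = n5400 := ((((iv F8954)).symm.trans (sb E6120 (iv F14904)))).symm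
theorem E6895 : n5243 = n3495 := ((((iv F6114)).symm.trans (sb E6122 (iv D8630)))).symm
theorem F22693 : act 1 n2763 = n2763 := (sb E6124 (iv D3835))
theorem F22695 : act 6 n2763 = n2788 := (sb E6124 (iv F13718))
theorem F22696 : act 5 n5356 = n5356 := (sb E6125 (iv D8833))
theorem E6896 : n5555 = n5553 := (((iv F20526)).symm.trans (sb E6125 (iv F20531)))
theorem E6897 : n8707 = n6483 := (((iv F14580)).symm.trans (sb E6126 F20443))
theorem F22698 : act 0 n3369 = n2592 := (sb E6127 F6094)
theorem E6898 : n5211 = n4266 := (((E6747).symm.trans ((D4967).symm.trans (sb E6127 (iv F8708))))).symm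
theorem E6899 : n5213 = n4962 := ((((iv F8392)).symm.trans (sb E6127 (iv F8712)))).symm
theorem F22699 : act 6 n3369 = n2583 := (sb E6127 (iv D3482))
theorem E6901 : n8873 = n6514 := (((iv F14826)).symm.trans (sb E6131 F18132))
theorem F22700 : act 6 n5396 = n6504 := (sb E6131 F18133)
theorem E6902 : n8923 = n6513 := ((D8923).symm.trans (sb E6132 F22441))
theorem E6903 : n8874 = n6513 := (((iv F14828)).symm.trans (sb E6132 F18130))
theorem E6904 : n8916 = n6502 := (((iv F14891)).symm.trans (sb E6132 (iv D10806)))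
theorem F22701 : act 0 n4129 = n3556 := (sb E6133 (iv D5374))
theorem F22702 : act 4 n4129 = n3566 := (sb E6133 F8920)
theorem E6906 : n8875 = n6515 := (((D6515).symm.trans (sb E6133 D8875))).symm
theorem F22703 : act 0 n5070 = n3568 := (sb E6134 F8951)
theorem F22704 : act 1 n5070 = n5366 := (sb E6134 F20715)
theorem E6908 : n8924 = n8326 := ((((iv F14009)).symm.trans (sb E6134 (iv F14901)))).symm
theorem F22705 : act 5 n5070 = n3566 := (sb E6134 (iv D5398))
theorem F22706 : act 0 n4123 = n3565 := (sb E6135 (iv D5393))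
theorem F22707 : act 6 n4123 = n3566 := (sb E6135 F8946)
theorem E6909 : n10764 = n8877 := (((D8877).symm.trans (sb E6136 F18180))).symm
theorem E6910 : n8871 = n6510 := (((iv F14824)).symm.trans (sb E6136 (iv D10827)))
theorem F22708 : act 1 n4137 = n3200 := (sb E6137 (iv D4641))
theorem F22709 : act 3 n4137 = n3556 := (sb E6137 F7841)
theorem E6914 : n10765 = n5292 := (((F8922).symm.trans (sb E6138 D10765))).symm
theorem E6915 : n8878 = n4112 := ((D8878).symm.trans (sb E6138 (iv D6482)))
theorem E6916 : n5056 = n3555 := ((F20477).symm.trans (sb E6139 (iv D5373)))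
theorem F22710 : act 4 n4127 = n3565 := (sb E6139 F8918)
theorem F22711 : act 6 n4127 = n3556 := (sb E6139 F8919)
theorem E6918 : n8929 = n8320 := (((D8320).symm.trans (sb E6140 (iv F14906)))).symm
theorem F22712 : act 6 n5067 = n3568 := (sb E6140 (iv D5401))
theorem E6919 : n2659 = n2552 := (((iv F4746)).symm.trans (sb E6141 F6012))
theorem E6920 : n3564 = n2551 := (((iv F6200)).symm.trans (sb E6141 (iv D3417)))
theorem E6921 : n5007 = n2655 := ((((iv F4742)).symm.trans (sb E6141 F20690))).symm
theorem E6922 : n8913 = n5068 := (((iv F14888)).symm.trans (sb E6142 (iv D8323)))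
theorem E6923 : n8917 = n6510 := ((D8917).symm.trans (sb E6142 F22279))
theorem E6924 : n8918 = n5068 := ((D8918).symm.trans (sb E6142 F20962))
theorem F22713 : act 5 n3416 = n3565 := (sb E6143 (iv D5395))
theorem E6926 : n2603 = n2553 := ((F20270).symm.trans (sb E6144 F6017))
theorem E6928 : n5020 = n3546 := ((((iv F6182)).symm.trans (sb E6145 (tr D5074 E6197)))).symm
theorem E6929 : n2605 = n2559 := (((iv F20279)).symm.trans (sb E6145 F6014))
theorem E6930 : n5057 = n3554 := ((((iv F6186)).symm.trans (sb E6145 (iv F8508)))).symm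
theorem E6931 : n3391 = n2170 := (((F4711).symm.trans (sb E6145 F6015))).symm
theorem E6933 : n3390 = n2171 := (((D2171).symm.trans (sb E6147 (iv D5010)))).symm
theorem E6934 : n4942 = n4929 := (((D4929).symm.trans (sb E6148 (iv F8367)))).symm
theorem E6935 : n4944 = n4062 := ((((iv F20979)).symm.trans (sb E6148 (iv F8369)))).symm
theorem E6936 : n6393 = n3485 := (((F6098).symm.trans (sb E6150 (iv F21672)))).symm
theorem E6944 : n3638 = n3546 := ((((iv F6182)).symm.trans (sb E6155 (iv D5549)))).symm
theorem E6948 : n4998 = n2657 := ((((iv F20333)).symm.trans (sb E6156 F13809))).symm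
theorem E6949 : n6382 = n4061 := (((D4061).symm.trans (sb E6157 (iv F10483)))).symm
theorem F22715 : act 6 n2900 = n2900 := (sb E6157 (iv D4063))
theorem F22716 : act 6 n5236 = n5236 := (sb E6158 (iv D8616))
theorem F22717 : act 6 n2899 = n2899 := (sb E6159 (iv D4060))
theorem F22718 : act 6 n2239 = n2226 := (sb E6161 F4871)
theorem F22719 : act 6 n2878 = n3333 := (sb E6162 (iv F13690))
theorem E6953 : n5971 = n4493 := ((D5971).symm.trans (sb E6163 (iv F20487)))
theorem F22720 : act 3 n3842 = n3513 := (sb E6163 F6622)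
theorem F22721 : act 5 n3842 = n2788 := (sb E6163 (iv D3881))
theorem E6954 : n7602 = n4690 := (((D4690).symm.trans (sb E6165 (iv F12614)))).symm
theorem F22722 : act 6 n3223 = n3223 := (sb E6165 (iv D4692))
theorem E6956 : n8086 = n3355 := ((((iv F20708)).symm.trans (sb E6166 (iv F20992)))).symm
theorem F22723 : act 6 n3492 = n3492 := (sb E6166 (iv D5238))
theorem F22724 : act 6 n2523 = n3349 := (sb E6167 (iv D4932))
theorem E6958 : n5613 = n2528 := (((D2528).symm.trans (sb E6170 (iv D9345)))).symm
theorem E6960 : n2746 = n2243 := (((F4906).symm.trans (sb E6176 (iv D3808)))).symm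
theorem E6961 : n5906 = n3884 := (((D3884).symm.trans (sb E6176 D5906))).symm
theorem F22728 : act 3 n3381 = n2690 := (sb E6179 F6299)
theorem E6963 : n5497 = n4987 := ((((iv F8428)).symm.trans (sb E6179 (iv F9089)))).symm
theorem F22729 : act 6 n3381 = n2662 := (sb E6179 (iv D3645))
theorem E6965 : n5486 = n4990 := (((D4990).symm.trans (sb E6183 (iv D9068)))).symm
theorem F22730 : act 1 n2681 = n2612 := (sb E6185 (iv D3539))
theorem E6966 : n5336 = n3687 := (((D3687).symm.trans (sb E6185 D5336))).symm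
theorem F22731 : act 3 n2681 = n2617 := (sb E6185 F6171)
theorem F22732 : act 0 n2793 = n3842 := (sb E6186 (iv F6558))
theorem E6968 : n5341 = n3610 := ((D5341).symm.trans (sb E6187 (iv D5488)))
theorem E6970 : n5343 = n3612 := ((D5343).symm.trans (sb E6187 F9075))
theorem F22733 : act 0 n2658 = n2617 := (sb E6188 (iv D3545))
theorem E6971 : n3637 = n3381 := ((D3637).symm.trans (sb E6188 F20219))
theorem E6973 : n9204 = n2683 := (((E6240).symm.trans (((iv F20353)).symm.trans (sb E6189 D9204)))).symm
theorem E6974 : n3642 = n3641 := ((E6237).symm.trans ((D5353).symm.trans (sb E6189 F9154)))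
theorem E6975 : n5353 = n3641 := (E6237).trans E6974
theorem F22734 : act 6 n2660 = n2617 := (sb E6190 (iv D3547))
theorem F22735 : act 5 n5357 = n5357 := (sb E6191 (iv D8835))
theorem E6976 : n8828 = n5554 := (((iv F14779)).symm.trans (sb E6191 F20527))
theorem E6977 : n6054 = n5961 := (((iv F9832)).symm.trans (sb E6192 F14744))
theorem F22736 : act 5 n5344 = n5344 := (sb E6192 (iv D8803))
theorem E6978 : n8799 = n5492 := (((iv F14736)).symm.trans (sb E6192 F20528))
theorem F22737 : act 6 n3640 = n3548 := (sb E6193 F8896)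
theorem F22738 : act 3 n3837 = n3542 := (sb E6194 F6637)
theorem F22739 : act 6 n3837 = n2793 := (sb E6194 (iv D3887))
theorem E6979 : n8390 = n8286 := ((((iv F13951)).symm.trans (sb E6195 D8390))).symm
theorem E6980 : n5074 = n3546 := (E6197).trans E6928
theorem E6982 : n3407 = n2683 := (((E6240).symm.trans (((iv F20353)).symm.trans (sb E6980 (tr F8536 E6225))))).symm
theorem E6984 : n8289 = n5950 := (((iv F13953)).symm.trans (sb E6198 F21450))
theorem E6985 : n10089 = n5969 := (((iv F16738)).symm.trans (sb E6199 F16500))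
theorem E6986 : n5940 = n3868 := ((((iv F6596)).symm.trans (sb E6201 F9836))).symm
theorem F22741 : act 3 n3841 = n5348 := (sb E6201 F9837)
theorem E6987 : n7244 = n5970 := (((D5970).symm.trans (sb E6201 (iv F20977)))).symm
theorem E6989 : n8175 = n8174 := ((((iv F22603)).symm.trans (iv (sb E6209 (tr F14513 E6446))))).symm
theorem F22751 : act 5 n4532 = n6500 := (sb E6218 (iv D10801))
theorem E6993 : n5436 = n4187 := (((F7652).symm.trans (sb E6219 (iv D8985)))).symm
theorem F22752 : act 0 n4507 = n6500 := (sb E6220 F18109)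
theorem F22753 : act 6 n4507 = n6498 := (sb E6220 (iv D10799))
theorem E6996 : n7888 = n4007 := (((F6833).symm.trans (sb E6221 (iv F13068)))).symm
theorem E6998 : n5114 = n5050 := (((F13946).symm.trans (sb E6224 (iv D8411)))).symm
theorem E6999 : n3435 = n2683 := (E6225).trans E6982
theorem F22757 : act 1 n2683 = n2559 := (sb E6999 (iv D3435))
theorem E7000 : n5050 = n3689 := ((((iv F6349)).symm.trans (sb E6999 (tr D5114 E6998)))).symm
theorem E7001 : n4529 = n3275 := ((((iv F5747)).symm.trans (sb E6999 (tr (iv F7693) E6366)))).symm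
theorem E7003 : n5114 = n3689 := (E6998).trans E7000
theorem E7004 : n4557 = n3275 := (E6366).trans E7001
theorem F22761 : act 6 n2531 = n2137 := (sb E6229 (iv D2585))
theorem F22762 : act 0 n3701 = n3730 := (sb E6235 F9421)
theorem E7010 : n7871 = n5691 := (((D5691).symm.trans (sb E6235 F13655))).symm
theorem E7011 : n8825 = n5560 := ((((iv F9169)).symm.trans (sb E6235 (iv F20587)))).symm
theorem E7013 : n5560 = n5557 := (((D5557).symm.trans (sb E6975 (tr D8825 E7011)))).symm
theorem E7014 : n8798 = n5493 := ((((iv F9082)).symm.trans (sb E6975 (iv F14734)))).symm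
theorem F22764 : act 6 n3641 = n3546 := (sb E6975 (iv D5353))
theorem E7017 : n5494 = n5493 := (((iv F9083)).symm.trans (sb E6242 (tr (iv F20240) E7014)))
theorem E7018 : n5559 = n2660 := (((D2660).symm.trans (sb E6243 (iv F9166)))).symm
theorem E7019 : n5564 = n1193 := ((((iv D2172)).symm.trans (sb E6243 D5564))).symm
theorem E7020 : n2662 = n2661 := (((D2661).symm.trans (sb E6243 F6297))).symm
theorem E7023 : n8737 = n2682 := ((((iv F4777)).symm.trans (sb E6244 F15750))).symm
theorem E7024 : n9945 = n5701 := (((D5701).symm.trans (sb E6247 (iv F20589)))).symm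
theorem F22766 : act 3 n5092 = n5843 := (sb E6249 (iv D9737))
theorem F22767 : act 2 n2296 = n2296 := (sb E6251 (iv D2907))
theorem F22768 : act 5 n2943 = n2943 := (sb E6261 (iv D4143))
theorem E7035 : n6543 = n4140 := ((((iv F7073)).symm.trans (sb E6261 D6543))).symm
theorem E7036 : n4067 = n2901 := (((D2901).symm.trans (sb E6262 D4067))).symm
theorem F22769 : act 6 n2292 = n2292 := (sb E6262 (iv D2902))
theorem F22770 : act 5 n2982 = n4226 := (sb E6263 F7191)
theorem E7037 : n2911 = n2908 := (((D2908).symm.trans (sb E6264 (iv F5124)))).symm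
theorem F22771 : act 6 n2297 = n2297 := (sb E6264 (iv D2909))
theorem E7040 : n10086 = n6552 := ((((iv F10758)).symm.trans (sb E6284 F17622))).symm
theorem E7041 : n7437 = n4758 := (((F21083).symm.trans (sb E6284 (iv F20688)))).symm
theorem E7043 : n6430 = n2216 := ((((iv D2742)).symm.trans (sb E6287 F17887))).symm
theorem E7048 : n11150 = n5686 := (((D5686).symm.trans (sb E6300 (iv F18692)))).symm
theorem E7049 : n11144 = n9449 := ((((iv F15686)).symm.trans (sb E6303 (iv F18682)))).symm
theorem E7050 : n7758 = n7690 := ((D7758).symm.trans (sb E6305 F22081))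
theorem E7051 : n7760 = n6347 := ((D7760).symm.trans (sb E6305 F22083))
theorem F22784 : act 5 n9133 = n6527 := (sb E6312 F18219)
theorem F22785 : act 5 n4134 = n5515 := (sb E6313 (iv D9134))
theorem E7054 : n11637 = n11186 := ((((iv F18774)).symm.trans (sb E6318 F21345))).symm
theorem E7055 : n10552 = n4228 := ((((iv D6718)).symm.trans (sb E6318 F21347))).symm
theorem E7056 : n9999 = n8282 := (((iv F16590)).symm.trans (sb E6320 F18465))
theorem F22793 : act 3 n10810 = n6517 := (sb E6323 (iv D10840))
theorem E7057 : n10841 = n6517 := (((D6517).symm.trans (sb E6324 (iv F18198)))).symm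
theorem F22794 : act 5 n4130 = n4130 := (sb E6324 (iv D6518))
theorem F22797 : act 1 n4988 = n5066 := (sb E6328 (iv D8319))
theorem E7066 : n9480 = n6093 := (((D6093).symm.trans (sb E6337 (iv F15733)))).symm
theorem E7067 : n10543 = n4761 := (((D4761).symm.trans (sb E6338 (iv F17616)))).symm
theorem E7068 : n6053 = n4730 := ((((iv F7998)).symm.trans (sb E6338 F10421))).symm
theorem E7069 : n4756 = n4039 := (((iv F8042)).symm.trans (sb E6338 (iv D6346)))
theorem E7070 : n9553 = n4731 := (((D4731).symm.trans (sb E6339 (iv F17936)))).symm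
theorem E7071 : n6052 = n4728 := ((((iv F7992)).symm.trans (sb E6339 (iv D10084)))).symm
theorem E7073 : n5687 = n4856 := ((D5687).symm.trans (sb E6343 (iv F8201)))
theorem E7074 : n5694 = n2688 := ((F22651).symm.trans (sb E6344 (iv D3702)))
theorem E7075 : n5693 = n4817 := (((E6777).symm.trans ((D4857).symm.trans (sb E6344 D5693)))).symm
theorem E7076 : n5695 = n3699 := (((E6875).symm.trans ((D4858).symm.trans (sb E6344 D5695)))).symm
theorem F22803 : act 1 n3704 = n3461 := (sb E6345 F6398)
theorem E7077 : n5696 = n3699 := (E6780).trans E6875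
theorem F22804 : act 1 n7850 = n7396 := (sb E6354 F13243)
theorem F22805 : act 3 n7850 = n4859 := (sb E6354 F13244)
theorem F22806 : act 4 n7961 = n5660 := (sb E6355 (iv D9419))
theorem E7078 : n9472 = n7966 := ((((iv F13247)).symm.trans (sb E6355 (iv F15726)))).symm
theorem E7079 : n9454 = n7960 := (((F13251).symm.trans (sb E6356 (iv F15699)))).symm
theorem F22808 : act 2 n7961 = n5660 := (sb E6358 (iv D9418))
theorem F22810 : act 2 n3688 = n4859 := (sb E6360 (iv F22528))
theorem E7082 : n7850 = n3689 := ((((iv F6349)).symm.trans (iv (sb E6361 (tr F15647 E6973))))).symm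
theorem E7083 : n9421 = n3689 := (E6361).trans E7082
theorem E7084 : n4817 = n3700 := ((((iv F6355)).symm.trans (sb E7083 (tr F15648 E7075)))).symm
theorem E7087 : n7385 = n3698 := (((D3698).symm.trans (sb E6364 (tr (iv F15904) E6876)))).symm
theorem F22813 : act 1 n3275 = n3152 := (sb E7004 (iv D4557))
theorem E7091 : n6718 = n4758 := ((((iv F8044)).symm.trans (sb E7004 F21959))).symm
theorem E7092 : n6662 = n3279 := ((((iv F5754)).symm.trans (sb E7004 F21960))).symm
theorem E7093 : n9392 = n2998 := ((((iv F5252)).symm.trans (sb E6367 F15601))).symm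
theorem E7095 : n6765 = n4292 := (((iv F11013)).symm.trans (sb E6368 (iv D6853)))
theorem E7097 : n11383 = n7269 := ((((iv F11995)).symm.trans (sb E6368 D11383))).symm
theorem E7098 : n2829 = n727 := (((D727).symm.trans (sb E6370 (iv D3940)))).symm
theorem F22814 : act 5 n3277 = n3695 := (sb E6374 (iv D5679))
theorem F22815 : act 1 n3273 = n3537 := (sb E6375 (iv D5333))
theorem E7104 : n4374 = n4027 := ((((iv F6858)).symm.trans (sb E6376 (iv D6995)))).symm
theorem E7105 : n7450 = n4802 := (((D4802).symm.trans (sb E6376 (iv F22111)))).symm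
theorem E7106 : n4803 = n4802 := ((D4803).symm.trans (sb E6376 (tr F12348 E7105)))
theorem E7107 : n3185 = n3152 := (((F22813).symm.trans (sb E6377 (iv D4610)))).symm
theorem E7109 : n6422 = n3121 := (((D3121).symm.trans (sb E6380 D6422))).symm
theorem E7112 : n2998 = n2864 := (((D2864).symm.trans (sb E6382 (tr (iv F15599) E7093)))).symm
theorem E7113 : n4371 = n2876 := ((((iv F5036)).symm.trans (sb E6383 (iv D6986)))).symm
theorem E7114 : n9392 = n2864 := (E7093).trans E7112
theorem E7122 : n5535 = n2538 := ((((iv F4597)).symm.trans (sb E6423 (iv D9180)))).symm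
theorem E7124 : n5648 = n2543 := ((((iv F4606)).symm.trans (sb E6425 (iv D9400)))).symm
theorem E7126 : n8422 = n938 := (((F3819).symm.trans (sb E6428 (iv F21216)))).symm
theorem E7127 : n6819 = n2180 := (((D2180).symm.trans (sb E6428 (iv F11139)))).symm
theorem E7129 : n11710 = n4554 := (((D4554).symm.trans (sb E6431 F19763))).symm
theorem E7130 : n6984 = n4034 := ((((iv F6870)).symm.trans (sb E6432 (iv F13089)))).symm
theorem E7131 : n7058 = n2870 := (((D2870).symm.trans (sb E6433 F11607))).symm
theorem E7132 : n8980 = n2867 := ((((iv F5020)).symm.trans (sb E6433 (iv F14986)))).symm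
theorem E7133 : n6934 = n2871 := (((D2871).symm.trans (sb E6433 F11392))).symm
theorem F22816 : act 1 n2475 = n3135 := (sb E6434 (iv D4519))
theorem E7134 : n3926 = n2868 := (((D2868).symm.trans (sb E6435 F9943))).symm
theorem E7137 : n3060 = n2872 := (((D2872).symm.trans (sb E6436 F7340))).symm
theorem E7138 : n3045 = n2873 := (((D2873).symm.trans (sb E6436 (iv D4339)))).symm
theorem E7139 : n3251 = n2862 := ((D3251).symm.trans (sb E6437 (tr F16954 E6705)))
theorem E7140 : n4275 = n3241 := ((((iv F5698)).symm.trans (sb E6437 (tr F21663 E6708)))).symm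
theorem E7141 : n6130 = n3252 := (((D3252).symm.trans (sb E6437 (iv D10203)))).symm
theorem E7142 : n7072 = n3241 := (E6708).trans E7140
theorem F22817 : act 6 n2454 = n2454 := (sb E6443 (iv D3225))
theorem F22818 : act 6 n2453 = n2453 := (sb E6444 (iv D3222))
theorem F22819 : act 6 n2455 = n2402 := (sb E6445 (iv D3120))
theorem E7144 : n3559 = n3558 := (((iv F21060)).symm.trans (sb E6446 F22469))
theorem F22825 : act 0 n4200 = n3215 := (sb E6454 F7885)
theorem E7152 : n7286 = n3279 := (E6564).trans E7092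
theorem E7154 : n7575 = n4899 := (((iv F12550)).symm.trans (sb E6455 (iv F21888)))
theorem F22826 : act 0 n3126 = n2431 := (sb E6456 F5535)
theorem E7155 : n4501 = n3075 := ((D4501).symm.trans (sb E6456 (iv F5656)))
theorem F22827 : act 6 n3126 = n2427 := (sb E6456 (iv D3169))
theorem E7157 : n6230 = n4402 := ((((iv F7411)).symm.trans (sb E6457 D6230))).symm
theorem F22828 : act 2 n3332 = n3332 := (sb E6459 (iv F13728))
theorem F22829 : act 0 n2884 = n2514 := (sb E6460 F5877)
theorem F22830 : act 5 n2884 = n2512 := (sb E6460 (iv D3334))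
theorem F22831 : act 6 n2284 = n2512 := (sb E6461 F5851)
theorem E7158 : n4899 = n3342 := ((((iv F5903)).symm.trans (sb E6462 (iv F8291)))).symm
theorem E7159 : n3791 = n2806 := (((iv F6528)).symm.trans (sb E6463 (iv F6576)))
theorem F22832 : act 6 n2879 = n2514 := (sb E6463 (iv D3337))
theorem E7160 : n2504 = n1524 := ((((iv F2476)).symm.trans (sb E6464 (iv F4542)))).symm
theorem F22833 : act 6 n791 = n1060 := (sb E6464 (iv D2082))
theorem E7162 : n3861 = n3339 := (((D3339).symm.trans (sb E6466 D3861))).symm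
theorem E7163 : n3318 = n2893 := ((((iv F5086)).symm.trans (sb E6466 F5902))).symm
theorem E7164 : n3319 = n2894 := ((((iv F5088)).symm.trans (sb E6467 (iv D4890)))).symm
theorem F22834 : act 5 n2290 = n2083 := (sb E6468 F4546)
theorem F22835 : act 0 n793 = n1060 := (sb E6469 (iv D2079))
theorem E7165 : n2255 = n1527 := ((((iv F2481)).symm.trans (sb E6469 F5644))).symm
theorem E7167 : n2850 = n2428 := (((F5634).symm.trans (sb E6470 (iv F4979)))).symm
theorem F22836 : act 5 n1553 = n1060 := (sb E6471 (iv D2081))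
theorem F22838 : act 0 n4198 = n3214 := (sb E6474 F7883)
theorem E7170 : n3341 = n3214 := ((((iv F5613)).symm.trans (sb E6475 F7888))).symm
theorem E7173 : n7575 = n3342 := (E7154).trans E7158
theorem F22839 : act 6 n4195 = n3214 := (sb E6476 F7880)
theorem E7176 : n2815 = n1861 := (((iv F4938)).symm.trans (sb E6638 (tr D6244 E6623)))
theorem E7177 : n3075 = n1525 := ((((iv D2273)).symm.trans (sb E6638 (tr (iv F10186) E7155)))).symm
theorem F22842 : act 0 n2511 = n2517 := (sb E6481 F5891)
theorem E7182 : n4915 = n3330 := ((((iv F5866)).symm.trans (sb E6481 (iv F8316)))).symm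
theorem F22843 : act 5 n2511 = n2515 := (sb E6481 (iv D3340))
theorem E7183 : n3907 = n3326 := (((D3326).symm.trans (sb E6482 (iv F6675)))).symm
theorem E7184 : n4920 = n3327 := (((D3327).symm.trans (sb E6482 (iv F8324)))).symm
theorem F22844 : act 6 n2509 = n2517 := (sb E6482 (iv D3343))
theorem E7187 : n3325 = n2288 := (((D2288).symm.trans (sb E6485 D3325))).symm
theorem F22846 : act 4 n4040 = n3837 := (sb E6487 F8304)
theorem F22847 : act 5 n4040 = n3333 := (sb E6487 (iv D4907))
theorem E7190 : n7067 = n4248 := ((((iv F20249)).symm.trans (sb E6492 (iv F11633)))).symm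
theorem E7191 : n4640 = n4135 := ((D4640).symm.trans (sb E6492 (iv D6530)))
theorem E7192 : n9414 = n7438 := (((D7438).symm.trans (sb E6493 F20655))).symm
theorem E7193 : n5484 = n4759 := (((iv F20677)).symm.trans (sb E6493 F12856))
theorem E7195 : n7847 = n7432 := ((((iv F12317)).symm.trans (sb E6494 (iv F12987)))).symm
theorem E7197 : n6111 = n2828 := (((F5365).symm.trans (sb E6496 F21998))).symm
theorem E7198 : n4406 = n4215 := ((D4406).symm.trans (sb E6496 (iv D6694)))
theorem F22854 : act 3 n2977 = n2448 := (sb E6497 F5602)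
theorem F22855 : act 5 n2977 = n3250 := (sb E6497 (iv F5714))
theorem F22856 : act 6 n2977 = n2443 := (sb E6497 (iv D3205))
theorem E7199 : n4806 = n4341 := (((F7787).symm.trans (sb E6498 F12997))).symm
theorem E7200 : n3276 = n3137 := (((F5504).symm.trans (iv (sb E6499 (tr F20454 E7107))))).symm
theorem E7201 : n3632 = n3137 := (E6499).trans E7200
theorem E7202 : n4615 = n2410 := ((((iv D3137)).symm.trans (sb E7201 (iv F20564)))).symm
theorem E7205 : n4400 = n3999 := (((D3999).symm.trans (sb E6504 (iv F7405)))).symm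
theorem E7206 : n5431 = n3994 := ((((iv F6799)).symm.trans (sb E6504 (iv F8994)))).symm
theorem E7207 : n6124 = n2870 := (((F20641).symm.trans (sb E6505 (iv F20600)))).symm
theorem E7209 : n5429 = n3996 := (((D3996).symm.trans (sb E6505 F11587))).symm
theorem E7210 : n4882 = n4000 := (((D4000).symm.trans (sb E6506 (iv F10137)))).symm
theorem E7211 : n10879 = n8773 := (((D8773).symm.trans (sb E6507 (iv F18279)))).symm
theorem E7212 : n9904 = n5448 := ((((iv F9020)).symm.trans (sb E6507 F16734))).symm
theorem E7215 : n3490 = n2800 := (((F6633).symm.trans (sb E6508 (iv D5233)))).symm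
theorem E7216 : n8612 = n6051 := (((D6051).symm.trans (sb E6508 D8612))).symm
theorem F22860 : act 0 n3431 = n2639 := (sb E6509 F6223)
theorem F22861 : act 1 n3431 = n5051 := (sb E6509 (iv F8499))
theorem E7217 : n5444 = n5101 := ((((iv F8568)).symm.trans (sb E6509 (iv F9016)))).symm
theorem F22862 : act 5 n3431 = n2637 := (sb E6509 (iv D3588))
theorem E7218 : n6537 = n5447 := ((((iv F9019)).symm.trans (sb E6510 (iv F21850)))).symm
theorem E7219 : n5449 = n4433 := ((D5449).symm.trans (sb E6510 (iv D7102)))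
theorem F22863 : act 6 n3428 = n2639 := (sb E6511 (iv D3591))
theorem F22866 : act 2 n2762 = n2762 := (sb E6515 (iv D3833))
theorem F22867 : act 5 n2762 = n3332 := (sb E6515 (iv F13729))
theorem F22868 : act 3 n2764 = n2884 := (sb E6516 (iv F5064))
theorem F22869 : act 4 n2764 = n2884 := (sb E6516 (iv F5065))
theorem E7224 : n3827 = n2781 := ((((iv F4894)).symm.trans (sb E6517 (iv F6544)))).symm
theorem E7225 : n3824 = n2896 := ((((iv F6577)).symm.trans (sb E6518 (iv F6538)))).symm
theorem F22870 : act 3 n2767 = n2879 := (sb E6518 (iv F5052))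
theorem F22871 : act 4 n2767 = n2879 := (sb E6518 (iv F5053))
theorem F22872 : act 5 n2767 = n2239 := (sb E6518 (iv D2789))
theorem F22873 : act 6 n635 = n629 := (sb E6519 (iv D1276))
theorem F22874 : act 0 n2241 = n2767 := (sb E6520 (iv F4884))
theorem E7226 : n3820 = n2770 := ((((iv F4886)).symm.trans (sb E6520 D3820))).symm
theorem F22875 : act 6 n2241 = n2764 := (sb E6520 (iv F4882))
theorem F22876 : act 1 n2233 = n2515 := (sb E6521 F5897)
theorem E7227 : n3832 = n2778 := (((D2778).symm.trans (sb E6521 (iv F6548)))).symm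
theorem E7228 : n2774 = n2748 := (((iv F4889)).symm.trans (sb E6521 F4878))
theorem E7229 : n2981 = n2780 := (((D2780).symm.trans (sb E6522 (iv F21130)))).symm
theorem E7230 : n2775 = n2749 := (((iv F4890)).symm.trans (sb E6522 (iv D3814)))
theorem F22877 : act 3 n2219 = n2290 := (sb E6523 (iv F4162))
theorem F22878 : act 4 n2219 = n2290 := (sb E6523 (iv F4163))
theorem F22879 : act 6 n2219 = n1282 := (sb E6523 F4073)
theorem F22880 : act 0 n637 = n629 := (sb E6524 (iv D1273))
theorem E7231 : n2213 = n1288 := ((((iv F2086)).symm.trans (sb E6524 D2213))).symm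
theorem E7232 : n2214 = n1289 := (((D1289).symm.trans (sb E6524 D2214))).symm
theorem E7233 : n2216 = n1853 := ((D2216).symm.trans (sb E6525 F4081))
theorem F22881 : act 3 n1275 = n1553 := (sb E6526 (iv F2535))
theorem F22882 : act 4 n1275 = n1553 := (sb E6526 (iv F2536))
theorem F22883 : act 6 n1275 = n632 := (sb E6526 (iv D1281))
theorem E7234 : n6532 = n5443 := (((D5443).symm.trans (sb E6527 (iv F21853)))).symm
theorem F22884 : act 4 n3587 = n4198 := (sb E6527 F10852)
theorem F22885 : act 0 n2965 = n2636 := (sb E6528 (iv D3583))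
theorem F22886 : act 6 n2965 = n2637 := (sb E6528 F6220)
theorem E7235 : n5445 = n2942 := ((D5445).symm.trans (sb E6529 F7069))
theorem E7236 : n5446 = n2780 := ((D5446).symm.trans (sb E6529 (tr F7070 E7229)))
theorem E7237 : n5437 = n2941 := (((iv F9002)).symm.trans (sb E6529 (iv D4139)))
theorem E7238 : n5433 = n2947 := (((iv F8997)).symm.trans (sb E6530 F7067))
theorem F22887 : act 4 n3584 = n4195 := (sb E6530 F21263)
theorem E7239 : n5438 = n3429 := ((D5438).symm.trans (sb E6530 F21443))
theorem F22888 : act 5 n2557 = n2636 := (sb E6531 (iv D3585))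
theorem F22889 : act 6 n2521 = n2104 := (sb E6532 (iv D2525))
theorem E7240 : n3009 = n2137 := (((iv F5281)).symm.trans (sb E6533 (iv D2582)))
theorem E7241 : n3476 = n1825 := (((F4264).symm.trans (sb E6533 D3476))).symm
theorem E7242 : n3477 = n3012 := (((D3012).symm.trans (sb E6533 D3477))).symm
theorem E7243 : n3485 = n2925 := ((((iv F5143)).symm.trans (sb E6535 D3485))).symm
theorem E7244 : n2841 = n2352 := ((((iv F4269)).symm.trans (sb E6535 (iv F20819)))).symm
theorem E7246 : n4979 = n3489 := (((D3489).symm.trans (sb E6536 (iv F10189)))).symm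
theorem F22890 : act 5 n2594 = n2531 := (sb E6537 (iv D3375))
theorem F22894 : act 0 n2225 = n2235 := (sb E6540 F4892)
theorem F22895 : act 5 n2225 = n2233 := (sb E6540 (iv D2779))
theorem E7252 : n3870 = n2756 := (((D2756).symm.trans (sb E6541 D3870))).symm
theorem E7253 : n3869 = n2757 := (((D2757).symm.trans (sb E6541 (iv F6598)))).symm
theorem F22896 : act 6 n2223 = n2235 := (sb E6541 (iv D2782))
theorem E7264 : n2656 = n2544 := (((F5483).symm.trans (iv (sb E6551 (tr (iv F5748) E7200))))).symm
theorem E7268 : n6882 = n3581 := (((D3581).symm.trans (sb E6555 (iv F11253)))).symm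
theorem E7269 : n8401 = n2366 := ((((iv F4721)).symm.trans (sb E6555 (iv F21238)))).symm
theorem E7270 : n4276 = n2680 := ((((iv F4775)).symm.trans (sb E6555 F10133))).symm
theorem E7271 : n3401 = n2182 := ((D3401).symm.trans (iv (sb E6556 (tr F6016 E7264))))
theorem E7272 : n3438 = n2367 := (((D2367).symm.trans (sb E6557 F8586))).symm
theorem E7274 : n3436 = n2368 := (((D2368).symm.trans (sb E6557 (iv D5119)))).symm
theorem E7275 : n3582 = n3449 := ((D3582).symm.trans (sb E6558 F21590))
theorem E7276 : n5024 = n2678 := ((((iv F4771)).symm.trans (sb E6558 F21118))).symm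
theorem F22900 : act 3 n4911 = n4531 := (sb E6560 F20749)
theorem F22901 : act 4 n4037 = n3842 := (sb E6561 F8311)
theorem E7278 : n3316 = n2267 := ((((iv D2846)).symm.trans (sb E6562 (iv D4885)))).symm
theorem E7279 : n4531 = n2480 := (((F5752).symm.trans (sb E7152 F12027))).symm
theorem E7280 : n8995 = n4814 := ((((iv F8123)).symm.trans (sb E7152 (iv F15016)))).symm
theorem E7281 : n5051 = n2687 := (((F5753).symm.trans (sb E7152 F12029))).symm
theorem E7282 : n7283 = n2478 := ((((iv D3279)).symm.trans (sb E7152 F12030))).symm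
theorem E7283 : n8994 = n7288 := (((iv F15014)).symm.trans (iv (sb E6565 (tr (iv D10869) E7234))))
theorem E7285 : n11183 = n11181 := (((D11181).symm.trans (sb E6569 D11183))).symm
theorem F22909 : act 6 n7576 = n7036 := (sb E6570 F21611)
theorem E7286 : n6062 = n3975 := ((((iv F6764)).symm.trans (sb E6572 (iv F13612)))).symm
theorem E7287 : n3128 = n2267 := (((iv F5465)).symm.trans (sb E6573 (tr F7743 E7278)))
theorem E7288 : n7018 = n3981 := (((D3981).symm.trans (sb E6573 F11530))).symm
theorem F22922 : act 1 n7441 = n5686 := (sb E6585 F15640)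
theorem F22923 : act 5 n7441 = n10895 := (sb E6585 F18315)
theorem E7300 : n10895 = n10523 := ((D10895).symm.trans (sb E6586 F20471))
theorem E7301 : n6556 = n3131 := ((((iv F5470)).symm.trans (iv (sb E6586 (tr F12332 E7202))))).symm
theorem E7302 : n7442 = n3131 := (E6586).trans E7301
theorem E7303 : n5485 = n4507 := ((((iv F7608)).symm.trans (sb E7302 F20576))).symm
theorem E7304 : n4606 = n2416 := (((F5471).symm.trans (sb E7302 (iv D7442)))).symm
theorem E7305 : n4759 = n4183 := (((F22634).symm.trans (sb E7302 (tr (iv F20678) E7193)))).symm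
theorem E7307 : n11424 = n2870 := (((iv F19304)).symm.trans (sb E6596 (tr F20862 E7207)))
theorem E7308 : n2363 = n2344 := (((D2344).symm.trans (sb E6608 (iv D3037)))).symm
theorem F22935 : act 0 n2138 = n2350 := (sb E6610 F5268)
theorem E7309 : n2953 = n1178 := ((((iv D2138)).symm.trans (sb E6610 F5269))).symm
theorem F22936 : act 3 n2138 = n2347 := (sb E6610 F5270)
theorem E7310 : n2588 = n2345 := ((D2588).symm.trans (sb E6610 (iv D3004)))
theorem E7312 : n3740 = n309 := ((((iv D629)).symm.trans (sb E6611 (iv D5773)))).symm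
theorem E7314 : n2736 = n2246 := (((iv F4858)).symm.trans (sb E6612 (iv F4083)))
theorem E7315 : n2742 = n1855 := (((iv F4862)).symm.trans (sb E6612 F4072))
theorem F22937 : act 6 n2217 = n1280 := (sb E6612 (iv D2231))
theorem E7316 : n4253 = n2243 := (((D2243).symm.trans (sb E6635 (iv D6772)))).symm
theorem E7317 : n11254 = n635 := (E6785).trans E6791
theorem E7318 : n3034 = n2360 := (((D2360).symm.trans (sb E6614 (iv F5329)))).symm
theorem E7319 : n3031 = n2361 := (((D2361).symm.trans (sb E6614 (iv F5324)))).symm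
theorem F22938 : act 6 n1285 = n1274 := (sb E6615 (iv D2218))
theorem E7322 : n3807 = n2798 := (((F5136).symm.trans (sb E6616 (iv D5903)))).symm
theorem E7324 : n3975 = n3121 := ((((iv F5450)).symm.trans (sb E6617 (tr (iv F9845) E7286)))).symm
theorem E7325 : n6898 = n3974 := (((D3974).symm.trans (sb E6617 D6898))).symm
theorem E7326 : n6062 = n3121 := (E7286).trans E7324
theorem E7332 : n2251 = n1484 := ((((iv D2257)).symm.trans (sb E6620 (tr F17219 E6624)))).symm
theorem E7333 : n2863 = n2343 := ((D2863).symm.trans (sb E6621 F5249))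
theorem E7334 : n2853 = n2405 := (((iv F4982)).symm.trans (sb E6621 F5250))
theorem E7336 : n2370 = n2249 := (((F4135).symm.trans (sb E6621 F5251))).symm
theorem E7337 : n6311 = n3080 := (((D3080).symm.trans (sb E6622 F21230))).symm
theorem E7341 : n10162 = n2818 := ((((iv F4947)).symm.trans (sb E6625 (iv F16868)))).symm
theorem E7342 : n2818 = n2256 := (((F4106).symm.trans (sb E6625 (tr (iv F16869) E7341)))).symm
theorem F22939 : act 1 n2341 = n2350 := (sb E6626 F5015)
theorem F22940 : act 6 n2341 = n2277 := (sb E6626 (iv D2865))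
theorem E7348 : n6856 = n2381 := (((D2381).symm.trans (sb E6630 (iv F15614)))).symm
theorem E7349 : n2855 = n2427 := (((iv F4995)).symm.trans (sb E6633 (iv F5646)))
theorem E7351 : n4501 = n1525 := (E7155).trans E7177
theorem E7356 : n2531 = n2348 := (((D2348).symm.trans (sb E6639 (iv D3374)))).symm
theorem E7357 : n3489 = n2349 := (((D2349).symm.trans (sb E6639 (tr D4979 E7246)))).symm
theorem E7359 : n4979 = n2349 := (E7246).trans E7357
theorem E7362 : n4029 = n2366 := (((D2366).symm.trans (sb E6644 (iv D6328)))).symm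
theorem E7368 : n3628 = n2591 := (((F6113).symm.trans (sb E6655 F9134))).symm
theorem E7369 : n6475 = n5239 := ((((iv F8749)).symm.trans (sb E6655 (iv F20446)))).symm
theorem E7370 : n5242 = n3626 := ((D5242).symm.trans (sb E6655 (iv D5527)))
theorem E7373 : n9165 = n2170 := (E6730).trans E6931
theorem E7374 : n9389 = n5122 := ((((iv F8591)).symm.trans (sb E6658 D9389))).symm
theorem E7375 : n3683 = n3398 := (((F6041).symm.trans (sb E6658 F9258))).symm
theorem F22941 : act 1 n2542 = n2179 := (sb E6659 (iv D2679))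
theorem E7376 : n7267 = n5111 := ((D7267).symm.trans (sb E6661 (iv D8403)))
theorem E7377 : n7266 = n5112 := (((iv F11990)).symm.trans (sb E6661 F14116))
theorem E7378 : n7262 = n6322 := ((D7262).symm.trans (sb E6664 (iv F10375)))
theorem E7388 : n11311 = n3855 := ((((iv F6582)).symm.trans (sb E6671 (iv F19067)))).symm
theorem E7390 : n6827 = n4347 := ((((iv F7349)).symm.trans (sb E6671 F11161))).symm
theorem E7391 : n6815 = n2744 := (E6672).trans E6676
theorem E7392 : n3855 = n2823 := ((((iv F21456)).symm.trans (sb E7391 (tr (iv F19065) E7388)))).symm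
theorem E7394 : n6265 = n3314 := ((((iv F5831)).symm.trans (sb E7391 F11128))).symm
theorem E7395 : n4274 = n2389 := (((F21137).symm.trans (sb E7391 (iv D6815)))).symm
theorem E7400 : n2369 = n2302 := ((((iv F21458)).symm.trans (sb E6676 F4888))).symm
theorem E7401 : n3314 = n2861 := (((iv F5831)).symm.trans (sb E6676 (iv F5009)))
theorem E7403 : n6265 = n2861 := (E7394).trans E7401
theorem E7404 : n2676 = n2140 := (((F4656).symm.trans (sb E6679 F20416))).symm
theorem E7405 : n3171 = n2857 := (((iv F5539)).symm.trans (sb E6679 F5287))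
theorem F22956 : act 3 n6751 = n6621 := (sb E6682 (iv D11002))
theorem E7406 : n10304 = n6973 := (((D6973).symm.trans (sb E6685 D10304))).symm
theorem E7407 : n7146 = n6974 := (((D6974).symm.trans (sb E6685 F22134))).symm
theorem E7408 : n10277 = n6835 := ((((iv F11171)).symm.trans (sb E6685 (iv F22272)))).symm
theorem E7410 : n6975 = n3961 := ((D6975).symm.trans (sb E6685 (iv D6198)))
theorem F22960 : act 1 n4366 = n4246 := (sb E6686 F7505)
theorem E7411 : n6976 = n4425 := ((D6976).symm.trans (sb E6686 (iv F22263)))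
theorem E7412 : n6977 = n4246 := ((D6977).symm.trans (sb E6686 F7506))
theorem E7413 : n7147 = n6968 := ((((iv F11439)).symm.trans (sb E6686 D7147))).symm
theorem E7414 : n6978 = n3101 := ((D6978).symm.trans (sb E6686 (iv D4458)))
theorem E7415 : n10269 = n6768 := ((((iv F11021)).symm.trans (sb E6687 F17079))).symm
theorem E7416 : n6838 = n6180 := ((D6838).symm.trans (sb E6687 (iv D10275)))
theorem E7417 : n6969 = n4218 := ((D6969).symm.trans (sb E6688 (iv D6700)))
theorem E7418 : n6979 = n3098 := ((D6979).symm.trans (sb E6689 (iv D4452)))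
theorem E7419 : n6980 = n6126 := ((D6980).symm.trans (sb E6689 F22133))
theorem E7421 : n6837 = n6499 := ((((iv F10665)).symm.trans (sb E6693 F18114))).symm
theorem F22961 : act 2 n6753 = n6500 := (sb E6694 F17356)
theorem F22962 : act 6 n6753 = n6499 := (sb E6694 F17358)
theorem E7424 : n6276 = n6134 := (((iv F20348)).symm.trans (sb E6697 (iv F21938)))
theorem F22963 : act 2 n3930 = n3250 := (sb E6698 F8032)
theorem F22964 : act 6 n3930 = n3249 := (sb E6698 (iv D4749))
theorem E7426 : n6970 = n3986 := ((D6970).symm.trans (sb E6699 F21968))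
theorem E7427 : n10309 = n6971 := (((D6971).symm.trans (sb E6699 D10309))).symm
theorem E7428 : n6080 = n3964 := (((iv F9868)).symm.trans (sb E6699 F10057))
theorem E7429 : n6834 = n5989 := (((iv F11168)).symm.trans (sb E6699 (iv F22113)))
theorem E7430 : n6972 = n6226 := ((D6972).symm.trans (sb E6699 (iv F21970)))
theorem E7431 : n5646 = n3971 := ((F9741).symm.trans (sb E6699 F10058))
theorem F22965 : act 0 n2839 = n2805 := (sb E6700 (iv D3903))
theorem E7432 : n6081 = n2263 := (((F4963).symm.trans (sb E6700 D6081))).symm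
theorem F22966 : act 3 n2839 = n3055 := (sb E6700 F6669)
theorem E7433 : n4004 = n3931 := ((((iv F6724)).symm.trans (sb E6700 (iv F6813)))).symm
theorem E7434 : n3965 = n3950 := ((D3965).symm.trans (sb E6700 (iv F6740)))
theorem E7436 : n6816 = n4724 := (((iv F11129)).symm.trans (sb E6701 (tr (iv F11354) E6725)))
theorem E7437 : n6767 = n3956 := (((iv F11018)).symm.trans (sb E6701 (iv D6184)))
theorem E7438 : n6836 = n3962 := ((D6836).symm.trans (sb E6701 F22140))
theorem E7439 : n10195 = n6966 := (((D6966).symm.trans (sb E6702 D10195))).symm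
theorem F22967 : act 0 n2838 = n3057 := (sb E6703 F7368)
theorem F22968 : act 6 n2838 = n3055 := (sb E6703 (iv D4365))
theorem E7441 : n3960 = n2807 := ((D3960).symm.trans (sb E6704 F6670))
theorem F22969 : act 2 n2837 = n2805 := (sb E6704 (iv D3904))
theorem E7443 : n4005 = n3929 := ((((iv F6720)).symm.trans (sb E6704 (iv F6815)))).symm
theorem E7444 : n3951 = n2832 := (((F4961).symm.trans (sb E6704 (iv F6741)))).symm
theorem E7446 : n3923 = n2828 := (((iv F6711)).symm.trans (sb E6705 (tr F9956 E7197)))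
theorem E7447 : n4006 = n3928 := ((D4006).symm.trans (sb E6705 (iv D6131)))
theorem E7448 : n3952 = n2831 := ((D3952).symm.trans (sb E6706 (iv D3945)))
theorem E7449 : n3957 = n3854 := ((D3957).symm.trans (sb E6707 F6671))
theorem F22970 : act 3 n2836 = n3057 := (sb E6707 F6672)
theorem E7450 : n6085 = n3943 := ((((iv F6735)).symm.trans (sb E6707 D6085))).symm
theorem F22971 : act 6 n2836 = n2805 := (sb E6707 (iv D3905))
theorem E7451 : n4727 = n4417 := ((D4727).symm.trans (sb E7142 (iv D7072)))
theorem E7452 : n6294 = n4248 := (((iv F10318)).symm.trans (sb E6709 (tr (iv F11634) E7190)))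
theorem E7453 : n6769 = n3953 := ((D6769).symm.trans (sb E6709 (iv D6177)))
theorem E7454 : n4326 = n4262 := ((F7328).symm.trans (sb E6710 F7273))
theorem E7455 : n6818 = n4417 := ((((iv F7441)).symm.trans (sb E6710 (iv F11133)))).symm
theorem F22972 : act 4 n3955 = n3057 := (sb E6710 F7274)
theorem F22973 : act 6 n3955 = n3017 := (sb E6710 (iv D4286))
theorem F22974 : act 6 n3944 = n3054 := (sb E6711 (iv D4362))
theorem E7457 : n4327 = n4261 := (((iv F7329)).symm.trans (sb E6712 F21664))
theorem E7458 : n4329 = n4260 := (((iv F7331)).symm.trans (sb E6712 F21665))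
theorem E7459 : n6108 = n4330 := (((D4330).symm.trans (sb E6712 F21188))).symm
theorem F22975 : act 5 n3927 = n3057 := (sb E6713 (iv D4368))
theorem F22976 : act 6 n3927 = n4360 := (sb E6713 F7372)
theorem F22977 : act 4 n2275 = n2217 := (sb E6715 F4541)
theorem F22978 : act 5 n2275 = n2080 := (sb E6715 (iv D2503))
theorem E7467 : n4402 = n2849 := (((F5003).symm.trans (sb E6716 (tr F10222 E7157)))).symm
theorem E7468 : n6230 = n2849 := (E7157).trans E7467
theorem E7469 : n10282 = n3852 := (((D3852).symm.trans (sb E6718 (iv F17093)))).symm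
theorem E7470 : n9897 = n3846 := ((((iv F6566)).symm.trans (sb E6718 (iv F16429)))).symm
theorem E7472 : n9883 = n3853 := (((D3853).symm.trans (sb E6718 (iv F16408)))).symm
theorem E7473 : n3536 = n2458 := (((F20546).symm.trans (sb E6719 F22623))).symm
theorem E7474 : n5523 = n3481 := ((((iv F6093)).symm.trans (sb E6719 (iv F9131)))).symm
theorem E7475 : n2955 = n2460 := ((((iv F20579)).symm.trans (sb E6719 (iv F20658)))).symm
theorem E7476 : n2673 = n2596 := ((((iv F4665)).symm.trans (sb E6719 (iv D3670)))).symm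
theorem E7477 : n10094 = n4258 := (((D4258).symm.trans (sb E6720 D10094))).symm
theorem E7479 : n6273 = n4325 := (((D4325).symm.trans (sb E6722 F11074))).symm
theorem E7481 : n4431 = n4328 := (((D4328).symm.trans (sb E6723 F21632))).symm
theorem E7482 : n6776 = n4318 := ((((iv F7323)).symm.trans (sb E6723 F11073))).symm
theorem E7483 : n6775 = n4319 := (((D4319).symm.trans (sb E6724 F11053))).symm
theorem E7484 : n6758 = n4418 := ((F20307).symm.trans (sb E6725 (iv F11355)))
theorem E7485 : n4729 = n4416 := (((iv F7996)).symm.trans (sb E6726 (iv D7071)))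
theorem E7486 : n4018 = n2822 := (((F6723).symm.trans (sb E6727 F8030))).symm
theorem F22979 : act 3 n3931 = n3249 := (sb E6727 (iv D4748))
theorem E7487 : n5871 = n2839 := (((F6724).symm.trans (sb E6727 (iv F20908)))).symm
theorem E7488 : n6136 = n3936 := ((D6136).symm.trans (sb E6727 F20647))
theorem E7489 : n10505 = n7048 := (((D7048).symm.trans (sb E6728 (iv F17525)))).symm
theorem E7490 : n4755 = n4030 := (((iv F20406)).symm.trans (sb E6728 (iv D6332)))
theorem F22980 : act 0 n3254 = n2977 := (sb E6729 (iv D4214))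
theorem E7491 : n5484 = n4183 := (E7193).trans E7305
theorem E7492 : n2657 = n2538 := ((D2657).symm.trans (sb E7373 (tr F15284 E7122)))
theorem F22981 : act 1 n3607 = n4999 := (sb E6734 (iv D8194))
theorem E7496 : n5481 = n4999 := (((iv F9063)).symm.trans (sb E6734 F20727))
theorem E7498 : n3421 = n2654 := (((D2654).symm.trans (sb E6737 F8541))).symm
theorem E7499 : n11282 = n5208 := (((D5208).symm.trans (sb E6741 D11282))).symm
theorem E7502 : n6474 = n5236 := (((D5236).symm.trans (sb E6743 F18012))).symm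
theorem E7503 : n3667 = n1179 := (((F3946).symm.trans (sb E6744 (iv F22418)))).symm
theorem E7504 : n2929 = n2590 := (((D2590).symm.trans (sb E6744 F7017))).symm
theorem E7505 : n2927 = n2592 := (((D2592).symm.trans (sb E6744 (iv D4111)))).symm
theorem E7506 : n5240 = n2926 := ((D5240).symm.trans (sb E6745 (iv D4109)))
theorem E7507 : n5521 = n5244 := (((D5244).symm.trans (sb E6746 F20394))).symm
theorem E7508 : n8130 = n3355 := (((F7236).symm.trans (sb E6747 (iv F13548)))).symm
theorem E7509 : n3369 = n3007 := ((((iv D4266)).symm.trans (sb E6747 (iv D4967)))).symm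
theorem F22983 : act 3 n5170 = n5796 := (sb E6748 F15936)
theorem E7512 : n11146 = n5807 := ((((iv F9492)).symm.trans (sb E6749 (iv F18685)))).symm
theorem E7513 : n11143 = n5808 := (((D5808).symm.trans (sb E6752 (iv F18679)))).symm
theorem F22984 : act 4 n4576 = n4862 := (sb E6755 F13253)
theorem E7532 : n4857 = n3700 := (E6777).trans E7084
theorem E7534 : n5690 = n3299 := ((D5690).symm.trans (sb E7532 F8203))
theorem E7536 : n5689 = n3298 := (((iv F9334)).symm.trans (sb E7532 (iv D4857)))
theorem E7537 : n4814 = n3280 := (((iv F8124)).symm.trans (sb E7532 (tr D7963 E6778)))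
theorem F22986 : act 4 n4856 = n3699 := (sb E6779 (iv D5688))
theorem E7541 : n7960 = n2688 := (((F6352).symm.trans (sb E7077 (tr (iv F15697) E7079)))).symm
theorem E7544 : n4856 = n3704 := (((iv F22986)).symm.trans (sb E7077 F9341))
theorem E7545 : n7966 = n5660 := ((((iv F9286)).symm.trans (sb E7077 (tr D9472 E7078)))).symm
theorem F22987 : act 1 n6335 = n6356 := (sb E6783 (iv D10561))
theorem E7549 : n7242 = n1284 := (((D1284).symm.trans (sb E7317 F18924))).symm
theorem E7552 : n5770 = n516 := ((((iv D1060)).symm.trans (sb E6789 (iv D9592)))).symm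
theorem E7553 : n4170 = n516 := ((((iv D1060)).symm.trans (sb E6790 F10110))).symm
theorem F22991 : act 5 n5588 = n5843 := (sb E6792 (iv D9739))
theorem E7556 : n8825 = n5557 := (E7011).trans E7013
theorem E7557 : n10820 = n9326 := ((((iv F15502)).symm.trans (sb E6793 D10820))).symm
theorem F22993 : act 4 n5604 = n4134 := (sb E6793 F10684)
theorem E7558 : n11052 = n9551 := ((((iv F15839)).symm.trans (sb E6795 D11052))).symm
theorem F22994 : act 4 n5751 = n4212 := (sb E6795 F10878)
theorem F22996 : act 5 n3694 = n2685 := (sb E6797 (iv D3696))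
theorem E7561 : n8654 = n5392 := (((iv F14491)).symm.trans (sb E6800 F20556))
theorem E7563 : n4413 = n4020 := (((iv F7436)).symm.trans (sb E6807 (iv D6312)))
theorem E7564 : n5039 = n2366 := ((D5039).symm.trans (sb E6807 (tr F10347 E7362)))
theorem E7570 : n7695 = n6048 := ((D7695).symm.trans (sb E6813 (iv D10079)))
theorem E7571 : n10339 = n7769 := ((((iv F12871)).symm.trans (sb E6814 D10339))).symm
theorem E7572 : n10836 = n10834 := ((((iv F18189)).symm.trans (sb E6815 F18196))).symm
theorem E7573 : n4765 = n4518 := (((iv F8052)).symm.trans (iv (sb E6817 (tr F16293 E7091))))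
theorem E7574 : n8068 = n7259 := (((D7259).symm.trans (sb E6817 (iv F13424)))).symm
theorem F23004 : act 6 n4518 = n4911 := (sb E6817 (iv D8052))
theorem E7587 : n1169 = n569 := (((D569).symm.trans (sb E6829 F3933))).symm
theorem E7590 : n977 = n475 := (((F1519).symm.trans (sb E6830 F3049))).symm
theorem F23005 : act 3 n956 = n956 := (sb E6830 (iv D1897))
theorem E7591 : n2580 = n2133 := (((D2133).symm.trans (sb E6831 D2580))).symm
theorem F23006 : act 3 n1155 = n1155 := (sb E6831 F3934)
theorem E7603 : n2399 = n1934 := (((D1934).symm.trans (sb E6840 F5421))).symm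
theorem E7605 : n2495 = n2063 := (((F3371).symm.trans (sb E6841 (iv F4517)))).symm
theorem F23007 : act 3 n1228 = n1228 := (sb E6841 (iv D2198))
theorem F23008 : act 4 n1167 = n1167 := (sb E6842 (iv D2134))
theorem E7606 : n2207 = n1264 := (((F3850).symm.trans (sb E6842 (iv F4041)))).symm
theorem E7609 : n1235 = n603 := ((((iv F3828)).symm.trans (sb E6844 F3841))).symm
theorem E7610 : n2493 = n509 := ((((iv D1047)).symm.trans (sb E6844 D2493))).symm
theorem F23009 : act 3 n1047 = n1047 := (sb E6844 (iv D2062))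
theorem F23010 : act 3 n600 = n600 := (sb E6845 (iv D1230))
theorem E7650 : n5684 = n4578 := (((iv F9329)).symm.trans (sb E6875 F8204))
theorem F23017 : act 0 n5685 = n4212 := (sb E6887 F10925)
theorem F23018 : act 2 n5685 = n4211 := (sb E6887 (iv D6685))
theorem E7652 : n9446 = n5808 := (((iv F15681)).symm.trans (sb E6887 (tr D11143 E7513)))
theorem E7653 : n3998 = n2467 := ((D3998).symm.trans (sb E6889 F20535))
theorem E7654 : n6227 = n6193 := ((D6227).symm.trans (sb E6891 (iv F13329)))
theorem E7655 : n4504 = n3974 := (((iv F7599)).symm.trans (sb E6891 (tr F13326 E7325)))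
theorem E7657 : n4886 = n2847 := ((((iv D3979)).symm.trans (sb E6891 (iv D8006)))).symm
theorem E7658 : n3976 = n3134 := ((((iv D4518)).symm.trans (iv (sb E6893 (tr (iv D7770) E7573))))).symm
theorem E7659 : n7770 = n3134 := (E6893).trans E7658
theorem E7660 : n4506 = n2847 := (((iv F7604)).symm.trans (sb E7659 (tr F21375 E7657)))
theorem E7661 : n4510 = n3884 := (((iv F7618)).symm.trans (sb E7659 (tr F21376 E6961)))
theorem F23019 : act 1 n5400 = n5400 := (sb E6894 (iv D8928))
theorem F23020 : act 1 n3495 = n3495 := (sb E6895 (iv D5243))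
theorem E7665 : n9222 = n9217 := (((D9217).symm.trans (sb E6896 (iv F15362)))).symm
theorem F23021 : act 5 n5553 = n3640 := (sb E6896 (iv D5555))
theorem F23022 : act 6 n5553 = n5356 := (sb E6896 F20526)
theorem F23023 : act 4 n6483 = n5304 := (sb E6897 F14580)
theorem F23024 : act 0 n4266 = n3495 := (sb E6898 F8707)
theorem E7670 : n8579 = n4102 := (((F7237).symm.trans (sb E6898 (iv F14370)))).symm
theorem F23025 : act 6 n4266 = n3479 := (sb E6898 (iv D5211))
theorem F23027 : act 6 n4962 = n3480 := (sb E6899 (iv D5213))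
theorem F23029 : act 4 n6514 = n5396 := (sb E6901 F14826)
theorem F23030 : act 0 n6513 = n5399 := (sb E6902 F14899)
theorem F23031 : act 3 n6513 = n5397 := (sb E6902 (iv D8923))
theorem E7673 : n5399 = n5375 := ((F23030).symm.trans (sb E6903 F14827))
theorem F23032 : act 4 n6513 = n5397 := (sb E6903 F14828)
theorem F23033 : act 0 n6502 = n5394 := (sb E6904 F14890)
theorem F23034 : act 6 n6502 = n5397 := (sb E6904 F14891)
theorem F23035 : act 0 n6515 = n5376 := (sb E6906 F14829)
theorem F23036 : act 0 n8326 = n5400 := (sb E6908 F14900)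
theorem F23037 : act 5 n8326 = n5397 := (sb E6908 (iv D8924))
theorem F23038 : act 0 n8877 = n10833 := (sb E6909 (iv F18185))
theorem F23039 : act 6 n8877 = n6481 := (sb E6909 (iv D10764))
theorem F23040 : act 4 n6510 = n5394 := (sb E6910 F14823)
theorem F23041 : act 6 n6510 = n5375 := (sb E6910 F14824)
theorem F23044 : act 6 n5292 = n6483 := (sb E6914 F18050)
theorem F23045 : act 6 n4112 = n5376 := (sb E6915 (iv D8878))
theorem E7674 : n3611 = n3411 := (((iv F6251)).symm.trans (sb E6916 F8505))
theorem F23046 : act 1 n3555 = n4127 := (sb E6916 (iv F20477))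
theorem E7675 : n5372 = n3410 := (((iv F8916)).symm.trans (sb E6916 (iv D5056)))
theorem F23047 : act 6 n8320 = n5400 := (sb E6918 (iv D8929))
theorem F23048 : act 0 n2552 = n2627 := (sb E6919 F4746)
theorem E7676 : n3521 = n2118 := ((((iv D2552)).symm.trans (sb E6919 F20330))).symm
theorem F23049 : act 3 n2552 = n2182 := (sb E6919 F4747)
theorem F23050 : act 6 n2552 = n2625 := (sb E6919 F4748)
theorem E7677 : n5392 = n3416 := (((D3416).symm.trans (sb E6920 D5392))).symm
theorem F23051 : act 2 n2551 = n2627 := (sb E6920 F6200)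
theorem E7679 : n3630 = n3389 := ((((iv F5986)).symm.trans (sb E6920 (iv F6281)))).symm
theorem F23052 : act 6 n2551 = n2626 := (sb E6920 (iv D3564))
theorem F23053 : act 1 n2655 = n3389 := (sb E6921 (iv D5007))
theorem F23054 : act 1 n5068 = n5394 := (sb E6922 F14888)
theorem F23055 : act 3 n6510 = n5394 := (sb E6923 (iv D8917))
theorem F23056 : act 5 n5068 = n5394 := (sb E6924 (iv D8918))
theorem F23057 : act 0 n2553 = n2626 := (sb E6926 (iv F20269))
theorem E7681 : n2672 = n2144 := (((iv F4765)).symm.trans (sb E6926 (iv D2603)))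
theorem F23058 : act 2 n2553 = n2625 := (sb E6926 (iv F20270))
theorem E7683 : n3517 = n3412 := ((((iv F6006)).symm.trans (sb E6926 (iv F6143)))).symm
theorem E7684 : n3396 = n3381 := ((((iv F20218)).symm.trans (sb E6928 (iv D5020)))).symm
theorem F23059 : act 5 n3546 = n8239 := (sb E6928 (iv F13875))
theorem E7687 : n5366 = n3641 := ((((iv F22764)).symm.trans (sb E6928 F20709))).symm
theorem F23060 : act 3 n2559 = n2626 := (sb E6929 F20279)
theorem E7690 : n5001 = n2646 := (((F6187).symm.trans (sb E6930 F8509))).symm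
theorem F23061 : act 5 n2171 = n2552 := (sb E6933 F5987)
theorem E7692 : n8105 = n8083 := (((D8083).symm.trans (sb E6934 D8105))).symm
theorem E7693 : n8102 = n6381 := ((((iv F21308)).symm.trans (sb E6934 (iv F13506)))).symm
theorem F23062 : act 6 n4062 = n3356 := (sb E6935 (iv D4944))
theorem E7694 : n6393 = n2925 := (E6936).trans E7243
theorem E7695 : n4106 = n2901 := ((D4106).symm.trans (sb E7694 (tr (iv D6393) E7036)))
theorem E7700 : n4998 = n2538 := (E6948).trans E7492
theorem E7706 : n5548 = n2617 := ((((iv D3546)).symm.trans (sb E6944 (iv F9156)))).symm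
theorem F23065 : act 3 n3546 = n2683 := (sb E6944 F6290)
theorem E7707 : n5490 = n5342 := ((((iv F8883)).symm.trans (sb E6944 (iv F9078)))).symm
theorem E7708 : n8239 = n2658 := ((F23059).symm.trans (sb E6944 (iv D3638)))
theorem E7709 : n8654 = n3416 := (E7561).trans E7677
theorem E7710 : n3384 = n2110 := ((((iv D2538)).symm.trans (sb E7700 (iv D4998)))).symm
theorem F23066 : act 2 n2538 = n8192 := (sb E7700 D8192)
theorem E7711 : n8177 = n3385 := ((((iv F5976)).symm.trans (sb E7700 (iv F13795)))).symm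
theorem F23067 : act 6 n4061 = n4061 := (sb E6949 (iv D6382))
theorem F23068 : act 1 n4493 = n3842 := (sb E6953 (iv D5971))
theorem F23069 : act 6 n4690 = n4690 := (sb E6954 (iv D7602))
theorem F23070 : act 6 n3355 = n4929 := (sb E6956 (iv D8086))
theorem E7715 : n3666 = n2599 := (((F20272).symm.trans (sb E6958 (iv D5613)))).symm
theorem E7719 : n3809 = n2799 := (((D2799).symm.trans (sb E6960 D3809))).symm
theorem F23071 : act 6 n4987 = n3614 := (sb E6963 (iv D5497))
theorem E7725 : n3609 = n3385 := (((E7711).symm.trans ((D8177).symm.trans (sb E6965 (iv D5486))))).symm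
theorem F23072 : act 1 n3687 = n4605 := (sb E6966 F8876)
theorem E7726 : n8785 = n5660 := (((D5660).symm.trans (sb E6966 D8785))).symm
theorem F23073 : act 0 n3610 = n3541 := (sb E6968 (iv D5341))
theorem E7728 : n5489 = n4987 := ((D5489).symm.trans (sb E6968 F20238))
theorem F23074 : act 6 n3612 = n3541 := (sb E6970 (iv D5343))
theorem F23075 : act 2 n3381 = n2658 := (sb E6971 (iv D3637))
theorem E7729 : n5547 = n2690 := (((F22728).symm.trans (sb E6971 D5547))).symm
theorem E7730 : n5558 = n2687 := ((((iv F4780)).symm.trans (sb E6973 F15335))).symm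
theorem F23076 : act 6 n5554 = n5357 := (sb E6976 F14779)
theorem F23077 : act 3 n5961 = n5344 := (sb E6977 F9832)
theorem F23079 : act 6 n5492 = n5344 := (sb E6978 F14736)
theorem F23080 : act 5 n8286 = n6657 := (sb E6979 F22206)
theorem E7731 : n2690 = n2548 := (((iv F4783)).symm.trans (sb E6982 (iv D3407)))
theorem E7733 : n9924 = n5052 := ((D9924).symm.trans (sb E6984 (iv D8289)))
theorem E7734 : n9903 = n6021 := ((((iv F9778)).symm.trans (sb E6985 F16737))).symm
theorem E7735 : n6713 = n6019 := ((((iv F9774)).symm.trans (sb E6986 (iv F21441)))).symm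
theorem F23083 : act 3 n5970 = n5006 := (sb E6987 F11956)
theorem F23084 : act 4 n5970 = n4518 := (sb E6987 F11957)
theorem E7740 : n5513 = n5004 := ((F20627).symm.trans (sb E6989 F13791))
theorem F23086 : act 0 n4187 = n3584 := (sb E6993 F9000)
theorem E7745 : n8986 = n4136 := ((((iv F21981)).symm.trans (sb E6993 D8986))).symm
theorem F23087 : act 6 n4187 = n3587 := (sb E6993 F9001)
theorem E7749 : n10126 = n6288 := (((D6288).symm.trans (sb E6996 (iv F19771)))).symm
theorem E7750 : n8405 = n5664 := (((D5664).symm.trans (sb E7003 (iv F14117)))).symm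
theorem E7753 : n3706 = n3408 := (((iv F6360)).symm.trans (sb E7000 F8496))
theorem E7758 : n8286 = n3700 := ((((iv F6355)).symm.trans (sb E7000 D8286))).symm
theorem E7759 : n3282 = n3141 := (((iv F5758)).symm.trans (sb E7001 (iv D4529)))
theorem F23089 : act 0 n5691 = n5751 := (sb E7010 F13650)
theorem F23090 : act 4 n5691 = n5685 := (sb E7010 F13036)
theorem E7763 : n9226 = n5604 := ((D9226).symm.trans (sb E7556 F20586))
theorem E7764 : n9228 = n5602 := ((D9228).symm.trans (sb E7556 F20588))
theorem E7770 : n9082 = n6526 := (((iv F15149)).symm.trans (sb E7013 (iv F21416)))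
theorem E7771 : n9083 = n6552 := ((D9083).symm.trans (sb E7014 (tr F20241 E7040)))
theorem F23092 : act 6 n5493 = n5342 := (sb E7014 (iv D8798))
theorem E7772 : n3614 = n3613 := (((F9081).symm.trans (sb E7017 F9083))).symm
theorem E7773 : n9084 = n3612 := ((((iv D5493)).symm.trans (sb E7017 (iv F15152)))).symm
theorem F23093 : act 5 n2660 = n3641 := (sb E7018 (iv D5559))
theorem E7777 : n5092 = n1195 := ((((iv F1951)).symm.trans (sb E7019 F9171))).symm
theorem E7780 : n5591 = n1142 := (((F1948).symm.trans (sb E7019 (iv F9209)))).symm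
theorem E7782 : n2671 = n2556 := (((iv F4764)).symm.trans (sb E7020 F4750))
theorem E7783 : n3643 = n2185 := ((D3643).symm.trans (sb E7020 F4751))
theorem F23094 : act 5 n2661 = n2172 := (sb E7020 (iv D2662))
theorem F23095 : act 6 n2661 = n3381 := (sb E7020 (iv F22729))
theorem E7787 : n6859 = n3085 := ((((iv F5378)).symm.trans (sb E7023 F14623))).symm
theorem E7788 : n6359 = n5972 := (((iv F19766)).symm.trans (sb E7024 (iv D9945)))
theorem E7789 : n10439 = n7886 := ((((iv F13063)).symm.trans (sb E7024 (iv F20850)))).symm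
theorem F23096 : act 5 n4140 = n6538 := (sb E7035 F10747)
theorem F23097 : act 6 n2901 = n4059 := (sb E7036 F6954)
theorem F23098 : act 6 n2908 = n2298 := (sb E7037 (iv D2911))
theorem E7794 : n8797 = n7688 := (((F20789).symm.trans (sb E7040 (iv F20237)))).symm
theorem F23099 : act 1 n4758 = n4604 := (sb E7041 (iv D7437))
theorem E7795 : n6430 = n1853 := (E7043).trans E7233
theorem F23100 : act 3 n1853 = n10679 := (sb E7795 D10679)
theorem F23104 : act 5 n5686 = n6688 := (sb E7048 (iv D11150))
theorem F23106 : act 2 n9449 = n6686 := (sb E7049 F18681)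
theorem F23108 : act 2 n7690 = n4760 := (sb E7050 (iv D7758))
theorem F23113 : act 6 n6347 = n4760 := (sb E7051 (iv D7760))
theorem F23118 : act 1 n11186 = n11821 := (sb E7054 (iv F19974))
theorem E7801 : n11751 = n10036 := (((F18775).symm.trans (sb E7054 (iv F19856)))).symm
theorem F23119 : act 5 n11186 = n7036 := (sb E7054 (iv D11637))
theorem F23120 : act 5 n4228 = n6714 := (sb E7055 F17646)
theorem F23121 : act 1 n8282 = n6757 := (sb E7056 F16590)
theorem E7802 : n8288 = n8282 := ((D8288).symm.trans (iv (sb E7056 (tr F16592 E7733))))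
theorem F23124 : act 5 n6517 = n6517 := (sb E7057 (iv D10841))
theorem E7806 : n9880 = n6378 := (((iv F20591)).symm.trans (sb E7066 F19767))
theorem E7807 : n7761 = n7691 := ((((iv F12757)).symm.trans (sb E7067 (iv F21776)))).symm
theorem E7808 : n7750 = n6345 := (((iv F12852)).symm.trans (sb E7067 (iv D10543)))
theorem F23132 : act 6 n4730 = n3886 := (sb E7068 (iv D6053))
theorem F23133 : act 0 n4039 = n3253 := (sb E7069 (iv D4756))
theorem F23134 : act 3 n4039 = n3273 := (sb E7069 F8041)
theorem E7809 : n7257 = n4039 := (((iv F11974)).symm.trans (iv (sb E7069 (tr (iv F8054) E7573))))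
theorem F23135 : act 6 n4039 = n3255 := (sb E7069 F8042)
theorem F23136 : act 1 n4731 = n5751 := (sb E7070 (iv D9553))
theorem E7810 : n9972 = n7687 := ((((iv F12749)).symm.trans (sb E7070 (iv F17938)))).symm
theorem F23137 : act 0 n4728 = n3886 := (sb E7071 (iv D6052))
theorem E7811 : n5687 = n3704 := (E7073).trans E7544
theorem F23138 : act 4 n3704 = n9452 := (sb E7811 D9452)
theorem E7815 : n9452 = n3699 := ((((iv F6352)).symm.trans (sb E7074 (iv F15691)))).symm
theorem F23139 : act 2 n2688 = n3298 := (sb E7074 (iv F22651))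
theorem F23140 : act 2 n3699 = n3704 := (sb E7076 F9340)
theorem E7823 : n9472 = n5660 := (E7078).trans E7545
theorem E7824 : n7961 = n5698 := (((iv F22806)).symm.trans (sb E7823 F15725))
theorem E7827 : n7396 = n5664 := (((D5664).symm.trans (sb E7082 F22804))).symm
theorem E7828 : n5663 = n4859 := (((iv F9289)).symm.trans (sb E7082 F22805))
theorem E7830 : n5685 = n4576 := ((D5685).symm.trans (sb E7087 (iv D7385)))
theorem E7831 : n4604 = n4540 := ((F23099).symm.trans (sb E7091 F21754))
theorem E7832 : n11186 = n7752 := ((((iv F12854)).symm.trans (sb E7091 (iv F18774)))).symm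
theorem E7833 : n9941 = n7688 := ((((iv F12751)).symm.trans (sb E7091 (iv F16505)))).symm
theorem E7835 : n4240 = n4228 := (((iv F21083)).symm.trans (sb E7091 (iv D6718)))
theorem E7836 : n4211 = n4200 := ((F21381).symm.trans (sb E7092 (iv D6662)))
theorem E7838 : n5640 = n4009 := (((D4009).symm.trans (sb E7114 (iv D9392)))).symm
theorem E7839 : n11241 = n4273 := (((F7285).symm.trans (sb E7095 (iv F18892)))).symm
theorem E7840 : n4250 = n4009 := (((E7838).symm.trans ((F20902).symm.trans (sb E7095 (iv D6765))))).symm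
theorem E7842 : n11243 = n3020 := ((((iv D4292)).symm.trans (sb E7095 D11243))).symm
theorem E7843 : n10536 = n4271 := (((F7288).symm.trans (sb E7095 (iv F17598)))).symm
theorem E7844 : n7269 = n2873 := (((E7138).symm.trans ((D3045).symm.trans (iv (sb E7097 (tr (iv F21237) E7269)))))).symm
theorem E7845 : n11383 = n2873 := (E7097).trans E7844
theorem E7846 : n4020 = n3581 := (((iv F6848)).symm.trans (sb E7845 (tr F19219 E7268)))
theorem E7847 : n2257 = n1452 := (((D1452).symm.trans (sb E7098 (iv D2829)))).symm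
theorem E7856 : n6874 = n6324 := ((((iv F10378)).symm.trans (sb E7104 (iv F21204)))).symm
theorem E7857 : n6867 = n6325 := (((D6325).symm.trans (sb E7104 (iv F21207)))).symm
theorem E7858 : n6326 = n3059 := ((D6326).symm.trans (sb E7104 (iv D4374)))
theorem E7860 : n7848 = n4820 := (((iv F12988)).symm.trans (sb E7106 (iv F8133)))
theorem E7861 : n7852 = n6325 := ((((iv F10381)).symm.trans (sb E7106 D7852))).symm
theorem E7862 : n7849 = n3275 := ((D7849).symm.trans (sb E7106 F8108))
theorem E7863 : n7851 = n3274 := ((((iv D4802)).symm.trans (sb E7106 (iv F12993)))).symm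
theorem F23144 : act 4 n4802 = n3689 := (sb E7106 F8109)
theorem E7864 : n2435 = n2420 := (((F5502).symm.trans (sb E7107 (iv D3185)))).symm
theorem E7865 : n4611 = n4556 := ((((iv F7690)).symm.trans (sb E7107 D4611))).symm
theorem E7868 : n10665 = n2845 := (((F5450).symm.trans (sb E7109 D10665))).symm
theorem E7869 : n6086 = n4491 := (((D4491).symm.trans (sb E7109 (iv F13752)))).symm
theorem E7870 : n4007 = n2999 := (((iv F6818)).symm.trans (sb E7112 (iv F5255)))
theorem E7871 : n3211 = n2411 := ((F20284).symm.trans (sb E7112 F5252))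
theorem E7872 : n4010 = n2342 := (((F5013).symm.trans (sb E7112 (iv F6827)))).symm
theorem E7873 : n2814 = n2382 := ((F5014).symm.trans (sb E7112 F5253))
theorem E7874 : n4032 = n3061 := (((iv F6866)).symm.trans (sb E7113 F7375))
theorem E7875 : n4035 = n3058 := ((D4035).symm.trans (sb E7113 (iv D4371)))
theorem E7885 : n9398 = n3078 := ((((iv F5368)).symm.trans (sb E7124 D9398))).symm
theorem E7889 : n5122 = n1859 := (((D1859).symm.trans (sb E7126 F14142))).symm
theorem E7892 : n4295 = n2385 := ((((iv F4308)).symm.trans (sb E7127 F11136))).symm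
theorem E7893 : n7087 = n6857 := ((((iv F11475)).symm.trans (sb E7129 (iv D11710)))).symm
theorem E7894 : n9426 = n6875 := (((F21423).symm.trans (sb E7129 F19762))).symm
theorem E7895 : n6335 = n4375 := (((iv F10396)).symm.trans (sb E7130 F11461))
theorem E7896 : n6339 = n5108 := (((iv F10405)).symm.trans (sb E7130 F21955))
theorem E7897 : n6340 = n4369 := ((D6340).symm.trans (sb E7130 (iv D6984)))
theorem E7898 : n4411 = n4021 := (((D4021).symm.trans (sb E7131 (iv D7058)))).symm
theorem E7900 : n6162 = n4015 := ((((iv F6841)).symm.trans (sb E7131 F11605))).symm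
theorem E7902 : n4412 = n4024 := (((D4024).symm.trans (sb E7131 F11606))).symm
theorem E7903 : n6121 = n4016 := (((D4016).symm.trans (sb E7132 (iv F20602)))).symm
theorem E7904 : n10415 = n3018 := ((((iv F5301)).symm.trans (sb E7132 (iv F17345)))).symm
theorem E7905 : n6120 = n4017 := (((D4017).symm.trans (sb E7132 F20401))).symm
theorem E7906 : n5988 = n4025 := (((D4025).symm.trans (sb E7133 F11380))).symm
theorem E7907 : n4013 = n3020 := (((iv F6836)).symm.trans (sb E7134 F6714))
theorem E7908 : n4014 = n3019 := ((((iv F5302)).symm.trans (sb E7134 (iv F6840)))).symm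
theorem E7909 : n4019 = n2819 := ((D4019).symm.trans (sb E7134 (iv D3926)))
theorem E7910 : n4370 = n4026 := (((D4026).symm.trans (sb E7137 (iv F7374)))).symm
theorem E7911 : n4028 = n2373 := ((D4028).symm.trans (sb E7137 (iv D3060)))
theorem E7912 : n4751 = n3929 := (((E7443).symm.trans ((D4005).symm.trans (sb E7139 D4751)))).symm
theorem E7916 : n4726 = n3017 := ((D4726).symm.trans (sb E7140 F7256))
theorem F23145 : act 0 n3252 = n3930 := (sb E7141 F9952)
theorem E7918 : n5380 = n2623 := ((((iv D3558)).symm.trans (sb E7144 (iv F8929)))).symm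
theorem E7919 : n2631 = n2630 := (((F6192).symm.trans (sb E7144 F6194))).symm
theorem E7926 : n4918 = n4673 := (((iv F8320)).symm.trans (sb E7173 F12550))
theorem E7928 : n3126 = n2271 := (((D2271).symm.trans (sb E7351 (iv D4501)))).symm
theorem E7930 : n10346 = n3972 := ((((iv F20917)).symm.trans (sb E7468 D10346))).symm
theorem F23153 : act 1 n2806 = n2879 := (sb E7159 F6528)
theorem E7933 : n3172 = n2268 := (((D2268).symm.trans (sb E7160 (iv F5638)))).symm
theorem F23154 : act 6 n1524 = n2080 := (sb E7160 (iv D2504))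
theorem E7937 : n4914 = n4198 := ((D4914).symm.trans (sb E7162 (iv F21483)))
theorem E7938 : n4197 = n4053 := ((((iv F6924)).symm.trans (sb E7162 F21155))).symm
theorem E7939 : n4048 = n3845 := (((iv F6908)).symm.trans (sb E7163 (iv F6563)))
theorem F23155 : act 5 n2893 = n2509 := (sb E7163 F5842)
theorem E7940 : n4002 = n2994 := (((iv F6809)).symm.trans (sb E7164 (iv F21135)))
theorem E7941 : n4195 = n4054 := (((D4054).symm.trans (sb E7164 (iv F21153)))).symm
theorem F23156 : act 5 n2894 = n2510 := (sb E7164 F5844)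
theorem F23157 : act 0 n1527 = n2080 := (sb E7165 (iv F5643))
theorem F23158 : act 0 n2428 = n2273 := (sb E7167 F4977)
theorem E7943 : n2321 = n2020 := ((((iv D2428)).symm.trans (sb E7167 F4978))).symm
theorem F23159 : act 3 n3214 = n2516 := (sb E7170 (iv D3341))
theorem F23160 : act 1 n1861 = n2273 := (sb E7176 F4938)
theorem E7950 : n3915 = n1136 := (((F3855).symm.trans (sb E7176 (iv F6694)))).symm
theorem F23161 : act 0 n3330 = n3342 := (sb E7182 F8315)
theorem F23162 : act 5 n3330 = n3339 := (sb E7182 (iv D4915))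
theorem E7956 : n3793 = n2808 := (((iv F6530)).symm.trans (sb E7183 F6674))
theorem E7957 : n6088 = n4896 := (((D4896).symm.trans (sb E7183 (iv F9882)))).symm
theorem E7958 : n3822 = n2898 := (((iv F6535)).symm.trans (sb E7183 F6678))
theorem F23163 : act 6 n3326 = n2806 := (sb E7183 (iv D3907))
theorem F23164 : act 6 n3327 = n3342 := (sb E7184 (iv D4920))
theorem E7963 : n2887 = n2771 := ((D2887).symm.trans (sb E7187 F6531))
theorem E7965 : n2889 = n2768 := ((D2889).symm.trans (sb E7187 (iv F6525)))
theorem E7968 : n6760 = n4415 := ((D6760).symm.trans (sb E7190 (iv D7067)))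
theorem F23165 : act 3 n4135 = n3555 := (sb E7191 F7839)
theorem F23166 : act 5 n4135 = n4725 := (sb E7191 (iv F7987))
theorem F23167 : act 6 n4135 = n3199 := (sb E7191 (iv D4640))
theorem F23168 : act 1 n7438 = n11568 := (sb E7192 (iv F19526))
theorem E7970 : n4086 = n2964 := ((((iv D4183)).symm.trans (sb E7491 F20676))).symm
theorem E7971 : n6621 = n6333 := ((D6621).symm.trans (sb E7491 (iv F20467)))
theorem E7972 : n6498 = n3608 := (((iv F10664)).symm.trans (sb E7491 (iv D5484)))
theorem F23170 : act 1 n7432 = n4801 := (sb E7195 (iv D7847))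
theorem E7974 : n3937 = n3921 := ((D3937).symm.trans (sb E7197 F9921))
theorem E7975 : n3938 = n3920 := ((D3938).symm.trans (sb E7197 (iv D6111)))
theorem F23171 : act 6 n4215 = n3076 := (sb E7198 (iv D4406))
theorem E7976 : n6329 = n3046 := ((((iv D4341)).symm.trans (sb E7199 (iv F10388)))).symm
theorem E7977 : n4522 = n4341 := (((iv F7635)).symm.trans (iv (sb E7199 (tr (iv D4806) E7200))))
theorem E7978 : n7857 = n5309 := ((((iv F21107)).symm.trans (sb E7199 D7857))).symm
theorem E7980 : n4523 = n2477 := ((D4523).symm.trans (sb E7200 (iv D3276)))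
theorem E7981 : n4596 = n3135 := (((D3135).symm.trans (sb E7202 F7795))).symm
theorem E7983 : n6941 = n3136 := (((D3136).symm.trans (sb E7202 (iv F11394)))).symm
theorem E7985 : n3187 = n1997 := (((F4363).symm.trans (sb E7202 (iv D4615)))).symm
theorem E7993 : n6272 = n3071 := ((D6272).symm.trans (sb E7205 (iv D4400)))
theorem E7994 : n6105 = n4021 := (((F20897).symm.trans (sb E7206 (iv F20387)))).symm
theorem E7995 : n4271 = n3071 := (((iv F7248)).symm.trans (sb E7206 (tr (iv F10274) E7993)))
theorem E7996 : n4015 = n3932 := (((iv F6841)).symm.trans (sb E7207 F9945))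
theorem E8000 : n6262 = n4310 := ((D6262).symm.trans (sb E7209 F21854))
theorem F23172 : act 2 n4000 = n4150 := (sb E7210 F21818)
theorem E8001 : n6275 = n3970 := ((D6275).symm.trans (sb E7210 F21821))
theorem F23174 : act 4 n8773 = n6714 := (sb E7211 F18280)
theorem E8002 : n9008 = n7108 := ((D9008).symm.trans (sb E7212 (iv F16443)))
theorem E8004 : n3000 = n2800 := (((iv F5259)).symm.trans (iv (sb E7215 (tr (iv D3490) E7310))))
theorem E8006 : n5234 = n3896 := (((D3896).symm.trans (sb E7215 D5234))).symm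
theorem E8007 : n10082 = n4507 := ((D10082).symm.trans (sb E7216 (tr F20475 E7303)))
theorem E8009 : n8998 = n5945 := ((((iv F21833)).symm.trans (sb E7217 (iv F15023)))).symm
theorem E8011 : n9003 = n4141 := (((iv F15029)).symm.trans (sb E7218 F10730))
theorem E8012 : n9004 = n4225 := (((iv F15030)).symm.trans (sb E7218 F10731))
theorem E8013 : n9006 = n5938 := ((D9006).symm.trans (sb E7218 F21439))
theorem F23177 : act 6 n4433 = n3590 := (sb E7219 (iv D5449))
theorem E8017 : n4225 = n3867 := ((((iv F6595)).symm.trans (sb E7224 (iv F21125)))).symm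
theorem E8018 : n5932 = n4056 := (((D4056).symm.trans (sb E7225 (iv F9667)))).symm
theorem E8019 : n5927 = n3848 := ((((iv F6567)).symm.trans (sb E7226 D5927))).symm
theorem F23182 : act 6 n2770 = n2883 := (sb E7226 F6521)
theorem E8020 : n5950 = n3862 := (((D3862).symm.trans (sb E7227 D5950))).symm
theorem E8022 : n3858 = n3812 := (((iv F6586)).symm.trans (sb E7227 F6549))
theorem F23183 : act 3 n2748 = n2893 := (sb E7228 (iv F5084))
theorem F23184 : act 4 n2748 = n2893 := (sb E7228 (iv F5085))
theorem F23185 : act 6 n2748 = n2233 := (sb E7228 F4889)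
theorem E8023 : n3865 = n2334 := ((D3865).symm.trans (sb E7229 F5228))
theorem E8024 : n3859 = n2333 := (((iv F6587)).symm.trans (sb E7229 (iv D2981)))
theorem F23186 : act 4 n2749 = n2894 := (sb E7230 (iv F5087))
theorem F23187 : act 6 n2749 = n2234 := (sb E7230 F4890)
theorem F23188 : act 0 n1288 = n1274 := (sb E7231 F4058)
theorem E8025 : n2248 = n1486 := (((F3825).symm.trans (sb E7231 (iv F5639)))).symm
theorem F23189 : act 0 n1289 = n1275 := (sb E7232 F4059)
theorem E8027 : n2740 = n2318 := ((((iv F4216)).symm.trans (sb E7233 D2740))).symm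
theorem E8028 : n10679 = n1274 := ((F23100).symm.trans (sb E7233 (iv D2216)))
theorem E8029 : n8996 = n4137 := ((D8996).symm.trans (sb E7234 F10721))
theorem F23190 : act 2 n2942 = n3589 := (sb E7235 (iv D5445))
theorem E8034 : n3866 = n3589 := ((((iv F6225)).symm.trans (sb E7236 F9018))).symm
theorem E8035 : n9004 = n3867 := (E8012).trans E8017
theorem F23191 : act 3 n2941 = n3584 := (sb E7237 (iv D5437))
theorem E8038 : n8989 = n3829 := (((F21129).symm.trans (sb E7237 D8989))).symm
theorem F23192 : act 6 n2941 = n3589 := (sb E7237 F9002)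
theorem F23193 : act 1 n2947 = n3584 := (sb E7238 F8997)
theorem F23194 : act 5 n3429 = n3584 := (sb E7239 (iv D5438))
theorem F23195 : act 2 n2137 = n2350 := (sb E7240 F5281)
theorem E8042 : n3174 = n2307 := ((((iv F4192)).symm.trans (sb E7241 (iv F6083)))).symm
theorem F23196 : act 0 n3012 = n2587 := (sb E7242 F6084)
theorem F23197 : act 1 n3012 = n3241 := (sb E7242 F20346)
theorem F23198 : act 2 n3012 = n2584 := (sb E7242 F6085)
theorem E8044 : n4104 = n3480 := (((iv F7006)).symm.trans (sb E7243 (iv F6098)))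
theorem E8045 : n2931 = n2905 := (((iv F5154)).symm.trans (sb E7243 F20719))
theorem E8046 : n3016 = n2264 := ((D3016).symm.trans (sb E7244 (iv D2841)))
theorem F23199 : act 3 n2352 = n2587 := (sb E7244 F20818)
theorem E8049 : n4398 = n3010 := (((D3010).symm.trans (sb E7359 (iv F11342)))).symm
theorem E8055 : n6024 = n3823 := (((D3823).symm.trans (sb E7252 D6024))).symm
theorem F23207 : act 6 n2756 = n2896 := (sb E7252 F6602)
theorem E8057 : n6020 = n3826 := (((D3826).symm.trans (sb E7253 (iv F9776)))).symm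
theorem F23208 : act 6 n2757 = n2781 := (sb E7253 (iv D3869))
theorem E8068 : n2593 = n2562 := ((((iv F4621)).symm.trans (sb E7264 F20354))).symm
theorem E8069 : n3400 = n3063 := (((iv F5998)).symm.trans (sb E7264 (iv F5348)))
theorem F23209 : act 3 n2544 = n2170 := (sb E7264 (iv D2656))
theorem F23210 : act 0 n3581 = n10426 := (sb E7268 (iv F17371))
theorem F23211 : act 5 n3581 = n11427 := (sb E7268 D11427)
theorem F23212 : act 6 n3581 = n4305 := (sb E7268 (iv D6882))
theorem E8072 : n5111 = n3046 := (((D3046).symm.trans (sb E7269 F14110))).symm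
theorem E8073 : n6886 = n3013 := ((((iv F5293)).symm.trans (sb E7269 F21434))).symm
theorem E8075 : n3685 = n3013 := ((D3685).symm.trans (sb E7270 (iv D4276)))
theorem F23213 : act 1 n2182 = n2544 := (sb E7271 (iv D3401))
theorem E8079 : n3752 = n2759 := ((((iv F20557)).symm.trans (sb E7272 (iv F22190)))).symm
theorem E8080 : n2606 = n2561 := ((F20357).symm.trans (sb E7272 F6037))
theorem E8081 : n4573 = n3014 := ((((iv F5295)).symm.trans (sb E7272 (iv F22191)))).symm
theorem E8082 : n3048 = n2560 := ((D3048).symm.trans (sb E7272 (iv D3438)))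
theorem E8084 : n3049 = n2566 := ((D3049).symm.trans (sb E7274 (iv F21630)))
theorem E8085 : n5029 = n2375 := ((((iv F4290)).symm.trans (sb E7274 (iv F8480)))).symm
theorem F23214 : act 1 n3449 = n2635 := (sb E7275 (iv D3582))
theorem F23215 : act 4 n3449 = n4000 := (sb E7275 (iv F6806))
theorem E8088 : n6216 = n3681 := (((D3681).symm.trans (sb E7276 (iv F21967)))).symm
theorem E8089 : n4499 = n2422 := (((F4479).symm.trans (sb E7279 F7648))).symm
theorem E8090 : n7288 = n3281 := ((((iv F5756)).symm.trans (sb E7279 (iv F12031)))).symm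
theorem E8091 : n4911 = n3257 := ((((iv F5723)).symm.trans (sb E7279 (iv F22900)))).symm
theorem E8092 : n3409 = n2185 := (((F4480).symm.trans (sb E7279 F7649))).symm
theorem E8094 : n8995 = n3280 := (E7280).trans E7537
theorem E8095 : n4813 = n3281 := (((iv F8121)).symm.trans (sb E8094 (tr F15015 E8090)))
theorem E8096 : n5442 = n4818 := (((D4818).symm.trans (sb E8094 (iv D8995)))).symm
theorem E8097 : n3701 = n3431 := ((D3701).symm.trans (sb E7281 (iv F22861)))
theorem E8098 : n5048 = n2183 := ((((iv D2687)).symm.trans (sb E7281 F8498))).symm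
theorem E8099 : n5440 = n3277 := (((D3277).symm.trans (sb E7282 F12019))).symm
theorem E8100 : n4818 = n3278 := (((D3278).symm.trans (sb E7282 (tr (iv F12021) E8096)))).symm
theorem E8101 : n6714 = n3255 := ((((iv F5721)).symm.trans (sb E7282 F22015))).symm
theorem E8102 : n4528 = n3273 := ((((iv F5744)).symm.trans (sb E7282 (iv D7283)))).symm
theorem E8103 : n8994 = n3281 := (E7283).trans E8090
theorem E8104 : n5443 = n4819 := (((D4819).symm.trans (sb E8103 F15014))).symm
theorem E8105 : n5442 = n3278 := (E8096).trans E8100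
theorem F23217 : act 1 n11181 = n9007 := (sb E7285 F18766)
theorem F23219 : act 5 n11181 = n6717 := (sb E7285 F18768)
theorem E8108 : n3893 = n3032 := ((((iv F5451)).symm.trans (sb E7326 (iv D6062)))).symm
theorem E8110 : n4492 = n2845 := (((D2845).symm.trans (sb E7287 (iv F7576)))).symm
theorem E8111 : n2846 = n2409 := ((D2846).symm.trans (sb E7287 F5464))
theorem E8112 : n2848 = n2406 := (((F4357).symm.trans (sb E7287 F5465))).symm
theorem E8113 : n6231 = n4386 := ((D6231).symm.trans (sb E7288 (iv D7018)))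
theorem E8117 : n10348 = n7019 := (((F17569).symm.trans (sb E7300 F18311))).symm
theorem E8118 : n10523 = n4512 := (((D4512).symm.trans (iv (sb E7300 (tr (iv D10895) E7301))))).symm
theorem E8119 : n10895 = n4512 := (E7300).trans E8118
theorem E8120 : n7441 = n3145 := (((F7622).symm.trans (sb E8119 (iv F22923)))).symm
theorem E8122 : n9054 = n6500 := (((F22752).symm.trans (sb E7303 (iv F15109)))).symm
theorem E8123 : n7107 = n7077 := (((iv F21098)).symm.trans (sb E7303 (iv F20468)))
theorem E8124 : n7433 = n3142 := (((F7609).symm.trans (sb E7303 (iv F20461)))).symm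
theorem E8125 : n4661 = n1995 := ((((iv D2416)).symm.trans (sb E7304 (iv F7870)))).symm
theorem E8126 : n3183 = n3146 := (((D3146).symm.trans (sb E7304 (iv D4606)))).symm
theorem E8127 : n6620 = n3254 := ((D6620).symm.trans (sb E7305 (iv D4759)))
theorem E8131 : n6881 = n4021 := (((D4021).symm.trans (sb E7307 F19303))).symm
theorem F23225 : act 6 n2344 = n1851 := (sb E7308 (iv D2363))
theorem E8135 : n2319 = n2141 := (((D2141).symm.trans (sb E7309 (iv D2953)))).symm
theorem F23226 : act 6 n2345 = n2138 := (sb E7310 (iv D2588))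
theorem E8137 : n2704 = n630 := (((D630).symm.trans (sb E7312 (iv D3740)))).symm
theorem F23227 : act 0 n2246 = n2217 := (sb E7314 F4858)
theorem E8141 : n2323 = n2300 := (((iv F4221)).symm.trans (sb E7315 F21145))
theorem F23228 : act 3 n1855 = n2217 := (sb E7315 F4862)
theorem E8142 : n4314 = n2798 := (((D2798).symm.trans (sb E7316 (iv F7316)))).symm
theorem E8143 : n3130 = n2791 := ((((iv F4906)).symm.trans (sb E7316 F7211))).symm
theorem E8145 : n4255 = n3030 := (((D3030).symm.trans (sb E7318 (iv F7218)))).symm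
theorem E8146 : n3036 = n3033 := (((D3033).symm.trans (sb E7319 (iv F5333)))).symm
theorem F23229 : act 6 n2361 = n2360 := (sb E7319 (iv D3031))
theorem E8149 : n5904 = n3892 := (((D3892).symm.trans (sb E7322 D5904))).symm
theorem E8151 : n4491 = n3979 := ((D4491).symm.trans (sb E7324 (iv F6775)))
theorem E8152 : n6910 = n6220 := (((D6220).symm.trans (sb E7325 (iv F11326)))).symm
theorem F23230 : act 1 n1484 = n1527 := (sb E7332 F4092)
theorem F23231 : act 0 n2343 = n2277 := (sb E7333 (iv D2863))
theorem E8160 : n3376 = n1993 := (((F4250).symm.trans (sb E7333 (iv F5961)))).symm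
theorem F23232 : act 3 n2343 = n2341 := (sb E7333 F5011)
theorem E8161 : n2810 = n1856 := (((F4251).symm.trans (sb E7333 F5012))).symm
theorem F23233 : act 2 n2405 = n2277 := (sb E7334 F4982)
theorem E8162 : n3124 = n2316 := (((iv F5459)).symm.trans (sb E7334 F4983))
theorem E8163 : n2813 = n2107 := (((F4355).symm.trans (sb E7334 F4984))).symm
theorem F23234 : act 6 n2249 = n1861 := (sb E7336 F4285)
theorem E8165 : n4413 = n3581 := (E7563).trans E7846
theorem E8166 : n6148 = n2833 := (((F5371).symm.trans (sb E7337 (iv F20752)))).symm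
theorem E8170 : n2811 = n2260 := (((iv F4925)).symm.trans (sb E7342 F4946))
theorem E8175 : n4296 = n3077 := (((D3077).symm.trans (sb E7348 F11210))).symm
theorem E8177 : n4293 = n3079 := (((D3079).symm.trans (sb E7348 (iv D6856)))).symm
theorem F23235 : act 2 n2427 = n2273 := (sb E7349 F4995)
theorem E8186 : n2594 = n2177 := (((F20289).symm.trans (sb E7356 (iv F22890)))).symm
theorem F23236 : act 6 n2348 = n2137 := (sb E7356 F22761)
theorem F23237 : act 6 n2349 = n2587 := (sb E7357 (iv D3489))
theorem F23238 : act 1 n2366 = n2873 := (sb E7362 (iv D4029))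
theorem E8202 : n4115 = n3496 := ((((iv F6115)).symm.trans (sb E7368 (iv F20315)))).symm
theorem E8203 : n3499 = n2653 := ((D3499).symm.trans (sb E7368 (iv D3628)))
theorem E8205 : n8622 = n5476 := ((D8622).symm.trans (sb E7369 F20428))
theorem F23239 : act 6 n3626 = n3494 := (sb E7370 (iv D5242))
theorem E8209 : n9389 = n1859 := (E7374).trans E7889
theorem E8210 : n5650 = n2377 := (((D2377).symm.trans (sb E8209 F15593))).symm
theorem E8211 : n5645 = n5027 := (((D5027).symm.trans (sb E7375 (iv F9272)))).symm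
theorem E8212 : n5028 = n2377 := ((D5028).symm.trans (sb E7375 (tr D5650 E8210)))
theorem E8213 : n7267 = n3046 := (E7376).trans E8072
theorem E8215 : n10534 = n3070 := ((((iv F5359)).symm.trans (sb E8213 (iv F17593)))).symm
theorem E8216 : n8404 = n7353 := ((D8404).symm.trans (sb E7377 (iv F12147)))
theorem E8217 : n5309 = n5112 := (((iv F21107)).symm.trans (iv (sb E7377 (tr F11990 E7977))))
theorem E8218 : n8406 = n7343 := ((D8406).symm.trans (sb E7377 (iv F12132)))
theorem E8219 : n8397 = n4521 := (((iv F14102)).symm.trans (sb E7377 (iv D7266)))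
theorem E8220 : n9851 = n5977 := (((iv F16327)).symm.trans (sb E7378 F11983))
theorem E8221 : n9854 = n5975 := (((iv F16343)).symm.trans (sb E7378 (iv F11984)))
theorem E8222 : n10503 = n9960 := (((iv F17522)).symm.trans (sb E7378 (iv F16532)))
theorem E8237 : n6921 = n6873 := (((iv F11357)).symm.trans (sb E7390 (iv F11238)))
theorem E8239 : n4001 = n3933 := (((D3933).symm.trans (sb E7392 (iv F6808)))).symm
theorem F23244 : act 5 n2861 = n3997 := (sb E7403 (iv D6265))
theorem E8242 : n3997 = n3095 := (((D3095).symm.trans (sb E7395 F7255))).symm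
theorem E8243 : n6812 = n3029 := ((((iv F5320)).symm.trans (sb E7395 (iv F11122)))).symm
theorem F23249 : act 1 n2302 = n1855 := (sb E7400 (iv D2369))
theorem F23250 : act 4 n2861 = n2744 := (sb E7401 F5831)
theorem E8248 : n2957 = n2430 := ((((iv F4398)).symm.trans (sb E7404 (iv F20412)))).symm
theorem F23251 : act 4 n2857 = n2587 := (sb E7405 F5539)
theorem F23252 : act 5 n2857 = n2428 := (sb E7405 (iv D3171))
theorem E8249 : n11761 = n11529 := (((D11529).symm.trans (sb E7406 (iv F19873)))).symm
theorem E8250 : n11822 = n11527 := ((((iv F19464)).symm.trans (sb E7407 D11822))).symm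
theorem E8251 : n11530 = n7079 := ((D11530).symm.trans (sb E7407 (iv F22102)))
theorem E8252 : n11531 = n6751 := ((D11531).symm.trans (sb E7407 F11768))
theorem E8253 : n11517 = n7144 := (((iv F19445)).symm.trans (sb E7407 F11769))
theorem E8254 : n11532 = n4457 := ((D11532).symm.trans (sb E7407 (iv D7146)))
theorem E8255 : n11596 = n11345 := (((D11345).symm.trans (sb E7408 F19561))).symm
theorem E8256 : n11246 = n6181 := (((iv F18905)).symm.trans (sb E7408 (iv D10277)))
theorem E8257 : n11347 = n6197 := ((D11347).symm.trans (sb E7408 F22273))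
theorem F23253 : act 0 n3961 = n4367 := (sb E7410 F11448)
theorem F23254 : act 6 n3961 = n4364 := (sb E7410 (iv D6975))
theorem F23255 : act 2 n4425 = n4366 := (sb E7411 (iv D6976))
theorem E8262 : n11518 = n7086 := (((D7086).symm.trans (sb E7411 (iv F19446)))).symm
theorem F23256 : act 4 n4246 = n4366 := (sb E7412 (iv D6977))
theorem E8265 : n11519 = n6757 := (((D6757).symm.trans (sb E7412 (iv F19448)))).symm
theorem E8267 : n11520 = n5913 := ((D11520).symm.trans (sb E7413 F11772))
theorem F23257 : act 3 n3101 = n4367 := (sb E7414 F11451)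
theorem F23258 : act 6 n3101 = n4366 := (sb E7414 (iv D6978))
theorem E8270 : n11248 = n6175 := ((D11248).symm.trans (sb E7415 (iv D10269)))
theorem F23259 : act 4 n6180 = n4367 := (sb E7416 F11177)
theorem E8272 : n11351 = n3954 := ((((iv D6180)).symm.trans (sb E7416 D11351))).symm
theorem F23260 : act 6 n6180 = n4285 := (sb E7416 (iv D6838))
theorem F23261 : act 6 n4218 = n4361 := (sb E7417 (iv D6969))
theorem F23262 : act 1 n3098 = n4367 := (sb E7418 (iv D6979))
theorem F23263 : act 5 n6126 = n4367 := (sb E7419 (iv D6980))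
theorem F23264 : act 6 n6126 = n6967 := (sb E7419 F11457)
theorem E8275 : n11346 = n10798 := ((((iv F18107)).symm.trans (sb E7421 (iv F19148)))).symm
theorem F23265 : act 3 n6499 = n4285 := (sb E7421 (iv D6837))
theorem E8277 : n11247 = n7294 := ((((iv F22476)).symm.trans (sb E7421 (iv F18907)))).symm
theorem F23266 : act 2 n6134 = n4725 := (sb E7424 F20348)
theorem F23267 : act 6 n6134 = n4724 := (sb E7424 F20349)
theorem F23268 : act 0 n3986 = n4363 := (sb E7426 (iv D6970))
theorem E8282 : n6202 = n4754 := ((F21621).symm.trans (sb E7426 F21072))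
theorem E8284 : n6243 = n5642 := ((D6243).symm.trans (sb E7426 F11444))
theorem E8287 : n9396 = n6215 := ((F15611).symm.trans (sb E7427 F17140))
theorem E8288 : n10104 = n3069 := (((F6749).symm.trans (sb E7428 D10104))).symm
theorem F23269 : act 3 n3964 = n4363 := (sb E7428 F9868)
theorem E8290 : n6999 = n6203 := (((D6203).symm.trans (sb E7428 (iv F11500)))).symm
theorem F23270 : act 1 n5989 = n4284 := (sb E7429 (iv D6834))
theorem F23271 : act 4 n5989 = n4363 := (sb E7429 F11168)
theorem E8294 : n5909 = n3852 := ((((iv D5989)).symm.trans (sb E7429 (iv F11169)))).symm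
theorem E8295 : n10344 = n10278 := ((D10344).symm.trans (sb E7430 (iv F17083)))
theorem F23272 : act 5 n6226 = n4363 := (sb E7430 (iv D6972))
theorem E8296 : n5644 = n3978 := ((((iv D6226)).symm.trans (sb E7430 F11446))).symm
theorem F23273 : act 6 n3971 = n4363 := (sb E7431 (iv F9741))
theorem E8300 : n6172 = n2840 := (((D2840).symm.trans (sb E7432 (iv F10014)))).symm
theorem F23274 : act 0 n3931 = n2862 := (sb E7433 (iv D4004))
theorem E8304 : n6204 = n6171 := (((D6171).symm.trans (sb E7434 D6204))).symm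
theorem F23275 : act 5 n3950 = n2839 := (sb E7434 (iv D3965))
theorem E8306 : n7678 = n4284 := ((D7678).symm.trans (sb E7436 F11129))
theorem F23276 : act 0 n3956 = n4251 := (sb E7437 (iv D6767))
theorem F23277 : act 4 n3956 = n4360 := (sb E7437 F11017)
theorem F23278 : act 5 n3956 = n4284 := (sb E7437 F11018)
theorem F23279 : act 6 n3962 = n4284 := (sb E7438 (iv D6836))
theorem E8310 : n6195 = n6132 := ((F11435).symm.trans (sb E7439 F16936))
theorem E8311 : n6193 = n3906 := ((((iv F6673)).symm.trans (sb E7441 D6193))).symm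
theorem F23280 : act 1 n2807 = n2837 := (sb E7441 (iv D3960))
theorem E8312 : n4422 = n3908 := (((D3908).symm.trans (sb E7441 (iv F7447)))).symm
theorem E8313 : n6132 = n2897 := ((((iv F5095)).symm.trans (sb E7441 (iv F9957)))).symm
theorem E8314 : n6195 = n2897 := (E8310).trans E8313
theorem F23281 : act 2 n3929 = n2862 := (sb E7443 (iv D4005))
theorem F23282 : act 2 n2832 = n2834 := (sb E7444 (iv D3951))
theorem E8328 : n3912 = n2834 := (((iv F6686)).symm.trans (sb E7446 F6710))
theorem F23283 : act 5 n2828 = n2862 := (sb E7446 F6711)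
theorem E8329 : n6129 = n3986 := ((D6129).symm.trans (sb E7447 F6816))
theorem F23284 : act 3 n3928 = n6268 := (sb E7447 (iv F10265))
theorem F23285 : act 6 n3928 = n2862 := (sb E7447 (iv D4006))
theorem F23286 : act 6 n2831 = n2834 := (sb E7448 (iv D3952))
theorem E8331 : n6185 = n5989 := ((((iv F9728)).symm.trans (sb E7449 D6185))).symm
theorem F23287 : act 1 n3854 = n2836 := (sb E7449 (iv D3957))
theorem E8332 : n6178 = n5978 := ((((iv F9715)).symm.trans (sb E7449 (iv F10032)))).symm
theorem E8333 : n6187 = n5991 := (((D5991).symm.trans (sb E7449 D6187))).symm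
theorem E8334 : n7062 = n3924 := (((F20861).symm.trans (sb E7450 (iv F11613)))).symm
theorem F23288 : act 6 n3943 = n3950 := (sb E7450 F9879)
theorem E8335 : n7684 = n6917 := ((((iv F11352)).symm.trans (sb E7451 D7684))).symm
theorem F23289 : act 2 n4417 = n3242 := (sb E7451 F7988)
theorem F23290 : act 4 n4417 = n3252 := (sb E7451 F7989)
theorem F23291 : act 6 n4417 = n3241 := (sb E7451 (iv D4727))
theorem E8338 : n6288 = n4251 := (((iv F10305)).symm.trans (sb E7452 F10318))
theorem F23292 : act 6 n3953 = n4251 := (sb E7453 (iv D6769))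
theorem F23293 : act 0 n4262 = n3040 := (sb E7454 F7326)
theorem F23294 : act 1 n4262 = n3955 := (sb E7454 (iv F7328))
theorem F23295 : act 2 n4262 = n3039 := (sb E7454 (iv D4326))
theorem E8340 : n6917 = n6784 := ((((iv F11059)).symm.trans (sb E7454 D6917))).symm
theorem E8341 : n6792 = n3942 := ((D6792).symm.trans (sb E7454 F7327))
theorem E8343 : n6268 = n3252 := (((F23290).symm.trans (sb E7455 F11134))).symm
theorem F23296 : act 0 n4261 = n3041 := (sb E7457 F7329)
theorem F23297 : act 6 n4261 = n3039 := (sb E7457 (iv D4327))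
theorem F23298 : act 2 n4260 = n3041 := (sb E7458 F7331)
theorem E8346 : n6873 = n3087 := (((F21270).symm.trans (sb E7458 (tr (iv F11358) E8237)))).symm
theorem E8347 : n6774 = n6155 := (((iv F11040)).symm.trans (sb E7458 (iv F9996)))
theorem F23299 : act 6 n4260 = n3040 := (sb E7458 (iv D4329))
theorem E8348 : n3947 = n3919 := ((F10008).symm.trans (sb E7459 (iv D6108)))
theorem E8354 : n7020 = n3972 := ((((iv F20917)).symm.trans (sb E7467 (iv F11538)))).symm
theorem E8355 : n3180 = n2320 := (((F4975).symm.trans (sb E7467 F7408))).symm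
theorem E8357 : n9895 = n5975 := ((((iv F9712)).symm.trans (sb E7469 F17094))).symm
theorem E8358 : n10287 = n4025 := (((E7906).symm.trans ((D5988).symm.trans (sb E7469 (iv F17101))))).symm
theorem E8359 : n11741 = n5976 := (((D5976).symm.trans (sb E7470 (iv F22224)))).symm
theorem E8360 : n7137 = n3985 := ((((iv F6785)).symm.trans (sb E7470 F21869))).symm
theorem E8361 : n5977 = n5936 := ((D5977).symm.trans (sb E7470 (iv D9897)))
theorem E8365 : n5990 = n5930 := ((D5990).symm.trans (sb E7472 (iv D9883)))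
theorem E8366 : n3508 = n2326 := (((F4442).symm.trans (sb E7473 F6161))).symm
theorem E8367 : n5331 = n2036 := (((F4443).symm.trans (sb E7473 (iv F8869)))).symm
theorem E8368 : n5304 = n3230 := ((((iv F5682)).symm.trans (sb E7473 (iv F8842)))).symm
theorem E8369 : n4168 = n2034 := (((F4444).symm.trans (sb E7473 F22560))).symm
theorem E8371 : n2968 = n2610 := (((iv F5217)).symm.trans (sb E7473 (iv D3536)))
theorem E8372 : n4113 = n4068 := ((((iv F20939)).symm.trans (sb E7474 (iv F20426)))).symm
theorem E8373 : n3625 = n3501 := ((((iv F6125)).symm.trans (sb E7474 (iv D5523)))).symm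
theorem F23300 : act 2 n2460 = n2858 := (sb E7475 F5194)
theorem E8374 : n3509 = n3428 := ((D3509).symm.trans (sb E7476 (iv F6031)))
theorem F23301 : act 2 n2596 = n3003 := (sb E7476 (iv F20414))
theorem E8375 : n6921 = n3087 := (E8237).trans E8346
theorem E8376 : n6770 = n6067 := (((iv F11026)).symm.trans (sb E7477 F16751))
theorem F23302 : act 0 n4325 = n4000 := (sb E7479 (iv D6273))
theorem F23303 : act 1 n4328 = n3931 := (sb E7481 F7462)
theorem E8378 : n6919 = n3092 := ((D6919).symm.trans (sb E7481 F7463))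
theorem E8379 : n6920 = n3964 := ((D6920).symm.trans (sb E7481 F7464))
theorem F23304 : act 6 n4318 = n4254 := (sb E7482 (iv D6776))
theorem E8382 : n6907 = n5931 := ((D6907).symm.trans (sb E7483 (iv F21533)))
theorem F23305 : act 2 n4319 = n4254 := (sb E7483 (iv D6775))
theorem F23306 : act 4 n4319 = n4318 := (sb E7483 F11043)
theorem F23307 : act 5 n4319 = n4261 := (sb E7483 F11044)
theorem F23308 : act 0 n4418 = n4248 := (sb E7484 (iv D6758))
theorem E8383 : n9805 = n7073 := (((D7073).symm.trans (sb E7484 (iv F21912)))).symm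
theorem F23309 : act 2 n4418 = n4638 := (sb E7484 F20257)
theorem F23310 : act 4 n4418 = n4404 := (sb E7484 F10998)
theorem F23311 : act 5 n4418 = n4724 := (sb E7484 (iv F20307))
theorem F23312 : act 4 n4416 = n3254 := (sb E7485 F7995)
theorem F23313 : act 5 n4416 = n3242 := (sb E7485 (iv D4729))
theorem F23314 : act 6 n4416 = n4638 := (sb E7485 F7996)
theorem F23315 : act 3 n2822 = n2868 := (sb E7486 (iv D4018))
theorem E8387 : n9787 = n3055 := (((F22966).symm.trans (sb E7487 (iv F16167)))).symm
theorem E8388 : n6095 = n3950 := ((((iv F23275)).symm.trans (sb E7487 (iv F9892)))).symm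
theorem F23316 : act 5 n3936 = n3931 := (sb E7488 (iv D6136))
theorem E8390 : n6146 = n6109 := ((D6146).symm.trans (sb E7488 F9964))
theorem E8391 : n9803 = n7081 := (((iv F21943)).symm.trans (sb E7489 F17524))
theorem E8392 : n6985 = n6323 := ((F11591).symm.trans (sb E7489 (iv D10505)))
theorem E8393 : n4378 = n2874 := ((((iv D4030)).symm.trans (sb E7490 (iv F20650)))).symm
theorem F23317 : act 2 n4030 = n3254 := (sb E7490 F8039)
theorem F23318 : act 5 n4030 = n3252 := (sb E7490 (iv D4755))
theorem F23319 : act 6 n4030 = n4404 := (sb E7490 F20406)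
theorem E8394 : n8192 = n2171 := ((F23066).symm.trans (sb E7492 F4743))
theorem F23320 : act 6 n2538 = n2170 := (sb E7492 (iv D2657))
theorem F23321 : act 2 n4999 = n3607 := (sb E7496 F9063)
theorem E8399 : n5060 = n3606 := (((iv F8515)).symm.trans (sb E7496 (iv D5481)))
theorem F23322 : act 5 n2654 = n2553 := (sb E7498 (iv D3421))
theorem E8401 : n8577 = n8083 := ((D8577).symm.trans (sb E7499 (tr F19000 E7692)))
theorem E8404 : n10750 = n3510 := (((F8744).symm.trans (sb E7502 D10750))).symm
theorem E8406 : n3660 = n579 := (((F1928).symm.trans (sb E7503 F6326))).symm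
theorem E8407 : n5614 = n2142 := (((D2142).symm.trans (sb E7503 (iv F9234)))).symm
theorem E8408 : n4114 = n2143 := (((D2143).symm.trans (sb E7503 F22419))).symm
theorem E8409 : n3658 = n2145 := (((D2145).symm.trans (sb E7503 F6328))).symm
theorem E8410 : n3497 = n2305 := ((D3497).symm.trans (sb E7504 (iv D2929)))
theorem E8411 : n3500 = n2308 := ((D3500).symm.trans (sb E7505 F5146))
theorem F23323 : act 3 n2926 = n3495 := (sb E7506 F8752)
theorem F23324 : act 4 n2926 = n3495 := (sb E7506 F8753)
theorem E8412 : n8624 = n4108 := (((D4108).symm.trans (sb E7506 D8624))).symm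
theorem F23325 : act 6 n2926 = n3493 := (sb E7506 (iv D5240))
theorem F23326 : act 0 n5244 = n3626 := (sb E7507 F9127)
theorem E8413 : n9146 = n8632 := (((D8632).symm.trans (sb E7507 D9146))).symm
theorem E8414 : n4960 = n2523 := ((((iv D3355)).symm.trans (sb E7508 (iv D8130)))).symm
theorem F23327 : act 0 n3007 = n2592 := (sb E7509 F22698)
theorem E8416 : n2529 = n2526 := (((F5275).symm.trans (sb E7509 (iv D3369)))).symm
theorem E8417 : n4962 = n2923 := (((F5276).symm.trans (sb E7509 (iv F8392)))).symm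
theorem F23328 : act 6 n3007 = n2583 := (sb E7509 F22699)
theorem E8418 : n9664 = n6687 := ((D9664).symm.trans (sb E7512 (iv D11146)))
theorem F23329 : act 1 n3299 = n3700 := (sb E7534 (iv D5690))
theorem F23330 : act 3 n3298 = n3700 := (sb E7536 F9334)
theorem F23331 : act 5 n3298 = n3699 := (sb E7536 (iv D5689))
theorem E8437 : n4816 = n3279 := ((D4816).symm.trans (sb E7537 F8123))
theorem F23332 : act 4 n3280 = n3700 := (sb E7537 F8124)
theorem E8439 : n7967 = n3688 := ((((iv F6348)).symm.trans (sb E7541 (iv F13251)))).symm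
theorem F23333 : act 0 n3704 = n3298 := (sb E7544 (iv D4856))
theorem E8440 : n4509 = n2240 := (((D2240).symm.trans (sb E7549 (iv D7242)))).symm
theorem E8447 : n3738 = n1061 := (((D1061).symm.trans (sb E7552 (iv D5770)))).symm
theorem E8450 : n2956 = n1029 := ((((iv F1630)).symm.trans (sb E7553 (iv D4170)))).symm
theorem F23337 : act 4 n9326 = n6527 := (sb E7557 F18168)
theorem F23338 : act 1 n9551 = n7693 := (sb E7558 F18564)
theorem E8454 : n5256 = n5067 := (((D5067).symm.trans (sb E7709 (iv D8654)))).symm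
theorem E8455 : n5270 = n2557 := (((F6011).symm.trans (sb E7709 F14491))).symm
theorem E8460 : n10426 = n7061 := ((F23210).symm.trans (sb E8165 (iv F11611)))
theorem E8462 : n3916 = n3080 := (((iv F20283)).symm.trans (sb E8165 (iv D4413)))
theorem F23343 : act 3 n3581 = n7063 := (sb E8165 D7063)
theorem E8463 : n11427 = n7064 := ((F23211).symm.trans (sb E8165 D7064))
theorem E8465 : n7063 = n2873 := (((F23238).symm.trans (sb E7564 (iv F11616)))).symm
theorem E8475 : n9957 = n8505 := (((iv F16524)).symm.trans (sb E7570 F20785))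
theorem E8476 : n6048 = n5970 := ((((iv F23084)).symm.trans (iv (sb E7570 (tr F12766 E7573))))).symm
theorem E8477 : n7695 = n5970 := (E7570).trans E8476
theorem E8478 : n4732 = n3841 := ((((iv D5970)).symm.trans (sb E8477 (iv D7695)))).symm
theorem F23345 : act 1 n7769 = n6225 := (sb E7571 F17186)
theorem F23347 : act 5 n10834 = n6514 := (sb E7572 (iv D10836))
theorem F23348 : act 0 n4518 = n4758 := (sb E7573 F8052)
theorem E8479 : n7769 = n7259 := (((D7259).symm.trans (sb E7573 (iv F12871)))).symm
theorem F23349 : act 4 n7259 = n6022 := (sb E7574 F13425)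
theorem F23350 : act 6 n7259 = n4919 := (sb E7574 (iv D8068))
theorem E8501 : n1938 = n974 := (((F3827).symm.trans (sb E7587 (iv F3845)))).symm
theorem F23351 : act 4 n569 = n569 := (sb E7587 (iv D1169))
theorem E8502 : n2135 = n1170 := (((D1170).symm.trans (sb E7587 D2135))).symm
theorem F23352 : act 3 n475 = n475 := (sb E7590 (iv D977))
theorem F23353 : act 3 n2133 = n2133 := (sb E7591 F4645)
theorem E8507 : n2728 = n2205 := ((((iv F4034)).symm.trans (sb E7591 (iv F4836)))).symm
theorem F23354 : act 4 n1934 = n1934 := (sb E7603 (iv D2399))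
theorem E8525 : n2206 = n1260 := ((((iv F3851)).symm.trans (sb E7603 F4344))).symm
theorem E8527 : n2204 = n1236 := (((F3842).symm.trans (sb E7605 F4516))).symm
theorem E8528 : n3308 = n1048 := (((F3369).symm.trans (sb E7605 (iv F5810)))).symm
theorem F23355 : act 3 n2063 = n2063 := (sb E7605 F4518)
theorem E8529 : n2077 = n1058 := ((((iv F3818)).symm.trans (sb E7606 (iv F4042)))).symm
theorem F23356 : act 4 n1264 = n1264 := (sb E7606 F4040)
theorem E8530 : n1263 = n621 := ((((iv D1264)).symm.trans (sb E7606 (iv D2207)))).symm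
theorem E8533 : n2202 = n297 := ((((iv D603)).symm.trans (sb E7609 D2202))).symm
theorem F23357 : act 3 n603 = n603 := (sb E7609 (iv D1235))
theorem E8534 : n2712 = n1042 := ((((iv F1654)).symm.trans (sb E7610 (iv F4803)))).symm
theorem F23358 : act 1 n4578 = n3699 := (sb E7650 F9329)
theorem F23359 : act 3 n4578 = n3698 := (sb E7650 (iv D5684))
theorem E8562 : n5808 = n3163 := ((((iv D4578)).symm.trans (sb E7650 (tr D9446 E7652)))).symm
theorem E8563 : n9447 = n7388 := (((D7388).symm.trans (sb E7650 D9447))).symm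
theorem F23360 : act 1 n2467 = n2858 := (sb E7653 (iv D3998))
theorem F23361 : act 3 n2467 = n2862 := (sb E7653 F6804)
theorem E8566 : n6227 = n3906 := (E7654).trans E8311
theorem E8568 : n6086 = n3979 := (E7869).trans E8151
theorem E8570 : n7233 = n6087 := (((D6087).symm.trans (sb E8566 (iv F11935)))).symm
theorem E8573 : n10278 = n4896 := (((E7957).symm.trans ((D6088).symm.trans (sb E8566 (tr (iv F17198) E8295))))).symm
theorem E8574 : n6220 = n6087 := ((D6220).symm.trans (sb E7655 (tr D7233 E8570)))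
theorem E8575 : n3132 = n2948 := (((F6761).symm.trans (sb E7655 F7598))).symm
theorem E8577 : n3981 = n3127 := (((iv F6780)).symm.trans (sb E7655 (iv D4504)))
theorem E8580 : n4154 = n3123 := (((F5478).symm.trans (sb E7658 (iv F7105)))).symm
theorem F23362 : act 2 n2847 = n3134 := (sb E7660 F7604)
theorem E8581 : n4508 = n4100 := ((((iv F6996)).symm.trans (sb E7661 F7616))).symm
theorem E8582 : n3388 = n3379 := (((F6632).symm.trans (sb E7661 F7617))).symm
theorem F23363 : act 4 n3884 = n3134 := (sb E7661 F7618)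
theorem E8583 : n6049 = n4493 := ((D6049).symm.trans (sb E7661 F7619))
theorem F23364 : act 5 n9217 = n5554 := (sb E7665 (iv D9222))
theorem F23371 : act 6 n4102 = n5209 := (sb E7670 (iv D8579))
theorem F23372 : act 0 n5375 = n6513 := (sb E7673 (iv F23030))
theorem E8586 : n8834 = n8802 := ((((iv F14741)).symm.trans (sb E7673 (iv F14783)))).symm
theorem E8587 : n8876 = n3567 := ((D8876).symm.trans (sb E7673 (iv D5399)))
theorem E8589 : n8927 = n8877 := (((D8877).symm.trans (sb E7673 D8927))).symm
theorem F23373 : act 0 n3411 = n3555 := (sb E7674 F6251)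
theorem E8590 : n5289 = n2549 := ((((iv D3411)).symm.trans (sb E7674 F20484))).symm
theorem F23374 : act 5 n3411 = n2647 := (sb E7674 (iv D3611))
theorem F23375 : act 6 n3411 = n3553 := (sb E7674 F6253)
theorem F23376 : act 2 n3410 = n3555 := (sb E7675 F8916)
theorem E8592 : n8868 = n4532 := ((((iv F7650)).symm.trans (sb E7675 (iv F14819)))).symm
theorem F23377 : act 6 n3410 = n3554 := (sb E7675 (iv D5372))
theorem E8593 : n3576 = n1141 := ((((iv D2118)).symm.trans (sb E7676 (iv F6214)))).symm
theorem F23378 : act 2 n3389 = n2655 := (sb E7679 F6280)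
theorem F23379 : act 6 n3389 = n2654 := (sb E7679 (iv D3630))
theorem F23380 : act 1 n2144 = n2553 := (sb E7681 F4765)
theorem E8599 : n2192 = n1180 := (((F3951).symm.trans (sb E7681 F4766))).symm
theorem E8600 : n3624 = n2601 := ((((iv F4676)).symm.trans (sb E7681 (iv F6275)))).symm
theorem E8601 : n2176 = n2157 := ((((iv F3969)).symm.trans (sb E7681 (iv D2672)))).symm
theorem F23381 : act 0 n3412 = n3554 := (sb E7683 (iv F20327))
theorem F23382 : act 2 n3412 = n3553 := (sb E7683 (iv F20329))
theorem E8602 : n4602 = n4534 := ((((iv F7654)).symm.trans (sb E7683 (iv F7776)))).symm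
theorem E8605 : n5006 = n4987 := ((((iv F8428)).symm.trans (sb E7684 (iv F8456)))).symm
theorem E8608 : n5557 = n5070 := ((D5557).symm.trans (sb E7687 (iv F22704)))
theorem E8611 : n8241 = n2660 := ((((iv F23093)).symm.trans (sb E7687 (iv F20717)))).symm
theorem E8612 : n8198 = n3411 := ((((iv F6004)).symm.trans (sb E7690 D8198))).symm
theorem F23383 : act 6 n6381 = n4940 := (sb E7693 (iv D8102))
theorem F23384 : act 1 n2901 = n2925 := (sb E7695 (iv D4106))
theorem E8616 : n2951 = n2298 := (((F5104).symm.trans (sb E7695 F22621))).symm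
theorem E8626 : n9207 = n2681 := ((((iv F22731)).symm.trans (sb E7706 (iv F15338)))).symm
theorem F23386 : act 5 n5342 = n3610 := (sb E7707 (iv D5490))
theorem F23387 : act 5 n2658 = n3546 := (sb E7708 (iv F23059))
theorem E8629 : n3382 = n2528 := ((((iv F4585)).symm.trans (sb E7710 F5973))).symm
theorem E8631 : n4990 = n2536 := ((((iv F4594)).symm.trans (sb E7710 (iv F8437)))).symm
theorem E8633 : n3364 = n2539 := (((D2539).symm.trans (sb E7710 F5975))).symm
theorem E8636 : n5608 = n2150 := (((F4669).symm.trans (sb E7715 (iv F9225)))).symm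
theorem E8638 : n5519 = n3513 := ((((iv F6137)).symm.trans (sb E7715 (iv F9123)))).symm
theorem E8643 : n5907 = n3853 := ((((iv F6579)).symm.trans (sb E7719 D5907))).symm
theorem E8644 : n5547 = n2548 := (E7729).trans E7731
theorem F23388 : act 2 n3385 = n2647 := (sb E7725 F6247)
theorem F23389 : act 6 n3385 = n2646 := (sb E7725 (iv D3609))
theorem F23390 : act 1 n5660 = n7440 := (sb E7726 F14711)
theorem F23391 : act 2 n4987 = n3610 := (sb E7728 (iv D5489))
theorem E8647 : n3406 = n2681 := (((iv F6001)).symm.trans (sb E8644 (tr D9207 E8626)))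
theorem F23392 : act 3 n2687 = n3641 := (sb E7730 (iv D5558))
theorem F23393 : act 0 n2548 = n2683 := (sb E7731 F4783)
theorem E8650 : n3377 = n2115 := ((((iv D2548)).symm.trans (sb E7731 (iv F22523)))).symm
theorem F23394 : act 3 n2548 = n3381 := (sb E7731 (iv F22728))
theorem E8652 : n8287 = n8057 := ((D8287).symm.trans (sb E7733 F16473))
theorem E8653 : n6009 = n5052 := ((D6009).symm.trans (iv (sb E7733 (tr (iv D9924) E8020))))
theorem E8654 : n11178 = n10035 := (((D10035).symm.trans (sb E7734 (iv F18758)))).symm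
theorem E8655 : n10035 = n10031 := (((D10031).symm.trans (sb E7735 (tr D11178 E8654)))).symm
theorem E8656 : n11179 = n10032 := (((D10032).symm.trans (sb E7735 D11179))).symm
theorem E8658 : n11180 = n10033 := (((D10033).symm.trans (sb E7735 D11180))).symm
theorem E8665 : n8203 = n2143 := (((iv F13826)).symm.trans (sb E7740 (tr F22416 E8408)))
theorem E8666 : n9127 = n3387 := ((((iv D5004)).symm.trans (sb E7740 (iv F15222)))).symm
theorem E8667 : n8204 = n4120 := ((D8204).symm.trans (sb E7740 F22417))
theorem E8668 : n3394 = n579 := ((F8453).symm.trans (sb E7740 (tr F9113 E8406)))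
theorem E8670 : n3620 = n3414 := (((F8454).symm.trans (sb E7740 (iv D5513)))).symm
theorem E8674 : n7885 = n4136 := ((D7885).symm.trans (iv (sb E7745 (tr F15000 E8104))))
theorem E8680 : n10126 = n4251 := (E7749).trans E8338
theorem E8681 : n6092 = n3956 := ((((iv F23276)).symm.trans (sb E8680 (iv D10126)))).symm
theorem E8682 : n7886 = n6768 := (((D6768).symm.trans (sb E8680 (iv F19770)))).symm
theorem F23397 : act 2 n5664 = n5112 := (sb E7750 (iv D8405))
theorem F23398 : act 0 n3408 = n3689 := (sb E7753 F6360)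
theorem E8683 : n5701 = n4361 := ((((iv F7364)).symm.trans (sb E7753 D5701))).symm
theorem E8684 : n5698 = n5052 := (((D5052).symm.trans (sb E7753 (iv F9345)))).symm
theorem E8685 : n4820 = n4530 := ((((iv F7647)).symm.trans (sb E7753 (iv F8135)))).symm
theorem E8686 : n5047 = n3687 := (((iv F8495)).symm.trans (sb E7753 F6362))
theorem E8687 : n5053 = n2689 := ((D5053).symm.trans (sb E7753 (iv D3706)))
theorem E8689 : n7961 = n5052 := (E7824).trans E8684
theorem E8690 : n7848 = n4530 := (E7860).trans E8685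
theorem E8692 : n6657 = n2686 := ((((iv D3700)).symm.trans (sb E7758 F23080))).symm
theorem F23399 : act 0 n3141 = n3275 := (sb E7759 F5758)
theorem F23400 : act 6 n3141 = n2480 := (sb E7759 (iv D3282))
theorem E8694 : n5604 = n3568 := (((F22703).symm.trans (iv (sb E7763 (tr (iv D9226) E8608))))).symm
theorem E8695 : n5602 = n3566 := (((F22705).symm.trans (iv (sb E7764 (tr (iv D9228) E8608))))).symm
theorem F23401 : act 1 n6526 = n5493 := (sb E7770 (iv D9082))
theorem E8696 : n6526 = n6515 := ((((iv F20936)).symm.trans (iv (sb E7770 (tr F15149 E8608))))).symm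
theorem F23402 : act 3 n6552 = n5493 := (sb E7771 (iv D9083))
theorem E8698 : n3623 = n3415 := (((iv F6272)).symm.trans (sb E7772 F6256))
theorem F23403 : act 5 n3613 = n2648 := (sb E7772 (iv D3614))
theorem F23404 : act 6 n3613 = n4987 := (sb E7772 (iv F23071))
theorem F23405 : act 5 n3612 = n5493 := (sb E7773 (iv D9084))
theorem E8701 : n3426 = n2157 := (((E8601).symm.trans ((D2176).symm.trans (sb E7777 (iv D5092))))).symm
theorem E8702 : n5843 = n588 := (((F1952).symm.trans (sb E7777 F22766))).symm
theorem E8704 : n3656 = n584 := ((((iv D1195)).symm.trans (sb E7777 F8558))).symm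
theorem E8708 : n3659 = n2119 := (((D2119).symm.trans (sb E7780 F9208))).symm
theorem E8710 : n3663 = n3424 := ((((iv F6023)).symm.trans (sb E7782 (iv F6320)))).symm
theorem F23406 : act 1 n2556 = n2661 := (sb E7782 F4764)
theorem E8711 : n3665 = n2124 := (((F4615).symm.trans (sb E7782 D3665))).symm
theorem F23407 : act 3 n2185 = n2661 := (sb E7783 (iv D3643))
theorem E8713 : n11385 = n4421 := ((((iv F7444)).symm.trans (sb E7787 (iv F19223)))).symm
theorem E8714 : n11390 = n4425 := ((((iv F7450)).symm.trans (sb E7787 (iv F19232)))).symm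
theorem E8715 : n4426 = n4294 := ((D4426).symm.trans (sb E7787 (iv D6859)))
theorem E8717 : n6967 = n5972 := (((iv F11436)).symm.trans (iv (sb E7788 (tr F19766 E8683))))
theorem E8718 : n4047 = n3844 := ((((iv D5972)).symm.trans (sb E7788 (iv D6359)))).symm
theorem E8719 : n10565 = n9946 := (((D9946).symm.trans (sb E7788 (iv F17670)))).symm
theorem E8720 : n6354 = n5985 := (((iv F10434)).symm.trans (sb E7788 F10440))
theorem E8723 : n10439 = n6768 := (E7789).trans E8682
theorem E8724 : n6181 = n5985 := ((E8256).symm.trans (((iv F18903)).symm.trans (sb E8723 (tr F20849 E8720))))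
theorem E8725 : n7681 = n4285 := (((F11021).symm.trans (sb E8723 F20851))).symm
theorem F23410 : act 1 n7688 = n5371 := (sb E7794 F14732)
theorem F23411 : act 3 n7688 = n5342 := (sb E7794 (iv D8797))
theorem F23412 : act 1 n10036 = n11769 := (sb E7801 (iv F19886))
theorem F23413 : act 4 n8282 = n5052 := (sb E7802 (iv D8288))
theorem E8735 : n5929 = n4058 := ((((iv D6378)).symm.trans (sb E7806 (iv D9880)))).symm
theorem F23416 : act 2 n6378 = n5972 := (sb E7806 F16401)
theorem F23417 : act 1 n7691 = n4761 := (sb E7807 (iv D7761))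
theorem F23418 : act 6 n7691 = n5983 := (sb E7807 F21777)
theorem F23419 : act 0 n6345 = n4757 := (sb E7808 F12851)
theorem F23420 : act 5 n6345 = n7259 := (sb E7808 (tr (iv F12872) E8479))
theorem F23421 : act 6 n6345 = n4761 := (sb E7808 F12852)
theorem E8738 : n4517 = n2881 := ((((iv D4039)).symm.trans (sb E7809 (iv D7257)))).symm
theorem E8740 : n9943 = n3886 := (((F6888).symm.trans (sb E7809 F22673))).symm
theorem F23422 : act 5 n4039 = n4518 := (sb E7809 F11974)
theorem F23423 : act 0 n7687 = n5983 := (sb E7810 (iv D9972))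
theorem F23425 : act 4 n3699 = n3704 := (sb E7815 (iv F23138))
theorem F23426 : act 0 n5052 = n4859 := (sb E8689 F13236)
theorem E8743 : n8057 = n5660 := ((E8652).symm.trans ((D8287).symm.trans (sb E8689 F22808)))
theorem E8744 : n8282 = n5660 := (((iv F23413)).symm.trans (sb E8689 F22806))
theorem E8745 : n9425 = n4582 := (((iv F15653)).symm.trans (sb E7827 F12236))
theorem E8746 : n9428 = n4580 := ((D9428).symm.trans (sb E7827 (iv D7396)))
theorem F23427 : act 3 n4859 = n3689 := (sb E7828 F9289)
theorem E8747 : n7383 = n4212 := ((D7383).symm.trans (sb E7830 F23017))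
theorem E8748 : n7384 = n4200 := ((D7384).symm.trans (sb E7830 (tr F23018 E7836)))
theorem E8749 : n5691 = n4862 := (((F22984).symm.trans (sb E7830 (iv F23090)))).symm
theorem F23428 : act 5 n4576 = n3698 := (sb E7830 (iv D5685))
theorem E8750 : n9449 = n7352 := ((((iv F12146)).symm.trans (sb E7830 D9449))).symm
theorem F23429 : act 1 n4540 = n4758 := (sb E7831 (iv F23099))
theorem E8751 : n7438 = n7308 := ((((iv F12072)).symm.trans (sb E7831 D7438))).symm
theorem F23430 : act 4 n4540 = n5371 := (sb E7831 F20469)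
theorem F23431 : act 1 n7752 = n11821 := (sb E7832 F23118)
theorem F23432 : act 4 n7752 = n10036 := (sb E7832 F18775)
theorem E8752 : n7036 = n4757 := ((((iv D7752)).symm.trans (sb E7832 F23119))).symm
theorem E8753 : n6743 = n6717 := (((iv F21380)).symm.trans (sb E7832 (iv D11186)))
theorem F23433 : act 0 n7688 = n5970 := (sb E7833 F16504)
theorem F23434 : act 2 n7688 = n10036 := (sb E7833 (iv F16644))
theorem E8754 : n8774 = n4728 := ((((iv D7688)).symm.trans (sb E7833 F16506))).symm
theorem E8755 : n6552 = n5969 := (((iv F20789)).symm.trans (sb E7833 (iv D9941)))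
theorem E8758 : n2990 = n2983 := ((((iv D4228)).symm.trans (sb E7835 (iv D4240)))).symm
theorem F23435 : act 3 n4228 = n3279 := (sb E7835 (iv F21382))
theorem F23436 : act 6 n4228 = n4758 := (sb E7835 F21083)
theorem E8759 : n3215 = n2976 := ((F22825).symm.trans (sb E7836 (iv D4211)))
theorem F23437 : act 1 n4200 = n3279 := (sb E7836 (iv F21381))
theorem E8761 : n6686 = n3150 := (((F21251).symm.trans (sb E7836 D6686))).symm
theorem E8762 : n6290 = n3680 := ((D6290).symm.trans (sb E7838 F9262))
theorem E8763 : n4292 = n3999 := (((F20386).symm.trans (sb E7838 (iv F20902)))).symm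
theorem E8764 : n4291 = n2866 := (((F6826).symm.trans (sb E7838 F20643))).symm
theorem E8765 : n6292 = n3678 := ((D6292).symm.trans (sb E7838 (iv D5640)))
theorem E8767 : n7061 = n3996 := (((F7253).symm.trans (sb E7839 F18893))).symm
theorem E8770 : n6341 = n3678 := (((E8765).symm.trans ((D6292).symm.trans (sb E7840 (iv F10411))))).symm
theorem E8771 : n7064 = n2869 := (((F5304).symm.trans (sb E7842 F18896))).symm
theorem E8772 : n10536 = n3071 := (E7843).trans E7995
theorem E8773 : n4399 = n3678 := ((D4399).symm.trans (sb E8772 (tr (iv D10536) E8770)))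
theorem E8776 : n10426 = n3996 := (E8460).trans E8767
theorem E8777 : n11427 = n2869 := (E8463).trans E8771
theorem E8778 : n4305 = n3994 := ((F23212).symm.trans (sb E7846 F6849))
theorem E8779 : n2259 = n2250 := (((D2250).symm.trans (sb E7847 (iv F4104)))).symm
theorem F23438 : act 6 n1452 = n1484 := (sb E7847 (iv D2257))
theorem E8782 : n10506 = n10331 := ((D10506).symm.trans (sb E7856 (iv F17169)))
theorem E8783 : n10507 = n4301 := ((D10507).symm.trans (sb E7856 (iv D6874)))
theorem E8784 : n6998 = n4031 := (((F10380).symm.trans (sb E7856 (iv F21241)))).symm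
theorem E8785 : n10508 = n4298 := ((D10508).symm.trans (sb E7857 (iv D6867)))
theorem E8786 : n10510 = n4372 := ((D10510).symm.trans (sb E7857 F21811))
theorem E8787 : n8398 = n4033 := (((F10382).symm.trans (sb E7857 (iv F21872)))).symm
theorem F23439 : act 5 n3059 = n4027 := (sb E7858 (iv D6326))
theorem F23440 : act 0 n4530 = n4802 := (sb E8690 F12988)
theorem E8790 : n7287 = n4801 := ((D7287).symm.trans (sb E8690 (iv D7848)))
theorem E8791 : n7883 = n7282 := ((((iv F12018)).symm.trans (sb E8690 (iv F13057)))).symm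
theorem F23441 : act 4 n6325 = n5664 := (sb E7861 F12994)
theorem F23442 : act 2 n3275 = n4802 := (sb E7862 (iv D7849))
theorem E8792 : n7282 = n4801 := ((((iv F8104)).symm.trans (sb E7863 (tr (iv F13055) E8791)))).symm
theorem F23443 : act 5 n3274 = n4802 := (sb E7863 (iv D7851))
theorem E8793 : n2487 = n2022 := (((iv F4495)).symm.trans (sb E7864 (iv D2435)))
theorem E8794 : n3186 = n3154 := ((((iv F5506)).symm.trans (sb E7864 D3186))).symm
theorem E8795 : n7344 = n4298 := ((D7344).symm.trans (sb E7865 (iv F21418)))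
theorem E8796 : n7343 = n4297 := (((iv F12131)).symm.trans (sb E7865 F21108))
theorem E8798 : n10114 = n3974 := (((D3974).symm.trans (sb E7868 F17872))).symm
theorem F23444 : act 1 n3979 = n3906 := (sb E8568 (iv D6086))
theorem F23445 : act 0 n2999 = n2864 := (sb E7870 F6818)
theorem F23446 : act 3 n2999 = n2996 := (sb E7870 F6819)
theorem E8800 : n3138 = n2447 := ((D3138).symm.trans (sb E7871 (iv D3211)))
theorem F23447 : act 2 n2411 = n2864 := (sb E7871 (iv F20284))
theorem E8801 : n2633 = n2113 := (((F4364).symm.trans (sb E7871 F5609))).symm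
theorem F23448 : act 6 n2342 = n2864 := (sb E7872 (iv D4010))
theorem F23449 : act 4 n2382 = n2864 := (sb E7873 (iv F5014))
theorem F23450 : act 5 n2382 = n2249 := (sb E7873 (iv D2814))
theorem F23451 : act 0 n3061 = n2876 := (sb E7874 F6866)
theorem F23452 : act 6 n3058 = n2876 := (sb E7875 (iv D4035))
theorem E8808 : n6860 = n4408 := ((((iv F7428)).symm.trans (sb E7885 (iv F15618)))).symm
theorem E8809 : n6854 = n4410 := (((D4410).symm.trans (sb E7885 F15617))).symm
theorem E8814 : n3440 = n2376 := (((D2376).symm.trans (sb E7889 F8591))).symm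
theorem E8818 : n3086 = n3021 := ((D3086).symm.trans (sb E7892 (iv D4295)))
theorem E8819 : n11709 = n11386 := (((D11386).symm.trans (sb E7893 (iv F19760)))).symm
theorem F23453 : act 5 n6857 = n5664 := (sb E7893 F11668)
theorem E8820 : n11712 = n11387 := (((D11387).symm.trans (sb E7893 D11712))).symm
theorem F23454 : act 0 n6875 = n5664 := (sb E7894 (iv D9426))
theorem F23455 : act 0 n4375 = n4034 := (sb E7895 F10396)
theorem E8821 : n6997 = n6356 := ((D6997).symm.trans (sb E7895 F22987))
theorem E8823 : n6823 = n4559 := ((F21831).symm.trans (sb E7896 F22533))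
theorem F23456 : act 3 n5108 = n4034 := (sb E7896 F10405)
theorem E8824 : n7340 = n4558 := (((iv F12125)).symm.trans (sb E7896 F22534))
theorem E8826 : n3433 = n3070 := ((F21835).symm.trans (sb E7897 (tr D10534 E8215)))
theorem F23457 : act 5 n4369 = n6324 := (sb E7897 F10409)
theorem F23458 : act 6 n4369 = n4034 := (sb E7897 (iv D6340))
theorem F23459 : act 6 n4021 = n3080 := (sb E7898 F7434)
theorem E8830 : n6162 = n3932 := (E7900).trans E7996
theorem F23460 : act 2 n3932 = n10248 := (sb E8830 D10248)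
theorem E8831 : n10163 = n2840 := (((F6726).symm.trans (sb E8830 (iv F16870)))).symm
theorem F23461 : act 0 n4024 = n3080 := (sb E7902 (iv D4412))
theorem E8833 : n6320 = n5991 := ((D6320).symm.trans (sb E7902 F10009))
theorem E8834 : n6304 = n3919 := (((iv F10338)).symm.trans (sb E7902 (tr F7435 E8348)))
theorem E8835 : n6306 = n3924 := (((iv F20900)).symm.trans (sb E7902 (tr D7062 E8334)))
theorem E8836 : n10182 = n6305 := (((D6305).symm.trans (sb E7903 D10182))).symm
theorem E8837 : n6297 = n4288 := ((((iv F7278)).symm.trans (sb E7903 (iv F10327)))).symm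
theorem E8838 : n4287 = n2840 := ((D4287).symm.trans (sb E7904 (tr F17347 E8831)))
theorem E8840 : n6307 = n4317 := ((D6307).symm.trans (sb E7905 (iv F20629)))
theorem F23462 : act 1 n3020 = n2868 := (sb E7907 F6836)
theorem F23463 : act 1 n3019 = n2869 := (sb E7908 F6838)
theorem F23464 : act 3 n3019 = n2872 := (sb E7908 F6839)
theorem F23465 : act 2 n2819 = n2869 := (sb E7909 F6846)
theorem F23466 : act 6 n2819 = n2868 := (sb E7909 (iv D4019))
theorem F23467 : act 5 n4026 = n3058 := (sb E7910 (iv D4370))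
theorem F23468 : act 5 n2373 = n2872 := (sb E7911 (iv D4028))
theorem F23469 : act 3 n3929 = n4016 := (sb E7912 F8036)
theorem F23470 : act 3 n3017 = n3241 := (sb E7916 (iv D4726))
theorem E8847 : n7684 = n6784 := (E8335).trans E8340
theorem E8849 : n3572 = n2156 := (((F4704).symm.trans (sb E7918 F8930))).symm
theorem F23471 : act 5 n2623 = n3558 := (sb E7918 (iv D5380))
theorem E8851 : n3571 = n2163 := ((D3571).symm.trans (sb E7919 F4717))
theorem E8865 : n8065 = n7576 := (((D7576).symm.trans (sb E7926 D8065))).symm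
theorem F23475 : act 3 n4673 = n3342 := (sb E7926 F8320)
theorem E8868 : n2431 = n1740 := (((F4120).symm.trans (sb E7928 F22826))).symm
theorem F23476 : act 1 n2271 = n2405 := (sb E7928 (iv D3126))
theorem F23477 : act 6 n2271 = n2427 := (sb E7928 F22827)
theorem E8870 : n4503 = n4386 := (((iv F21258)).symm.trans (sb E7930 (tr F17201 E8113)))
theorem F23478 : act 6 n2268 = n2428 := (sb E7933 (iv D3172))
theorem F23479 : act 3 n4198 = n3339 := (sb E7937 (iv D4914))
theorem E8878 : n6368 = n2970 := ((((iv D4198)).symm.trans (sb E7937 (iv F10461)))).symm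
theorem E8879 : n6367 = n4541 := ((D6367).symm.trans (sb E7938 (iv F7667)))
theorem F23480 : act 5 n4053 = n3327 := (sb E7938 F21152)
theorem F23481 : act 1 n3845 = n2893 := (sb E7939 F6908)
theorem E8880 : n6360 = n5974 := ((((iv F9710)).symm.trans (sb E7939 (iv F10442)))).symm
theorem F23482 : act 6 n3845 = n3811 := (sb E7939 F6911)
theorem F23483 : act 1 n2994 = n2894 := (sb E7940 F6809)
theorem F23484 : act 2 n2994 = n2861 := (sb E7940 (iv D4002))
theorem E8881 : n6279 = n4150 := ((((iv F7096)).symm.trans (sb E7940 D6279))).symm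
theorem E8882 : n6369 = n2969 := ((D6369).symm.trans (sb E7941 (iv D4195)))
theorem E8883 : n6370 = n3584 := ((D6370).symm.trans (sb E7941 (iv F22887)))
theorem F23485 : act 5 n4054 = n3329 := (sb E7941 F21154)
theorem F23486 : act 6 n4054 = n3214 := (sb E7941 F22839)
theorem E8884 : n2429 = n1742 := ((D2429).symm.trans (sb E7943 F4219))
theorem E8889 : n5044 = n2104 := (((D2104).symm.trans (sb E7950 F22519))).symm
theorem E8890 : n3365 = n2105 := (((D2105).symm.trans (sb E7950 F6695))).symm
theorem E8891 : n3447 = n2106 := (((D2106).symm.trans (sb E7950 F22520))).symm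
theorem F23487 : act 0 n2808 = n3326 := (sb E7956 F6530)
theorem E8894 : n5879 = n3909 := ((((iv F6679)).symm.trans (sb E7956 (iv F9610)))).symm
theorem F23488 : act 5 n2808 = n2756 := (sb E7956 F6515)
theorem E8896 : n10118 = n8022 := (((D8022).symm.trans (sb E7957 (iv F16790)))).symm
theorem F23489 : act 6 n4896 = n3906 := (sb E7957 (iv D6088))
theorem F23490 : act 0 n2898 = n2756 := (sb E7958 (iv D3822))
theorem F23491 : act 5 n2898 = n3326 := (sb E7958 F6535)
theorem F23492 : act 0 n2771 = n2288 := (sb E7963 (iv D2887))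
theorem E8898 : n4045 = n3849 := ((((iv F6568)).symm.trans (sb E7963 D4045))).symm
theorem F23493 : act 5 n2771 = n3811 := (sb E7963 F6526)
theorem F23494 : act 1 n2768 = n2898 := (sb E7965 (iv F5097))
theorem F23495 : act 3 n2768 = n2771 := (sb E7965 F5077)
theorem F23496 : act 4 n2768 = n2771 := (sb E7965 F5078)
theorem F23497 : act 6 n2768 = n2288 := (sb E7965 (iv D2889))
theorem F23498 : act 6 n4415 = n4248 := (sb E7968 (iv D6760))
theorem E8904 : n2914 = n2325 := ((((iv D2964)).symm.trans (sb E7970 (iv D4086)))).symm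
theorem E8905 : n6433 = n4184 := (((D4184).symm.trans (sb E7970 D6433))).symm
theorem E8906 : n5480 = n4122 := ((((iv F7039)).symm.trans (sb E7970 F20464))).symm
theorem F23499 : act 2 n6333 = n4183 := (sb E7971 (iv D6621))
theorem E8908 : n10521 = n6751 := ((D10521).symm.trans (sb E7971 (iv F22956)))
theorem E8909 : n10798 = n4419 := (((F10394).symm.trans (sb E7971 (iv F18108)))).symm
theorem F23500 : act 4 n3608 = n4183 := (sb E7972 F10664)
theorem F23501 : act 6 n3608 = n4507 := (sb E7972 (iv F22753))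
theorem E8911 : n6112 = n6096 := ((D6112).symm.trans (sb E7974 (iv F9893)))
theorem F23502 : act 2 n3921 = n2828 := (sb E7974 (iv D3937))
theorem E8912 : n6096 = n2832 := (((F6708).symm.trans (sb E7974 (iv F9894)))).symm
theorem E8913 : n2833 = n2816 := ((((iv D3921)).symm.trans (sb E7974 (tr D6148 E8166)))).symm
theorem F23503 : act 6 n3920 = n2828 := (sb E7975 (iv D3938))
theorem F23504 : act 3 n3046 = n10517 := (sb E7976 D10517)
theorem E8918 : n4562 = n3067 := (((F20672).symm.trans (sb E7977 (iv F7699)))).symm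
theorem F23505 : act 2 n4341 = n3137 := (sb E7977 F7635)
theorem F23506 : act 5 n4341 = n4556 := (sb E7977 (iv F7692))
theorem E8919 : n7857 = n5112 := (E7978).trans E8217
theorem E8920 : n10517 = n3434 := ((((iv D5112)).symm.trans (sb E8919 (iv F17556)))).symm
theorem F23507 : act 1 n2477 = n3137 := (sb E7980 (iv D4523))
theorem E8923 : n4520 = n4392 := ((D4520).symm.trans (sb E7981 (iv F20811)))
theorem E8926 : n4384 = n2543 := (((F5481).symm.trans (sb E7983 F20813))).symm
theorem F23508 : act 6 n3136 = n4341 := (sb E7983 (iv D6941))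
theorem E8928 : n3220 = n1010 := ((((iv D1997)).symm.trans (sb E7985 (iv F5623)))).symm
theorem F23509 : act 6 n3071 = n3999 := (sb E7993 (iv D6272))
theorem F23510 : act 3 n4021 = n3921 := (sb E7994 F9911)
theorem E8936 : n3966 = n3018 := (((iv F6754)).symm.trans (sb E7995 F7249))
theorem E8937 : n6137 = n2867 := ((D6137).symm.trans (sb E7996 (iv D4015)))
theorem E8938 : n10248 = n3936 := ((F23460).symm.trans (sb E7996 (iv F20906)))
theorem F23511 : act 3 n3932 = n2870 := (sb E7996 F6841)
theorem F23512 : act 1 n4310 = n3996 := (sb E8000 (iv D6262))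
theorem F23513 : act 3 n4310 = n4000 := (sb E8000 F10258)
theorem F23514 : act 5 n3970 = n4000 := (sb E8001 (iv D6275))
theorem E8941 : n7687 = n7108 := ((D7687).symm.trans (iv (sb E8002 (tr F15038 E8754))))
theorem F23515 : act 5 n7108 = n10036 := (sb E8002 (iv F16645))
theorem F23516 : act 6 n7108 = n5448 := (sb E8002 (iv D9008))
theorem F23517 : act 1 n2800 = n2345 := (sb E8004 F5259)
theorem E8943 : n3885 = n2407 := (((iv F6633)).symm.trans (sb E8004 F5261))
theorem F23518 : act 3 n2800 = n2344 := (sb E8004 (iv D3000))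
theorem E8944 : n4252 = n3896 := (((D3896).symm.trans (sb E8004 D4252))).symm
theorem E8947 : n6871 = n6067 := (((D6067).symm.trans (sb E8006 F11533))).symm
theorem E8948 : n6051 = n3129 := ((((iv D4507)).symm.trans (sb E8007 (iv D10082)))).symm
theorem F23519 : act 0 n5945 = n5447 := (sb E8009 F15022)
theorem E8949 : n5945 = n3302 := (((F8132).symm.trans (iv (sb E8009 (tr (iv D8998) E8104))))).symm
theorem E8950 : n8998 = n3302 := (E8009).trans E8949
theorem E8951 : n4864 = n3829 := ((D4864).symm.trans (sb E8950 (tr F15024 E8038)))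
theorem F23521 : act 2 n4141 = n5447 := (sb E8011 F15029)
theorem E8952 : n6018 = n5447 := (((iv F9773)).symm.trans (sb E8035 F15030))
theorem F23522 : act 6 n5938 = n5447 := (sb E8013 (iv D9006))
theorem F23523 : act 1 n4056 = n4313 := (sb E8018 F20973)
theorem E8956 : n6374 = n4315 := ((D6374).symm.trans (sb E8018 (iv F21305)))
theorem E8957 : n9877 = n5981 := ((((iv F9716)).symm.trans (sb E8019 D9877))).symm
theorem F23524 : act 6 n3848 = n4043 := (sb E8019 F9660)
theorem F23526 : act 4 n3812 = n4053 := (sb E8022 (iv F6923))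
theorem F23527 : act 6 n3812 = n2778 := (sb E8022 F6586)
theorem F23528 : act 2 n2334 = n2780 := (sb E8023 (iv D3865))
theorem F23529 : act 6 n2333 = n2780 := (sb E8024 F6587)
theorem F23530 : act 0 n1486 = n1452 := (sb E8025 (iv D2248))
theorem F23531 : act 2 n1486 = n1484 := (sb E8025 F4087)
theorem F23532 : act 4 n1486 = n1484 := (sb E8025 F4088)
theorem F23533 : act 3 n2318 = n2427 := (sb E8027 F5654)
theorem F23534 : act 3 n1274 = n1853 := (sb E8028 (iv F23100))
theorem E8965 : n4146 = n4137 := ((F8130).symm.trans (iv (sb E8029 (tr (iv D8996) E8104))))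
theorem F23535 : act 4 n3589 = n2780 := (sb E8034 (iv D3866))
theorem E8968 : n2932 = n2432 := ((D2932).symm.trans (sb E8042 F5544))
theorem F23536 : act 3 n2307 = n2590 := (sb E8042 F5545)
theorem E8969 : n4070 = n2933 := (((D2933).symm.trans (sb E8042 F20492))).symm
theorem F23537 : act 3 n3480 = n2925 := (sb E8044 F7006)
theorem F23538 : act 2 n2905 = n2352 := (sb E8045 F5152)
theorem F23539 : act 5 n2905 = n2925 := (sb E8045 F5154)
theorem E8971 : n4071 = n2306 := ((D4071).symm.trans (sb E8045 (iv D2931)))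
theorem F23540 : act 1 n2264 = n2352 := (sb E8046 (iv D3016))
theorem E8974 : n4280 = n2359 := ((((iv F4280)).symm.trans (sb E8046 (iv F7266)))).symm
theorem F23541 : act 0 n3010 = n3071 := (sb E8049 (iv D4398))
theorem E8980 : n10042 = n5931 := (((D5931).symm.trans (sb E8055 D10042))).symm
theorem F23549 : act 6 n3823 = n4056 := (sb E8055 F9782)
theorem F23550 : act 6 n3826 = n3867 := (sb E8057 (iv D6020))
theorem F23551 : act 1 n2562 = n2140 := (sb E8068 (iv D2593))
theorem F23552 : act 3 n2562 = n2654 := (sb E8068 F20280)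
theorem F23553 : act 2 n3063 = n2544 := (sb E8069 F5998)
theorem F23554 : act 5 n3063 = n3434 := (sb E8069 (iv F6035))
theorem E8995 : n4306 = n3026 := ((((iv F5316)).symm.trans (sb E8073 (iv D6886)))).symm
theorem F23555 : act 1 n3013 = n2680 := (sb E8075 (iv D3685))
theorem F23556 : act 3 n3013 = n3071 := (sb E8075 F6345)
theorem E9000 : n3439 = n2224 := ((((iv D2759)).symm.trans (sb E8079 (iv F22306)))).symm
theorem E9001 : n5798 = n2333 := ((((iv F20803)).symm.trans (sb E8079 D5798))).symm
theorem E9002 : n3830 = n2711 := ((D3830).symm.trans (sb E8079 (iv D3752)))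
theorem F23557 : act 3 n2561 = n2367 := (sb E8080 (iv F20357))
theorem E9004 : n7351 = n4278 := (((D4278).symm.trans (sb E8081 (iv F22308)))).symm
theorem E9005 : n4279 = n3159 := ((D4279).symm.trans (sb E8081 (iv D4573)))
theorem E9006 : n4346 = n2126 := ((((iv F22121)).symm.trans (sb E8082 D4346))).symm
theorem F23558 : act 2 n2560 = n2368 := (sb E8082 F5340)
theorem E9007 : n3399 = n3064 := (((iv F5997)).symm.trans (sb E8082 (iv F5351)))
theorem F23559 : act 6 n2560 = n2367 := (sb E8082 (iv D3048))
theorem F23560 : act 1 n2566 = n2368 := (sb E8084 (iv D3049))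
theorem E9012 : n3973 = n3065 := (((D3065).symm.trans (sb E8085 F21834))).symm
theorem F23561 : act 5 n3681 = n3971 := (sb E8088 (iv D6216))
theorem E9013 : n4629 = n3157 := ((((iv F5512)).symm.trans (sb E8089 F20340))).symm
theorem E9014 : n3200 = n2945 := ((((iv F5185)).symm.trans (sb E8089 F20341))).symm
theorem E9015 : n3336 = n3149 := ((((iv F5498)).symm.trans (sb E8089 (iv F22575)))).symm
theorem E9018 : n3158 = n3125 := ((D3158).symm.trans (sb E8089 (iv D4499)))
theorem F23562 : act 0 n3257 = n4228 := (sb E8091 (iv F16283))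
theorem E9020 : n4919 = n4764 := ((((iv F8051)).symm.trans (sb E8091 (iv F8321)))).symm
theorem F23563 : act 6 n3257 = n4518 := (sb E8091 (iv F23004))
theorem F23564 : act 6 n2185 = n2548 := (sb E8092 (iv D3409))
theorem F23565 : act 0 n3281 = n3280 := (sb E8095 F8121)
theorem E9022 : n7870 = n4819 := (((D4819).symm.trans (sb E8095 (iv F13035)))).symm
theorem E9023 : n7873 = n2480 := (((F5756).symm.trans (sb E8095 D7873))).symm
theorem E9024 : n4812 = n3587 := ((D4812).symm.trans (sb E8105 (iv D5442)))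
theorem E9025 : n3730 = n2639 := (((F22860).symm.trans (sb E8097 F22762))).symm
theorem F23566 : act 1 n3431 = n2687 := (sb E8097 (iv D3701))
theorem E9026 : n5101 = n4862 := (((iv F8568)).symm.trans (sb E8097 (tr D5691 E8749)))
theorem E9028 : n5140 = n2685 := (((D2685).symm.trans (sb E8098 (iv F8604)))).symm
theorem E9029 : n4199 = n3695 := (((F13635).symm.trans (sb E8099 F21714))).symm
theorem E9030 : n3694 = n3586 := ((F13636).symm.trans (sb E8099 (iv D5440)))
theorem E9031 : n4760 = n4226 := (((iv F8046)).symm.trans (sb E8099 F21715))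
theorem E9032 : n4811 = n4201 := ((D4811).symm.trans (sb E8099 (iv F21802)))
theorem E9033 : n7882 = n3587 := (((E9024).symm.trans ((D4812).symm.trans (sb E8100 D7882)))).symm
theorem F23567 : act 3 n3278 = n3281 := (sb E8100 F8129)
theorem F23568 : act 5 n3278 = n3280 := (sb E8100 (iv D4818))
theorem E9036 : n11181 = n4761 := (((D4761).symm.trans (sb E8101 D11181))).symm
theorem E9037 : n8773 = n4730 := ((((iv F7998)).symm.trans (sb E8101 (iv F23174)))).symm
theorem F23569 : act 5 n3255 = n4228 := (sb E8101 (iv F23120))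
theorem E9038 : n3537 = n3140 := ((F22815).symm.trans (sb E8102 (iv D4528)))
theorem F23570 : act 5 n3273 = n3141 := (sb E8102 F7645)
theorem E9039 : n7884 = n3589 := ((D7884).symm.trans (sb E8104 F9014))
theorem F23572 : act 0 n3032 = n2800 := (sb E8108 F6652)
theorem E9040 : n4101 = n3122 := ((((iv F5454)).symm.trans (sb E8108 (iv F7000)))).symm
theorem E9041 : n4313 = n3894 := ((D4313).symm.trans (sb E8108 (iv F6655)))
theorem F23573 : act 6 n2845 = n3121 := (sb E8110 (iv D4492))
theorem E9042 : n3133 = n2285 := ((D3133).symm.trans (sb E8111 F4970))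
theorem F23574 : act 2 n2409 = n2267 := (sb E8111 (iv D2846))
theorem F23575 : act 4 n2406 = n2800 := (sb E8112 F4973)
theorem F23576 : act 6 n2406 = n2267 := (sb E8112 (iv D2848))
theorem E9045 : n10349 = n6203 := (((E8290).symm.trans (((iv F11499)).symm.trans (sb E8113 D10349)))).symm
theorem E9049 : n11411 = n10095 := (((iv F19277)).symm.trans (sb E8117 F17204))
theorem E9050 : n7019 = n4454 := ((((iv F21605)).symm.trans (sb E8118 F17569))).symm
theorem F23577 : act 6 n4512 = n6333 := (sb E8118 (iv D10523))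
theorem E9051 : n5686 = n2970 := (((F5494).symm.trans (sb E8120 F22922))).symm
theorem E9052 : n4605 = n4542 := (((D4542).symm.trans (sb E8120 (iv D7441)))).symm
theorem E9053 : n11690 = n6753 := ((((iv F22961)).symm.trans (sb E8122 F20472))).symm
theorem E9054 : n10095 = n4435 := ((E9049).symm.trans ((F19280).symm.trans (sb E8123 (iv D7107))))
theorem F23578 : act 2 n7077 = n4507 := (sb E8123 F21098)
theorem E9055 : n11694 = n6197 := (((iv F19735)).symm.trans (sb E8123 F22375))
theorem F23579 : act 4 n7077 = n4512 := (sb E8123 (iv F21341))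
theorem E9056 : n11696 = n4533 := ((D11696).symm.trans (sb E8123 F21099))
theorem E9057 : n5268 = n2414 := ((((iv D3142)).symm.trans (sb E8124 (iv F20465)))).symm
theorem E9061 : n3210 = n2041 := ((((iv F3324)).symm.trans (sb E8125 (iv D4661)))).symm
theorem E9062 : n2963 = n2433 := ((F22350).symm.trans (sb E8126 (iv D3183)))
theorem F23580 : act 1 n3254 = n4183 := (sb E8127 (iv D6620))
theorem E9069 : n11423 = n3079 := (((E8177).symm.trans (((iv F7289)).symm.trans (sb E8131 (iv F19301))))).symm
theorem F23581 : act 0 n2141 = n2348 := (sb E8135 (iv F4260))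
theorem E9074 : n2595 = n1743 := ((D2595).symm.trans (sb E8135 F4217))
theorem F23582 : act 2 n2141 = n2345 := (sb E8135 F4255)
theorem E9077 : n3739 = n1277 := (((D1277).symm.trans (sb E8137 D3739))).symm
theorem E9078 : n2191 = n634 := ((((iv F1014)).symm.trans (sb E8137 (iv D2704)))).symm
theorem F23583 : act 2 n2300 = n1855 := (sb E8141 F4221)
theorem F23584 : act 5 n2300 = n2318 := (sb E8141 F4222)
theorem F23585 : act 6 n2300 = n1741 := (sb E8141 (iv D2323))
theorem F23586 : act 6 n2798 = n3032 := (sb E8142 (iv D4314))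
theorem F23587 : act 4 n2791 = n2409 := (sb E8143 F5469)
theorem F23588 : act 6 n3030 = n3001 := (sb E8145 (iv D4255))
theorem F23589 : act 6 n3033 = n2362 := (sb E8146 (iv D3036))
theorem E9091 : n9845 = n6061 := (((D6061).symm.trans (sb E8149 D9845))).symm
theorem F23590 : act 3 n3979 = n3974 := (sb E8151 F7574)
theorem F23591 : act 5 n3979 = n3121 := (sb E8151 (iv D4491))
theorem E9093 : n6910 = n6087 := (E8152).trans E8574
theorem E9094 : n10117 = n6061 := ((D10117).symm.trans (sb E9093 (tr (iv F16318) E9091)))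
theorem E9095 : n10260 = n8022 := (((E8896).symm.trans ((D10118).symm.trans (sb E9093 (iv F17053))))).symm
theorem E9099 : n2611 = n2412 := (((D2412).symm.trans (sb E8160 F5960))).symm
theorem F23592 : act 0 n1856 = n2249 := (sb E8161 F4922)
theorem F23593 : act 0 n2316 = n2409 := (sb E8162 F5458)
theorem F23594 : act 3 n2316 = n2405 := (sb E8162 F5459)
theorem F23595 : act 6 n2316 = n2403 := (sb E8162 (iv D3124))
theorem F23596 : act 1 n2107 = n2348 := (sb E8163 F4931)
theorem F23597 : act 2 n2107 = n2249 := (sb E8163 (iv D2813))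
theorem F23598 : act 2 n2260 = n2256 := (sb E8170 F4925)
theorem F23599 : act 4 n2260 = n2256 := (sb E8170 F4926)
theorem E9112 : n6862 = n4407 := (((D4407).symm.trans (sb E8175 D6862))).symm
theorem F23600 : act 4 n3077 = n3061 := (sb E8175 F7293)
theorem F23601 : act 1 n3079 = n4021 := (sb E8177 F7289)
theorem F23602 : act 4 n3079 = n3058 := (sb E8177 F7290)
theorem F23603 : act 0 n2177 = n2596 := (sb E8186 (iv F4664))
theorem F23604 : act 6 n2177 = n2140 := (sb E8186 (iv D2594))
theorem E9133 : n5246 = n3605 := ((D5246).symm.trans (sb E8202 F20316))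
theorem F23605 : act 6 n2653 = n2591 := (sb E8203 (iv D3499))
theorem F23606 : act 6 n5476 = n5239 := (sb E8205 (iv D8622))
theorem E9135 : n9395 = n3069 := (((D3069).symm.trans (sb E8210 (iv F15608)))).symm
theorem E9138 : n9394 = n6225 := ((((iv F10095)).symm.trans (sb E8211 (iv F15606)))).symm
theorem F23607 : act 2 n5027 = n3681 := (sb E8211 (iv D5645))
theorem E9139 : n8251 = n3069 := ((D8251).symm.trans (sb E8211 (tr D9395 E9135)))
theorem F23608 : act 4 n5027 = n6322 := (sb E8211 (iv F10376))
theorem E9141 : n3398 = n3068 := ((((iv F5355)).symm.trans (sb E8212 (iv D5028)))).symm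
theorem E9142 : n7374 = n3025 := ((((iv F5313)).symm.trans (sb E8212 (iv F21953)))).symm
theorem F23609 : act 0 n7353 = n5112 := (sb E8216 (iv D8404))
theorem E9147 : n7353 = n4302 := (((iv F23609)).symm.trans (sb E8217 F21106))
theorem F23610 : act 3 n5112 = n4341 := (sb E8217 F21107)
theorem E9148 : n8406 = n4297 := (E8218).trans E8796
theorem F23611 : act 5 n4297 = n5112 := (sb E9148 (iv D8406))
theorem F23612 : act 1 n4521 = n5108 := (sb E8219 (iv D8397))
theorem F23613 : act 6 n4521 = n5112 := (sb E8219 F14102)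
theorem E9149 : n9851 = n5936 := (E8220).trans E8361
theorem E9150 : n7030 = n6322 := ((F21465).symm.trans (sb E9149 F16327))
theorem F23614 : act 1 n5936 = n8505 := (sb E9149 F16331)
theorem E9151 : n7032 = n6225 := ((F21466).symm.trans (sb E9149 (tr F16328 E9138)))
theorem F23615 : act 5 n5975 = n6322 := (sb E8221 F16343)
theorem F23616 : act 6 n9960 = n6322 := (sb E8222 F17522)
theorem E9167 : n7051 = n4430 := (((D4430).symm.trans (sb E8375 (iv F11597)))).symm
theorem F23623 : act 6 n3087 = n4328 := (sb E8375 (iv D6921))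
theorem F23624 : act 0 n3933 = n2861 := (sb E8239 (iv D4001))
theorem F23625 : act 1 n3095 = n2857 := (sb E8242 (iv D3997))
theorem F23626 : act 3 n3095 = n2861 := (sb E8242 F6803)
theorem F23627 : act 5 n3095 = n2861 := (sb E8242 (iv F23244))
theorem F23628 : act 1 n3029 = n4273 := (sb E8243 (iv D6812))
theorem F23629 : act 1 n2430 = n3155 := (sb E8248 (iv F22413))
theorem F23630 : act 2 n2430 = n2857 := (sb E8248 F5200)
theorem F23631 : act 6 n2430 = n2474 := (sb E8248 F20413)
theorem F23632 : act 1 n11529 = n7112 := (sb E8249 (iv D11761))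
theorem F23634 : act 4 n11527 = n11227 := (sb E8250 F19976)
theorem F23635 : act 2 n7079 = n6974 := (sb E8251 (iv D11530))
theorem F23636 : act 4 n6751 = n6974 := (sb E8252 (iv D11531))
theorem F23637 : act 0 n7144 = n6968 := (sb E8253 F19444)
theorem E9173 : n9946 = n7144 := ((D9946).symm.trans (iv (sb E8253 (tr (iv D11517) E8717))))
theorem F23638 : act 5 n7144 = n6974 := (sb E8253 F19445)
theorem F23639 : act 6 n4457 = n6974 := (sb E8254 (iv D11532))
theorem F23642 : act 6 n11345 = n11588 := (sb E8255 F19560)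
theorem E9174 : n11246 = n5985 := (E8256).trans E8724
theorem E9175 : n9976 = n6835 := ((D9976).symm.trans (sb E9174 F18905))
theorem E9176 : n9959 = n3954 := (((iv F16528)).symm.trans (sb E9174 (tr (iv F19158) E8272)))
theorem F23643 : act 6 n6197 = n6835 := (sb E8257 (iv D11347))
theorem F23644 : act 2 n7086 = n6968 := (sb E8262 (iv D11518))
theorem F23645 : act 4 n6757 = n6968 := (sb E8265 (iv D11519))
theorem F23646 : act 6 n5913 = n6968 := (sb E8267 (iv D11520))
theorem F23647 : act 6 n6175 = n6768 := (sb E8270 (iv D11248))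
theorem E9178 : n11346 = n4419 := (E8275).trans E8909
theorem E9179 : n7075 = n6835 := ((D7075).symm.trans (sb E9178 (iv D11346)))
theorem F23648 : act 3 n7294 = n6768 := (sb E8277 (iv D11247))
theorem F23650 : act 0 n4754 = n3964 := (sb E8282 (iv D6202))
theorem E9180 : n7746 = n4395 := ((D7746).symm.trans (sb E8282 F10062))
theorem F23651 : act 3 n4754 = n3986 := (sb E8282 (iv F21621))
theorem E9181 : n6219 = n4377 := ((((iv F21077)).symm.trans (sb E8282 (iv F10082)))).symm
theorem F23652 : act 0 n5642 = n6226 := (sb E8284 F10123)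
theorem F23653 : act 5 n5642 = n3986 := (sb E8284 (iv D6243))
theorem F23657 : act 6 n6215 = n6971 := (sb E8287 (iv F15611))
theorem E9184 : n10331 = n4396 := (((D4396).symm.trans (sb E8288 (tr F17531 E8782)))).symm
theorem E9188 : n10313 = n8022 := ((D10313).symm.trans (sb E8290 (tr (iv F17050) E9095)))
theorem E9189 : n10506 = n4396 := (E8782).trans E9184
theorem F23658 : act 5 n3852 = n4025 := (sb E8294 F10364)
theorem E9192 : n10344 = n4896 := (E8295).trans E8573
theorem E9194 : n7132 = n6226 := ((F22146).symm.trans (sb E9192 (iv D10344)))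
theorem F23659 : act 0 n3978 = n3681 := (sb E8296 (iv D5644))
theorem F23660 : act 2 n2840 = n3950 := (sb E8300 (iv D6172))
theorem E9206 : n6908 = n6305 := (((iv F11322)).symm.trans (sb E8304 (tr (iv F20865) E8836)))
theorem F23661 : act 3 n4284 = n4724 := (sb E8306 (iv D7678))
theorem E9208 : n6305 = n4057 := (((D4057).symm.trans (sb E8314 (tr F11330 E9206)))).symm
theorem F23662 : act 1 n3908 = n3083 := (sb E8312 (iv D4422))
theorem E9209 : n7081 = n6089 := (((D6089).symm.trans (sb E8312 D7081))).symm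
theorem E9210 : n6323 = n6090 := (((D6090).symm.trans (sb E8312 (iv F10377)))).symm
theorem E9212 : n7073 = n6091 := (((D6091).symm.trans (sb E8312 (iv F11652)))).symm
theorem F23663 : act 1 n2897 = n3929 := (sb E8313 (iv D6132))
theorem E9223 : n6112 = n2832 := (E8911).trans E8912
theorem F23664 : act 4 n2834 = n2828 := (sb E8328 F6686)
theorem E9226 : n10197 = n4363 := (((F23268).symm.trans (sb E8329 D10197))).symm
theorem F23665 : act 1 n3986 = n3928 := (sb E8329 (iv D6129))
theorem E9227 : n6242 = n4451 := (((iv F10121)).symm.trans (sb E8329 F21879))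
theorem E9228 : n5642 = n4450 := (((iv F23653)).symm.trans (sb E8329 F21880))
theorem E9230 : n9952 = n5935 := (((iv F16520)).symm.trans (sb E8331 F10040))
theorem F23666 : act 3 n5989 = n4261 := (sb E8331 (iv F21296))
theorem E9231 : n9956 = n7103 := (((iv F16523)).symm.trans (sb E8332 (iv F22000)))
theorem E9232 : n9960 = n4447 := ((D9960).symm.trans (sb E8332 F21861))
theorem F23667 : act 4 n5991 = n4450 := (sb E8333 F21859)
theorem F23668 : act 2 n3924 = n11678 := (sb E8334 (iv F19704))
theorem F23669 : act 4 n6784 = n4754 := (sb E8847 F12740)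
theorem E9233 : n7098 = n4407 := (((iv F21275)).symm.trans (sb E8847 (tr F20548 E9112)))
theorem F23670 : act 3 n4251 = n4248 := (sb E8338 F10305)
theorem F23671 : act 0 n6784 = n4328 := (sb E8340 F11351)
theorem F23672 : act 1 n6784 = n4417 := (sb E8340 F11352)
theorem F23673 : act 4 n3942 = n4330 := (sb E8341 F11078)
theorem F23674 : act 5 n3942 = n4262 := (sb E8341 (iv D6792))
theorem F23675 : act 3 n3252 = n3928 := (sb E8343 (iv F23284))
theorem E9239 : n4430 = n4300 := ((D4430).symm.trans (sb E8346 (iv D6873)))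
theorem F23676 : act 0 n6155 = n4254 := (sb E8347 (iv D6774))
theorem E9240 : n7051 = n4300 := (E9167).trans E9239
theorem F23677 : act 4 n6155 = n4317 := (sb E8347 F11039)
theorem F23678 : act 5 n6155 = n4260 := (sb E8347 F11040)
theorem F23679 : act 1 n3919 = n4330 := (sb E8348 (iv F10008))
theorem F23680 : act 6 n3972 = n4754 := (sb E8354 F21073)
theorem E9244 : n4213 = n2954 := (((D2954).symm.trans (sb E8355 (iv F20848)))).symm
theorem F23681 : act 4 n2320 = n2596 := (sb E8355 F5555)
theorem F23682 : act 6 n2320 = n2460 := (sb E8355 F20585)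
theorem E9245 : n9951 = n7112 := ((D9951).symm.trans (sb E8357 (iv F22003)))
theorem E9246 : n7034 = n6215 := ((((iv F21823)).symm.trans (sb E8357 F21470))).symm
theorem E9247 : n7033 = n3681 := (((F6855).symm.trans (sb E8358 F21468))).symm
theorem E9248 : n9953 = n7106 := ((D9953).symm.trans (sb E8359 F19835))
theorem E9249 : n9954 = n7115 := ((D9954).symm.trans (sb E8359 F22225))
theorem E9250 : n9955 = n9894 := ((D9955).symm.trans (sb E8359 F22226))
theorem E9251 : n11810 = n2888 := (((F6784).symm.trans (sb E8360 D11810))).symm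
theorem E9252 : n6241 = n4456 := ((D6241).symm.trans (sb E8360 F11756))
theorem F23683 : act 2 n5936 = n3853 := (sb E8361 F9714)
theorem F23684 : act 5 n5936 = n3846 := (sb E8361 (iv D5977))
theorem F23685 : act 0 n5930 = n5991 := (sb E8365 (iv F9732))
theorem F23686 : act 3 n5930 = n4319 := (sb E8365 F9730)
theorem F23687 : act 5 n5930 = n5989 := (sb E8365 F9731)
theorem F23688 : act 6 n5930 = n3853 := (sb E8365 (iv D5990))
theorem E9254 : n5255 = n2934 := ((((iv F5163)).symm.trans (sb E8366 (iv F8776)))).symm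
theorem E9255 : n3533 = n2966 := (((D2966).symm.trans (sb E8366 (iv F6158)))).symm
theorem E9258 : n3535 = n2463 := (((D2463).symm.trans (sb E8367 (iv D5331)))).symm
theorem E9259 : n6483 = n2903 := (((F5683).symm.trans (sb E8368 (iv F23023)))).symm
theorem E9260 : n5253 = n2457 := ((((iv D3230)).symm.trans (sb E8368 F8843))).symm
theorem E9261 : n4126 = n3524 := (((iv F7052)).symm.trans (sb E8368 (iv D5304)))
theorem E9263 : n3190 = n2331 := ((((iv F4238)).symm.trans (sb E8369 F22546))).symm
theorem E9265 : n2327 = n2147 := ((((iv D2610)).symm.trans (sb E8371 (iv D2968)))).symm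
theorem F23689 : act 6 n2610 = n2458 := (sb E8371 F5217)
theorem E9266 : n5248 = n2928 := (((iv F21281)).symm.trans (sb E8372 (iv D4113)))
theorem F23690 : act 0 n3501 = n2653 := (sb E8373 (iv D3625))
theorem F23691 : act 1 n3428 = n2596 := (sb E8374 (iv D3509))
theorem F23692 : act 3 n6067 = n4254 := (sb E8376 F11024)
theorem F23693 : act 5 n6067 = n4258 := (sb E8376 F11026)
theorem F23694 : act 2 n3092 = n4328 := (sb E8378 (iv D6919))
theorem E9269 : n11447 = n4442 := (((D4442).symm.trans (sb E8378 (iv F19345)))).symm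
theorem F23695 : act 4 n3964 = n4328 := (sb E8379 (iv D6920))
theorem E9270 : n9803 = n6089 := (E8391).trans E9209
theorem E9272 : n9881 = n6171 := (((iv F16403)).symm.trans (sb E8382 F11319))
theorem F23696 : act 1 n5931 = n4319 := (sb E8382 (iv D6907))
theorem E9273 : n9805 = n6091 := (E8383).trans E9212
theorem E9274 : n10123 = n6061 := (((iv F16798)).symm.trans (sb E9273 F21913))
theorem E9275 : n10124 = n7048 := (((iv F16799)).symm.trans (sb E9273 F21914))
theorem E9277 : n7389 = n4364 := (((D4364).symm.trans (sb E8387 F20854))).symm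
theorem F23697 : act 4 n3950 = n3936 := (sb E8388 F9891)
theorem E9279 : n5643 = n4012 := (((F21189).symm.trans (sb E8390 F11287))).symm
theorem F23698 : act 6 n6109 = n3936 := (sb E8390 (iv D6146))
theorem E9280 : n10116 = n7048 := (((iv F16786)).symm.trans (sb E9270 F21943))
theorem E9281 : n10120 = n6906 := ((D10120).symm.trans (sb E9270 F21944))
theorem E9282 : n10121 = n6895 := ((D10121).symm.trans (sb E9270 F21945))
theorem E9283 : n10122 = n8022 := ((D10122).symm.trans (sb E9270 (iv F21730)))
theorem E9284 : n6375 = n6144 := (((iv F10472)).symm.trans (sb E9270 F21946))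
theorem E9285 : n6985 = n6090 := (E8392).trans E9210
theorem E9286 : n6844 = n6376 := ((((iv F10473)).symm.trans (sb E9285 F21203))).symm
theorem F23699 : act 5 n2874 = n3061 := (sb E8393 (iv D4378))
theorem F23700 : act 2 n2171 = n2538 := (sb E8394 (iv F23066))
theorem F23701 : act 5 n3606 = n3412 := (sb E8399 (iv D5060))
theorem F23702 : act 6 n3606 = n4999 := (sb E8399 F8515)
theorem F23703 : act 6 n8083 = n5208 := (sb E8401 (iv D8577))
theorem E9288 : n6485 = n2598 := (((F6131).symm.trans (sb E8404 F18024))).symm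
theorem E9294 : n5595 = n2600 := (((D2600).symm.trans (sb E8407 F9235))).symm
theorem E9295 : n2938 = n2602 := (((D2602).symm.trans (sb E8408 F7023))).symm
theorem E9296 : n2935 = n2604 := (((D2604).symm.trans (sb E8409 (iv F22437)))).symm
theorem F23704 : act 4 n2305 = n2592 := (sb E8410 F6116)
theorem F23705 : act 6 n2305 = n2590 := (sb E8410 (iv D3497))
theorem F23706 : act 1 n2308 = n2592 := (sb E8411 (iv D3500))
theorem F23707 : act 3 n4108 = n5244 := (sb E8412 F14451)
theorem F23708 : act 4 n4108 = n5244 := (sb E8412 F14452)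
theorem F23709 : act 6 n4108 = n6395 := (sb E8412 F21283)
theorem F23710 : act 0 n8632 = n8632 := (sb E8413 (tr F15267 E8413))
theorem F23711 : act 3 n8632 = n6472 := (sb E8413 F20436)
theorem F23712 : act 4 n8632 = n6472 := (sb E8413 F20437)
theorem F23713 : act 5 n8632 = n8632 := (sb E8413 (tr F20438 E8413))
theorem E9300 : n5015 = n2597 := (((F20488).symm.trans (sb E8414 F22503))).symm
theorem E9302 : n2111 = n2108 := (((F4583).symm.trans (sb E8416 F4587))).symm
theorem F23714 : act 3 n2526 = n2107 := (sb E8416 F4588)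
theorem F23715 : act 6 n2923 = n3480 := (sb E8417 F23027)
theorem E9304 : n6687 = n4577 := (((D4577).symm.trans (iv (sb E8418 (tr F15979 E8562))))).symm
theorem F23716 : act 2 n3279 = n3280 := (sb E8437 (iv D4816))
theorem F23717 : act 5 n3688 = n4859 := (sb E8439 (iv D7967))
theorem E9312 : n7241 = n2788 := ((((iv F4903)).symm.trans (sb E8440 D7241))).symm
theorem E9313 : n3387 = n2149 := ((((iv F5047)).symm.trans (sb E8440 F7613))).symm
theorem E9331 : n5769 = n2083 := (((D2083).symm.trans (sb E8447 D5769))).symm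
theorem E9332 : n2703 = n1064 := ((((iv F1709)).symm.trans (sb E8447 (iv D3738)))).symm
theorem E9338 : n2324 = n2021 := (((D2021).symm.trans (sb E8450 F5197))).symm
theorem E9339 : n2330 = n2023 := (((D2023).symm.trans (sb E8450 F5198))).symm
theorem F23719 : act 1 n5067 = n3501 := (sb E8454 (iv D5256))
theorem E9350 : n8673 = n3429 := (((D3429).symm.trans (sb E8455 D8673))).symm
theorem F23720 : act 0 n3996 = n3581 := (sb E8776 (iv F23210))
theorem F23721 : act 2 n3080 = n3581 := (sb E8462 F20283)
theorem F23722 : act 4 n3080 = n4009 := (sb E8462 (iv F6825))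
theorem F23723 : act 5 n3080 = n2819 := (sb E8462 F6697)
theorem F23724 : act 5 n2869 = n3581 := (sb E8777 (iv F23211))
theorem F23725 : act 3 n2873 = n3581 := (sb E8465 (iv F23343))
theorem E9363 : n8505 = n6022 := ((((iv F9779)).symm.trans (iv (sb E8475 (tr F16524 E8476))))).symm
theorem E9364 : n9957 = n6022 := (E8475).trans E9363
theorem E9365 : n10038 = n5983 := ((D10038).symm.trans (sb E9364 F16525))
theorem F23726 : act 1 n5970 = n3884 := (sb E8476 (iv D6048))
theorem E9366 : n4537 = n2766 := ((((iv D3841)).symm.trans (sb E8478 F8000))).symm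
theorem E9367 : n5170 = n3868 := ((((iv F6596)).symm.trans (sb E8478 (iv F21409)))).symm
theorem F23727 : act 4 n3841 = n3257 := (sb E8478 F8002)
theorem E9368 : n5330 = n3243 := (((iv F8867)).symm.trans (sb E8478 (iv D4732)))
theorem F23728 : act 0 n7259 = n7752 := (sb E8479 F12870)
theorem F23729 : act 1 n7259 = n6225 := (sb E8479 F23345)
theorem E9376 : n978 = n476 := (((F1529).symm.trans (sb E8501 F3108))).symm
theorem F23730 : act 4 n974 = n974 := (sb E8501 (iv D1938))
theorem E9377 : n2581 = n2136 := (((D2136).symm.trans (sb E8502 D2581))).symm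
theorem F23731 : act 4 n1170 = n1170 := (sb E8502 F3940)
theorem F23732 : act 3 n2205 = n2205 := (sb E8507 F4835)
theorem E9400 : n2498 = n2078 := (((F3391).symm.trans (sb E8525 (iv F4529)))).symm
theorem F23733 : act 4 n1260 = n1260 := (sb E8525 (iv D2206))
theorem E9403 : n2726 = n604 := (((F2016).symm.trans (sb E8527 (iv F4831)))).symm
theorem F23734 : act 3 n1236 = n1236 := (sb E8527 F4030)
theorem E9404 : n3755 = n2053 := ((((iv F3345)).symm.trans (sb E8528 (iv F6413)))).symm
theorem E9405 : n1270 = n627 := ((((iv F3830)).symm.trans (sb E8529 F3832))).symm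
theorem E9406 : n2497 = n2076 := (((D2076).symm.trans (sb E8529 (iv F4526)))).symm
theorem F23735 : act 4 n1058 = n1058 := (sb E8529 (iv D2077))
theorem F23736 : act 4 n621 = n621 := (sb E8530 (iv D1263))
theorem E9410 : n2724 = n593 := ((((iv F961)).symm.trans (sb E8533 D2724))).symm
theorem E9411 : n2196 = n2052 := (((D2052).symm.trans (sb E8534 (iv D2712)))).symm
theorem E9440 : n3757 = n3305 := ((((iv F5804)).symm.trans (sb E8562 (iv D5808)))).symm
theorem F23738 : act 3 n7388 = n2970 := (sb E8563 (tr F15682 E9051))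
theorem F23739 : act 0 n2948 = n3134 := (sb E8575 (iv F5476))
theorem F23740 : act 3 n2948 = n2411 := (sb E8575 F5472)
theorem F23741 : act 6 n2948 = n2408 := (sb E8575 (iv D3132))
theorem F23742 : act 0 n3127 = n3979 := (sb E8577 F6778)
theorem F23743 : act 6 n3127 = n3974 := (sb E8577 F6780)
theorem E9448 : n4549 = n4037 := (((F20532).symm.trans (sb E8580 F22682))).symm
theorem F23744 : act 2 n3123 = n3979 := (sb E8580 F7104)
theorem E9449 : n4957 = n3386 := (((iv F8385)).symm.trans (sb E8581 F7610))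
theorem E9450 : n4988 = n3366 := ((D4988).symm.trans (sb E8582 F5984))
theorem F23745 : act 6 n4493 = n3884 := (sb E8583 (iv D6049))
theorem F23746 : act 3 n8802 = n5357 := (sb E8586 (iv D8834))
theorem F23747 : act 3 n3567 = n5375 := (sb E8587 (iv D8876))
theorem F23748 : act 3 n8877 = n5400 := (sb E8589 F14903)
theorem E9452 : n5384 = n2116 := ((((iv D2549)).symm.trans (sb E8590 (iv F8935)))).symm
theorem F23749 : act 6 n4532 = n5371 := (sb E8592 (iv D8868))
theorem E9453 : n2644 = n556 := (((F1858).symm.trans (sb E8593 F6215))).symm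
theorem E9455 : n2632 = n1195 := ((((iv F1953)).symm.trans (sb E8593 (iv D3576)))).symm
theorem F23750 : act 1 n1180 = n2122 := (sb E8599 F4010)
theorem F23751 : act 1 n2601 = n3412 := (sb E8600 F6274)
theorem E9462 : n4121 = n3181 := ((((iv F5558)).symm.trans (sb E8600 F22342))).symm
theorem E9463 : n2652 = n2624 := ((((iv F4708)).symm.trans (sb E8600 (iv D3624)))).symm
theorem F23752 : act 0 n4534 = n5371 := (sb E8602 (iv F20459))
theorem E9464 : n7432 = n7294 := ((((iv F12045)).symm.trans (sb E8602 D7432))).symm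
theorem F23753 : act 3 n4987 = n5970 := (sb E8605 (iv F23083))
theorem E9469 : n5348 = n3613 := ((((iv F23404)).symm.trans (sb E8605 F20706))).symm
theorem F23754 : act 1 n5070 = n3641 := (sb E8608 (iv D5557))
theorem E9471 : n9220 = n8326 := ((((iv F14009)).symm.trans (sb E8608 (iv F15361)))).symm
theorem E9472 : n8370 = n3640 := (((D3640).symm.trans (sb E8611 (iv F14062)))).symm
theorem E9473 : n5002 = n3553 := (((F23375).symm.trans (sb E8612 F13820))).symm
theorem F23755 : act 1 n2298 = n2318 := (sb E8616 (iv D2951))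
theorem E9482 : n3427 = n2599 := (((F20272).symm.trans (sb E8629 F22504))).symm
theorem F23756 : act 6 n2528 = n2534 := (sb E8629 (iv D3382))
theorem E9483 : n3380 = n2109 := ((((iv D2536)).symm.trans (sb E8631 (iv D4990)))).symm
theorem F23757 : act 0 n2539 = n2534 := (sb E8633 F5949)
theorem F23758 : act 1 n2539 = n2625 := (sb E8633 F20226)
theorem F23759 : act 2 n2539 = n2528 := (sb E8633 F5950)
theorem F23760 : act 5 n2539 = n2526 := (sb E8633 (iv D3364))
theorem E9487 : n3424 = n2618 := (((D2618).symm.trans (sb E8636 (tr (iv D5608) E8710)))).symm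
theorem E9491 : n3544 = n3415 := (((iv F6181)).symm.trans (sb E8638 (tr (iv D5519) E8698)))
theorem F23761 : act 0 n3853 = n4025 := (sb E8643 (iv F10365))
theorem E9496 : n2612 = n2547 := ((F22730).symm.trans (sb E8647 (iv D3406)))
theorem F23762 : act 5 n2681 = n2548 := (sb E8647 F6001)
theorem F23763 : act 3 n2115 = n2534 := (sb E8650 F5963)
theorem E9498 : n8287 = n5660 := (E8652).trans E8743
theorem F23764 : act 2 n5660 = n5052 := (sb E9498 (iv D8287))
theorem F23765 : act 6 n5052 = n3862 := (sb E8653 (iv D6009))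
theorem F23766 : act 1 n10031 = n6021 := (sb E8655 (iv D10035))
theorem F23767 : act 4 n10031 = n10032 := (sb E8655 (tr (iv F18760) E8656))
theorem F23768 : act 5 n10031 = n10032 := (sb E8655 (tr (iv F18761) E8656))
theorem F23769 : act 1 n10032 = n6717 := (sb E8656 F18759)
theorem F23771 : act 1 n10033 = n9894 := (sb E8658 (iv F21435))
theorem E9511 : n5004 = n1183 := (((F3949).symm.trans (sb E8665 F13826))).symm
theorem E9513 : n5016 = n1179 := ((((iv D2143)).symm.trans (sb E8665 F13827))).symm
theorem E9516 : n9127 = n2149 := (E8666).trans E9313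
theorem E9517 : n5512 = n2616 := (((D2616).symm.trans (sb E9516 (iv D9127)))).symm
theorem E9518 : n4120 = n2025 := ((((iv F3290)).symm.trans (iv (sb E8667 (tr (iv D8204) E9511))))).symm
theorem E9519 : n2540 = n1182 := (((D1182).symm.trans (sb E8668 (iv D3394)))).symm
theorem E9522 : n2555 = n1185 := (((D1185).symm.trans (sb E8668 F5992))).symm
theorem E9526 : n2616 = n2550 := ((((iv D3414)).symm.trans (sb E8670 (tr D5512 E9517)))).symm
theorem E9527 : n5065 = n2624 := ((D5065).symm.trans (sb E8670 (tr F6267 E9463)))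
theorem E9530 : n5700 = n2978 := (((F7063).symm.trans (sb E8674 F13062))).symm
theorem F23773 : act 6 n4136 = n4819 := (sb E8674 (iv D7885))
theorem F23774 : act 1 n3956 = n3909 := (sb E8681 (iv D6092))
theorem E9533 : n10125 = n4418 := ((((iv F7442)).symm.trans (sb E8681 (iv F16800)))).symm
theorem E9534 : n6378 = n4360 := (((F23277).symm.trans (sb E8681 (iv F10477)))).symm
theorem F23775 : act 0 n6768 = n5985 := (sb E8682 F19769)
theorem E9538 : n3862 = n3704 := ((F23765).symm.trans (sb E8684 (iv D5698)))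
theorem F23776 : act 6 n4530 = n3281 := (sb E8685 (iv D4820))
theorem F23777 : act 5 n3687 = n3408 := (sb E8686 F8495)
theorem F23778 : act 6 n2689 = n3408 := (sb E8687 (iv D5053))
theorem E9541 : n4198 = n3698 := (((D3698).symm.trans (sb E8692 (iv D6657)))).symm
theorem E9542 : n9326 = n5400 := ((((iv F8954)).symm.trans (sb E8694 (iv F15502)))).symm
theorem E9543 : n5376 = n4134 := (((iv F8923)).symm.trans (sb E8694 F22993))
theorem E9544 : n5553 = n5396 := (((D5396).symm.trans (sb E8695 F9220))).symm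
theorem F23779 : act 1 n6515 = n5493 := (sb E8696 F23401)
theorem E9553 : n5516 = n5063 := ((((iv F8519)).symm.trans (sb E8698 (iv F9116)))).symm
theorem F23780 : act 1 n3415 = n3613 := (sb E8698 F6272)
theorem E9554 : n5512 = n2550 := (E9517).trans E9526
theorem F23781 : act 2 n2157 = n2556 := (sb E8701 F6027)
theorem E9563 : n5588 = n289 := ((((iv D588)).symm.trans (sb E8702 (iv F22991)))).symm
theorem E9566 : n2667 = n1194 := (((D1194).symm.trans (sb E8704 (iv D3656)))).symm
theorem E9570 : n2600 = n2554 := (((D2554).symm.trans (sb E8708 (tr (iv F9211) E9294)))).symm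
theorem E9571 : n3663 = n2618 := (E8710).trans E9487
theorem E9573 : n5607 = n3198 := ((((iv F5584)).symm.trans (sb E9571 D5607))).symm
theorem E9574 : n5063 = n3542 := ((((iv F6175)).symm.trans (sb E9571 (tr (iv F9117) E9553)))).symm
theorem E9575 : n5595 = n2554 := (E9294).trans E9570
theorem E9576 : n3198 = n2564 := ((((iv F4623)).symm.trans (sb E8711 (tr (iv F9224) E9573)))).symm
theorem E9579 : n7080 = n4442 := ((D7080).symm.trans (sb E8713 (tr (iv F19344) E9269)))
theorem E9581 : n7086 = n6858 := ((D7086).symm.trans (sb E8714 (iv D11390)))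
theorem F23782 : act 5 n4294 = n3085 := (sb E8715 (iv D4426))
theorem F23783 : act 0 n5972 = n4361 := (sb E8717 F11436)
theorem E9583 : n9947 = n6126 := ((D9947).symm.trans (sb E8717 (iv F23264)))
theorem E9584 : n6358 = n5973 := (((D5973).symm.trans (sb E8718 (iv F10439)))).symm
theorem F23784 : act 6 n3844 = n2888 := (sb E8718 (iv D4047))
theorem E9585 : n10565 = n7144 := (E8719).trans E9173
theorem E9586 : n11818 = n5973 := ((D11818).symm.trans (sb E9585 (tr (iv D10565) E9584)))
theorem E9587 : n9970 = n7076 := (((iv F16545)).symm.trans (sb E8720 (iv F22103)))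
theorem F23785 : act 4 n5985 = n5972 := (sb E8720 F10434)
theorem F23786 : act 2 n5985 = n3956 := (sb E8724 F10035)
theorem E9593 : n7074 = n6499 := ((((iv F10665)).symm.trans (sb E8725 F21091))).symm
theorem F23787 : act 0 n4058 = n3823 := (sb E8735 F9661)
theorem E9597 : n6377 = n6171 := (((iv F10475)).symm.trans (sb E8735 (tr D9881 E9272)))
theorem F23788 : act 5 n4058 = n4896 := (sb E8735 F9663)
theorem E9598 : n4229 = n4040 := (((D4040).symm.trans (sb E8738 (iv F21779)))).symm
theorem F23789 : act 5 n3886 = n5970 := (sb E8740 (iv D9943))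
theorem E9603 : n7440 = n6757 := ((F23390).symm.trans (sb E8744 F23121))
theorem F23790 : act 4 n5660 = n5052 := (sb E8744 F23413)
theorem F23791 : act 5 n5660 = n5052 := (sb E8744 F13947)
theorem F23792 : act 3 n4582 = n5664 := (sb E8745 F15653)
theorem E9604 : n11386 = n7398 := (((D7398).symm.trans (sb E8745 (tr (iv F19761) E8819)))).symm
theorem F23793 : act 6 n4580 = n5664 := (sb E8746 (iv D9428))
theorem F23794 : act 0 n4212 = n4576 := (sb E8747 (iv D7383))
theorem E9605 : n4902 = n4576 := (((iv F21828)).symm.trans (sb E8748 (iv D7384)))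
theorem E9606 : n7969 = n5751 := ((D7969).symm.trans (sb E8749 F23089))
theorem E9608 : n7971 = n3429 := ((D7971).symm.trans (sb E8749 (tr (iv F14518) E9350)))
theorem E9609 : n7352 = n3329 := ((((iv F21428)).symm.trans (iv (sb E8750 (tr F23106 E8761))))).symm
theorem F23796 : act 1 n7308 = n11568 := (sb E8751 F23168)
theorem F23797 : act 4 n7308 = n7076 := (sb E8751 F20567)
theorem F23798 : act 5 n7308 = n6333 := (sb E8751 F20568)
theorem E9613 : n7576 = n3256 := (((F8043).symm.trans (sb E8752 (iv F22909)))).symm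
theorem E9614 : n10032 = n9639 := (((iv F23769)).symm.trans (sb E8753 (iv F15946)))
theorem F23799 : act 6 n6717 = n7752 := (sb E8753 F21380)
theorem F23800 : act 3 n5969 = n5493 := (sb E8755 F23402)
theorem F23801 : act 6 n5969 = n7688 := (sb E8755 F20789)
theorem E9618 : n2960 = n2338 := ((F5230).symm.trans (sb E8758 (iv D2990)))
theorem F23802 : act 2 n2983 = n3751 := (sb E8758 (iv F6406))
theorem F23803 : act 0 n2976 = n4200 := (sb E8759 (iv F22825))
theorem E9620 : n4673 = n4212 := (((D4212).symm.trans (sb E8759 (iv F7889)))).symm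
theorem E9621 : n3292 = n2449 := ((F22448).symm.trans (sb E8759 (iv D3215)))
theorem F23804 : act 0 n3680 = n4009 := (sb E8762 (iv D6290))
theorem F23805 : act 0 n3999 = n4273 := (sb E8763 F7285)
theorem F23806 : act 5 n3999 = n3020 := (sb E8763 (iv D4292))
theorem F23807 : act 2 n2866 = n3020 := (sb E8764 F7283)
theorem F23808 : act 6 n2866 = n3019 := (sb E8764 (iv D4291))
theorem F23809 : act 6 n3678 = n4009 := (sb E8765 (iv D6292))
theorem E9627 : n11678 = n4017 := ((((iv F6845)).symm.trans (sb E8767 D11678))).symm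
theorem F23810 : act 2 n3678 = n3071 := (sb E8773 (iv D4399))
theorem F23811 : act 4 n3994 = n3071 := (sb E8778 F7308)
theorem F23812 : act 6 n3994 = n3581 := (sb E8778 (iv F23212))
theorem F23813 : act 0 n2250 = n2260 := (sb E8779 (iv F4105))
theorem F23814 : act 3 n2250 = n2382 := (sb E8779 (iv F4304))
theorem F23815 : act 6 n2250 = n1485 := (sb E8779 (iv D2259))
theorem E9634 : n7000 = n4456 := ((((iv F7501)).symm.trans (sb E9189 (iv F17533)))).symm
theorem E9635 : n7037 = n6324 := ((D7037).symm.trans (sb E9189 (iv D10506)))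
theorem F23816 : act 0 n4301 = n6325 := (sb E8783 F17534)
theorem F23817 : act 3 n4301 = n6324 := (sb E8783 (iv D10507))
theorem E9636 : n6876 = n6334 := ((D6876).symm.trans (sb E8783 F17535))
theorem F23818 : act 5 n4031 = n4375 := (sb E8784 (iv D6998))
theorem F23819 : act 2 n4298 = n6325 := (sb E8785 (iv D10508))
theorem E9637 : n6869 = n6337 := ((D6869).symm.trans (sb E8785 F17536))
theorem F23820 : act 5 n4372 = n6325 := (sb E8786 (iv D10510))
theorem F23821 : act 5 n4033 = n5108 := (sb E8787 (iv D8398))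
theorem F23822 : act 3 n4801 = n4530 := (sb E8790 (iv D7287))
theorem F23823 : act 5 n4801 = n4530 := (sb E8792 F12018)
theorem F23824 : act 1 n2022 = n2420 := (sb E8793 F4495)
theorem E9640 : n4561 = n2510 := ((D4561).symm.trans (sb E8794 F5566))
theorem E9641 : n4613 = n4560 := ((((iv F7696)).symm.trans (sb E8794 D4613))).symm
theorem F23825 : act 1 n4298 = n4556 := (sb E8795 (iv D7344))
theorem F23826 : act 4 n4298 = n5112 := (sb E8795 F12133)
theorem F23827 : act 3 n4297 = n4556 := (sb E8796 F12131)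
theorem E9642 : n6866 = n4555 := ((D6866).symm.trans (sb E8796 (iv D7343)))
theorem F23828 : act 1 n3974 = n6087 := (sb E8798 F16785)
theorem F23829 : act 1 n2447 = n2411 := (sb E8800 (iv D3138))
theorem F23830 : act 1 n2113 = n2158 := (sb E8801 (iv D2633))
theorem E9645 : n11391 = n7053 := (((D7053).symm.trans (sb E8808 (iv F19233)))).symm
theorem F23831 : act 4 n4408 = n4375 := (sb E8808 F11217)
theorem F23832 : act 6 n4408 = n4294 := (sb E8808 (iv D6860))
theorem F23833 : act 0 n4410 = n4294 := (sb E8809 F11206)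
theorem F23834 : act 4 n4410 = n4369 := (sb E8809 F11207)
theorem F23835 : act 2 n2376 = n2562 := (sb E8814 F6040)
theorem F23836 : act 5 n2376 = n2561 := (sb E8814 (iv D3440))
theorem F23837 : act 0 n3021 = n3079 := (sb E8818 F5380)
theorem F23838 : act 5 n3021 = n2385 := (sb E8818 (iv D3086))
theorem F23839 : act 6 n3021 = n3077 := (sb E8818 F5382)
theorem F23840 : act 1 n11387 = n10566 := (sb E8820 (iv F22531))
theorem F23841 : act 1 n6356 = n4375 := (sb E8821 (iv D6997))
theorem E9655 : n11551 = n9948 := ((((iv F16514)).symm.trans (sb E8821 (iv F22196)))).symm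
theorem E9656 : n11568 = n10554 := ((((iv F17649)).symm.trans (sb E8821 D11568))).symm
theorem E9657 : n10563 = n9948 := ((D10563).symm.trans (sb E8821 (tr (iv F19502) E9655)))
theorem E9658 : n7342 = n4382 := (((iv F12128)).symm.trans (sb E8823 (iv F21430)))
theorem F23842 : act 2 n4559 = n5108 := (sb E8823 (iv F21831))
theorem E9661 : n11387 = n7341 := ((((iv F12126)).symm.trans (sb E8824 (iv F19228)))).symm
theorem F23843 : act 4 n4558 = n5108 := (sb E8824 F12125)
theorem E9662 : n7350 = n4554 := ((D7350).symm.trans (sb E8824 (iv D7340)))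
theorem F23844 : act 0 n3070 = n2560 := (sb E8826 F6032)
theorem E9663 : n4397 = n4369 := ((D4397).symm.trans (sb E8826 (iv F21835)))
theorem F23845 : act 3 n3070 = n2558 := (sb E8826 (iv D3433))
theorem F23846 : act 1 n5991 = n4024 := (sb E8833 (iv D6320))
theorem F23847 : act 6 n5991 = n4025 := (sb E8833 F10362)
theorem F23848 : act 3 n3919 = n4024 := (sb E8834 F10338)
theorem F23849 : act 5 n3924 = n4024 := (sb E8835 F20900)
theorem F23850 : act 6 n3924 = n4016 := (sb E8835 (iv D6306))
theorem F23851 : act 3 n4288 = n4026 := (sb E8837 F10326)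
theorem F23852 : act 3 n2840 = n3021 := (sb E8838 F7275)
theorem F23853 : act 1 n4317 = n4017 := (sb E8840 (iv D6307))
theorem F23854 : act 3 n4317 = n4025 := (sb E8840 F10342)
theorem E9668 : n6847 = n6155 := ((((iv F23677)).symm.trans (sb E8840 (iv F11196)))).symm
theorem F23855 : act 5 n2156 = n2630 := (sb E8849 (iv D3572))
theorem E9671 : n2666 = n1201 := (((F21904).symm.trans (sb E8851 F6209))).symm
theorem E9677 : n8065 = n3256 := (E8865).trans E9613
theorem E9679 : n4764 = n4763 := (((D4763).symm.trans (sb E9677 (tr F13418 E9020)))).symm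
theorem F23858 : act 4 n1740 = n2141 := (sb E8868 F4399)
theorem F23859 : act 6 n1740 = n2020 := (sb E8868 (iv D2431))
theorem F23860 : act 1 n4386 = n3127 := (sb E8870 (iv D4503))
theorem F23861 : act 3 n4386 = n3978 := (sb E8870 F7596)
theorem F23862 : act 5 n4386 = n3972 := (sb E8870 F21258)
theorem F23863 : act 6 n4386 = n6203 := (sb E8870 (iv F21622))
theorem F23864 : act 0 n2970 = n4054 := (sb E8878 F10460)
theorem E9694 : n7388 = n4053 := (((iv F23738)).symm.trans (sb E8878 (iv D6368)))
theorem F23865 : act 1 n4541 = n4053 := (sb E8879 (iv D6367))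
theorem E9697 : n10566 = n9950 := ((((iv F16517)).symm.trans (sb E8880 (iv F17672)))).symm
theorem F23866 : act 6 n5974 = n5912 := (sb E8880 F10444)
theorem F23867 : act 1 n4150 = n4054 := (sb E8881 F10287)
theorem F23868 : act 2 n2969 = n4054 := (sb E8882 (iv D6369))
theorem F23869 : act 4 n3584 = n4054 := (sb E8883 (iv D6370))
theorem F23870 : act 3 n1742 = n2020 := (sb E8884 (iv D2429))
theorem E9706 : n3405 = n2437 := (((F20704).symm.trans (sb E8889 (iv D5044)))).symm
theorem E9707 : n4958 = n2527 := (((D2527).symm.trans (sb E8890 (iv F8390)))).symm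
theorem F23872 : act 6 n2105 = n2526 := (sb E8890 (iv D3365))
theorem E9708 : n2565 = n2439 := (((F20334).symm.trans (sb E8891 (iv D3447)))).symm
theorem F23873 : act 0 n3909 = n4896 := (sb E8894 F9609)
theorem F23874 : act 5 n3909 = n3823 := (sb E8894 (iv F9611))
theorem F23875 : act 0 n8022 = n6091 := (sb E8896 F16789)
theorem F23876 : act 6 n8022 = n6087 := (sb E8896 (iv D10118))
theorem F23877 : act 0 n3849 = n2888 := (sb E8898 F6901)
theorem E9710 : n6355 = n5982 := ((((iv F9717)).symm.trans (sb E8898 D6355))).symm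
theorem F23878 : act 4 n3849 = n3844 := (sb E8898 F6902)
theorem F23879 : act 5 n3849 = n5912 := (sb E8898 (iv F9643))
theorem F23880 : act 0 n2325 = n2300 := (sb E8904 (iv D2914))
theorem F23881 : act 3 n2325 = n2430 := (sb E8904 F20570)
theorem F23882 : act 0 n4184 = n6333 := (sb E8905 F10561)
theorem F23883 : act 0 n4122 = n3608 := (sb E8906 F9061)
theorem F23884 : act 3 n4122 = n3606 := (sb E8906 (iv D5480))
theorem E9716 : n11227 = n6334 := ((D11227).symm.trans (sb E8908 F17567))
theorem F23885 : act 3 n6751 = n6333 := (sb E8908 (iv D10521))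
theorem F23886 : act 1 n2832 = n3921 := (sb E9223 (iv D6112))
theorem F23887 : act 3 n2816 = n3080 := (sb E8913 (iv F5371))
theorem F23888 : act 2 n3067 = n3155 := (sb E8918 F7700)
theorem F23889 : act 5 n3067 = n3154 := (sb E8918 (iv D4562))
theorem F23890 : act 3 n3434 = n3046 := (sb E8920 (iv F23504))
theorem F23891 : act 0 n4392 = n3136 := (sb E8923 F7631)
theorem F23892 : act 2 n4392 = n3135 := (sb E8923 (iv D4520))
theorem E9718 : n7263 = n6877 := ((((iv F11245)).symm.trans (sb E8923 D7263))).symm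
theorem F23893 : act 5 n4392 = n3151 := (sb E8923 F7633)
theorem F23894 : act 6 n2543 = n3063 := (sb E8926 (iv D4384))
theorem E9724 : n2452 = n1040 := ((((iv F1651)).symm.trans (sb E8928 (iv D3220)))).symm
theorem F23895 : act 1 n3018 = n2840 := (sb E8936 (iv D3966))
theorem F23896 : act 5 n3018 = n3071 := (sb E8936 F6754)
theorem F23897 : act 1 n2867 = n3932 := (sb E8937 (iv D6137))
theorem F23898 : act 2 n3936 = n3932 := (sb E8938 (iv F23460))
theorem F23899 : act 0 n7108 = n5983 := (sb E8941 F23423)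
theorem F23900 : act 2 n7108 = n4728 := (sb E8941 (iv D7687))
theorem F23901 : act 4 n7108 = n4757 := (sb E8941 F12748)
theorem E9726 : n5448 = n4731 := ((F23516).symm.trans (sb E8941 F12749))
theorem F23902 : act 2 n2407 = n2800 := (sb E8943 F6633)
theorem F23903 : act 6 n2407 = n2791 := (sb E8943 (iv D3885))
theorem F23904 : act 3 n3896 = n3001 := (sb E8944 F7209)
theorem F23905 : act 4 n3896 = n3127 := (sb E8944 F7210)
theorem E9729 : n11411 = n4435 := (E9049).trans E9054
theorem F23906 : act 4 n6067 = n4386 := (sb E8947 F11236)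
theorem F23907 : act 2 n3129 = n3896 := (sb E8948 F9826)
theorem F23908 : act 6 n3129 = n4100 := (sb E8948 F9829)
theorem E9730 : n5447 = n4863 := (((D4863).symm.trans (sb E8949 F23519))).symm
theorem E9732 : n4118 = n2946 := (((F5796).symm.trans (sb E8949 (iv F21442)))).symm
theorem E9733 : n4149 = n2930 := ((((iv F21127)).symm.trans (sb E8951 F8223))).symm
theorem F23909 : act 6 n3829 = n3302 := (sb E8951 (iv D4864))
theorem E9734 : n6018 = n4863 := (E8952).trans E9730
theorem E9736 : n3867 = n3751 := (((F8221).symm.trans (sb E9734 F9773))).symm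
theorem F23910 : act 3 n4315 = n4056 := (sb E8956 (iv D6374))
theorem E9738 : n10592 = n4311 := (((F7318).symm.trans (sb E8956 D10592))).symm
theorem F23911 : act 5 n4315 = n6087 := (sb E8956 F10471)
theorem F23912 : act 6 n5981 = n6352 := (sb E8957 F16399)
theorem F23913 : act 2 n4137 = n4819 := (sb E8965 (iv F8130))
theorem E9754 : n5515 = n3556 := (((F22709).symm.trans (sb E8965 (iv F22488)))).symm
theorem E9755 : n2988 = n2979 := (((F7065).symm.trans (sb E8965 F7087))).symm
theorem F23914 : act 1 n2432 = n2307 := (sb E8968 (iv D2932))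
theorem E9756 : n3182 = n2313 := ((D3182).symm.trans (sb E8968 F5157))
theorem F23915 : act 0 n2933 = n2905 := (sb E8969 (iv D4070))
theorem F23916 : act 3 n2933 = n3496 := (sb E8969 (iv F20664))
theorem F23917 : act 6 n2306 = n2905 := (sb E8971 (iv D4071))
theorem F23918 : act 1 n2359 = n3015 := (sb E8974 (iv D4280))
theorem F23919 : act 5 n5931 = n6091 := (sb E8980 F16653)
theorem F23920 : act 1 n3026 = n3994 := (sb E8995 F21233)
theorem F23921 : act 3 n3026 = n3999 := (sb E8995 (iv F21586))
theorem F23922 : act 1 n2224 = n2561 := (sb E9000 (iv D3439))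
theorem E9775 : n2760 = n2572 := ((D2760).symm.trans (sb E9000 F6038))
theorem E9776 : n5699 = n2780 := (((F23529).symm.trans (sb E9001 F9480))).symm
theorem F23923 : act 6 n2711 = n2759 := (sb E9002 (iv D3830))
theorem F23924 : act 6 n4278 = n4559 := (sb E9004 (iv D7351))
theorem F23925 : act 0 n3159 = n4304 := (sb E9005 (iv F7304))
theorem F23926 : act 2 n3159 = n3015 := (sb E9005 F7263)
theorem E9780 : n4572 = n4299 := ((D4572).symm.trans (sb E9005 (iv F7299)))
theorem F23927 : act 6 n3159 = n3014 := (sb E9005 (iv D4279))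
theorem E9782 : n6949 = n2394 := ((((iv F4326)).symm.trans (sb E9006 D6949))).symm
theorem E9783 : n4409 = n4385 := (((D4385).symm.trans (sb E9007 (iv F7430)))).symm
theorem F23928 : act 3 n3064 = n2543 := (sb E9007 (iv D3399))
theorem F23929 : act 5 n3064 = n2560 := (sb E9007 F5997)
theorem E9787 : n4387 = n3100 := ((D4387).symm.trans (sb E9012 F6759))
theorem F23930 : act 5 n3065 = n2844 := (sb E9012 (iv D3973))
theorem E9788 : n3247 = n3202 := (((iv F22338)).symm.trans (sb E9013 F7826))
theorem F23931 : act 1 n2945 = n4137 := (sb E9014 (iv F22708))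
theorem E9790 : n3622 = n2622 := (((iv F22348)).symm.trans (sb E9014 F5589))
theorem E9791 : n2444 = n2337 := (((F5186).symm.trans (sb E9014 F5590))).symm
theorem F23932 : act 6 n2945 = n2441 := (sb E9014 (iv D3200))
theorem E9792 : n4548 = n2514 := (((iv F7678)).symm.trans (sb E9015 F5881))
theorem E9793 : n2513 = n2417 := ((((iv D3149)).symm.trans (sb E9015 (iv D3336)))).symm
theorem E9796 : n3139 = n2438 := ((((iv F20339)).symm.trans (sb E9018 F5517))).symm
theorem F23933 : act 6 n3125 = n2422 := (sb E9018 (iv D3158))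
theorem E9797 : n4919 = n4763 := (E9020).trans E9679
theorem E9798 : n7762 = n6717 := (((iv F12863)).symm.trans (sb E9797 (iv F16284)))
theorem E9799 : n4577 = n3342 := ((E9304).symm.trans (((iv F10929)).symm.trans (sb E9797 (iv D4919))))
theorem E9800 : n7766 = n3868 := ((D7766).symm.trans (sb E9797 F8322))
theorem E9801 : n7767 = n3256 := ((D7767).symm.trans (sb E9797 (tr (iv F12553) E9613)))
theorem E9802 : n7751 = n7259 := (((iv F12853)).symm.trans (sb E9797 (iv F23350)))
theorem E9804 : n5750 = n3589 := (((E9039).symm.trans ((D7884).symm.trans (sb E9022 F13649)))).symm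
theorem E9805 : n7765 = n3257 := ((((iv F5723)).symm.trans (sb E9023 F13039))).symm
theorem F23934 : act 1 n3587 = n3278 := (sb E9024 (iv D4812))
theorem E9808 : n5751 = n3590 := ((((iv F6226)).symm.trans (sb E9025 (iv F9427)))).symm
theorem F23935 : act 4 n2639 = n2976 := (sb E9025 F22665)
theorem E9809 : n7969 = n3590 := (E9606).trans E9808
theorem F23936 : act 2 n4862 = n3431 := (sb E9026 F8568)
theorem E9811 : n3697 = n3446 := ((D3697).symm.trans (sb E9028 (iv D5140)))
theorem F23937 : act 1 n3695 = n2971 := (sb E9029 (iv D4199))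
theorem E9812 : n5678 = n2982 := ((D5678).symm.trans (sb E9029 F7154))
theorem E9813 : n5680 = n2972 := ((D5680).symm.trans (sb E9029 F7155))
theorem F23938 : act 0 n3586 = n2685 := (sb E9030 (iv D3694))
theorem F23939 : act 2 n3586 = n3277 := (sb E9030 (iv F13636))
theorem F23940 : act 4 n3586 = n3695 := (sb E9030 F13634)
theorem F23941 : act 5 n3586 = n2685 := (sb E9030 F22996)
theorem F23942 : act 1 n4226 = n3255 := (sb E9031 (iv D4760))
theorem E9815 : n7690 = n6538 := ((((iv F10733)).symm.trans (sb E9031 (iv F23108)))).symm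
theorem F23943 : act 3 n4226 = n3277 := (sb E9031 F8046)
theorem E9816 : n6347 = n2984 := (((F7187).symm.trans (sb E9031 (iv F23113)))).symm
theorem F23944 : act 6 n4201 = n3277 := (sb E9032 (iv D4811))
theorem F23945 : act 3 n3587 = n4819 := (sb E9033 F13053)
theorem F23946 : act 5 n3587 = n4862 := (sb E9033 F13054)
theorem E9817 : n9007 = n7691 := ((((iv F23417)).symm.trans (sb E9036 F23217))).symm
theorem F23947 : act 5 n4761 = n6717 := (sb E9036 F23219)
theorem F23948 : act 5 n4730 = n5969 := (sb E9037 F14691)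
theorem F23949 : act 0 n3140 = n3125 := (sb E9038 (iv F20273))
theorem F23950 : act 1 n3140 = n3273 := (sb E9038 (iv F22815))
theorem F23951 : act 3 n3140 = n2881 := (sb E9038 F6165)
theorem F23952 : act 0 n3589 = n4819 := (sb E9039 (iv D7884))
theorem F23953 : act 6 n3122 = n2922 := (sb E9040 (iv D4101))
theorem F23954 : act 1 n3894 = n4056 := (sb E9041 (iv F23523))
theorem F23955 : act 2 n3894 = n4493 := (sb E9041 (iv F7581))
theorem F23956 : act 3 n3894 = n3033 := (sb E9041 F7315)
theorem F23957 : act 5 n3894 = n3032 := (sb E9041 (iv D4313))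
theorem F23958 : act 1 n2285 = n2409 := (sb E9042 (iv D3133))
theorem F23959 : act 4 n6203 = n6906 := (sb E9045 F17207)
theorem E9819 : n6872 = n3091 := (((F7469).symm.trans (sb E9729 F19276))).symm
theorem F23960 : act 1 n4435 = n7077 := (sb E9729 (iv F19280))
theorem F23961 : act 2 n4454 = n4386 := (sb E9050 (iv D7019))
theorem E9821 : n6688 = n4166 := ((((iv F7121)).symm.trans (sb E9051 F23104))).symm
theorem F23962 : act 1 n4542 = n3687 := (sb E9052 (iv F23072))
theorem F23963 : act 0 n6753 = n7077 := (sb E9053 F19730)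
theorem E9822 : n11695 = n6179 := ((((iv F22105)).symm.trans (sb E9053 (iv F19736)))).symm
theorem F23964 : act 2 n4435 = n6067 := (sb E9054 (iv D10095))
theorem F23965 : act 3 n6197 = n7077 := (sb E9055 F19735)
theorem F23966 : act 5 n4533 = n7077 := (sb E9056 (iv D11696))
theorem E9824 : n4645 = n2465 := ((((iv F4460)).symm.trans (sb E9057 (iv F20493)))).symm
theorem E9829 : n2473 = n2446 := ((D2473).symm.trans (sb E9061 (iv D3210)))
theorem F23967 : act 1 n2433 = n3146 := (sb E9062 (iv F22350))
theorem E9831 : n6879 = n4410 := ((((iv F7432)).symm.trans (sb E9069 (iv D11423)))).symm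
theorem F23968 : act 1 n1743 = n2141 := (sb E9074 (iv D2595))
theorem E9838 : n2715 = n2225 := (((D2225).symm.trans (sb E9077 F6392))).symm
theorem E9839 : n1283 = n1212 := ((D1283).symm.trans (sb E9078 F4009))
theorem F23969 : act 0 n6061 = n6090 := (sb E9094 F16788)
theorem F23970 : act 4 n6061 = n6087 := (sb E9094 (iv D10117))
theorem F23971 : act 2 n2412 = n2432 := (sb E9099 F4684)
theorem F23972 : act 3 n2412 = n2285 := (sb E9099 F5045)
theorem E9858 : n2148 = n2114 := (((F4366).symm.trans (sb E9099 (iv D2611)))).symm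
theorem F23973 : act 4 n4407 = n4377 := (sb E9112 F11220)
theorem F23974 : act 6 n3605 = n3496 := (sb E9133 (iv D5246))
theorem E9873 : n10342 = n4395 := (((D4395).symm.trans (sb E9139 (iv F17191)))).symm
theorem E9874 : n5027 = n4393 := ((((iv F7399)).symm.trans (sb E9139 (iv D8251)))).symm
theorem F23975 : act 0 n3068 = n2543 := (sb E9141 F5995)
theorem F23976 : act 2 n3068 = n2542 := (sb E9141 (iv D3398))
theorem F23977 : act 5 n3068 = n2558 := (sb E9141 F5996)
theorem E9876 : n10524 = n4303 := ((((iv F7303)).symm.trans (sb E9142 F21595))).symm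
theorem F23978 : act 0 n4302 = n5112 := (sb E9147 F23609)
theorem F23979 : act 0 n6322 = n5936 := (sb E9150 (iv F21465))
theorem F23980 : act 1 n6322 = n4392 := (sb E9150 (iv D7030))
theorem E9880 : n10504 = n7114 := ((D10504).symm.trans (sb E9150 (iv F11718)))
theorem F23981 : act 4 n6225 = n5936 := (sb E9151 (iv F21466))
theorem E9882 : n10343 = n4449 := ((D10343).symm.trans (sb E9151 F11563))
theorem F23987 : act 0 n4300 = n6067 := (sb E9240 F11595)
theorem F23988 : act 6 n4300 = n4407 := (sb E9240 (iv D7051))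
theorem F23989 : act 3 n7144 = n5972 := (sb E9173 (iv D9946))
theorem F23990 : act 5 n6835 = n5985 := (sb E9175 (iv D9976))
theorem F23991 : act 1 n3954 = n5978 := (sb E9176 (iv D9959))
theorem F23992 : act 6 n3954 = n5985 := (sb E9176 F16528)
theorem E9892 : n11345 = n4420 := ((D11345).symm.trans (sb E9179 F11655))
theorem F23993 : act 3 n6835 = n4419 := (sb E9179 (iv D7075))
theorem F23994 : act 1 n4395 = n4757 := (sb E9180 F12849)
theorem F23995 : act 2 n4395 = n4754 := (sb E9180 (iv D7746))
theorem F23996 : act 0 n4377 = n6203 := (sb E9181 F10080)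
theorem F23997 : act 1 n8022 = n6203 := (sb E9188 (iv D10313))
theorem F23998 : act 1 n6226 = n4896 := (sb E9194 (iv F22146))
theorem F23999 : act 4 n6226 = n5930 := (sb E9194 (iv F22141))
theorem F24000 : act 0 n4057 = n4315 := (sb E9208 (iv F21227))
theorem F24001 : act 1 n4057 = n4016 := (sb E9208 (iv D6305))
theorem F24002 : act 1 n6090 = n4026 := (sb E9210 (iv D6323))
theorem E9897 : n6971 = n6748 := ((D6971).symm.trans (sb E9226 F16941))
theorem F24003 : act 2 n4451 = n3986 := (sb E9227 F10121)
theorem F24004 : act 4 n4451 = n5978 := (sb E9227 F10122)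
theorem F24005 : act 6 n4451 = n3985 := (sb E9227 (iv D6242))
theorem F24006 : act 0 n4450 = n6226 := (sb E9228 F23652)
theorem F24007 : act 1 n4450 = n3680 := (sb E9228 (iv D5642))
theorem F24008 : act 3 n4450 = n4377 := (sb E9228 F9266)
theorem F24009 : act 5 n4450 = n3986 := (sb E9228 F23653)
theorem F24010 : act 0 n5935 = n5978 := (sb E9230 F16519)
theorem F24011 : act 2 n5935 = n5989 := (sb E9230 F16520)
theorem F24012 : act 6 n5935 = n5975 := (sb E9230 (iv D9952))
theorem F24013 : act 3 n7103 = n5978 := (sb E9231 F16523)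
theorem F24014 : act 6 n7103 = n5976 := (sb E9231 (iv D9956))
theorem F24015 : act 2 n4447 = n5991 := (sb E9232 F16530)
theorem F24016 : act 5 n4447 = n5978 := (sb E9232 (iv D9960))
theorem F24017 : act 6 n4447 = n6322 := (sb E9232 F23616)
theorem E9900 : n7050 = n4441 := ((D7050).symm.trans (sb E9233 F11690))
theorem F24018 : act 5 n4407 = n6784 := (sb E9233 F21275)
theorem F24019 : act 5 n4300 = n3087 := (sb E9239 (iv D4430))
theorem F24020 : act 6 n2954 = n2976 := (sb E9244 (iv D4213))
theorem F24021 : act 0 n7112 = n5976 := (sb E9245 F16518)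
theorem F24022 : act 3 n7112 = n5975 := (sb E9245 (iv D9951))
theorem F24023 : act 3 n6215 = n4396 := (sb E9246 F11565)
theorem F24024 : act 6 n3681 = n4450 := (sb E9247 F11564)
theorem F24025 : act 2 n7106 = n5976 := (sb E9248 (iv D9953))
theorem E9905 : n11765 = n5980 := ((D11765).symm.trans (sb E9249 F16521))
theorem F24026 : act 4 n7115 = n5976 := (sb E9249 (iv D9954))
theorem F24027 : act 5 n9894 = n5976 := (sb E9250 (iv D9955))
theorem E9906 : n7145 = n4046 := (((D4046).symm.trans (sb E9251 F19951))).symm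
theorem F24028 : act 3 n4456 = n3985 := (sb E9252 (iv D6241))
theorem E9908 : n5301 = n4124 := (((D4124).symm.trans (sb E9254 (iv F8839)))).symm
theorem F24029 : act 0 n2966 = n2610 := (sb E9255 F6157)
theorem F24030 : act 2 n2463 = n2610 := (sb E9258 F6160)
theorem E9912 : n2609 = n2415 := (((F4454).symm.trans (sb E9258 (iv D3535)))).symm
theorem E9915 : n5292 = n2939 := ((((iv F5176)).symm.trans (sb E9259 (iv F23044)))).symm
theorem E9916 : n3522 = n3231 := (((D3231).symm.trans (sb E9260 F8774))).symm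
theorem F24031 : act 6 n3524 = n3230 := (sb E9261 F7052)
theorem F24032 : act 4 n2331 = n2610 := (sb E9263 F5572)
theorem E9918 : n2436 = n1745 := ((((iv D2331)).symm.trans (sb E9263 (iv D3190)))).symm
theorem F24033 : act 0 n2147 = n2459 := (sb E9265 (iv F4445))
theorem F24034 : act 6 n2147 = n1743 := (sb E9265 (iv D2327))
theorem F24035 : act 4 n2928 = n3501 := (sb E9266 F8766)
theorem F24036 : act 6 n2928 = n4068 := (sb E9266 F21281)
theorem F24037 : act 2 n4442 = n6906 := (sb E9269 (iv D11447))
theorem F24038 : act 0 n6171 = n5931 := (sb E9272 F16403)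
theorem F24039 : act 4 n6171 = n6144 := (sb E9272 F21578)
theorem F24040 : act 5 n6171 = n8022 := (sb E9272 F16404)
theorem F24041 : act 2 n6061 = n6091 := (sb E9274 F16798)
theorem F24042 : act 6 n6061 = n6089 := (sb E9274 (iv D10123))
theorem E9920 : n10596 = n6144 := (((F11589).symm.trans (sb E9275 (iv F17729)))).symm
theorem F24043 : act 4 n7048 = n6091 := (sb E9275 F16799)
theorem F24044 : act 6 n7048 = n6090 := (sb E9275 (iv D10124))
theorem E9921 : n6973 = n4579 := ((D6973).symm.trans (sb E9277 (iv D7389)))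
theorem F24045 : act 5 n4364 = n5972 := (sb E9277 (iv F12222))
theorem F24046 : act 2 n4012 = n4289 := (sb E9279 (iv F20903))
theorem F24047 : act 5 n4012 = n3680 := (sb E9279 (iv D5643))
theorem F24048 : act 6 n4012 = n4288 := (sb E9279 F20646)
theorem F24049 : act 0 n7048 = n6089 := (sb E9280 F16786)
theorem F24050 : act 2 n7048 = n6087 := (sb E9280 (iv D10116))
theorem F24051 : act 1 n6906 = n6089 := (sb E9281 (iv D10120))
theorem F24052 : act 3 n6895 = n6089 := (sb E9282 (iv D10121))
theorem F24053 : act 2 n8022 = n6090 := (sb E9283 F16797)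
theorem F24054 : act 4 n8022 = n6089 := (sb E9283 (iv D10122))
theorem E9922 : n10594 = n6171 := ((((iv F24040)).symm.trans (sb E9283 (iv F17727)))).symm
theorem F24055 : act 2 n6144 = n4057 := (sb E9284 (iv D6375))
theorem F24056 : act 5 n6144 = n6089 := (sb E9284 F10472)
theorem F24057 : act 1 n6376 = n4288 := (sb E9286 (iv D6844))
theorem E9926 : n4132 = n3514 := (((D3514).symm.trans (sb E9288 F10643))).symm
theorem E9932 : n3514 = n3413 := ((((iv F6007)).symm.trans (sb E9575 (tr (iv F22480) E9926)))).symm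
theorem E9933 : n3518 = n2310 := ((D3518).symm.trans (sb E9295 (iv D2938)))
theorem F24058 : act 6 n2604 = n2308 := (sb E9296 (iv D2935))
theorem E9935 : n3393 = n2142 := ((((iv D2597)).symm.trans (sb E9300 (iv D5015)))).symm
theorem F24059 : act 3 n2108 = n1139 := (sb E9302 F3909)
theorem F24060 : act 6 n2108 = n1137 := (sb E9302 (iv D2111))
theorem E9938 : n6687 = n3342 := (E9304).trans E9799
theorem F24061 : act 1 n3342 = n4763 := (sb E9938 F10929)
theorem E9945 : n4535 = n2763 := ((((iv F22695)).symm.trans (sb E9312 F11951))).symm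
theorem E9967 : n3305 = n2511 := (((D2511).symm.trans (sb E9331 (tr F9448 E9440)))).symm
theorem E9968 : n2086 = n2052 := ((D2086).symm.trans (sb E9332 (tr F4792 E9411)))
theorem F24062 : act 1 n2021 = n1742 := (sb E9338 (iv D2324))
theorem E9972 : n2434 = n1748 := ((D2434).symm.trans (sb E9338 F4224))
theorem E9973 : n2485 = n2029 := ((((iv F3297)).symm.trans (sb E9339 (iv F22251)))).symm
theorem F24063 : act 1 n6022 = n5936 := (sb E9363 (iv F23614))
theorem F24064 : act 5 n5983 = n6022 := (sb E9365 (iv D10038))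
theorem F24065 : act 4 n2766 = n3149 := (sb E9366 F7661)
theorem E9982 : n3460 = n2781 := ((((iv D3868)).symm.trans (sb E9367 (iv D5170)))).symm
theorem E9983 : n6019 = n5796 := (((iv F9774)).symm.trans (sb E9367 F22983))
theorem F24066 : act 5 n3243 = n3841 := (sb E9368 F8867)
theorem F24067 : act 4 n476 = n476 := (sb E9376 (iv D978))
theorem F24068 : act 4 n2136 = n2136 := (sb E9377 F4649)
theorem E9989 : n2733 = n2212 := ((((iv F4053)).symm.trans (sb E9377 (iv F4855)))).symm
theorem E10008 : n2211 = n1271 := (((F3833).symm.trans (sb E9400 F4528))).symm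
theorem E10009 : n3310 = n2496 := ((((iv F4520)).symm.trans (sb E9400 (iv F5819)))).symm
theorem F24069 : act 4 n2078 = n2078 := (sb E9400 F4530)
theorem E10013 : n3777 = n1213 := ((((iv F1971)).symm.trans (sb E9403 (iv F6447)))).symm
theorem E10014 : n2714 = n2492 := ((((iv F4508)).symm.trans (sb E9404 F6412))).symm
theorem E10016 : n2209 = n1269 := (((D1269).symm.trans (sb E9405 (iv F4046)))).symm
theorem F24070 : act 4 n627 = n627 := (sb E9405 (iv D1270))
theorem F24071 : act 4 n2076 = n2076 := (sb E9406 (iv D2497))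
theorem E10025 : n2491 = n1212 := (((D1212).symm.trans (sb E9410 F4827))).symm
theorem E10034 : n3757 = n2511 := (E9440).trans E9967
theorem E10035 : n2520 = n2492 := (((iv F4578)).symm.trans (sb E10034 (tr (iv D3757) E10014)))
theorem F24072 : act 6 n4037 = n3149 := (sb E9448 (iv D4549))
theorem F24073 : act 0 n3386 = n3379 := (sb E9449 F8383)
theorem F24074 : act 3 n3386 = n4100 := (sb E9449 F8385)
theorem F24075 : act 5 n3386 = n3363 := (sb E9449 (iv D4957))
theorem E10039 : n5066 = n3513 := (((F20335).symm.trans (sb E9450 F22797))).symm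
theorem F24076 : act 2 n3366 = n3386 := (sb E9450 F8430)
theorem F24077 : act 6 n3366 = n3379 := (sb E9450 (iv D4988))
theorem E10041 : n3560 = n2168 := ((((iv F3984)).symm.trans (sb E9452 (iv D5384)))).symm
theorem E10043 : n2164 = n588 := ((((iv F955)).symm.trans (sb E9453 (iv D2644)))).symm
theorem F24078 : act 1 n1195 = n2157 := (sb E9455 (iv D2632))
theorem F24079 : act 1 n3181 = n4534 := (sb E9462 (iv F22341))
theorem F24080 : act 2 n3181 = n3140 := (sb E9462 F7037)
theorem F24081 : act 0 n7294 = n7076 := (sb E9464 F20319)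
theorem F24082 : act 1 n7294 = n4801 := (sb E9464 F23170)
theorem F24083 : act 3 n3613 = n3841 := (sb E9469 (iv F22741))
theorem F24084 : act 1 n8326 = n5554 := (sb E9471 (iv D9220))
theorem E10048 : n5088 = n3548 := (((F22737).symm.trans (sb E9472 (iv D8370)))).symm
theorem F24085 : act 1 n3553 = n3386 := (sb E9473 (iv D5002))
theorem F24086 : act 6 n2599 = n2556 := (sb E9482 (iv D3427))
theorem F24087 : act 6 n2109 = n2533 := (sb E9483 (iv D3380))
theorem F24088 : act 0 n2618 = n2556 := (sb E9487 F6023)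
theorem F24089 : act 3 n3415 = n2766 := (sb E9491 (iv F22468))
theorem F24090 : act 1 n2547 = n2681 := (sb E9496 (iv F22730))
theorem F24091 : act 2 n2547 = n2433 := (sb E9496 F4686)
theorem F24092 : act 3 n2547 = n2150 := (sb E9496 F4687)
theorem E10062 : n3414 = n2153 := (((D2153).symm.trans (sb E9511 F8454))).symm
theorem E10064 : n3423 = n2145 := (((D2145).symm.trans (sb E9513 F8469))).symm
theorem F24093 : act 3 n2550 = n7324 := (sb E9554 (iv F22668))
theorem E10066 : n2944 = n2442 := (((D2442).symm.trans (sb E9518 F7036))).symm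
theorem F24094 : act 6 n1182 = n2119 := (sb E9519 F4601)
theorem E10071 : n2174 = n2156 := (((D2156).symm.trans (sb E9522 F4614))).symm
theorem F24095 : act 2 n1185 = n2119 := (sb E9522 (iv D2555))
theorem E10073 : n7324 = n2227 := ((F24093).symm.trans (sb E9526 (iv F22465)))
theorem F24096 : act 6 n2550 = n2149 := (sb E9526 (iv D2616))
theorem F24097 : act 2 n2624 = n3415 := (sb E9527 F8523)
theorem F24098 : act 6 n2978 = n3705 := (sb E9530 (iv D5700))
theorem F24099 : act 1 n4418 = n6091 := (sb E9533 (iv D10125))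
theorem F24100 : act 1 n4360 = n4058 := (sb E9534 (iv D6378))
theorem F24101 : act 2 n4360 = n5972 := (sb E9534 F23416)
theorem E10076 : n3461 = n2778 := ((F22803).symm.trans (sb E9538 (iv D3862)))
theorem F24102 : act 6 n3704 = n5052 := (sb E9538 (iv F23765))
theorem E10079 : n4843 = n3214 := (((iv F13646)).symm.trans (sb E9541 F22838))
theorem F24103 : act 2 n3698 = n2971 := (sb E9541 F7153)
theorem E10080 : n4578 = n3339 := (((iv F23359)).symm.trans (sb E9541 F23479))
theorem F24104 : act 4 n3698 = n3587 := (sb E9541 (iv F22884))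
theorem F24105 : act 6 n3698 = n2970 := (sb E9541 (iv D4198))
theorem E10081 : n8877 = n6527 := (((iv F14833)).symm.trans (sb E9542 F23337))
theorem F24106 : act 0 n4134 = n6515 := (sb E9543 (iv F23035))
theorem F24107 : act 4 n4134 = n3568 := (sb E9543 F8923)
theorem F24108 : act 6 n4134 = n4112 := (sb E9543 (iv F23045))
theorem F24109 : act 0 n5396 = n3640 := (sb E9544 (iv D5553))
theorem E10082 : n9217 = n8920 := (((D8920).symm.trans (sb E9544 D9217))).symm
theorem F24110 : act 5 n5396 = n3640 := (sb E9544 F23021)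
theorem E10084 : n6504 = n5356 := ((F22700).symm.trans (sb E9544 F23022))
theorem E10099 : n3655 = n587 := (((D587).symm.trans (sb E9563 (iv D5588)))).symm
theorem E10103 : n2630 = n1194 := ((F23855).symm.trans (iv (sb E9566 (tr (iv D2667) E10071))))
theorem F24111 : act 5 n2554 = n2618 := (sb E9570 (iv F4696))
theorem F24112 : act 0 n3542 = n3415 := (sb E9574 F8519)
theorem E10113 : n6516 = n5344 := (((D5344).symm.trans (sb E9574 F22107))).symm
theorem F24113 : act 3 n2564 = n2618 := (sb E9576 F5584)
theorem E10117 : n7118 = n4421 := ((D7118).symm.trans (sb E9579 (iv D7080)))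
theorem E10119 : n11388 = n6968 := ((D11388).symm.trans (sb E9581 F23644))
theorem F24114 : act 5 n6858 = n4425 := (sb E9581 (iv D7086))
theorem F24115 : act 6 n6126 = n5972 := (sb E9583 (iv D9947))
theorem E10120 : n10564 = n9949 := (((D9949).symm.trans (sb E9584 (iv F17669)))).symm
theorem F24116 : act 6 n5973 = n4046 := (sb E9584 (iv D6358))
theorem F24117 : act 1 n5973 = n7144 := (sb E9586 (iv D11818))
theorem E10121 : n11236 = n9949 := (((D9949).symm.trans (sb E9586 F19970))).symm
theorem F24118 : act 3 n7076 = n5985 := (sb E9587 F16545)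
theorem F24119 : act 0 n6499 = n4419 := (sb E9593 (iv D7074))
theorem F24120 : act 3 n6171 = n4058 := (sb E9597 F10475)
theorem F24121 : act 6 n6171 = n4057 := (sb E9597 (iv D6377))
theorem F24122 : act 0 n4040 = n3149 := (sb E9598 F21778)
theorem F24123 : act 3 n4040 = n3157 := (sb E9598 (iv F22091))
theorem E10123 : n3333 = n3147 := ((F22847).symm.trans (sb E9598 (iv F22025)))
theorem F24124 : act 1 n6757 = n5660 := (sb E9603 (iv F23390))
theorem E10125 : n7397 = n7338 := ((F12240).symm.trans (sb E9604 F19226))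
theorem F24125 : act 1 n7398 = n6858 := (sb E9604 F19227)
theorem F24126 : act 3 n7398 = n6857 := (sb E9604 (iv D11386))
theorem F24127 : act 4 n7398 = n6858 := (sb E9604 F22187)
theorem F24128 : act 2 n4576 = n4200 := (sb E9605 F21828)
theorem E10127 : n3330 = n3163 := (((F7723).symm.trans (sb E9605 F8295))).symm
theorem F24129 : act 0 n3590 = n4862 := (sb E9809 (iv D7969))
theorem F24130 : act 6 n3429 = n4862 := (sb E9608 (iv D7971))
theorem F24131 : act 6 n3329 = n4576 := (sb E9609 F12146)
theorem F24132 : act 1 n9639 = n6717 := (sb E9614 F23769)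
theorem E10128 : n10031 = n9638 := (((F16396).symm.trans (sb E9614 (iv F23767)))).symm
theorem F24133 : act 5 n9639 = n9638 := (sb E9614 (tr (iv F23768) E10128))
theorem F24134 : act 0 n2338 = n2983 := (sb E9618 (iv F5230))
theorem F24135 : act 6 n2338 = n2322 := (sb E9618 (iv D2960))
theorem F24136 : act 3 n4212 = n3342 := (sb E9620 F23475)
theorem F24137 : act 5 n2449 = n2976 := (sb E9621 (iv F22448))
theorem F24138 : act 2 n4017 = n3924 := (sb E9627 (iv F23668))
theorem F24139 : act 2 n4456 = n4377 := (sb E9634 (iv D7000))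
theorem F24140 : act 1 n6324 = n4396 := (sb E9635 (iv D7037))
theorem F24141 : act 1 n6334 = n11418 := (sb E9636 D11418)
theorem E10137 : n11417 = n7390 := ((((iv F22264)).symm.trans (sb E9636 (iv F19291)))).symm
theorem F24142 : act 5 n6334 = n6990 := (sb E9636 F21826)
theorem F24143 : act 6 n6334 = n4301 := (sb E9636 (iv D6876))
theorem F24144 : act 6 n6337 = n4298 := (sb E9637 (iv D6869))
theorem F24145 : act 1 n2510 = n3154 := (sb E9640 (iv D4561))
theorem F24146 : act 0 n4560 = n4297 := (sb E9641 F21109)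
theorem F24147 : act 1 n4560 = n3329 := (sb E9641 F7792)
theorem F24148 : act 4 n4560 = n4278 := (sb E9641 (iv F20805))
theorem F24149 : act 5 n4560 = n4302 := (sb E9641 F21110)
theorem E10140 : n11401 = n7338 := ((((iv F12122)).symm.trans (sb E9642 D11401))).symm
theorem F24150 : act 6 n4555 = n4297 := (sb E9642 (iv D6866))
theorem F24151 : act 6 n7053 = n6858 := (sb E9645 (iv D11391))
theorem F24153 : act 1 n9948 = n6990 := (sb E9655 (iv D11551))
theorem F24154 : act 1 n10554 = n7308 := (sb E9656 (iv F23796))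
theorem F24155 : act 6 n9948 = n6356 := (sb E9657 (iv D10563))
theorem F24156 : act 0 n4382 = n4559 := (sb E9658 F12128)
theorem F24157 : act 4 n4382 = n4555 := (sb E9658 (iv D7342))
theorem F24158 : act 1 n7341 = n9950 := (sb E9661 (tr F23840 E9697))
theorem F24159 : act 4 n7341 = n6990 := (sb E9661 F19230)
theorem F24160 : act 6 n7341 = n6857 := (sb E9661 (iv D11387))
theorem F24161 : act 2 n4554 = n4560 := (sb E9662 F12142)
theorem F24162 : act 6 n4554 = n4558 := (sb E9662 (iv D7350))
theorem F24163 : act 1 n4369 = n3070 := (sb E9663 (iv D4397))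
theorem F24164 : act 1 n6155 = n4289 := (sb E9668 (iv D6847))
theorem F24165 : act 3 n6155 = n4300 := (sb E9668 F11195)
theorem E10143 : n1201 = n1188 := (((F3965).symm.trans (iv (sb E9671 (tr (iv D2666) E10071))))).symm
theorem E10144 : n2666 = n1188 := (E9671).trans E10143
theorem E10145 : n2163 = n587 := ((D2163).symm.trans (sb E10144 (tr D3655 E10099)))
theorem F24167 : act 3 n4053 = n2970 := (sb E9694 F23738)
theorem F24168 : act 6 n9950 = n7052 := (sb E9697 F22532)
theorem E10155 : n2546 = n2024 := ((((iv D2437)).symm.trans (sb E9706 (iv D3405)))).symm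
theorem F24169 : act 6 n2527 = n3363 := (sb E9707 (iv D4958))
theorem F24170 : act 0 n2439 = n2547 := (sb E9708 F4625)
theorem F24171 : act 6 n2439 = n2124 := (sb E9708 (iv D2565))
theorem F24172 : act 0 n5982 = n4046 := (sb E9710 F10435)
theorem F24173 : act 1 n5982 = n7076 := (sb E9710 F22269)
theorem E10156 : n9965 = n9962 := (((iv F16538)).symm.trans (sb E9710 (iv F16534)))
theorem E10157 : n10560 = n9967 := ((((iv F16541)).symm.trans (sb E9710 D10560))).symm
theorem F24174 : act 5 n5982 = n7052 := (sb E9710 (iv F22371))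
theorem E10158 : n11418 = n6751 := ((F24141).symm.trans (sb E9716 (iv D11227)))
theorem E10159 : n11527 = n7390 := ((((iv F22264)).symm.trans (sb E9716 (iv F23634)))).symm
theorem F24175 : act 0 n6877 = n4521 := (sb E9718 F11985)
theorem F24176 : act 5 n6877 = n4555 := (sb E9718 F11986)
theorem F24177 : act 1 n1040 = n2031 := (sb E9724 (iv D2452))
theorem E10167 : n9005 = n7693 := (((D7693).symm.trans (sb E9726 (iv F15031)))).symm
theorem F24178 : act 5 n4731 = n3868 := (sb E9726 F9021)
theorem F24179 : act 6 n4731 = n7108 := (sb E9726 (iv F23516))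
theorem E10168 : n7972 = n7693 := ((D7972).symm.trans (sb E9730 (tr D9005 E10167)))
theorem F24180 : act 2 n4863 = n4141 := (sb E9730 (iv F23521))
theorem F24181 : act 3 n4863 = n3590 := (sb E9730 F9019)
theorem F24182 : act 5 n4863 = n3589 := (sb E9730 (iv D5447))
theorem F24183 : act 6 n4863 = n5938 := (sb E9730 (iv F23522))
theorem F24184 : act 0 n2946 = n4141 := (sb E9732 (iv F7074))
theorem F24185 : act 5 n2946 = n4137 := (sb E9732 (iv F7066))
theorem F24186 : act 6 n2930 = n2946 := (sb E9733 (iv D4149))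
theorem F24187 : act 6 n3751 = n3826 := (sb E9736 (iv F23550))
theorem F24188 : act 0 n4311 = n6376 := (sb E9738 F17723)
theorem E10171 : n9133 = n5375 := (((D5375).symm.trans (sb E9754 D9133))).symm
theorem F24189 : act 5 n3556 = n4134 := (sb E9754 (iv F22785))
theorem F24190 : act 2 n2979 = n3705 := (sb E9755 (iv F6358))
theorem F24191 : act 5 n2979 = n2338 := (sb E9755 F5236)
theorem F24192 : act 3 n2313 = n2602 := (sb E9756 F5561)
theorem F24193 : act 6 n2313 = n2432 := (sb E9756 (iv D3182))
theorem F24194 : act 6 n2572 = n2224 := (sb E9775 (iv D2760))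
theorem F24195 : act 0 n2780 = n3705 := (sb E9776 (iv D5699))
theorem F24196 : act 5 n2780 = n3751 := (sb E9776 F9348)
theorem E10186 : n6870 = n4581 := ((D6870).symm.trans (sb E9780 (iv F7729)))
theorem F24197 : act 3 n4299 = n6337 := (sb E9780 (iv F22198))
theorem F24198 : act 5 n4299 = n3159 := (sb E9780 (iv D4572))
theorem E10189 : n7017 = n3084 := (((F22260).symm.trans (sb E9782 (iv F11528)))).symm
theorem E10190 : n7053 = n7015 := (((D7015).symm.trans (sb E9783 (iv F11598)))).symm
theorem E10191 : n7016 = n4455 := ((D7016).symm.trans (sb E9783 F22262))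
theorem F24199 : act 3 n4385 = n3078 := (sb E9783 (iv D4409))
theorem E10192 : n7056 = n7011 := ((((iv F11519)).symm.trans (sb E9783 D7056))).symm
theorem F24200 : act 2 n3100 = n3065 := (sb E9787 (iv D4387))
theorem F24201 : act 0 n3202 = n2945 := (sb E9788 F22337)
theorem F24202 : act 2 n3202 = n3157 := (sb E9788 F22338)
theorem F24203 : act 3 n2622 = n2945 := (sb E9790 F22348)
theorem F24204 : act 1 n2337 = n2979 := (sb E9791 (iv F22549))
theorem F24205 : act 6 n2337 = n2026 := (sb E9791 (iv D2444))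
theorem F24206 : act 2 n2514 = n3149 := (sb E9792 F7678)
theorem F24207 : act 2 n2417 = n2084 := (sb E9793 (iv D2513))
theorem F24208 : act 4 n2417 = n2227 := (sb E9793 F4564)
theorem F24209 : act 6 n2417 = n2285 := (sb E9793 (iv F22576))
theorem F24210 : act 0 n2438 = n2412 := (sb E9796 (iv D3139))
theorem F24211 : act 6 n2438 = n2421 := (sb E9796 F5486)
theorem F24212 : act 0 n6717 = n4763 := (sb E9798 F12863)
theorem F24213 : act 3 n6717 = n4761 := (sb E9798 (iv D7762))
theorem F24214 : act 4 n3868 = n4763 := (sb E9800 (iv D7766))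
theorem F24215 : act 5 n3256 = n4763 := (sb E9801 (iv D7767))
theorem F24216 : act 3 n7259 = n4757 := (sb E9802 (iv D7751))
theorem F24217 : act 6 n7259 = n4763 := (sb E9802 F12853)
theorem E10207 : n9551 = n4863 := ((((iv F24182)).symm.trans (sb E9804 D9551))).symm
theorem F24218 : act 2 n3257 = n4763 := (sb E9805 (iv D7765))
theorem F24219 : act 1 n3590 = n4731 := (sb E9808 (iv F23136))
theorem F24220 : act 4 n3590 = n4212 := (sb E9808 F22994)
theorem F24221 : act 6 n3446 = n2685 := (sb E9811 (iv D3697))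
theorem F24222 : act 3 n2982 = n3695 := (sb E9812 (iv D5678))
theorem F24223 : act 6 n2972 = n3695 := (sb E9813 (iv D5680))
theorem F24224 : act 1 n6538 = n4730 := (sb E9815 (iv D7690))
theorem E10209 : n10834 = n5492 := (((iv F18188)).symm.trans (sb E9815 F12754))
theorem E10210 : n5961 = n4142 := (((F10735).symm.trans (sb E9815 F21104))).symm
theorem F24225 : act 1 n2984 = n4040 := (sb E9816 (iv D6347))
theorem F24226 : act 5 n7691 = n6021 := (sb E9817 F15037)
theorem F24227 : act 2 n3091 = n4300 := (sb E9819 (iv D6872))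
theorem F24228 : act 6 n4166 = n4212 := (sb E9821 (iv D6688))
theorem F24229 : act 6 n6179 = n7076 := (sb E9822 (iv D11695))
theorem F24230 : act 1 n2465 = n3202 := (sb E9824 (iv D4645))
theorem F24231 : act 0 n2446 = n2337 := (sb E9829 F22245)
theorem F24232 : act 1 n2446 = n2041 := (sb E9829 (iv D2473))
theorem F24233 : act 2 n2446 = n2564 := (sb E9829 F22246)
theorem E10214 : n2336 = n2027 := ((((iv D2446)).symm.trans (sb E9829 F22247))).symm
theorem F24234 : act 1 n4410 = n4304 := (sb E9831 (iv D6879))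
theorem E10219 : n2238 = n2197 := (((iv F4077)).symm.trans (sb E9838 (iv D2715)))
theorem F24235 : act 2 n2225 = n2572 := (sb E9838 F4806)
theorem F24236 : act 1 n1212 = n634 := (sb E9839 (iv D1283))
theorem F24237 : act 2 n2114 = n2021 := (sb E9858 F3955)
theorem F24238 : act 3 n2114 = n1182 := (sb E9858 (iv D2148))
theorem F24239 : act 3 n4395 = n6225 := (sb E9873 (iv D10342))
theorem F24240 : act 0 n4393 = n6225 := (sb E9874 (iv F10095))
theorem F24241 : act 2 n4393 = n3681 := (sb E9874 F23607)
theorem F24242 : act 4 n4393 = n6322 := (sb E9874 F23608)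
theorem F24243 : act 5 n4393 = n6215 := (sb E9874 F22116)
theorem F24244 : act 0 n4303 = n6337 := (sb E9876 F17571)
theorem F24245 : act 2 n4303 = n6334 := (sb E9876 (iv D10524))
theorem F24246 : act 3 n7114 = n6322 := (sb E9880 (iv D10504))
theorem F24247 : act 2 n4449 = n6226 := (sb E9882 F17194)
theorem F24248 : act 6 n4449 = n6225 := (sb E9882 (iv D10343))
theorem F24249 : act 1 n4420 = n6835 := (sb E9892 (iv D11345))
theorem E10242 : n11588 = n7079 := (((D7079).symm.trans (sb E9892 F23642))).symm
theorem F24250 : act 2 n6748 = n4363 := (sb E9897 (iv D6971))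
theorem F24251 : act 6 n6748 = n6215 := (sb E9897 (iv F23657))
theorem E10245 : n7117 = n6357 := ((D7117).symm.trans (sb E9900 (iv F22310)))
theorem F24252 : act 2 n4441 = n4407 := (sb E9900 (iv D7050))
theorem F24253 : act 1 n5980 = n7115 := (sb E9905 (iv D11765))
theorem F24254 : act 1 n4046 = n4456 := (sb E9906 (iv D7145))
theorem E10248 : n11821 = n6352 := ((((iv F10431)).symm.trans (sb E9906 D11821))).symm
theorem F24255 : act 0 n4124 = n3524 := (sb E9908 F8837)
theorem F24256 : act 1 n2415 = n2227 := (sb E9912 F4682)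
theorem F24257 : act 2 n2415 = n2147 := (sb E9912 (iv D2609))
theorem F24258 : act 4 n2939 = n3524 := (sb E9915 F8825)
theorem F24259 : act 0 n3231 = n2604 := (sb E9916 (iv D3522))
theorem F24260 : act 1 n1745 = n2023 := (sb E9918 (iv D2436))
theorem F24261 : act 4 n1745 = n2147 := (sb E9918 F4407)
theorem F24262 : act 6 n6144 = n6376 := (sb E9920 (iv D10596))
theorem F24263 : act 1 n4579 = n4364 := (sb E9921 (iv D6973))
theorem E10255 : n11529 = n7392 := (((D7392).symm.trans (sb E9921 D11529))).symm
theorem F24264 : act 2 n6171 = n6376 := (sb E9922 F17726)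
theorem F24265 : act 2 n3413 = n2602 := (sb E9932 F6139)
theorem F24266 : act 5 n3413 = n3542 := (sb E9932 (iv F6176))
theorem F24267 : act 6 n3413 = n2598 := (sb E9932 (iv D3514))
theorem F24268 : act 1 n2310 = n2602 := (sb E9933 (iv D3518))
theorem F24269 : act 4 n2310 = n2604 := (sb E9933 F6144)
theorem F24270 : act 6 n2142 = n2554 := (sb E9935 F5991)
theorem F24271 : act 3 n2763 = n3413 := (sb E9945 F7656)
theorem F24272 : act 1 n2052 = n1064 := (sb E9968 (iv D2086))
theorem F24273 : act 3 n1748 = n2023 := (sb E9972 F4405)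
theorem F24274 : act 6 n1748 = n2021 := (sb E9972 (iv D2434))
theorem F24275 : act 3 n2029 = n2337 := (sb E9973 F22250)
theorem F24276 : act 0 n2781 = n2572 := (sb E9982 (iv D3460))
theorem F24277 : act 3 n2781 = n3751 := (sb E9982 F22645)
theorem F24278 : act 3 n5796 = n3868 := (sb E9983 F9774)
theorem E10273 : n9640 = n7693 := ((D9640).symm.trans (sb E9983 (tr (iv F15032) E10167)))
theorem E10274 : n10033 = n9641 := (((D9641).symm.trans (sb E9983 D10033))).symm
theorem F24279 : act 4 n2212 = n2212 := (sb E9989 F4854)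
theorem E10320 : n2732 = n2210 := ((((iv F4048)).symm.trans (sb E10008 (iv F4850)))).symm
theorem F24280 : act 4 n1271 = n1271 := (sb E10008 F4050)
theorem F24281 : act 4 n2496 = n2496 := (sb E10009 (iv D3310))
theorem E10329 : n3304 = n2197 := ((((iv F4017)).symm.trans (sb E10013 F6446))).symm
theorem E10332 : n2729 = n2208 := (((D2208).symm.trans (sb E10016 (iv F4839)))).symm
theorem F24282 : act 4 n1269 = n1269 := (sb E10016 (iv D2209))
theorem F24283 : act 3 n1212 = n2052 := (sb E10025 (iv D2491))
theorem F24284 : act 1 n2492 = n2511 := (sb E10035 F4578)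
theorem F24285 : act 6 n3513 = n3415 := (sb E10039 (iv D5066))
theorem F24286 : act 1 n2168 = n2624 := (sb E10041 (iv D3560))
theorem F24287 : act 1 n588 = n1189 := (sb E10043 (iv D2164))
theorem F24288 : act 3 n3548 = n3446 := (sb E10048 F8553)
theorem F24289 : act 2 n2153 = n2550 := (sb E10062 (iv D3414))
theorem F24290 : act 2 n2145 = n2554 := (sb E10064 (iv D3423))
theorem F24291 : act 0 n2442 = n2313 := (sb E10066 (iv D2944))
theorem E10365 : n3246 = n3201 := (((D3201).symm.trans (sb E10066 F22244))).symm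
theorem F24292 : act 2 n2442 = n2421 := (sb E10066 F5183)
theorem F24293 : act 3 n2227 = n2550 := (sb E10073 (iv F24093))
theorem F24294 : act 1 n2778 = n3704 := (sb E10076 (iv F22803))
theorem F24295 : act 3 n2778 = n3705 := (sb E10076 F22647)
theorem F24296 : act 5 n2778 = n2572 := (sb E10076 (iv D3461))
theorem F24297 : act 0 n3214 = n3698 := (sb E10079 F13646)
theorem F24298 : act 5 n3214 = n4212 := (sb E10079 (iv F22679))
theorem F24299 : act 1 n3339 = n3699 := (sb E10080 F23358)
theorem F24300 : act 3 n3339 = n3698 := (sb E10080 F23359)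
theorem F24301 : act 0 n6527 = n10833 := (sb E10081 F23038)
theorem E10368 : n10860 = n5400 := ((D10860).symm.trans (sb E10081 F23748))
theorem F24302 : act 4 n6527 = n5400 := (sb E10081 F14833)
theorem F24303 : act 6 n6527 = n6481 := (sb E10081 F23039)
theorem F24304 : act 0 n8920 = n5554 := (sb E10082 F15354)
theorem F24305 : act 5 n8920 = n5554 := (sb E10082 F23364)
theorem F24306 : act 1 n5356 = n4124 := (sb E10084 (iv D6504))
theorem E10369 : n10810 = n8832 := (((D8832).symm.trans (sb E10084 D10810))).symm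
theorem F24307 : act 3 n5356 = n4189 := (sb E10084 F10675)
theorem E10370 : n8801 = n4130 := (((iv F14740)).symm.trans (sb E10084 F10676))
theorem F24308 : act 6 n5356 = n5396 := (sb E10084 (iv F22700))
theorem F24309 : act 2 n1194 = n2156 := (sb E10103 (iv D2630))
theorem E10381 : n3558 = n2167 := ((((iv F3980)).symm.trans (sb E10103 (iv F6192)))).symm
theorem F24310 : act 5 n1194 = n2156 := (sb E10103 (iv F23855))
theorem E10382 : n10838 = n8802 := (((D8802).symm.trans (sb E10113 D10838))).symm
theorem F24311 : act 1 n4421 = n4442 := (sb E10117 (iv D7118))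
theorem F24312 : act 2 n6968 = n6858 := (sb E10119 (iv D11388))
theorem F24313 : act 6 n9949 = n6357 := (sb E10120 (iv D10564))
theorem F24314 : act 1 n9949 = n6756 := (sb E10121 (iv D11236))
theorem F24315 : act 2 n3147 = n2512 := (sb E10123 (iv D3333))
theorem F24316 : act 4 n3147 = n2763 := (sb E10123 F5876)
theorem F24317 : act 5 n3147 = n4040 := (sb E10123 (iv F22847))
theorem F24318 : act 6 n3147 = n2878 := (sb E10123 (iv F22719))
theorem F24319 : act 0 n7338 = n7398 := (sb E10125 (iv F12240))
theorem F24320 : act 2 n7338 = n6756 := (sb E10125 F12237)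
theorem F24321 : act 5 n7338 = n7392 := (sb E10125 F12239)
theorem F24322 : act 6 n7338 = n4581 := (sb E10125 (iv D7397))
theorem F24323 : act 0 n3163 = n3342 := (sb E10127 F23161)
theorem F24324 : act 2 n3163 = n2511 := (sb E10127 F5866)
theorem F24325 : act 5 n3163 = n3339 := (sb E10127 F23162)
theorem F24326 : act 6 n3163 = n2510 := (sb E10127 (iv D3330))
theorem F24327 : act 1 n9638 = n6021 := (sb E10128 F23766)
theorem F24328 : act 3 n9638 = n6021 := (sb E10128 F16640)
theorem F24329 : act 2 n7390 = n6877 := (sb E10137 F19290)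
theorem F24330 : act 6 n7390 = n6875 := (sb E10137 (iv D11417))
theorem F24331 : act 4 n7338 = n7011 := (sb E10140 F19254)
theorem E10384 : n2451 = n1039 := ((((iv F1647)).symm.trans (sb E10145 (iv F4433)))).symm
theorem F24332 : act 5 n587 = n1188 := (sb E10145 (iv D2163))
theorem F24334 : act 0 n2024 = n2114 := (sb E10155 (iv D2546))
theorem F24335 : act 6 n2024 = n2123 := (sb E10155 F4607)
theorem F24336 : act 2 n9962 = n5982 := (sb E10156 F16538)
theorem F24337 : act 6 n9962 = n5979 := (sb E10156 (iv D9965))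
theorem F24338 : act 0 n9967 = n6357 := (sb E10157 F17661)
theorem F24339 : act 3 n9967 = n9949 := (sb E10157 F17662)
theorem F24340 : act 1 n6751 = n6334 := (sb E10158 (iv F24141))
theorem F24341 : act 1 n7390 = n6974 := (sb E10159 F19464)
theorem F24342 : act 0 n7693 = n9639 := (sb E10168 F16394)
theorem F24343 : act 2 n7693 = n9638 := (sb E10168 (iv F16397))
theorem F24344 : act 4 n7693 = n5796 := (sb E10168 F13258)
theorem F24345 : act 5 n5375 = n6527 := (sb E10171 F22784)
theorem E10401 : n11408 = n7310 := (((F22135).symm.trans (sb E10186 D11408))).symm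
theorem F24346 : act 1 n4581 = n4299 := (sb E10186 (iv D6870))
theorem F24347 : act 4 n4581 = n4385 := (sb E10186 F11235)
theorem F24348 : act 5 n3084 = n4385 := (sb E10189 (iv D7017))
theorem F24349 : act 1 n7015 = n5912 := (sb E10190 (iv F22266))
theorem E10404 : n11595 = n5913 := ((D11595).symm.trans (sb E10190 F22101))
theorem F24350 : act 3 n7015 = n4408 := (sb E10190 (iv D7053))
theorem F24351 : act 5 n7015 = n4420 := (sb E10190 F11599)
theorem E10405 : n11586 = n6858 := (((iv F19551)).symm.trans (sb E10190 F24151))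
theorem F24352 : act 2 n4455 = n4385 := (sb E10191 (iv D7016))
theorem E10407 : n11587 = n7144 := (((D7144).symm.trans (sb E10191 (iv F19552)))).symm
theorem F24353 : act 3 n7011 = n4410 := (sb E10192 F11603)
theorem F24354 : act 1 n4863 = n7693 := (sb E10207 F23338)
theorem F24355 : act 0 n5492 = n6514 := (sb E10209 (iv D10834))
theorem F24356 : act 3 n5492 = n6538 := (sb E10209 F18188)
theorem F24357 : act 5 n5492 = n6514 := (sb E10209 F23347)
theorem F24358 : act 1 n4142 = n3837 := (sb E10210 (iv D5961))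
theorem F24359 : act 3 n4142 = n5344 := (sb E10210 F23077)
theorem F24360 : act 0 n2027 = n1748 := (sb E10214 (iv D2336))
theorem E10410 : n2472 = n2445 := (((D2445).symm.trans (sb E10214 F22045))).symm
theorem F24361 : act 2 n2027 = n2123 := (sb E10214 F4240)
theorem F24362 : act 1 n2197 = n2225 := (sb E10219 F4077)
theorem F24363 : act 1 n7079 = n7116 := (sb E10242 F21885)
theorem F24364 : act 5 n7079 = n7011 := (sb E10242 (iv D11588))
theorem F24365 : act 1 n6357 = n4441 := (sb E10245 (iv D7117))
theorem E10416 : n11769 = n10555 := ((((iv F17651)).symm.trans (sb E10245 D11769))).symm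
theorem E10417 : n10542 = n7752 := (((iv F17615)).symm.trans (sb E10248 (iv F23431)))
theorem F24366 : act 1 n7392 = n7112 := (sb E10255 F23632)
theorem F24367 : act 5 n7693 = n5796 := (sb E10273 (iv D9640))
theorem F24368 : act 1 n9641 = n9894 := (sb E10274 F23771)
theorem F24369 : act 3 n9641 = n6022 := (sb E10274 F16641)
theorem F24370 : act 4 n2210 = n2210 := (sb E10320 F4851)
theorem F24371 : act 3 n2197 = n2492 := (sb E10329 F5802)
theorem F24372 : act 4 n2208 = n2208 := (sb E10332 (iv D2729))
theorem E10435 : n3784 = n2730 := (((D2730).symm.trans (sb E10332 D3784))).symm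
theorem F24373 : act 5 n3201 = n2464 := (sb E10365 (iv D3246))
theorem F24374 : act 3 n5400 = n6527 := (sb E10368 (iv D10860))
theorem F24375 : act 1 n8832 = n8832 := (sb E10369 (tr F18140 E10369))
theorem F24376 : act 3 n8832 = n6517 := (sb E10369 F22793)
theorem F24377 : act 4 n8832 = n6517 := (sb E10369 F18141)
theorem F24378 : act 0 n4130 = n5344 := (sb E10370 (iv D8801))
theorem F24379 : act 4 n4130 = n5356 := (sb E10370 F14740)
theorem F24380 : act 2 n2167 = n2623 := (sb E10381 (iv D3558))
theorem F24381 : act 5 n2167 = n2623 := (sb E10381 (iv F23471))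
theorem F24382 : act 0 n8802 = n6517 := (sb E10382 F18193)
theorem F24383 : act 5 n1039 = n2030 := (sb E10384 (iv D2451))
theorem F24386 : act 4 n7310 = n7015 := (sb E10401 F19271)
theorem F24387 : act 2 n5913 = n7015 := (sb E10404 (iv D11595))
theorem F24388 : act 0 n6858 = n7011 := (sb E10405 (iv D11586))
theorem F24389 : act 6 n6858 = n7015 := (sb E10405 F19551)
theorem F24390 : act 2 n7144 = n7011 := (sb E10407 (iv D11587))
theorem F24391 : act 5 n2445 = n2040 := (sb E10410 (iv D2472))
theorem F24392 : act 1 n10555 = n10036 := (sb E10416 (iv F23412))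
theorem F24393 : act 1 n7752 = n6352 := (sb E10417 F17615)
theorem F24394 : act 3 n7752 = n6345 := (sb E10417 (iv D10542))
theorem F24395 : act 4 n2730 = n2730 := (sb E10435 F6467)
theorem E10504 : n9964 = n5980 := (c25_60 (iv F5747) (iv F8044) (iv F12854) F24394 (iv D6345) (iv D4039) (iv F23951) (iv F24080) F5558 (iv F6136) (iv F20335) (iv F7582) (iv F23955) F23956 F5327 D3035 (iv F6580) (iv F23683) (iv F16425) F22223 (iv F24253) (iv F10437) (iv F22429) F22370 (iv D5912) (iv D3811) F23184 (iv F23183) D3812 (iv F21122) (iv D2978) D2977 F22854 (iv F5007) (iv F6802) F20898 (iv F23846) F9733 (iv F9995) F24165 (iv F24227) (iv F7199) (iv F22018) (iv D4539) F5493 D3151 D4554 D7338 F24320 (iv F22233) F12072 F23429 (iv F12751) F23411 (iv D5342) (iv F6635) (iv F9718) (iv D5983) (iv F9716) (iv F16537) (iv F10437) (iv F22429) (iv D7052) (iv F24350) (iv F24387) (iv F21440) F21926 (iv F21917) F21918 (iv D3920) F23887 F23721 (iv D3581) (iv F4721) D3046 (iv F23890) F6034 (iv F22757))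
theorem E10505 : n9963 = n5981 := (((iv F16536)).symm.trans (sb E10504 F16537))
theorem E10506 : n9966 = n5979 := ((D9966).symm.trans (sb E10504 (iv D9964)))
theorem F24396 : act 2 n5981 = n5980 := (sb E10505 F16536)
theorem E10507 : n10555 = n9962 := (((D9962).symm.trans (sb E10506 (iv F17650)))).symm
theorem F24397 : act 4 n5979 = n5981 := (sb E10506 F16540)
theorem F24398 : act 5 n5979 = n5980 := (sb E10506 (iv D9966))
theorem F24399 : act 1 n9962 = n10036 := (sb E10507 F24392)
theorem F24400 : act 4 n9962 = n6352 := (sb E10507 (iv D10555))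
theorem F24401 : act 5 n9962 = n6357 := (sb E10507 F17651)
theorem E10508 : n10825 = n8324 := (c25_32 (iv F10420) (iv F24394) F12854 F8044 F23442 (iv F10381) (iv D6325) (iv D4027) (iv F23464) (iv D3019) (iv D2354) F2957 F1474 F758 F3577 D783 (iv F2499) D2283 D2877 F5040 (iv F5505) (iv D3153) (iv D2419) (iv F4379) D3145 F5494 (iv F7141) (iv F21981) (iv D4136) (iv F7053) D6510 D10825 (iv D8324) (iv D5068) F6011 D3429 (iv F21425) (iv D4278) (iv D3014) (iv F5283) F20403 (iv D2677) (iv F3992) D2374 D3063 F23553 (iv F23213) (iv F23049) (iv D2552) F3921 D2121 F3923 (iv F3238) D2424 (iv F5040) (iv D2877) (iv D2283) (iv D1536) F1223 (iv F3577) (iv F758) (iv F1474) D1827 (iv F4273) D3019 F23464 D4027 F6858 D4802 (iv F23442) (iv F8044) (iv F12854) F24393 (iv D6352) (iv D4043) F5061 (iv F6567) D5983)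
theorem F24402 : act 1 n8324 = n6510 := (sb E10508 (iv D10825))
theorem F24403 : act 3 n9961 = n10036 := d25_42 (iv F5743) (iv F23134) D6345 (iv F24394) F12854 (iv F23429) F7665 (iv F7690) (iv F23827) (iv F11212) (iv D6857) D6858 (iv F24312) (iv D6968) (iv D4361) (iv D3054) F4287 F23598 (iv F4298) F4297 F20334 (iv F4671) F4670 F3951 F1930 D1277 (iv F3401) F3400 D2224 D2759 (iv F20800) (iv D2322) (iv F4218) (iv F4975) F4976 F4115 D2288 F4158 D2769 D3847 D5979 D9961 (iv F23434) F23411 (iv D5342) (iv D3541) (iv F5049) F4907 (iv F4154) (iv F5057) D4039 F6888 F6635 D5342 (iv F23411) F23434 (iv F24399) (iv D9962) (iv D5979) (iv D3847) (iv D2769) (iv D2229) (iv F2530) (iv F4115) (iv F4976) F4975 D2954 F5192 F20800 (iv D2759) (iv D2224) (iv D1277) (iv F1698) (iv F3284) (iv F4403) (iv F24091) F24090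
theorem F24404 : act 2 n11745 = n9961 := d25_76 F24397 F9716 F6567 (iv F5061) D4043 (iv F10419) (iv F24394) F12854 F8044 F23442 (iv F10381) (iv D6325) (iv D4027) (iv F23464) (iv D3019) (iv D2354) F2957 F1474 F758 F3577 D783 (iv F2499) D2283 D2877 F5040 (iv F5505) D4559 F22192 F23926 (iv F7252) F20644 (iv F24007) F24008 (iv F24139) F24028 (iv D3985) (iv D2851) (iv F4976) F4975 F4218 F2843 D1854 F3973 (iv D2159) (iv F3961) D2626 (iv F6182) F23065 (iv F6349) (iv F23427) (iv F22810) (iv F7449) (iv F22369) F23792 F23397 F23610 F23505 (iv F23507) (iv F5719) (iv F23317) F21544 (iv D6109) F23679 (iv F9733) (iv F24015) F7485 (iv F22284) F22283 F23965 F23578 F7607 F23388 D3610 (iv F7990) (iv F23900) (iv F19842) (iv D9961)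
theorem F24405 : act 2 n9641 = n9968 := d25_4 (iv F8428) F23753 (iv F9779) (iv F24369) (iv D9968) F9716 F6567 (iv F5061) D4043 (iv F10419) (iv F24394) F12854 F8044 F23442 (iv F10381) (iv D6325) (iv D4027) (iv F23464) (iv D3019) (iv D2354) F2957 F1474 F758 F3577 D783 F1230 F3579 D473 D974 (iv F3827) F932 (iv D569) (iv D281) (iv F471) D497 (iv F3741) (iv F3698) F3806 F3654 (iv D452) (iv D228) F266 F166 F115 (iv F90) F89 (iv F115) (iv F166) (iv F266) F3527 D382 (iv F1230) (iv F2499) D2283 D2877 F5040 (iv F5505) (iv D3153) (iv D2419) (iv F4379) D3145 F5494 (iv F24167) (iv D4053) (iv F23183) D3812 D5913 (iv F21440) F21926 (iv D3944) (iv D2831) (iv D2258) (iv F3002) F3856 (iv F3908) (iv F4592) D3381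
theorem E10509 : n8324 = n8293 := (c25_40 F7502 (iv F11720) (iv F22223) F16425 F23683 F6579 F4915 (iv F5327) (iv F23956) F23955 F23068 F22720 F6136 (iv F5558) F24080 F23950 (iv F23134) D6345 (iv F24394) F12854 (iv F23429) F7665 (iv F7690) (iv F23827) (iv F11212) (iv D6857) F7291 F21956 F7376 F21113 (iv D4277) F23555 F4774 (iv F5358) F23845 (iv D2558) D2557 (iv F6011) D5068 D8324 (iv D8293) (iv D5055) (iv F7650) (iv F20960) (iv D6179) (iv D3954) (iv D2835) (iv F4306) D3082 D4420 F21797 (iv F9671) (iv F10983) (iv F21884) F23961 F23861 D6225 (iv F23729) F24216 (iv D4757) F5716 D3274 (iv F6858) D6325 (iv F23819) (iv D4298) (iv D3022) D3021 (iv F23852) F23660 (iv F7362) F24101 (iv D5972) D5973 D9948 F16514 (iv D6356) F24254)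
theorem F24406 : act 1 n8293 = n6510 := (sb E10509 F24402)
theorem F24407 : act 3 n8293 = n5068 := (sb E10509 (iv D8324))
theorem F24408 : act 3 n8326 = n10833 := d17_3 (iv F20931) F24407 D8326
theorem E10510 : n11416 = n7392 := (c25_74 (iv F23312) F20326 (iv D3411) (iv F5489) D4533 F7652 (iv F21981) (iv D4136) (iv F7053) D6510 (iv F24406) F24407 (iv D5068) F6011 D3429 (iv F21425) (iv D4278) (iv D3014) (iv F5283) F20403 (iv D2677) (iv F3992) D2374 D3063 F23553 (iv F23213) (iv F4474) (iv F5719) (iv F23317) F21544 (iv D6109) F23679 (iv F9733) (iv F24015) F7485 (iv F22284) F22283 F23965 F23578 F7607 F23388 D3610 (iv F7990) (iv F23900) (iv F19842) F24404 (iv D9961) D9962 F24336 F9717 F6568 (iv F4920) (iv F5099) F5098 (iv F6679) (iv F9885) (iv F24041) (iv D6061) F6651 F5322 (iv F23904) (iv F23907) D4507 F7607 F23388 (iv F5699) (iv F23289) (iv F23672) F11059 F23295 (iv F6578) (iv F9712) F21421 D11416 F12229 F23885 F23499 (iv F23580))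
theorem F24409 : act 3 n7392 = n6875 := (sb E10510 (iv D11416))
theorem F24410 : act 4 n9948 = n9950 := d25_26 (iv F22265) F24409 F11243 F7302 F23888 (iv F23629) (iv F23881) F4226 (iv F4085) F4084 D2247 (iv F4165) D2897 D4057 (iv F24055) (iv D6144) (iv F7417) F20305 F5599 (iv F5004) D3999 (iv F23921) (iv F7305) (iv F21431) (iv F11490) (iv F24153) F16517 F9710 F6564 D5912 (iv F24349) F24350 (iv D4408) F5366 D3943 F20861 F6712 D3928 (iv F23675) F5715 D3253 F5716 D3274 D4802 (iv F23442) F22813 (iv F7665) (iv F12072) F22233 (iv F24320) F12122 (iv F24157) F21431 F7305 F23921 (iv F20386) (iv D4009) F5013 F4247 (iv F4360) (iv F5462) (iv F23860) F23861 D6225 (iv F24239) F23995 (iv D4754) F23675 (iv D3928) (iv F6712) (iv F24138) (iv F23853) F23854 D6322 (iv F24246) F22228 (iv F24363)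
theorem F24411 : act 2 n9950 = n9949 := d12_1 F24410 (iv D9949) D9948
theorem F24412 : act 5 n9949 = n9948 := d18_0 F24410 (iv D9950) D9949
theorem E10511 : n10554 = n9967 := (c16_3 F24412 F16514 (iv F17649) F24339)
theorem F24413 : act 1 n9967 = n7308 := (sb E10511 F24154)
theorem F24414 : act 2 n9967 = n6352 := (sb E10511 (iv D10554))
theorem F24415 : act 5 n9967 = n6356 := (sb E10511 F17649)
theorem F24416 : act 6 n9961 = n9638 := d24_6 F23577 (iv F23798) (iv F24413) (iv D9967) (iv F24398) D9961 (iv F24133) F24132 F23799 (iv D7752) (iv F23994) F7404 D4454 F21605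
theorem F24417 : act 0 n9641 = n9961 := d5_3 F24416 (iv D9638) D9641
theorem F24418 : act 6 n7693 = n11745 := d14_2 F24416 (iv F24343) F24404
theorem F24419 : act 5 n11745 = n9961 := d22_2 (iv F24367) F24418 F24416 (iv D9638)
theorem F24420 : act 0 n9968 = n11745 := d23_19 F24419 (iv F24404) (iv D11745) F11708 D7116 (iv F22228) F11717 F24175 F7634 D4558 (iv F10401) (iv F24244) (iv F21432) (iv F11490) (iv F24153) F16513 F24398 (iv F24396) D9968
theorem F24421 : act 5 n9968 = n9641 := d4_2 (iv F24419) (iv F24420) F24417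
theorem F24422 : act 6 n9968 = n9639 := d20_6 (iv F24416) (iv F24419) (iv F24418) F24367 D9641 (iv F24421) F24133
theorem F24423 : act 3 n9639 = n7691 := d17_1 F24422 F23418 (iv F16542)
theorem F24424 : act 4 n9961 = n9968 := d19_3 F24422 F16396 (iv F24416)
theorem F24425 : act 4 n11745 = n9641 := d3_2 F24424 F24420 F24417
theorem E10512 : n9221 = n9079 := ((c25_18 (iv F23332) (iv D3280) (iv D2479) (iv F4463) D3256 (iv F7175) F24136 F5903 F4571 (iv F4894) D3868 (iv F24278) D9639 F24423 (iv D7691) (iv F24224) (iv F24356) D9079 (iv D9221) (iv D5554) (iv D3640) F4749 D2686 D3699 F23140 (iv F24294) (iv F5890) F24300 F24103 F5219 F23528 (iv F6225) (iv D3589) (iv D2638) (iv F4713) D3567 (iv F8899) (iv F23746) (iv D8802) (iv F24359) F7077 F24225 F24123 (iv F24202) F5596 F24097 F23780 F24083 (iv F6596) (iv F24278) D9639 F24132 F16285 (iv F24328) (iv F24343) (iv D7693) (iv D4731) (iv D3243) F4452 (iv F3982) (iv F4458) (iv F5210) D4189 (iv F24307) D8832 F24376 (iv D6517) (iv D4130) F5170 F4201 F2804 (iv F1408)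 (iv F3728) (iv F3773) (iv F4502) (iv F5794) F5793 F23329)).symm
theorem F24426 : act 3 n9079 = n5554 := (sb E10512 (iv D9221))
theorem F24427 : act 1 n10833 = n9079 := d7_3 F24426 (iv F24084) F24408
theorem F24428 : act 3 n10835 = n8920 := d11_8 F24426 (iv D5554) F6292 D3695 (iv F24222) (iv F7071) (iv F10692) D10835 (iv D8920) F8949 F23939 (iv F23943) (iv F10733) (iv F24356) D9079
theorem F24429 : act 5 n10835 = n9079 := d16_0 F24426 (iv F24305) (iv F24428)
theorem F24430 : act 6 n8802 = n9079 := d17_0 F24426 F23076 (iv F23746)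
theorem F24431 : act 0 n9079 = n10835 := d2_1 (iv F24426) F24428 F24304
theorem F24432 : act 4 n10835 = n8920 := d3_2 (iv F15146) F24431 F24304
theorem F24433 : act 5 n8802 = n8802 := d22_2 F24429 (iv F24430) F24430 F24431
theorem F24434 : act 6 n8920 = n8832 := d19_2 (iv F18190) F24432 F24377
theorem F24435 : act 5 n8832 = n8832 := d20_1 F24434 (iv F24434) F24305 F23076 F22735 (iv F23076) (iv F24305)
theorem F24436 : act 4 n8326 = n10833 := d8_0 F24427 F15146 (iv F24084)
theorem F24437 : act 5 n7341 = n7390 := d23_12 F24421 F24405 (iv D9968) (iv F16516) (iv D9950) D9948 F24153 F11489 (iv F23821) D6337 F10401 (iv F12126) F24329 (iv F11717) (iv F21865) F24027 (iv F24025) D11745 (iv F24420)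
theorem F24438 : act 0 n10746 = n10746 := d0_7 F24406 F10686 F7054 (iv F10686) (iv F24406) F20929 (iv F18021) F18021 (iv F20929)
theorem E10513 : n10745 = n6472 := (c1_4 D10746 F24438 (iv D10746) D10745)
theorem F24439 : act 0 n6472 = n6472 := (sb E10513 (iv D10745))
theorem F24442 : act 0 n10832 = n10832 := d0_7 (iv F14741) F24382 F10698 (iv F24382) F14741 F23372 D10832 (iv D10832) (iv F23372)
theorem F24443 : act 0 n8922 = n8922 := d0_5 F24375 F14780 F8899 (iv F8950) D8922 (iv D8922) F8950 (iv F8899) (iv F14780)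
theorem F24444 : act 6 n10746 = n10746 := d10_2 F24303 (iv F18021) F18021 (iv F24303) F10714
theorem E10514 : n10747 = n6472 := (c14_3 F24444 (iv D10746) D10747 D10746)
theorem F24445 : act 6 n6472 = n6472 := (sb E10514 (iv D10747))
theorem F24446 : act 6 n8632 = n8632 := d17_2 F24445 (iv F23711) F23711
theorem F24447 : act 6 n8575 = n10603 := d24_6 F24445 F10616 (iv D6472) F23709 (iv F21282) (iv F14360) F17745 (iv D10603) F23383 F20980 F8743 (iv F23325) D4108 D6472
theorem F24448 : act 0 n10603 = n10603 := d5_1 F24447 (iv F24447) F14359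
theorem F24449 : act 3 n10603 = n8083 := d17_1 F24447 F23703 D8575
theorem F24450 : act 4 n10603 = n8083 := d19_1 F24447 F23703 F14361
theorem F24451 : act 5 n8575 = n8575 := d22_0 F24447 F17745 (iv F24447) F14359
theorem E10515 : n8576 = n5208 := (c16_3 F24451 (iv D8575) D8576 D8575)
theorem F24452 : act 5 n5208 = n5208 := (sb E10515 (iv D8576))
theorem F24453 : act 2 n8575 = n10603 := d23_1 F24451 (iv D10603) F21307 F20980 F8744 F6131 F4667 D2615 F4691 D2621 D3553 F6185 D3606 (iv F20485) (iv F20938) (iv F20998) (iv F8703) (iv F14360) F14359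
theorem F24454 : act 5 n8083 = n8083 := d13_2 F24452 (iv F13455) F13455
theorem F24455 : act 6 n8922 = n8922 := d10_2 F23034 D8922 (iv D8922) (iv F23034) F10671
theorem F24456 : act 4 n8922 = n10832 := d8_2 F23032 D8922 (iv D10832)
theorem F24457 : act 3 n8922 = n10832 := d7_2 F23031 D8922 (iv D10832)
def n11948 : Q := act 1 n8320
theorem D11948 : act 1 n8320 = n11948 := rfl
theorem F24458 : act 0 n11948 = n11948 := d0_1 D11948 (iv D11948) F14002 F23054 (iv F23033) F10671 F23033 (iv F23054) (iv F14002)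
theorem F24459 : act 2 n11948 = n8632 := d6_2 D8320 D11948 (iv D8632) F8757 (iv F23719)
theorem F24460 : act 3 n11948 = n10746 := d7_2 (iv F22440) D11948 F18021
theorem F24461 : act 4 n11948 = n10746 := d8_2 (iv F20431) D11948 F18021
theorem F24462 : act 5 n11948 = n11948 := d9_2 (iv F20432) D11948 (iv D11948) F20432 F10671
theorem F24463 : act 6 n11948 = n11948 := d10_2 (iv F23047) D11948 (iv D11948) F23047 F23019
def n11949 : Q := act 1 n8920
theorem D11949 : act 1 n8920 = n11949 := rfl
theorem F24464 : act 0 n11949 = n11949 := d0_1 D11949 (iv D11949) F24304 (iv F24084) F23036 F23019 (iv F23036) F24084 (iv F24304)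
theorem F24465 : act 2 n11949 = n8922 := d6_2 D8920 D11949 (iv D8922) (iv D5397) D5396
theorem F24466 : act 5 n11949 = n8922 := d9_2 (iv F24305) D11949 (iv D8922) (iv F23037) F24084
theorem F24467 : act 6 n11949 = n11949 := d10_2 (iv F24434) D11949 (iv D11949) F24434 F24375
def n11950 : Q := act 2 n10832
theorem D11950 : act 2 n10832 = n11950 := rfl
theorem F24468 : act 0 n11950 = n11950 := d1_1 D11950 (iv D11950) F24442
theorem F24469 : act 1 n11950 = n10835 := d6_1 D11950 (iv D10835) (iv D6514) (iv F10691) D10832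
theorem F24470 : act 4 n11950 = n11949 := d12_2 F24456 D11950 F24465
theorem F24471 : act 6 n11950 = n11950 := d14_2 F18184 D11950 (iv D11950)
theorem F24472 : act 5 n11950 = n10832 := d23_0 D11950 F24469 (iv F24431) (iv F24429) (iv D10835) (iv D6514) F22701 F24189 D6527 F10714 F24301 (iv D10833) F10691 D6514 (iv F24355) F24357 D10835 (iv F24469) F24468
theorem F24473 : act 3 n11950 = n11949 := d25_1 (iv F24470) F24465 F24457 D11950 F24469 F24428 (iv D8920) F8949 F23939 (iv D3277) (iv F5721) D4761 (iv F24213) (iv D6717) (iv D4228) (iv F7157) (iv F24128) F7723 F24324 (iv F24284) (iv F24371) F4017 F1971 (iv F2016) D2205 F4033 (iv F4052) F4055 F4052 F2077 (iv D1171) (iv F1914) F3846 (iv D621) (iv D304) (iv D159) (iv F295) (iv F422) (iv F720) (iv F725) (iv F3638) (iv F3686) (iv F999) (iv F2060) F3847 F3391 F3390 F1693 F862 (iv F1008) D1272 (iv F4033) F23732 F4032 F23353 (iv F4032) (iv D2205) F23734 F2016 (iv F1971) (iv F4017) F24362 (iv F4560) (iv F24324) (iv F7723) F24128 F23437 (iv F23435) D6717 F24213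 (iv D4761) (iv F23942) F23943 (iv F23939) (iv F8949) D8920 D11949

end Cfsg.Agent.Helper17.SuzTC
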