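import Cfsg.Agent.Helper17.SuzTC.Facts2

set_option autoImplicit false
set_option linter.all false
set_option maxRecDepth 100000

noncomputable section

namespace Cfsg.Agent.Helper17.SuzTC

def N : ℕ := 1782

def nl : ℕ := 7

def parT : ℕ := 5346302016874791762621772248428347819158861089213733942283804713250434576532432330013724054789325352809475058910660524347433222017852320358725925321694742310413007979884419273053708910928245654209854002506092428325464531148694391912825921501760758778733994472396523098401374029150350216163048013238998617413555055362736662098360438565084913382296470145083535872638922003108701043174329686475974427753715620684467597225061237467244804448731969746531839257119427073164569979089466287590883614717987579140962548065615021378101255038406798994116546350822325913016153606096312577166213094185062151905068713814002960929378774736307594154018751716910279181607095104062277341367049796512971284669482981606563014277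314778134993993051591756959034633249213284739022419481184091325945679731037536626611259939740169466432536142081134845237543439500385429836901416101179988518815614045393963191579807362097458049843656105736399055589798072314957902818518530373726162663539396008949776637295896253558265382840519775678121115230425391944413339268401445361579393842975058693662072982748697908881719845825323121260303831985704920636186537882159468715862830176886276866732642653244270348614327933641766150392593894850783931082251757090750919700285135542094473242933687880436195562570143297881261987477148425573790003629046148739708826763563292974897942867226984100213007703352660745309461140303929733719784870832089170024731838386405048173535627602441596234606892832650328738911995935932276381073486831478269222799765799776673197320322788152806643919375526329264853835919972798662426997865388319974486425305806210319121004973450022024924514839037896577364016650289523632753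897982250193820807470888021033890205998132049635245514604641063183240437935680783319964256346868429496004738801874347054891258126518431202933112624457034296838025377447393650353432099391487958219597953420907349095788254002030229405966713032799150926693768808271178822762729250509953074114281266129884634342531568905854458181424033532871719019017707495395096244364441779817267181598234477755835451147367866456154021545317412402570242637363950229882286286083895663109333942680914491429359202423210069830962170506703540159962746649666661455675061802062920979855522988908549185730836619905901714480753511086072414942511796142643661825478491434862023465680417972209963248055144624951369630411831974360832076545702821289848638062513317214862527146632993374372457635483840371713936551661403360481016991811713787471528981446042022579958081600575515751421744850219296029502781878431129532368425002964482736931287299430189823258631183966582760752849417679645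234176303455708560185954955464138141220819256429651692743321558223001741833687164972704507440809298091973139993805627051375601568099447878454970957654960152544110176532700413004942185662190983081593116188956755573324323221502944968966873796208659124443687405254668506559852954954878359028592833191646370685465535996666030332161055281965792733590979412884166634909808789669366663876710324670408086867064337537288998906867027188580725545682633941024470682533350958452160286240879027595478535840290963256337120018030118977684229893960778816493212296073652770567082128646179997560791575913603106491031505544371639113194051225681607874340384888401071158059181506471282477170690532079292435172004710294155213557101372627006013412833833070868504625569961125016578606024432007818821529640009192419847008607541513693053447840357128148397110399472926084490709324389587400006496404504252490192862502889347077313316817642388468017717098056349561956681532399717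628946142917622807017464147976460229954880092912578113883199476222941135740259300015364318677365822394583355804150686562896103021213518607457169820007924429121949281726429177727139428774366293697144541860906141926562966899469333148643034231257895577147713031513190057234614016585072864504106809562479098393169655261116508838363991303891275792224071492626266042214077210694851493084583194256213726555184077173091694400751212745116766801351475312121574787167056691805484328484245006994990212230842152789378137793919865403667426690744082891204004067534056102051121044721269595915240490802285631201447298323484110162603944137081146746441676491935353455545640281274072940193704264278671489515591275995683864358658505431617876160222986353931730017784893758496343467833131651911727777603304274509505477772317292490865815006220300453377321256496342316562696271417433157765226897962273972539412950584212201191170741950236682494943919673732668365418370642702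00058012388433551140095678478333766502010111652437090282676562167318125317050865418034776398109193112579988304748440282473507734264488057072507389702878134172845471733106123465314250476105458931836206432625381927690491998890218177731352905566540540051640361663023332895395305989902423648120832029003004774823880250811092945809161770850420664068112908755568918474963303777930459937153383614208293624619238114960613480258584390173887901038264382644789081211551239776596190851720873463072792087238405719250059618433243925754503316398187849571133425405984088109440963681228686356477341725473651092265337995513839992441699279008557002447616253250733077902859997248513941444361502202498772212119840124936793440287285857282021275123698324539325557552564044155755454457452182158459904483879043269000409606003346512195320225550617933913623436215713868935482857424225736205586232779968741686847315997842907213178859923752139631144645694623881294399805670395828625180537780113050055512611991916494230140459215717236092957670885111348715161234826604835756011249697598835365501761805861188643243792665068958931259758055071996282115982348594586752046833185358907465096564860143704942185342730504589725774431788902623310924840104351426741733963165616776567923778520092758178397680074425056704468173065292150833128850962322494993902932975537338234574653517975666087126866543439973274299323534371561780170652709134794752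

def pletT : ℕ := 54241834577552704610044965421359111551575684142756076994046702157496616965875223597847330846520995174307013394289102888742605453518578487657005403523569214172840003947701370345337309961414726533435434836921646263552575818066539152067636160648579569719949819021836140206289156168967193500245601859617793935256874507664200472776272000378825576819994664737656249396918830048206512364769611945262512528744559686821277178720323989048923687747404638821935033379434338512820408164831530067294841444712113912948603259016785310960645837102263415119740190775583291285008343123782443926678732278523188181085767276919563059126634920972985798466751553510436292426221619463469234354005020599872010989481493754584187718103260167129865758672116799429365763794640074056611561281713362954539808452097354011822682321262837811419865401307061819561102008625003674977939142434571204912563123026424281780444365944268287679556459638575639660925224039864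77263279972767113005122955568793125475419159648342723444091278317916903339131349078222624867951450945470888508182178727267337550927789581929680457508027909075814010249967249646295445257999731352526165706387412733532424041289359796473262140637359485197029972721226961473041668806849884774278933682153424804878263698165654038733963718908329934424911374887936382330809743139170885141781287960905257902657411333332697864685962018518201963560053901138921056758617731175586102085056909121524749087199864250788306059676767478340195359165879724369447485688018103912610242371533495477337777340310188658189978665036840740726563121707082281318017996795128398273453021515968843986997554356336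

def par (i : ℕ) : ℕ := (parT >>> (11 * i)) &&& 2047

def plet (i : ℕ) : ℕ := (pletT >>> (3 * i)) &&& 7

def chk (i p l : ℕ) : Bool :=
  decide (0 < i) && decide (i < N) && decide (par i = p) && decide (p < i) && decide (plet i = l)

def nd (i : ℕ) : Q :=
  if h : 0 < i ∧ i < N ∧ par i < i then act (plet i) (nd (par i)) else n0
termination_by i
decreasing_by exact h.2.2

theorem nd_zero : nd 0 = n0 := by
  rw [nd, dif_neg]; omega

theorem nd_ge {i : ℕ} (h : N ≤ i) : nd i = n0 := by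
  rw [nd, dif_neg]; omega

theorem nd_step {i p l : ℕ} (h : chk i p l = true) : nd i = act l (nd p) := by
  simp only [chk, Bool.and_eq_true, decide_eq_true_eq] at h
  obtain ⟨⟨⟨⟨h1, h2⟩, h3⟩, h4⟩, h5⟩ := h
  rw [nd, dif_pos ⟨h1, h2, h3 ▸ h4⟩, h3, h5]

theorem ndS {i p l : ℕ} {y x : Q} (h : chk i p l = true) (e : nd p = y) (F : act l y = x) :
    nd i = x := by
  rw [nd_step h, e, F]

def P (i : ℕ) : Prop := ∀ l, l < nl → ∃ j, act l (nd i) = nd j

theorem tt {l j : ℕ} {x y : Q} (e : nd j = y) (F : act l x = y) : ∃ j, act l x = nd j :=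
  ⟨j, F.trans e.symm⟩

theorem allL {i : ℕ} {x : Q} (e : nd i = x) (h0 : ∃ j, act 0 x = nd j) (h1 : ∃ j, act 1 x = nd j) (h2 : ∃ j, act 2 x = nd j) (h3 : ∃ j, act 3 x = nd j) (h4 : ∃ j, act 4 x = nd j) (h5 : ∃ j, act 5 x = nd j) (h6 : ∃ j, act 6 x = nd j) : P i := by
  intro l hl; rw [e]; unfold nl at hl; interval_cases l <;> assumption

theorem stepQ (k : ℕ) (h : ∀ i, i < k → P i) (hk : P k) : ∀ i, i < k + 1 → P i := by
  intro i hi
  rcases Nat.lt_succ_iff_lt_or_eq.mp hi with h1 | h1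
  · exact h i h1
  · exact h1 ▸ hk

theorem Q0 : ∀ i, i < 0 → P i := fun i h => absurd h (Nat.not_lt_zero i)

theorem N0 : nd 0 = n0 := nd_zero

theorem N1 : nd 1 = n1 := ndS (p := 0) (l := 6) rfl N0 D1
theorem N2 : nd 2 = n2 := ndS (p := 1) (l := 1) rfl N1 D2
theorem N3 : nd 3 = n3 := ndS (p := 2) (l := 0) rfl N2 D3
theorem N4 : nd 4 = n4 := ndS (p := 2) (l := 2) rfl N2 D4
theorem N5 : nd 5 = n5 := ndS (p := 2) (l := 5) rfl N2 D5
theorem N6 : nd 6 = n6 := ndS (p := 3) (l := 1) rfl N3 D6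
theorem N7 : nd 7 = n7 := ndS (p := 3) (l := 2) rfl N3 D7
theorem N8 : nd 8 = n9 := ndS (p := 4) (l := 3) rfl N4 D9
theorem N9 : nd 9 = n10 := ndS (p := 4) (l := 5) rfl N4 D10
theorem N10 : nd 10 = n11 := ndS (p := 6) (l := 2) rfl N6 D11
theorem N11 : nd 11 = n12 := ndS (p := 7) (l := 1) rfl N7 D12
theorem N12 : nd 12 = n13 := ndS (p := 7) (l := 3) rfl N7 D13
theorem N13 : nd 13 = n14 := ndS (p := 8) (l := 2) rfl N8 D14
theorem N14 : nd 14 = n15 := ndS (p := 8) (l := 4) rfl N8 D15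
theorem N15 : nd 15 = n16 := ndS (p := 8) (l := 5) rfl N8 D16
theorem N16 : nd 16 = n17 := ndS (p := 9) (l := 1) rfl N9 D17
theorem N17 : nd 17 = n18 := ndS (p := 10) (l := 1) rfl N10 D18
theorem N18 : nd 18 = n19 := ndS (p := 10) (l := 3) rfl N10 D19
theorem N19 : nd 19 = n20 := ndS (p := 11) (l := 0) rfl N11 D20
theorem N20 : nd 20 = n21 := ndS (p := 11) (l := 3) rfl N11 D21
theorem N21 : nd 21 = n22 := ndS (p := 11) (l := 5) rfl N11 D22
theorem N22 : nd 22 = n23 := ndS (p := 11) (l := 6) rfl N11 D23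
theorem N23 : nd 23 = n24 := ndS (p := 12) (l := 2) rfl N12 D24
theorem N24 : nd 24 = n25 := ndS (p := 12) (l := 4) rfl N12 D25
theorem N25 : nd 25 = n26 := ndS (p := 13) (l := 1) rfl N13 D26
theorem N26 : nd 26 = n27 := ndS (p := 13) (l := 4) rfl N13 D27
theorem N27 : nd 27 = n28 := ndS (p := 13) (l := 5) rfl N13 D28
theorem N28 : nd 28 = n29 := ndS (p := 14) (l := 5) rfl N14 D29
theorem N29 : nd 29 = n30 := ndS (p := 15) (l := 1) rfl N15 D30
theorem N30 : nd 30 = n31 := ndS (p := 16) (l := 6) rfl N16 D31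
theorem N31 : nd 31 = n33 := ndS (p := 17) (l := 3) rfl N17 D33
theorem N32 : nd 32 = n34 := ndS (p := 17) (l := 5) rfl N17 D34
theorem N33 : nd 33 = n36 := ndS (p := 18) (l := 2) rfl N18 D36
theorem N34 : nd 34 = n37 := ndS (p := 18) (l := 4) rfl N18 D37
theorem N35 : nd 35 = n38 := ndS (p := 19) (l := 3) rfl N19 D38
theorem N36 : nd 36 = n39 := ndS (p := 19) (l := 5) rfl N19 D39
theorem N37 : nd 37 = n40 := ndS (p := 20) (l := 2) rfl N20 D40
theorem N38 : nd 38 = n41 := ndS (p := 20) (l := 4) rfl N20 D41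
theorem N39 : nd 39 = n42 := ndS (p := 20) (l := 5) rfl N20 D42
theorem N40 : nd 40 = n43 := ndS (p := 20) (l := 6) rfl N20 D43
theorem N41 : nd 41 = n44 := ndS (p := 22) (l := 5) rfl N22 D44
theorem N42 : nd 42 = n45 := ndS (p := 23) (l := 1) rfl N23 D45
theorem N43 : nd 43 = n46 := ndS (p := 23) (l := 4) rfl N23 D46
theorem N44 : nd 44 = n47 := ndS (p := 25) (l := 0) rfl N25 D47
theorem N45 : nd 45 = n48 := ndS (p := 25) (l := 4) rfl N25 D48
theorem N46 : nd 46 = n49 := ndS (p := 25) (l := 5) rfl N25 D49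
theorem N47 : nd 47 = n50 := ndS (p := 25) (l := 6) rfl N25 D50
theorem N48 : nd 48 = n51 := ndS (p := 26) (l := 3) rfl N26 D51
theorem N49 : nd 49 = n52 := ndS (p := 26) (l := 5) rfl N26 D52
theorem N50 : nd 50 = n53 := ndS (p := 27) (l := 1) rfl N27 D53
theorem N51 : nd 51 = n54 := ndS (p := 28) (l := 1) rfl N28 D54
theorem N52 : nd 52 = n55 := ndS (p := 29) (l := 2) rfl N29 D55
theorem N53 : nd 53 = n57 := ndS (p := 31) (l := 2) rfl N31 D57
theorem N54 : nd 54 = n58 := ndS (p := 31) (l := 4) rfl N31 D58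
theorem N55 : nd 55 = n59 := ndS (p := 31) (l := 5) rfl N31 D59
theorem N56 : nd 56 = n60 := ndS (p := 33) (l := 1) rfl N33 D60
theorem N57 : nd 57 = n61 := ndS (p := 33) (l := 4) rfl N33 D61
theorem N58 : nd 58 = n63 := ndS (p := 35) (l := 4) rfl N35 D63
theorem N59 : nd 59 = n64 := ndS (p := 35) (l := 5) rfl N35 D64
theorem N60 : nd 60 = n65 := ndS (p := 37) (l := 1) rfl N37 D65
theorem N61 : nd 61 = n66 := ndS (p := 37) (l := 3) rfl N37 D66
theorem N62 : nd 62 = n67 := ndS (p := 37) (l := 4) rfl N37 D67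
theorem N63 : nd 63 = n68 := ndS (p := 37) (l := 5) rfl N37 D68
theorem N64 : nd 64 = n69 := ndS (p := 37) (l := 6) rfl N37 D69
theorem N65 : nd 65 = n70 := ndS (p := 38) (l := 5) rfl N38 D70
theorem N66 : nd 66 = n71 := ndS (p := 38) (l := 6) rfl N38 D71
theorem N67 : nd 67 = n72 := ndS (p := 40) (l := 5) rfl N40 D72
theorem N68 : nd 68 = n73 := ndS (p := 41) (l := 1) rfl N41 D73
theorem N69 : nd 69 = n74 := ndS (p := 42) (l := 0) rfl N42 D74
theorem N70 : nd 70 = n75 := ndS (p := 42) (l := 4) rfl N42 D75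
theorem N71 : nd 71 = n76 := ndS (p := 42) (l := 5) rfl N42 D76
theorem N72 : nd 72 = n77 := ndS (p := 42) (l := 6) rfl N42 D77
theorem N73 : nd 73 = n78 := ndS (p := 43) (l := 3) rfl N43 D78
theorem N74 : nd 74 = n80 := ndS (p := 44) (l := 4) rfl N44 D80
theorem N75 : nd 75 = n81 := ndS (p := 44) (l := 5) rfl N44 D81
theorem N76 : nd 76 = n82 := ndS (p := 44) (l := 6) rfl N44 D82
theorem N77 : nd 77 = n83 := ndS (p := 45) (l := 3) rfl N45 D83
theorem N78 : nd 78 = n84 := ndS (p := 45) (l := 5) rfl N45 D84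
theorem N79 : nd 79 = n85 := ndS (p := 45) (l := 6) rfl N45 D85
theorem N80 : nd 80 = n86 := ndS (p := 46) (l := 1) rfl N46 D86
theorem N81 : nd 81 = n87 := ndS (p := 46) (l := 6) rfl N46 D87
theorem N82 : nd 82 = n88 := ndS (p := 47) (l := 5) rfl N47 D88
theorem N83 : nd 83 = n89 := ndS (p := 48) (l := 2) rfl N48 D89
theorem N84 : nd 84 = n90 := ndS (p := 48) (l := 5) rfl N48 D90
theorem N85 : nd 85 = n91 := ndS (p := 49) (l := 1) rfl N49 D91
theorem N86 : nd 86 = n95 := ndS (p := 51) (l := 2) rfl N51 D95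
theorem N87 : nd 87 = n99 := ndS (p := 53) (l := 1) rfl N53 D99
theorem N88 : nd 88 = n101 := ndS (p := 53) (l := 4) rfl N53 D101
theorem N89 : nd 89 = n102 := ndS (p := 53) (l := 5) rfl N53 D102
theorem N90 : nd 90 = n103 := ndS (p := 54) (l := 5) rfl N54 D103
theorem N91 : nd 91 = n105 := ndS (p := 56) (l := 4) rfl N56 D105
theorem N92 : nd 92 = n106 := ndS (p := 56) (l := 5) rfl N56 D106
theorem N93 : nd 93 = n108 := ndS (p := 57) (l := 3) rfl N57 D108
theorem N94 : nd 94 = n113 := ndS (p := 58) (l := 5) rfl N58 D113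
theorem N95 : nd 95 = n114 := ndS (p := 60) (l := 0) rfl N60 D114
theorem N96 : nd 96 = n115 := ndS (p := 60) (l := 3) rfl N60 D115
theorem N97 : nd 97 = n116 := ndS (p := 60) (l := 4) rfl N60 D116
theorem N98 : nd 98 = n117 := ndS (p := 60) (l := 5) rfl N60 D117
theorem N99 : nd 99 = n118 := ndS (p := 60) (l := 6) rfl N60 D118
theorem N100 : nd 100 = n119 := ndS (p := 61) (l := 2) rfl N61 D119
theorem N101 : nd 101 = n120 := ndS (p := 61) (l := 4) rfl N61 D120
theorem N102 : nd 102 = n121 := ndS (p := 61) (l := 5) rfl N61 D121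
theorem N103 : nd 103 = n122 := ndS (p := 62) (l := 3) rfl N62 D122
theorem N104 : nd 104 = n123 := ndS (p := 62) (l := 5) rfl N62 D123
theorem N105 : nd 105 = n124 := ndS (p := 62) (l := 6) rfl N62 D124
theorem N106 : nd 106 = n125 := ndS (p := 63) (l := 1) rfl N63 D125
theorem N107 : nd 107 = n127 := ndS (p := 64) (l := 5) rfl N64 D127
theorem N108 : nd 108 = n128 := ndS (p := 66) (l := 5) rfl N66 D128
theorem N109 : nd 109 = n129 := ndS (p := 67) (l := 1) rfl N67 D129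
theorem N110 : nd 110 = n131 := ndS (p := 69) (l := 4) rfl N69 D131
theorem N111 : nd 111 = n132 := ndS (p := 69) (l := 5) rfl N69 D132
theorem N112 : nd 112 = n133 := ndS (p := 69) (l := 6) rfl N69 D133
theorem N113 : nd 113 = n134 := ndS (p := 70) (l := 3) rfl N70 D134
theorem N114 : nd 114 = n135 := ndS (p := 70) (l := 5) rfl N70 D135
theorem N115 : nd 115 = n136 := ndS (p := 70) (l := 6) rfl N70 D136
theorem N116 : nd 116 = n137 := ndS (p := 71) (l := 6) rfl N71 D137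
theorem N117 : nd 117 = n138 := ndS (p := 72) (l := 5) rfl N72 D138
theorem N118 : nd 118 = n139 := ndS (p := 73) (l := 2) rfl N73 D139
theorem N119 : nd 119 = n145 := ndS (p := 74) (l := 3) rfl N74 D145
theorem N120 : nd 120 = n146 := ndS (p := 74) (l := 5) rfl N74 D146
theorem N121 : nd 121 = n147 := ndS (p := 74) (l := 6) rfl N74 D147
theorem N122 : nd 122 = n148 := ndS (p := 75) (l := 1) rfl N75 D148
theorem N123 : nd 123 = n150 := ndS (p := 77) (l := 2) rfl N77 D150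
theorem N124 : nd 124 = n151 := ndS (p := 77) (l := 5) rfl N77 D151
theorem N125 : nd 125 = n152 := ndS (p := 77) (l := 6) rfl N77 D152
theorem N126 : nd 126 = n153 := ndS (p := 78) (l := 1) rfl N78 D153
theorem N127 : nd 127 = n154 := ndS (p := 78) (l := 6) rfl N78 D154
theorem N128 : nd 128 = n155 := ndS (p := 79) (l := 5) rfl N79 D155
theorem N129 : nd 129 = n159 := ndS (p := 81) (l := 1) rfl N81 D159
theorem N130 : nd 130 = n160 := ndS (p := 82) (l := 1) rfl N82 D160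
theorem N131 : nd 131 = n161 := ndS (p := 83) (l := 1) rfl N83 D161
theorem N132 : nd 132 = n162 := ndS (p := 83) (l := 5) rfl N83 D162
theorem N133 : nd 133 = n163 := ndS (p := 84) (l := 1) rfl N84 D163
theorem N134 : nd 134 = n180 := ndS (p := 87) (l := 4) rfl N87 D180
theorem N135 : nd 135 = n181 := ndS (p := 87) (l := 5) rfl N87 D181
theorem N136 : nd 136 = n185 := ndS (p := 88) (l := 3) rfl N88 D185
theorem N137 : nd 137 = n186 := ndS (p := 88) (l := 5) rfl N88 D186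
theorem N138 : nd 138 = n187 := ndS (p := 89) (l := 1) rfl N89 D187
theorem N139 : nd 139 = n192 := ndS (p := 91) (l := 3) rfl N91 D192
theorem N140 : nd 140 = n193 := ndS (p := 91) (l := 5) rfl N91 D193
theorem N141 : nd 141 = n195 := ndS (p := 92) (l := 6) rfl N92 D195
theorem N142 : nd 142 = n197 := ndS (p := 93) (l := 2) rfl N93 D197
theorem N143 : nd 143 = n208 := ndS (p := 95) (l := 1) rfl N95 D208
theorem N144 : nd 144 = n210 := ndS (p := 95) (l := 4) rfl N95 D210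
theorem N145 : nd 145 = n211 := ndS (p := 95) (l := 5) rfl N95 D211
theorem N146 : nd 146 = n212 := ndS (p := 95) (l := 6) rfl N95 D212
theorem N147 : nd 147 = n213 := ndS (p := 96) (l := 4) rfl N96 D213
theorem N148 : nd 148 = n214 := ndS (p := 96) (l := 5) rfl N96 D214
theorem N149 : nd 149 = n215 := ndS (p := 96) (l := 6) rfl N96 D215
theorem N150 : nd 150 = n216 := ndS (p := 97) (l := 3) rfl N97 D216
theorem N151 : nd 151 = n217 := ndS (p := 97) (l := 5) rfl N97 D217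
theorem N152 : nd 152 = n218 := ndS (p := 97) (l := 6) rfl N97 D218
theorem N153 : nd 153 = n219 := ndS (p := 98) (l := 1) rfl N98 D219
theorem N154 : nd 154 = n220 := ndS (p := 98) (l := 6) rfl N98 D220
theorem N155 : nd 155 = n222 := ndS (p := 99) (l := 5) rfl N99 D222
theorem N156 : nd 156 = n224 := ndS (p := 100) (l := 4) rfl N100 D224
theorem N157 : nd 157 = n226 := ndS (p := 101) (l := 3) rfl N101 D226
theorem N158 : nd 158 = n227 := ndS (p := 101) (l := 5) rfl N101 D227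
theorem N159 : nd 159 = n228 := ndS (p := 102) (l := 1) rfl N102 D228
theorem N160 : nd 160 = n229 := ndS (p := 103) (l := 2) rfl N103 D229
theorem N161 : nd 161 = n230 := ndS (p := 103) (l := 5) rfl N103 D230
theorem N162 : nd 162 = n231 := ndS (p := 103) (l := 6) rfl N103 D231
theorem N163 : nd 163 = n232 := ndS (p := 104) (l := 1) rfl N104 D232
theorem N164 : nd 164 = n234 := ndS (p := 105) (l := 5) rfl N105 D234
theorem N165 : nd 165 = n235 := ndS (p := 106) (l := 0) rfl N106 D235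
theorem N166 : nd 166 = n236 := ndS (p := 106) (l := 6) rfl N106 D236
theorem N167 : nd 167 = n239 := ndS (p := 107) (l := 1) rfl N107 D239
theorem N168 : nd 168 = n240 := ndS (p := 108) (l := 1) rfl N108 D240
theorem N169 : nd 169 = n241 := ndS (p := 109) (l := 2) rfl N109 D241
theorem N170 : nd 170 = n247 := ndS (p := 110) (l := 3) rfl N110 D247
theorem N171 : nd 171 = n248 := ndS (p := 110) (l := 5) rfl N110 D248
theorem N172 : nd 172 = n249 := ndS (p := 110) (l := 6) rfl N110 D249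
theorem N173 : nd 173 = n250 := ndS (p := 111) (l := 1) rfl N111 D250
theorem N174 : nd 174 = n252 := ndS (p := 113) (l := 2) rfl N113 D252
theorem N175 : nd 175 = n253 := ndS (p := 113) (l := 5) rfl N113 D253
theorem N176 : nd 176 = n254 := ndS (p := 113) (l := 6) rfl N113 D254
theorem N177 : nd 177 = n255 := ndS (p := 114) (l := 6) rfl N114 D255
theorem N178 : nd 178 = n256 := ndS (p := 115) (l := 5) rfl N115 D256
theorem N179 : nd 179 = n257 := ndS (p := 116) (l := 1) rfl N116 D257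
theorem N180 : nd 180 = n258 := ndS (p := 117) (l := 1) rfl N117 D258
theorem N181 : nd 181 = n259 := ndS (p := 118) (l := 1) rfl N118 D259
theorem N182 : nd 182 = n275 := ndS (p := 119) (l := 2) rfl N119 D275
theorem N183 : nd 183 = n276 := ndS (p := 119) (l := 5) rfl N119 D276
theorem N184 : nd 184 = n277 := ndS (p := 119) (l := 6) rfl N119 D277
theorem N185 : nd 185 = n278 := ndS (p := 120) (l := 1) rfl N120 D278
theorem N186 : nd 186 = n280 := ndS (p := 122) (l := 0) rfl N122 D280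
theorem N187 : nd 187 = n281 := ndS (p := 122) (l := 2) rfl N122 D281
theorem N188 : nd 188 = n282 := ndS (p := 122) (l := 6) rfl N122 D282
theorem N189 : nd 189 = n286 := ndS (p := 123) (l := 1) rfl N123 D286
theorem N190 : nd 190 = n287 := ndS (p := 123) (l := 3) rfl N123 D287
theorem N191 : nd 191 = n288 := ndS (p := 123) (l := 5) rfl N123 D288
theorem N192 : nd 192 = n289 := ndS (p := 123) (l := 6) rfl N123 D289
theorem N193 : nd 193 = n290 := ndS (p := 124) (l := 1) rfl N124 D290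
theorem N194 : nd 194 = n291 := ndS (p := 124) (l := 6) rfl N124 D291
theorem N195 : nd 195 = n292 := ndS (p := 125) (l := 5) rfl N125 D292
theorem N196 : nd 196 = n296 := ndS (p := 127) (l := 1) rfl N127 D296
theorem N197 : nd 197 = n297 := ndS (p := 128) (l := 1) rfl N128 D297
theorem N198 : nd 198 = n303 := ndS (p := 129) (l := 0) rfl N129 D303
theorem N199 : nd 199 = n304 := ndS (p := 129) (l := 2) rfl N129 D304
theorem N200 : nd 200 = n305 := ndS (p := 129) (l := 5) rfl N129 D305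
theorem N201 : nd 201 = n307 := ndS (p := 130) (l := 2) rfl N130 D307
theorem N202 : nd 202 = n308 := ndS (p := 130) (l := 6) rfl N130 D308
theorem N203 : nd 203 = n309 := ndS (p := 131) (l := 0) rfl N131 D309
theorem N204 : nd 204 = n310 := ndS (p := 131) (l := 5) rfl N131 D310
theorem N205 : nd 205 = n311 := ndS (p := 131) (l := 6) rfl N131 D311
theorem N206 : nd 206 = n312 := ndS (p := 132) (l := 1) rfl N132 D312
theorem N207 : nd 207 = n314 := ndS (p := 133) (l := 2) rfl N133 D314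
theorem N208 : nd 208 = n353 := ndS (p := 134) (l := 3) rfl N134 D353
theorem N209 : nd 209 = n354 := ndS (p := 134) (l := 5) rfl N134 D354
theorem N210 : nd 210 = n356 := ndS (p := 135) (l := 1) rfl N135 D356
theorem N211 : nd 211 = n362 := ndS (p := 136) (l := 2) rfl N136 D362
theorem N212 : nd 212 = n363 := ndS (p := 136) (l := 5) rfl N136 D363
theorem N213 : nd 213 = n364 := ndS (p := 137) (l := 1) rfl N137 D364
theorem N214 : nd 214 = n365 := ndS (p := 138) (l := 0) rfl N138 D365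
theorem N215 : nd 215 = n366 := ndS (p := 138) (l := 6) rfl N138 D366
theorem N216 : nd 216 = n377 := ndS (p := 139) (l := 2) rfl N139 D377
theorem N217 : nd 217 = n378 := ndS (p := 139) (l := 5) rfl N139 D378
theorem N218 : nd 218 = n380 := ndS (p := 140) (l := 6) rfl N140 D380
theorem N219 : nd 219 = n382 := ndS (p := 141) (l := 1) rfl N141 D382
theorem N220 : nd 220 = n384 := ndS (p := 142) (l := 1) rfl N142 D384
theorem N221 : nd 221 = n411 := ndS (p := 143) (l := 4) rfl N143 D411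
theorem N222 : nd 222 = n412 := ndS (p := 143) (l := 5) rfl N143 D412
theorem N223 : nd 223 = n413 := ndS (p := 143) (l := 6) rfl N143 D413
theorem N224 : nd 224 = n417 := ndS (p := 144) (l := 3) rfl N144 D417
theorem N225 : nd 225 = n418 := ndS (p := 144) (l := 5) rfl N144 D418
theorem N226 : nd 226 = n419 := ndS (p := 144) (l := 6) rfl N144 D419
theorem N227 : nd 227 = n420 := ndS (p := 145) (l := 1) rfl N145 D420
theorem N228 : nd 228 = n421 := ndS (p := 146) (l := 1) rfl N146 D421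
theorem N229 : nd 229 = n422 := ndS (p := 147) (l := 3) rfl N147 D422
theorem N230 : nd 230 = n423 := ndS (p := 147) (l := 5) rfl N147 D423
theorem N231 : nd 231 = n424 := ndS (p := 147) (l := 6) rfl N147 D424
theorem N232 : nd 232 = n425 := ndS (p := 148) (l := 1) rfl N148 D425
theorem N233 : nd 233 = n426 := ndS (p := 148) (l := 6) rfl N148 D426
theorem N234 : nd 234 = n428 := ndS (p := 149) (l := 5) rfl N149 D428
theorem N235 : nd 235 = n429 := ndS (p := 150) (l := 2) rfl N150 D429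
theorem N236 : nd 236 = n430 := ndS (p := 150) (l := 5) rfl N150 D430
theorem N237 : nd 237 = n431 := ndS (p := 150) (l := 6) rfl N150 D431
theorem N238 : nd 238 = n432 := ndS (p := 151) (l := 1) rfl N151 D432
theorem N239 : nd 239 = n433 := ndS (p := 151) (l := 6) rfl N151 D433
theorem N240 : nd 240 = n435 := ndS (p := 152) (l := 5) rfl N152 D435
theorem N241 : nd 241 = n436 := ndS (p := 153) (l := 0) rfl N153 D436
theorem N242 : nd 242 = n445 := ndS (p := 156) (l := 3) rfl N156 D445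
theorem N243 : nd 243 = n448 := ndS (p := 157) (l := 2) rfl N157 D448
theorem N244 : nd 244 = n449 := ndS (p := 157) (l := 5) rfl N157 D449
theorem N245 : nd 245 = n450 := ndS (p := 158) (l := 1) rfl N158 D450
theorem N246 : nd 246 = n452 := ndS (p := 159) (l := 2) rfl N159 D452
theorem N247 : nd 247 = n454 := ndS (p := 160) (l := 1) rfl N160 D454
theorem N248 : nd 248 = n455 := ndS (p := 160) (l := 5) rfl N160 D455
theorem N249 : nd 249 = n456 := ndS (p := 160) (l := 6) rfl N160 D456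
theorem N250 : nd 250 = n457 := ndS (p := 161) (l := 1) rfl N161 D457
theorem N251 : nd 251 = n459 := ndS (p := 162) (l := 5) rfl N162 D459
theorem N252 : nd 252 = n460 := ndS (p := 163) (l := 0) rfl N163 D460
theorem N253 : nd 253 = n461 := ndS (p := 163) (l := 6) rfl N163 D461
theorem N254 : nd 254 = n464 := ndS (p := 164) (l := 1) rfl N164 D464
theorem N255 : nd 255 = n465 := ndS (p := 165) (l := 1) rfl N165 D465
theorem N256 : nd 256 = n467 := ndS (p := 166) (l := 5) rfl N166 D467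
theorem N257 : nd 257 = n472 := ndS (p := 167) (l := 0) rfl N167 D472
theorem N258 : nd 258 = n473 := ndS (p := 167) (l := 2) rfl N167 D473
theorem N259 : nd 259 = n475 := ndS (p := 168) (l := 2) rfl N168 D475
theorem N260 : nd 260 = n476 := ndS (p := 169) (l := 3) rfl N169 D476
theorem N261 : nd 261 = n491 := ndS (p := 170) (l := 2) rfl N170 D491
theorem N262 : nd 262 = n492 := ndS (p := 170) (l := 5) rfl N170 D492
theorem N263 : nd 263 = n493 := ndS (p := 170) (l := 6) rfl N170 D493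
theorem N264 : nd 264 = n494 := ndS (p := 171) (l := 1) rfl N171 D494
theorem N265 : nd 265 = n496 := ndS (p := 173) (l := 0) rfl N173 D496
theorem N266 : nd 266 = n497 := ndS (p := 173) (l := 2) rfl N173 D497
theorem N267 : nd 267 = n498 := ndS (p := 173) (l := 6) rfl N173 D498
theorem N268 : nd 268 = n502 := ndS (p := 174) (l := 1) rfl N174 D502
theorem N269 : nd 269 = n503 := ndS (p := 174) (l := 3) rfl N174 D503
theorem N270 : nd 270 = n504 := ndS (p := 174) (l := 5) rfl N174 D504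
theorem N271 : nd 271 = n505 := ndS (p := 174) (l := 6) rfl N174 D505
theorem N272 : nd 272 = n506 := ndS (p := 175) (l := 6) rfl N175 D506
theorem N273 : nd 273 = n507 := ndS (p := 176) (l := 5) rfl N176 D507
theorem N274 : nd 274 = n508 := ndS (p := 177) (l := 1) rfl N177 D508
theorem N275 : nd 275 = n509 := ndS (p := 178) (l := 1) rfl N178 D509
theorem N276 : nd 276 = n510 := ndS (p := 179) (l := 0) rfl N179 D510
theorem N277 : nd 277 = n511 := ndS (p := 179) (l := 2) rfl N179 D511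
theorem N278 : nd 278 = n514 := ndS (p := 180) (l := 2) rfl N180 D514
theorem N279 : nd 279 = n515 := ndS (p := 180) (l := 6) rfl N180 D515
theorem N280 : nd 280 = n516 := ndS (p := 181) (l := 0) rfl N181 D516
theorem N281 : nd 281 = n517 := ndS (p := 181) (l := 5) rfl N181 D517
theorem N282 : nd 282 = n518 := ndS (p := 181) (l := 6) rfl N181 D518
theorem N283 : nd 283 = n554 := ndS (p := 182) (l := 1) rfl N182 D554
theorem N284 : nd 284 = n555 := ndS (p := 182) (l := 3) rfl N182 D555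
theorem N285 : nd 285 = n556 := ndS (p := 182) (l := 5) rfl N182 D556
theorem N286 : nd 286 = n557 := ndS (p := 182) (l := 6) rfl N182 D557
theorem N287 : nd 287 = n558 := ndS (p := 183) (l := 1) rfl N183 D558
theorem N288 : nd 288 = n560 := ndS (p := 185) (l := 0) rfl N185 D560
theorem N289 : nd 289 = n561 := ndS (p := 185) (l := 2) rfl N185 D561
theorem N290 : nd 290 = n562 := ndS (p := 185) (l := 6) rfl N185 D562
theorem N291 : nd 291 = n566 := ndS (p := 186) (l := 1) rfl N186 D566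
theorem N292 : nd 292 = n567 := ndS (p := 186) (l := 2) rfl N186 D567
theorem N293 : nd 293 = n569 := ndS (p := 187) (l := 3) rfl N187 D569
theorem N294 : nd 294 = n570 := ndS (p := 187) (l := 6) rfl N187 D570
theorem N295 : nd 295 = n578 := ndS (p := 189) (l := 0) rfl N189 D578
theorem N296 : nd 296 = n579 := ndS (p := 189) (l := 3) rfl N189 D579
theorem N297 : nd 297 = n580 := ndS (p := 189) (l := 5) rfl N189 D580
theorem N298 : nd 298 = n581 := ndS (p := 189) (l := 6) rfl N189 D581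
theorem N299 : nd 299 = n582 := ndS (p := 190) (l := 4) rfl N190 D582
theorem N300 : nd 300 = n583 := ndS (p := 190) (l := 5) rfl N190 D583
theorem N301 : nd 301 = n584 := ndS (p := 190) (l := 6) rfl N190 D584
theorem N302 : nd 302 = n585 := ndS (p := 191) (l := 1) rfl N191 D585
theorem N303 : nd 303 = n586 := ndS (p := 191) (l := 6) rfl N191 D586
theorem N304 : nd 304 = n587 := ndS (p := 192) (l := 1) rfl N192 D587
theorem N305 : nd 305 = n588 := ndS (p := 192) (l := 5) rfl N192 D588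
theorem N306 : nd 306 = n590 := ndS (p := 193) (l := 2) rfl N193 D590
theorem N307 : nd 307 = n592 := ndS (p := 194) (l := 1) rfl N194 D592
theorem N308 : nd 308 = n593 := ndS (p := 195) (l := 1) rfl N195 D593
theorem N309 : nd 309 = n599 := ndS (p := 196) (l := 0) rfl N196 D599
theorem N310 : nd 310 = n600 := ndS (p := 196) (l := 2) rfl N196 D600
theorem N311 : nd 311 = n601 := ndS (p := 196) (l := 5) rfl N196 D601
theorem N312 : nd 312 = n603 := ndS (p := 197) (l := 2) rfl N197 D603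
theorem N313 : nd 313 = n604 := ndS (p := 197) (l := 6) rfl N197 D604
theorem N314 : nd 314 = n619 := ndS (p := 198) (l := 2) rfl N198 D619
theorem N315 : nd 315 = n621 := ndS (p := 199) (l := 3) rfl N199 D621
theorem N316 : nd 316 = n622 := ndS (p := 199) (l := 5) rfl N199 D622
theorem N317 : nd 317 = n627 := ndS (p := 201) (l := 3) rfl N201 D627
theorem N318 : nd 318 = n628 := ndS (p := 201) (l := 6) rfl N201 D628
theorem N319 : nd 319 = n629 := ndS (p := 203) (l := 1) rfl N203 D629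
theorem N320 : nd 320 = n630 := ndS (p := 203) (l := 5) rfl N203 D630
theorem N321 : nd 321 = n631 := ndS (p := 203) (l := 6) rfl N203 D631
theorem N322 : nd 322 = n632 := ndS (p := 204) (l := 1) rfl N204 D632
theorem N323 : nd 323 = n633 := ndS (p := 204) (l := 6) rfl N204 D633
theorem N324 : nd 324 = n634 := ndS (p := 205) (l := 5) rfl N205 D634
theorem N325 : nd 325 = n635 := ndS (p := 206) (l := 0) rfl N206 D635
theorem N326 : nd 326 = n636 := ndS (p := 206) (l := 2) rfl N206 D636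
theorem N327 : nd 327 = n637 := ndS (p := 206) (l := 6) rfl N206 D637
theorem N328 : nd 328 = n727 := ndS (p := 208) (l := 2) rfl N208 D727
theorem N329 : nd 329 = n728 := ndS (p := 208) (l := 5) rfl N208 D728
theorem N330 : nd 330 = n730 := ndS (p := 209) (l := 1) rfl N209 D730
theorem N331 : nd 331 = n743 := ndS (p := 211) (l := 1) rfl N211 D743
theorem N332 : nd 332 = n744 := ndS (p := 211) (l := 5) rfl N211 D744
theorem N333 : nd 333 = n745 := ndS (p := 212) (l := 1) rfl N212 D745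
theorem N334 : nd 334 = n746 := ndS (p := 213) (l := 0) rfl N213 D746
theorem N335 : nd 335 = n747 := ndS (p := 213) (l := 6) rfl N213 D747
theorem N336 : nd 336 = n777 := ndS (p := 216) (l := 1) rfl N216 D777
theorem N337 : nd 337 = n778 := ndS (p := 216) (l := 3) rfl N216 D778
theorem N338 : nd 338 = n779 := ndS (p := 216) (l := 5) rfl N216 D779
theorem N339 : nd 339 = n781 := ndS (p := 217) (l := 6) rfl N217 D781
theorem N340 : nd 340 = n783 := ndS (p := 218) (l := 1) rfl N218 D783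
theorem N341 : nd 341 = n791 := ndS (p := 220) (l := 0) rfl N220 D791
theorem N342 : nd 342 = n792 := ndS (p := 220) (l := 5) rfl N220 D792
theorem N343 : nd 343 = n793 := ndS (p := 220) (l := 6) rfl N220 D793
theorem N344 : nd 344 = n848 := ndS (p := 221) (l := 3) rfl N221 D848
theorem N345 : nd 345 = n849 := ndS (p := 221) (l := 5) rfl N221 D849
theorem N346 : nd 346 = n850 := ndS (p := 221) (l := 6) rfl N221 D850
theorem N347 : nd 347 = n853 := ndS (p := 223) (l := 1) rfl N223 D853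
theorem N348 : nd 348 = n860 := ndS (p := 224) (l := 2) rfl N224 D860
theorem N349 : nd 349 = n861 := ndS (p := 224) (l := 5) rfl N224 D861
theorem N350 : nd 350 = n862 := ndS (p := 224) (l := 6) rfl N224 D862
theorem N351 : nd 351 = n863 := ndS (p := 225) (l := 1) rfl N225 D863
theorem N352 : nd 352 = n864 := ndS (p := 226) (l := 1) rfl N226 D864
theorem N353 : nd 353 = n871 := ndS (p := 229) (l := 2) rfl N229 D871
theorem N354 : nd 354 = n872 := ndS (p := 229) (l := 5) rfl N229 D872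
theorem N355 : nd 355 = n873 := ndS (p := 229) (l := 6) rfl N229 D873
theorem N356 : nd 356 = n874 := ndS (p := 230) (l := 1) rfl N230 D874
theorem N357 : nd 357 = n875 := ndS (p := 230) (l := 6) rfl N230 D875
theorem N358 : nd 358 = n877 := ndS (p := 231) (l := 5) rfl N231 D877
theorem N359 : nd 359 = n885 := ndS (p := 235) (l := 1) rfl N235 D885
theorem N360 : nd 360 = n886 := ndS (p := 235) (l := 3) rfl N235 D886
theorem N361 : nd 361 = n887 := ndS (p := 235) (l := 5) rfl N235 D887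
theorem N362 : nd 362 = n888 := ndS (p := 235) (l := 6) rfl N235 D888
theorem N363 : nd 363 = n889 := ndS (p := 236) (l := 1) rfl N236 D889
theorem N364 : nd 364 = n890 := ndS (p := 236) (l := 6) rfl N236 D890
theorem N365 : nd 365 = n892 := ndS (p := 237) (l := 5) rfl N237 D892
theorem N366 : nd 366 = n893 := ndS (p := 238) (l := 0) rfl N238 D893
theorem N367 : nd 367 = n916 := ndS (p := 242) (l := 2) rfl N242 D916
theorem N368 : nd 368 = n922 := ndS (p := 243) (l := 1) rfl N243 D922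
theorem N369 : nd 369 = n923 := ndS (p := 243) (l := 3) rfl N243 D923
theorem N370 : nd 370 = n924 := ndS (p := 243) (l := 5) rfl N243 D924
theorem N371 : nd 371 = n925 := ndS (p := 244) (l := 1) rfl N244 D925
theorem N372 : nd 372 = n927 := ndS (p := 245) (l := 2) rfl N245 D927
theorem N373 : nd 373 = n935 := ndS (p := 247) (l := 0) rfl N247 D935
theorem N374 : nd 374 = n936 := ndS (p := 247) (l := 5) rfl N247 D936
theorem N375 : nd 375 = n937 := ndS (p := 247) (l := 6) rfl N247 D937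
theorem N376 : nd 376 = n938 := ndS (p := 248) (l := 1) rfl N248 D938
theorem N377 : nd 377 = n939 := ndS (p := 249) (l := 1) rfl N249 D939
theorem N378 : nd 378 = n940 := ndS (p := 249) (l := 5) rfl N249 D940
theorem N379 : nd 379 = n941 := ndS (p := 250) (l := 0) rfl N250 D941
theorem N380 : nd 380 = n942 := ndS (p := 250) (l := 2) rfl N250 D942
theorem N381 : nd 381 = n943 := ndS (p := 250) (l := 6) rfl N250 D943
theorem N382 : nd 382 = n947 := ndS (p := 251) (l := 1) rfl N251 D947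
theorem N383 : nd 383 = n948 := ndS (p := 252) (l := 1) rfl N252 D948
theorem N384 : nd 384 = n950 := ndS (p := 253) (l := 5) rfl N253 D950
theorem N385 : nd 385 = n955 := ndS (p := 254) (l := 0) rfl N254 D955
theorem N386 : nd 386 = n956 := ndS (p := 254) (l := 2) rfl N254 D956
theorem N387 : nd 387 = n972 := ndS (p := 257) (l := 2) rfl N257 D972
theorem N388 : nd 388 = n974 := ndS (p := 258) (l := 3) rfl N258 D974
theorem N389 : nd 389 = n1008 := ndS (p := 261) (l := 1) rfl N261 D1008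
theorem N390 : nd 390 = n1009 := ndS (p := 261) (l := 3) rfl N261 D1009
theorem N391 : nd 391 = n1010 := ndS (p := 261) (l := 5) rfl N261 D1010
theorem N392 : nd 392 = n1011 := ndS (p := 261) (l := 6) rfl N261 D1011
theorem N393 : nd 393 = n1012 := ndS (p := 262) (l := 1) rfl N262 D1012
theorem N394 : nd 394 = n1014 := ndS (p := 264) (l := 0) rfl N264 D1014
theorem N395 : nd 395 = n1015 := ndS (p := 264) (l := 2) rfl N264 D1015
theorem N396 : nd 396 = n1016 := ndS (p := 264) (l := 6) rfl N264 D1016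
theorem N397 : nd 397 = n1029 := ndS (p := 268) (l := 0) rfl N268 D1029
theorem N398 : nd 398 = n1030 := ndS (p := 268) (l := 3) rfl N268 D1030
theorem N399 : nd 399 = n1031 := ndS (p := 268) (l := 5) rfl N268 D1031
theorem N400 : nd 400 = n1032 := ndS (p := 268) (l := 6) rfl N268 D1032
theorem N401 : nd 401 = n1033 := ndS (p := 269) (l := 2) rfl N269 D1033
theorem N402 : nd 402 = n1034 := ndS (p := 269) (l := 4) rfl N269 D1034
theorem N403 : nd 403 = n1035 := ndS (p := 269) (l := 5) rfl N269 D1035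
theorem N404 : nd 404 = n1036 := ndS (p := 269) (l := 6) rfl N269 D1036
theorem N405 : nd 405 = n1037 := ndS (p := 270) (l := 1) rfl N270 D1037
theorem N406 : nd 406 = n1038 := ndS (p := 270) (l := 6) rfl N270 D1038
theorem N407 : nd 407 = n1039 := ndS (p := 271) (l := 1) rfl N271 D1039
theorem N408 : nd 408 = n1040 := ndS (p := 271) (l := 5) rfl N271 D1040
theorem N409 : nd 409 = n1041 := ndS (p := 272) (l := 1) rfl N272 D1041
theorem N410 : nd 410 = n1042 := ndS (p := 273) (l := 1) rfl N273 D1042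
theorem N411 : nd 411 = n1043 := ndS (p := 274) (l := 0) rfl N274 D1043
theorem N412 : nd 412 = n1044 := ndS (p := 274) (l := 2) rfl N274 D1044
theorem N413 : nd 413 = n1047 := ndS (p := 275) (l := 2) rfl N275 D1047
theorem N414 : nd 414 = n1048 := ndS (p := 275) (l := 6) rfl N275 D1048
theorem N415 : nd 415 = n1058 := ndS (p := 278) (l := 3) rfl N278 D1058
theorem N416 : nd 416 = n1059 := ndS (p := 278) (l := 6) rfl N278 D1059
theorem N417 : nd 417 = n1060 := ndS (p := 280) (l := 1) rfl N280 D1060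
theorem N418 : nd 418 = n1061 := ndS (p := 280) (l := 5) rfl N280 D1061
theorem N419 : nd 419 = n1062 := ndS (p := 280) (l := 6) rfl N280 D1062
theorem N420 : nd 420 = n1063 := ndS (p := 281) (l := 6) rfl N281 D1063
theorem N421 : nd 421 = n1064 := ndS (p := 282) (l := 5) rfl N282 D1064
theorem N422 : nd 422 = n1136 := ndS (p := 283) (l := 0) rfl N283 D1136
theorem N423 : nd 423 = n1137 := ndS (p := 283) (l := 3) rfl N283 D1137
theorem N424 : nd 424 = n1138 := ndS (p := 283) (l := 5) rfl N283 D1138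
theorem N425 : nd 425 = n1139 := ndS (p := 283) (l := 6) rfl N283 D1139
theorem N426 : nd 426 = n1140 := ndS (p := 284) (l := 4) rfl N284 D1140
theorem N427 : nd 427 = n1141 := ndS (p := 284) (l := 5) rfl N284 D1141
theorem N428 : nd 428 = n1142 := ndS (p := 284) (l := 6) rfl N284 D1142
theorem N429 : nd 429 = n1143 := ndS (p := 285) (l := 1) rfl N285 D1143
theorem N430 : nd 430 = n1144 := ndS (p := 286) (l := 1) rfl N286 D1144
theorem N431 : nd 431 = n1145 := ndS (p := 287) (l := 0) rfl N287 D1145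
theorem N432 : nd 432 = n1146 := ndS (p := 287) (l := 2) rfl N287 D1146
theorem N433 : nd 433 = n1147 := ndS (p := 287) (l := 6) rfl N287 D1147
theorem N434 : nd 434 = n1151 := ndS (p := 288) (l := 1) rfl N288 D1151
theorem N435 : nd 435 = n1152 := ndS (p := 288) (l := 2) rfl N288 D1152
theorem N436 : nd 436 = n1155 := ndS (p := 289) (l := 6) rfl N289 D1155
theorem N437 : nd 437 = n1167 := ndS (p := 292) (l := 3) rfl N292 D1167
theorem N438 : nd 438 = n1170 := ndS (p := 293) (l := 6) rfl N293 D1170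
theorem N439 : nd 439 = n1171 := ndS (p := 294) (l := 1) rfl N294 D1171
theorem N440 : nd 440 = n1178 := ndS (p := 295) (l := 1) rfl N295 D1178
theorem N441 : nd 441 = n1179 := ndS (p := 295) (l := 3) rfl N295 D1179
theorem N442 : nd 442 = n1180 := ndS (p := 295) (l := 5) rfl N295 D1180
theorem N443 : nd 443 = n1181 := ndS (p := 295) (l := 6) rfl N295 D1181
theorem N444 : nd 444 = n1182 := ndS (p := 296) (l := 2) rfl N296 D1182
theorem N445 : nd 445 = n1183 := ndS (p := 296) (l := 4) rfl N296 D1183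
theorem N446 : nd 446 = n1184 := ndS (p := 296) (l := 5) rfl N296 D1184
theorem N447 : nd 447 = n1185 := ndS (p := 296) (l := 6) rfl N296 D1185
theorem N448 : nd 448 = n1186 := ndS (p := 297) (l := 1) rfl N297 D1186
theorem N449 : nd 449 = n1187 := ndS (p := 297) (l := 6) rfl N297 D1187
theorem N450 : nd 450 = n1188 := ndS (p := 298) (l := 1) rfl N298 D1188
theorem N451 : nd 451 = n1189 := ndS (p := 298) (l := 5) rfl N298 D1189
theorem N452 : nd 452 = n1190 := ndS (p := 299) (l := 5) rfl N299 D1190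
theorem N453 : nd 453 = n1191 := ndS (p := 299) (l := 6) rfl N299 D1191
theorem N454 : nd 454 = n1192 := ndS (p := 300) (l := 1) rfl N300 D1192
theorem N455 : nd 455 = n1193 := ndS (p := 300) (l := 6) rfl N300 D1193
theorem N456 : nd 456 = n1194 := ndS (p := 301) (l := 1) rfl N301 D1194
theorem N457 : nd 457 = n1195 := ndS (p := 301) (l := 5) rfl N301 D1195
theorem N458 : nd 458 = n1196 := ndS (p := 302) (l := 0) rfl N302 D1196
theorem N459 : nd 459 = n1197 := ndS (p := 302) (l := 2) rfl N302 D1197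
theorem N460 : nd 460 = n1198 := ndS (p := 302) (l := 6) rfl N302 D1198
theorem N461 : nd 461 = n1199 := ndS (p := 303) (l := 1) rfl N303 D1199
theorem N462 : nd 462 = n1208 := ndS (p := 307) (l := 0) rfl N307 D1208
theorem N463 : nd 463 = n1209 := ndS (p := 307) (l := 2) rfl N307 D1209
theorem N464 : nd 464 = n1210 := ndS (p := 307) (l := 5) rfl N307 D1210
theorem N465 : nd 465 = n1212 := ndS (p := 308) (l := 2) rfl N308 D1212
theorem N466 : nd 466 = n1213 := ndS (p := 308) (l := 6) rfl N308 D1213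
theorem N467 : nd 467 = n1228 := ndS (p := 309) (l := 2) rfl N309 D1228
theorem N468 : nd 468 = n1231 := ndS (p := 310) (l := 5) rfl N310 D1231
theorem N469 : nd 469 = n1236 := ndS (p := 312) (l := 6) rfl N312 D1236
theorem N470 : nd 470 = n1260 := ndS (p := 314) (l := 3) rfl N314 D1260
theorem N471 : nd 471 = n1264 := ndS (p := 315) (l := 5) rfl N315 D1264
theorem N472 : nd 472 = n1269 := ndS (p := 317) (l := 2) rfl N317 D1269
theorem N473 : nd 473 = n1271 := ndS (p := 317) (l := 6) rfl N317 D1271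
theorem N474 : nd 474 = n1272 := ndS (p := 318) (l := 1) rfl N318 D1272
theorem N475 : nd 475 = n1274 := ndS (p := 319) (l := 2) rfl N319 D1274
theorem N476 : nd 476 = n1275 := ndS (p := 319) (l := 5) rfl N319 D1275
theorem N477 : nd 477 = n1277 := ndS (p := 320) (l := 1) rfl N320 D1277
theorem N478 : nd 478 = n1278 := ndS (p := 321) (l := 1) rfl N321 D1278
theorem N479 : nd 479 = n1279 := ndS (p := 322) (l := 0) rfl N322 D1279
theorem N480 : nd 480 = n1280 := ndS (p := 322) (l := 2) rfl N322 D1280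
theorem N481 : nd 481 = n1282 := ndS (p := 323) (l := 1) rfl N323 D1282
theorem N482 : nd 482 = n1284 := ndS (p := 325) (l := 1) rfl N325 D1284
theorem N483 : nd 483 = n1285 := ndS (p := 325) (l := 2) rfl N325 D1285
theorem N484 : nd 484 = n1288 := ndS (p := 326) (l := 6) rfl N326 D1288
theorem N485 : nd 485 = n1289 := ndS (p := 327) (l := 5) rfl N327 D1289
theorem N486 : nd 486 = n1452 := ndS (p := 328) (l := 1) rfl N328 D1452
theorem N487 : nd 487 = n1453 := ndS (p := 328) (l := 3) rfl N328 D1453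
theorem N488 : nd 488 = n1454 := ndS (p := 328) (l := 5) rfl N328 D1454
theorem N489 : nd 489 = n1456 := ndS (p := 329) (l := 1) rfl N329 D1456
theorem N490 : nd 490 = n1484 := ndS (p := 331) (l := 0) rfl N331 D1484
theorem N491 : nd 491 = n1485 := ndS (p := 331) (l := 5) rfl N331 D1485
theorem N492 : nd 492 = n1486 := ndS (p := 331) (l := 6) rfl N331 D1486
theorem N493 : nd 493 = n1487 := ndS (p := 332) (l := 1) rfl N332 D1487
theorem N494 : nd 494 = n1488 := ndS (p := 333) (l := 0) rfl N333 D1488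
theorem N495 : nd 495 = n1489 := ndS (p := 333) (l := 2) rfl N333 D1489
theorem N496 : nd 496 = n1490 := ndS (p := 333) (l := 6) rfl N333 D1490
theorem N497 : nd 497 = n1524 := ndS (p := 336) (l := 0) rfl N336 D1524
theorem N498 : nd 498 = n1525 := ndS (p := 336) (l := 3) rfl N336 D1525
theorem N499 : nd 499 = n1526 := ndS (p := 336) (l := 5) rfl N336 D1526
theorem N500 : nd 500 = n1527 := ndS (p := 336) (l := 6) rfl N336 D1527
theorem N501 : nd 501 = n1528 := ndS (p := 337) (l := 2) rfl N337 D1528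
theorem N502 : nd 502 = n1530 := ndS (p := 337) (l := 5) rfl N337 D1530
theorem N503 : nd 503 = n1532 := ndS (p := 338) (l := 1) rfl N338 D1532
theorem N504 : nd 504 = n1533 := ndS (p := 338) (l := 6) rfl N338 D1533
theorem N505 : nd 505 = n1536 := ndS (p := 339) (l := 1) rfl N339 D1536
theorem N506 : nd 506 = n1550 := ndS (p := 341) (l := 1) rfl N341 D1550
theorem N507 : nd 507 = n1551 := ndS (p := 341) (l := 5) rfl N341 D1551
theorem N508 : nd 508 = n1553 := ndS (p := 342) (l := 6) rfl N342 D1553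
theorem N509 : nd 509 = n1554 := ndS (p := 343) (l := 5) rfl N343 D1554
theorem N510 : nd 510 = n1669 := ndS (p := 344) (l := 2) rfl N344 D1669
theorem N511 : nd 511 = n1670 := ndS (p := 344) (l := 5) rfl N344 D1670
theorem N512 : nd 512 = n1671 := ndS (p := 344) (l := 6) rfl N344 D1671
theorem N513 : nd 513 = n1674 := ndS (p := 346) (l := 1) rfl N346 D1674
theorem N514 : nd 514 = n1692 := ndS (p := 348) (l := 1) rfl N348 D1692
theorem N515 : nd 515 = n1693 := ndS (p := 348) (l := 5) rfl N348 D1693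
theorem N516 : nd 516 = n1694 := ndS (p := 348) (l := 6) rfl N348 D1694
theorem N517 : nd 517 = n1695 := ndS (p := 349) (l := 1) rfl N349 D1695
theorem N518 : nd 518 = n1696 := ndS (p := 350) (l := 1) rfl N350 D1696
theorem N519 : nd 519 = n1711 := ndS (p := 353) (l := 1) rfl N353 D1711
theorem N520 : nd 520 = n1712 := ndS (p := 353) (l := 3) rfl N353 D1712
theorem N521 : nd 521 = n1713 := ndS (p := 353) (l := 5) rfl N353 D1713
theorem N522 : nd 522 = n1714 := ndS (p := 353) (l := 6) rfl N353 D1714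
theorem N523 : nd 523 = n1715 := ndS (p := 354) (l := 1) rfl N354 D1715
theorem N524 : nd 524 = n1716 := ndS (p := 354) (l := 6) rfl N354 D1716
theorem N525 : nd 525 = n1718 := ndS (p := 355) (l := 5) rfl N355 D1718
theorem N526 : nd 526 = n1739 := ndS (p := 359) (l := 0) rfl N359 D1739
theorem N527 : nd 527 = n1740 := ndS (p := 359) (l := 3) rfl N359 D1740
theorem N528 : nd 528 = n1741 := ndS (p := 359) (l := 5) rfl N359 D1741
theorem N529 : nd 529 = n1742 := ndS (p := 359) (l := 6) rfl N359 D1742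
theorem N530 : nd 530 = n1743 := ndS (p := 360) (l := 4) rfl N360 D1743
theorem N531 : nd 531 = n1744 := ndS (p := 360) (l := 5) rfl N360 D1744
theorem N532 : nd 532 = n1745 := ndS (p := 360) (l := 6) rfl N360 D1745
theorem N533 : nd 533 = n1746 := ndS (p := 361) (l := 1) rfl N361 D1746
theorem N534 : nd 534 = n1747 := ndS (p := 361) (l := 6) rfl N361 D1747
theorem N535 : nd 535 = n1748 := ndS (p := 362) (l := 1) rfl N362 D1748
theorem N536 : nd 536 = n1749 := ndS (p := 362) (l := 5) rfl N362 D1749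
theorem N537 : nd 537 = n1750 := ndS (p := 363) (l := 0) rfl N363 D1750
theorem N538 : nd 538 = n1751 := ndS (p := 363) (l := 2) rfl N363 D1751
theorem N539 : nd 539 = n1809 := ndS (p := 367) (l := 1) rfl N367 D1809
theorem N540 : nd 540 = n1822 := ndS (p := 368) (l := 0) rfl N368 D1822
theorem N541 : nd 541 = n1823 := ndS (p := 368) (l := 3) rfl N368 D1823
theorem N542 : nd 542 = n1824 := ndS (p := 368) (l := 5) rfl N368 D1824
theorem N543 : nd 543 = n1825 := ndS (p := 368) (l := 6) rfl N368 D1825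
theorem N544 : nd 544 = n1826 := ndS (p := 369) (l := 5) rfl N369 D1826
theorem N545 : nd 545 = n1827 := ndS (p := 370) (l := 1) rfl N370 D1827
theorem N546 : nd 546 = n1829 := ndS (p := 371) (l := 2) rfl N371 D1829
theorem N547 : nd 547 = n1834 := ndS (p := 372) (l := 3) rfl N372 D1834
theorem N548 : nd 548 = n1851 := ndS (p := 373) (l := 1) rfl N373 D1851
theorem N549 : nd 549 = n1852 := ndS (p := 373) (l := 5) rfl N373 D1852
theorem N550 : nd 550 = n1853 := ndS (p := 373) (l := 6) rfl N373 D1853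
theorem N551 : nd 551 = n1854 := ndS (p := 374) (l := 1) rfl N374 D1854
theorem N552 : nd 552 = n1855 := ndS (p := 374) (l := 6) rfl N374 D1855
theorem N553 : nd 553 = n1856 := ndS (p := 375) (l := 1) rfl N375 D1856
theorem N554 : nd 554 = n1857 := ndS (p := 375) (l := 5) rfl N375 D1857
theorem N555 : nd 555 = n1858 := ndS (p := 376) (l := 0) rfl N376 D1858
theorem N556 : nd 556 = n1859 := ndS (p := 376) (l := 2) rfl N376 D1859
theorem N557 : nd 557 = n1860 := ndS (p := 376) (l := 6) rfl N376 D1860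
theorem N558 : nd 558 = n1861 := ndS (p := 377) (l := 0) rfl N377 D1861
theorem N559 : nd 559 = n1863 := ndS (p := 377) (l := 5) rfl N377 D1863
theorem N560 : nd 560 = n1864 := ndS (p := 378) (l := 1) rfl N378 D1864
theorem N561 : nd 561 = n1865 := ndS (p := 379) (l := 1) rfl N379 D1865
theorem N562 : nd 562 = n1866 := ndS (p := 379) (l := 2) rfl N379 D1866
theorem N563 : nd 563 = n1868 := ndS (p := 380) (l := 3) rfl N380 D1868
theorem N564 : nd 564 = n1869 := ndS (p := 380) (l := 6) rfl N380 D1869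
theorem N565 : nd 565 = n1870 := ndS (p := 381) (l := 5) rfl N381 D1870
theorem N566 : nd 566 = n1878 := ndS (p := 382) (l := 0) rfl N382 D1878
theorem N567 : nd 567 = n1879 := ndS (p := 382) (l := 2) rfl N382 D1879
theorem N568 : nd 568 = n1895 := ndS (p := 385) (l := 2) rfl N385 D1895
theorem N569 : nd 569 = n1934 := ndS (p := 387) (l := 3) rfl N387 D1934
theorem N570 : nd 570 = n1990 := ndS (p := 389) (l := 0) rfl N389 D1990
theorem N571 : nd 571 = n1991 := ndS (p := 389) (l := 3) rfl N389 D1991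
theorem N572 : nd 572 = n1992 := ndS (p := 389) (l := 5) rfl N389 D1992
theorem N573 : nd 573 = n1993 := ndS (p := 389) (l := 6) rfl N389 D1993
theorem N574 : nd 574 = n1994 := ndS (p := 390) (l := 4) rfl N390 D1994
theorem N575 : nd 575 = n1995 := ndS (p := 390) (l := 5) rfl N390 D1995
theorem N576 : nd 576 = n1996 := ndS (p := 390) (l := 6) rfl N390 D1996
theorem N577 : nd 577 = n1997 := ndS (p := 391) (l := 1) rfl N391 D1997
theorem N578 : nd 578 = n1998 := ndS (p := 392) (l := 1) rfl N392 D1998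
theorem N579 : nd 579 = n1999 := ndS (p := 393) (l := 0) rfl N393 D1999
theorem N580 : nd 580 = n2000 := ndS (p := 393) (l := 2) rfl N393 D2000
theorem N581 : nd 581 = n2001 := ndS (p := 393) (l := 6) rfl N393 D2001
theorem N582 : nd 582 = n2007 := ndS (p := 395) (l := 3) rfl N395 D2007
theorem N583 : nd 583 = n2020 := ndS (p := 397) (l := 1) rfl N397 D2020
theorem N584 : nd 584 = n2021 := ndS (p := 397) (l := 3) rfl N397 D2021
theorem N585 : nd 585 = n2022 := ndS (p := 397) (l := 5) rfl N397 D2022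
theorem N586 : nd 586 = n2023 := ndS (p := 397) (l := 6) rfl N397 D2023
theorem N587 : nd 587 = n2024 := ndS (p := 398) (l := 2) rfl N398 D2024
theorem N588 : nd 588 = n2025 := ndS (p := 398) (l := 4) rfl N398 D2025
theorem N589 : nd 589 = n2026 := ndS (p := 398) (l := 5) rfl N398 D2026
theorem N590 : nd 590 = n2027 := ndS (p := 398) (l := 6) rfl N398 D2027
theorem N591 : nd 591 = n2028 := ndS (p := 399) (l := 1) rfl N399 D2028
theorem N592 : nd 592 = n2029 := ndS (p := 399) (l := 6) rfl N399 D2029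
theorem N593 : nd 593 = n2030 := ndS (p := 400) (l := 1) rfl N400 D2030
theorem N594 : nd 594 = n2031 := ndS (p := 400) (l := 5) rfl N400 D2031
theorem N595 : nd 595 = n2032 := ndS (p := 401) (l := 1) rfl N401 D2032
theorem N596 : nd 596 = n2033 := ndS (p := 401) (l := 4) rfl N401 D2033
theorem N597 : nd 597 = n2034 := ndS (p := 401) (l := 5) rfl N401 D2034
theorem N598 : nd 598 = n2035 := ndS (p := 401) (l := 6) rfl N401 D2035
theorem N599 : nd 599 = n2036 := ndS (p := 402) (l := 5) rfl N402 D2036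
theorem N600 : nd 600 = n2037 := ndS (p := 402) (l := 6) rfl N402 D2037
theorem N601 : nd 601 = n2038 := ndS (p := 403) (l := 1) rfl N403 D2038
theorem N602 : nd 602 = n2039 := ndS (p := 403) (l := 6) rfl N403 D2039
theorem N603 : nd 603 = n2040 := ndS (p := 404) (l := 1) rfl N404 D2040
theorem N604 : nd 604 = n2041 := ndS (p := 404) (l := 5) rfl N404 D2041
theorem N605 : nd 605 = n2042 := ndS (p := 405) (l := 0) rfl N405 D2042
theorem N606 : nd 606 = n2043 := ndS (p := 405) (l := 6) rfl N405 D2043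
theorem N607 : nd 607 = n2044 := ndS (p := 406) (l := 1) rfl N406 D2044
theorem N608 : nd 608 = n2048 := ndS (p := 409) (l := 0) rfl N409 D2048
theorem N609 : nd 609 = n2049 := ndS (p := 409) (l := 2) rfl N409 D2049
theorem N610 : nd 610 = n2050 := ndS (p := 409) (l := 5) rfl N409 D2050
theorem N611 : nd 611 = n2052 := ndS (p := 410) (l := 2) rfl N410 D2052
theorem N612 : nd 612 = n2053 := ndS (p := 410) (l := 6) rfl N410 D2053
theorem N613 : nd 613 = n2063 := ndS (p := 413) (l := 6) rfl N413 D2063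
theorem N614 : nd 614 = n2076 := ndS (p := 415) (l := 2) rfl N415 D2076
theorem N615 : nd 615 = n2078 := ndS (p := 415) (l := 6) rfl N415 D2078
theorem N616 : nd 616 = n2080 := ndS (p := 417) (l := 2) rfl N417 D2080
theorem N617 : nd 617 = n2083 := ndS (p := 418) (l := 1) rfl N418 D2083
theorem N618 : nd 618 = n2084 := ndS (p := 419) (l := 1) rfl N419 D2084
theorem N619 : nd 619 = n2085 := ndS (p := 420) (l := 1) rfl N420 D2085
theorem N620 : nd 620 = n2104 := ndS (p := 422) (l := 1) rfl N422 D2104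
theorem N621 : nd 621 = n2105 := ndS (p := 422) (l := 3) rfl N422 D2105
theorem N622 : nd 622 = n2106 := ndS (p := 422) (l := 5) rfl N422 D2106
theorem N623 : nd 623 = n2107 := ndS (p := 422) (l := 6) rfl N422 D2107
theorem N624 : nd 624 = n2108 := ndS (p := 423) (l := 2) rfl N423 D2108
theorem N625 : nd 625 = n2109 := ndS (p := 423) (l := 4) rfl N423 D2109
theorem N626 : nd 626 = n2110 := ndS (p := 423) (l := 5) rfl N423 D2110
theorem N627 : nd 627 = n2112 := ndS (p := 424) (l := 1) rfl N424 D2112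
theorem N628 : nd 628 = n2113 := ndS (p := 424) (l := 6) rfl N424 D2113
theorem N629 : nd 629 = n2114 := ndS (p := 425) (l := 1) rfl N425 D2114
theorem N630 : nd 630 = n2115 := ndS (p := 425) (l := 5) rfl N425 D2115
theorem N631 : nd 631 = n2116 := ndS (p := 426) (l := 5) rfl N426 D2116
theorem N632 : nd 632 = n2117 := ndS (p := 426) (l := 6) rfl N426 D2117
theorem N633 : nd 633 = n2118 := ndS (p := 427) (l := 1) rfl N427 D2118
theorem N634 : nd 634 = n2119 := ndS (p := 428) (l := 1) rfl N428 D2119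
theorem N635 : nd 635 = n2120 := ndS (p := 429) (l := 0) rfl N429 D2120
theorem N636 : nd 636 = n2121 := ndS (p := 429) (l := 2) rfl N429 D2121
theorem N637 : nd 637 = n2122 := ndS (p := 429) (l := 6) rfl N429 D2122
theorem N638 : nd 638 = n2123 := ndS (p := 430) (l := 0) rfl N430 D2123
theorem N639 : nd 639 = n2124 := ndS (p := 430) (l := 5) rfl N430 D2124
theorem N640 : nd 640 = n2125 := ndS (p := 431) (l := 1) rfl N431 D2125
theorem N641 : nd 641 = n2126 := ndS (p := 431) (l := 2) rfl N431 D2126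
theorem N642 : nd 642 = n2128 := ndS (p := 432) (l := 6) rfl N432 D2128
theorem N643 : nd 643 = n2133 := ndS (p := 436) (l := 1) rfl N436 D2133
theorem N644 : nd 644 = n2136 := ndS (p := 438) (l := 1) rfl N438 D2136
theorem N645 : nd 645 = n2137 := ndS (p := 440) (l := 0) rfl N440 D2137
theorem N646 : nd 646 = n2138 := ndS (p := 440) (l := 2) rfl N440 D2138
theorem N647 : nd 647 = n2139 := ndS (p := 440) (l := 3) rfl N440 D2139
theorem N648 : nd 648 = n2140 := ndS (p := 440) (l := 5) rfl N440 D2140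
theorem N649 : nd 649 = n2141 := ndS (p := 440) (l := 6) rfl N440 D2141
theorem N650 : nd 650 = n2142 := ndS (p := 441) (l := 2) rfl N441 D2142
theorem N651 : nd 651 = n2143 := ndS (p := 441) (l := 4) rfl N441 D2143
theorem N652 : nd 652 = n2144 := ndS (p := 441) (l := 5) rfl N441 D2144
theorem N653 : nd 653 = n2145 := ndS (p := 441) (l := 6) rfl N441 D2145
theorem N654 : nd 654 = n2147 := ndS (p := 443) (l := 1) rfl N443 D2147
theorem N655 : nd 655 = n2149 := ndS (p := 444) (l := 4) rfl N444 D2149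
theorem N656 : nd 656 = n2150 := ndS (p := 444) (l := 5) rfl N444 D2150
theorem N657 : nd 657 = n2152 := ndS (p := 445) (l := 5) rfl N445 D2152
theorem N658 : nd 658 = n2153 := ndS (p := 445) (l := 6) rfl N445 D2153
theorem N659 : nd 659 = n2154 := ndS (p := 446) (l := 1) rfl N446 D2154
theorem N660 : nd 660 = n2155 := ndS (p := 446) (l := 6) rfl N446 D2155
theorem N661 : nd 661 = n2156 := ndS (p := 447) (l := 1) rfl N447 D2156
theorem N662 : nd 662 = n2157 := ndS (p := 447) (l := 5) rfl N447 D2157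
theorem N663 : nd 663 = n2158 := ndS (p := 448) (l := 0) rfl N448 D2158
theorem N664 : nd 664 = n2159 := ndS (p := 448) (l := 2) rfl N448 D2159
theorem N665 : nd 665 = n2160 := ndS (p := 448) (l := 6) rfl N448 D2160
theorem N666 : nd 666 = n2161 := ndS (p := 449) (l := 1) rfl N449 D2161
theorem N667 : nd 667 = n2165 := ndS (p := 452) (l := 1) rfl N452 D2165
theorem N668 : nd 668 = n2166 := ndS (p := 452) (l := 6) rfl N452 D2166
theorem N669 : nd 669 = n2167 := ndS (p := 453) (l := 1) rfl N453 D2167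
theorem N670 : nd 670 = n2168 := ndS (p := 453) (l := 5) rfl N453 D2168
theorem N671 : nd 671 = n2169 := ndS (p := 454) (l := 0) rfl N454 D2169
theorem N672 : nd 672 = n2170 := ndS (p := 454) (l := 2) rfl N454 D2170
theorem N673 : nd 673 = n2171 := ndS (p := 454) (l := 6) rfl N454 D2171
theorem N674 : nd 674 = n2172 := ndS (p := 455) (l := 1) rfl N455 D2172
theorem N675 : nd 675 = n2177 := ndS (p := 458) (l := 1) rfl N458 D2177
theorem N676 : nd 676 = n2178 := ndS (p := 458) (l := 2) rfl N458 D2178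
theorem N677 : nd 677 = n2179 := ndS (p := 458) (l := 6) rfl N458 D2179
theorem N678 : nd 678 = n2180 := ndS (p := 459) (l := 6) rfl N459 D2180
theorem N679 : nd 679 = n2181 := ndS (p := 460) (l := 1) rfl N460 D2181
theorem N680 : nd 680 = n2182 := ndS (p := 460) (l := 5) rfl N460 D2182
theorem N681 : nd 681 = n2183 := ndS (p := 461) (l := 0) rfl N461 D2183
theorem N682 : nd 682 = n2184 := ndS (p := 461) (l := 2) rfl N461 D2184
theorem N683 : nd 683 = n2185 := ndS (p := 461) (l := 5) rfl N461 D2185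
theorem N684 : nd 684 = n2193 := ndS (p := 462) (l := 2) rfl N462 D2193
theorem N685 : nd 685 = n2195 := ndS (p := 463) (l := 5) rfl N463 D2195
theorem N686 : nd 686 = n2197 := ndS (p := 465) (l := 6) rfl N465 D2197
theorem N687 : nd 687 = n2205 := ndS (p := 469) (l := 1) rfl N469 D2205
theorem N688 : nd 688 = n2208 := ndS (p := 472) (l := 1) rfl N472 D2208
theorem N689 : nd 689 = n2210 := ndS (p := 472) (l := 6) rfl N472 D2210
theorem N690 : nd 690 = n2212 := ndS (p := 473) (l := 1) rfl N473 D2212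
theorem N691 : nd 691 = n2217 := ndS (p := 475) (l := 5) rfl N475 D2217
theorem N692 : nd 692 = n2219 := ndS (p := 476) (l := 1) rfl N476 D2219
theorem N693 : nd 693 = n2223 := ndS (p := 477) (l := 0) rfl N477 D2223
theorem N694 : nd 694 = n2224 := ndS (p := 477) (l := 2) rfl N477 D2224
theorem N695 : nd 695 = n2225 := ndS (p := 477) (l := 6) rfl N477 D2225
theorem N696 : nd 696 = n2226 := ndS (p := 478) (l := 0) rfl N478 D2226
theorem N697 : nd 697 = n2227 := ndS (p := 478) (l := 2) rfl N478 D2227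
theorem N698 : nd 698 = n2228 := ndS (p := 478) (l := 5) rfl N478 D2228
theorem N699 : nd 699 = n2229 := ndS (p := 479) (l := 1) rfl N479 D2229
theorem N700 : nd 700 = n2230 := ndS (p := 479) (l := 2) rfl N479 D2230
theorem N701 : nd 701 = n2233 := ndS (p := 481) (l := 0) rfl N481 D2233
theorem N702 : nd 702 = n2234 := ndS (p := 481) (l := 2) rfl N481 D2234
theorem N703 : nd 703 = n2235 := ndS (p := 481) (l := 5) rfl N481 D2235
theorem N704 : nd 704 = n2239 := ndS (p := 482) (l := 0) rfl N482 D2239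
theorem N705 : nd 705 = n2240 := ndS (p := 482) (l := 2) rfl N482 D2240
theorem N706 : nd 706 = n2241 := ndS (p := 482) (l := 5) rfl N482 D2241
theorem N707 : nd 707 = n2243 := ndS (p := 483) (l := 1) rfl N483 D2243
theorem N708 : nd 708 = n2246 := ndS (p := 484) (l := 5) rfl N484 D2246
theorem N709 : nd 709 = n2247 := ndS (p := 485) (l := 1) rfl N485 D2247
theorem N710 : nd 710 = n2249 := ndS (p := 486) (l := 3) rfl N486 D2249
theorem N711 : nd 711 = n2250 := ndS (p := 486) (l := 5) rfl N486 D2250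
theorem N712 : nd 712 = n2252 := ndS (p := 487) (l := 5) rfl N487 D2252
theorem N713 : nd 713 = n2253 := ndS (p := 488) (l := 1) rfl N488 D2253
theorem N714 : nd 714 = n2254 := ndS (p := 489) (l := 2) rfl N489 D2254
theorem N715 : nd 715 = n2256 := ndS (p := 490) (l := 5) rfl N490 D2256
theorem N716 : nd 716 = n2258 := ndS (p := 491) (l := 1) rfl N491 D2258
theorem N717 : nd 717 = n2260 := ndS (p := 492) (l := 5) rfl N492 D2260
theorem N718 : nd 718 = n2261 := ndS (p := 493) (l := 0) rfl N493 D2261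
theorem N719 : nd 719 = n2262 := ndS (p := 493) (l := 2) rfl N493 D2262
theorem N720 : nd 720 = n2263 := ndS (p := 493) (l := 6) rfl N493 D2263
theorem N721 : nd 721 = n2264 := ndS (p := 494) (l := 2) rfl N494 D2264
theorem N722 : nd 722 = n2265 := ndS (p := 495) (l := 3) rfl N495 D2265
theorem N723 : nd 723 = n2266 := ndS (p := 495) (l := 6) rfl N495 D2266
theorem N724 : nd 724 = n2267 := ndS (p := 497) (l := 1) rfl N497 D2267
theorem N725 : nd 725 = n2268 := ndS (p := 497) (l := 3) rfl N497 D2268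
theorem N726 : nd 726 = n2269 := ndS (p := 497) (l := 5) rfl N497 D2269
theorem N727 : nd 727 = n2271 := ndS (p := 498) (l := 2) rfl N498 D2271
theorem N728 : nd 728 = n2272 := ndS (p := 498) (l := 5) rfl N498 D2272
theorem N729 : nd 729 = n2273 := ndS (p := 498) (l := 6) rfl N498 D2273
theorem N730 : nd 730 = n2274 := ndS (p := 499) (l := 1) rfl N499 D2274
theorem N731 : nd 731 = n2275 := ndS (p := 499) (l := 6) rfl N499 D2275
theorem N732 : nd 732 = n2276 := ndS (p := 500) (l := 5) rfl N500 D2276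
theorem N733 : nd 733 = n2277 := ndS (p := 501) (l := 1) rfl N501 D2277
theorem N734 : nd 734 = n2278 := ndS (p := 501) (l := 5) rfl N501 D2278
theorem N735 : nd 735 = n2279 := ndS (p := 502) (l := 1) rfl N502 D2279
theorem N736 : nd 736 = n2280 := ndS (p := 503) (l := 0) rfl N503 D2280
theorem N737 : nd 737 = n2281 := ndS (p := 503) (l := 6) rfl N503 D2281
theorem N738 : nd 738 = n2282 := ndS (p := 504) (l := 1) rfl N504 D2282
theorem N739 : nd 739 = n2283 := ndS (p := 505) (l := 2) rfl N505 D2283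
theorem N740 : nd 740 = n2284 := ndS (p := 506) (l := 0) rfl N506 D2284
theorem N741 : nd 741 = n2285 := ndS (p := 506) (l := 2) rfl N506 D2285
theorem N742 : nd 742 = n2286 := ndS (p := 506) (l := 5) rfl N506 D2286
theorem N743 : nd 743 = n2288 := ndS (p := 507) (l := 1) rfl N507 D2288
theorem N744 : nd 744 = n2290 := ndS (p := 508) (l := 1) rfl N508 D2290
theorem N745 : nd 745 = n2291 := ndS (p := 509) (l := 1) rfl N509 D2291
theorem N746 : nd 746 = n2292 := ndS (p := 510) (l := 1) rfl N510 D2292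
theorem N747 : nd 747 = n2293 := ndS (p := 510) (l := 3) rfl N510 D2293
theorem N748 : nd 748 = n2294 := ndS (p := 510) (l := 5) rfl N510 D2294
theorem N749 : nd 749 = n2295 := ndS (p := 510) (l := 6) rfl N510 D2295
theorem N750 : nd 750 = n2296 := ndS (p := 512) (l := 1) rfl N512 D2296
theorem N751 : nd 751 = n2297 := ndS (p := 514) (l := 0) rfl N514 D2297
theorem N752 : nd 752 = n2298 := ndS (p := 514) (l := 5) rfl N514 D2298
theorem N753 : nd 753 = n2300 := ndS (p := 515) (l := 1) rfl N515 D2300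
theorem N754 : nd 754 = n2302 := ndS (p := 517) (l := 2) rfl N517 D2302
theorem N755 : nd 755 = n2304 := ndS (p := 519) (l := 0) rfl N519 D2304
theorem N756 : nd 756 = n2305 := ndS (p := 519) (l := 3) rfl N519 D2305
theorem N757 : nd 757 = n2306 := ndS (p := 519) (l := 5) rfl N519 D2306
theorem N758 : nd 758 = n2307 := ndS (p := 519) (l := 6) rfl N519 D2307
theorem N759 : nd 759 = n2308 := ndS (p := 520) (l := 4) rfl N520 D2308
theorem N760 : nd 760 = n2309 := ndS (p := 520) (l := 5) rfl N520 D2309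
theorem N761 : nd 761 = n2310 := ndS (p := 520) (l := 6) rfl N520 D2310
theorem N762 : nd 762 = n2311 := ndS (p := 521) (l := 1) rfl N521 D2311
theorem N763 : nd 763 = n2312 := ndS (p := 521) (l := 6) rfl N521 D2312
theorem N764 : nd 764 = n2313 := ndS (p := 522) (l := 1) rfl N522 D2313
theorem N765 : nd 765 = n2314 := ndS (p := 522) (l := 5) rfl N522 D2314
theorem N766 : nd 766 = n2315 := ndS (p := 523) (l := 2) rfl N523 D2315
theorem N767 : nd 767 = n2316 := ndS (p := 526) (l := 1) rfl N526 D2316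
theorem N768 : nd 768 = n2317 := ndS (p := 526) (l := 5) rfl N526 D2317
theorem N769 : nd 769 = n2318 := ndS (p := 526) (l := 6) rfl N526 D2318
theorem N770 : nd 770 = n2320 := ndS (p := 527) (l := 5) rfl N527 D2320
theorem N771 : nd 771 = n2322 := ndS (p := 528) (l := 1) rfl N528 D2322
theorem N772 : nd 772 = n2325 := ndS (p := 529) (l := 5) rfl N529 D2325
theorem N773 : nd 773 = n2326 := ndS (p := 530) (l := 5) rfl N530 D2326
theorem N774 : nd 774 = n2328 := ndS (p := 531) (l := 1) rfl N531 D2328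
theorem N775 : nd 775 = n2329 := ndS (p := 531) (l := 6) rfl N531 D2329
theorem N776 : nd 776 = n2331 := ndS (p := 532) (l := 5) rfl N532 D2331
theorem N777 : nd 777 = n2332 := ndS (p := 533) (l := 0) rfl N533 D2332
theorem N778 : nd 778 = n2333 := ndS (p := 533) (l := 2) rfl N533 D2333
theorem N779 : nd 779 = n2334 := ndS (p := 533) (l := 6) rfl N533 D2334
theorem N780 : nd 780 = n2335 := ndS (p := 534) (l := 1) rfl N534 D2335
theorem N781 : nd 781 = n2337 := ndS (p := 535) (l := 5) rfl N535 D2337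
theorem N782 : nd 782 = n2338 := ndS (p := 536) (l := 1) rfl N536 D2338
theorem N783 : nd 783 = n2339 := ndS (p := 537) (l := 2) rfl N537 D2339
theorem N784 : nd 784 = n2340 := ndS (p := 538) (l := 3) rfl N538 D2340
theorem N785 : nd 785 = n2341 := ndS (p := 539) (l := 0) rfl N539 D2341
theorem N786 : nd 786 = n2342 := ndS (p := 539) (l := 5) rfl N539 D2342
theorem N787 : nd 787 = n2343 := ndS (p := 539) (l := 6) rfl N539 D2343
theorem N788 : nd 788 = n2344 := ndS (p := 540) (l := 1) rfl N540 D2344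
theorem N789 : nd 789 = n2345 := ndS (p := 540) (l := 3) rfl N540 D2345
theorem N790 : nd 790 = n2346 := ndS (p := 540) (l := 5) rfl N540 D2346
theorem N791 : nd 791 = n2347 := ndS (p := 540) (l := 6) rfl N540 D2347
theorem N792 : nd 792 = n2348 := ndS (p := 541) (l := 2) rfl N541 D2348
theorem N793 : nd 793 = n2349 := ndS (p := 541) (l := 5) rfl N541 D2349
theorem N794 : nd 794 = n2350 := ndS (p := 541) (l := 6) rfl N541 D2350
theorem N795 : nd 795 = n2351 := ndS (p := 542) (l := 1) rfl N542 D2351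
theorem N796 : nd 796 = n2352 := ndS (p := 542) (l := 6) rfl N542 D2352
theorem N797 : nd 797 = n2353 := ndS (p := 543) (l := 5) rfl N543 D2353
theorem N798 : nd 798 = n2354 := ndS (p := 544) (l := 1) rfl N544 D2354
theorem N799 : nd 799 = n2355 := ndS (p := 545) (l := 0) rfl N545 D2355
theorem N800 : nd 800 = n2356 := ndS (p := 545) (l := 2) rfl N545 D2356
theorem N801 : nd 801 = n2357 := ndS (p := 545) (l := 6) rfl N545 D2357
theorem N802 : nd 802 = n2358 := ndS (p := 546) (l := 3) rfl N546 D2358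
theorem N803 : nd 803 = n2359 := ndS (p := 547) (l := 2) rfl N547 D2359
theorem N804 : nd 804 = n2360 := ndS (p := 548) (l := 0) rfl N548 D2360
theorem N805 : nd 805 = n2361 := ndS (p := 548) (l := 2) rfl N548 D2361
theorem N806 : nd 806 = n2362 := ndS (p := 548) (l := 5) rfl N548 D2362
theorem N807 : nd 807 = n2364 := ndS (p := 549) (l := 1) rfl N549 D2364
theorem N808 : nd 808 = n2366 := ndS (p := 551) (l := 0) rfl N551 D2366
theorem N809 : nd 809 = n2367 := ndS (p := 551) (l := 2) rfl N551 D2367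
theorem N810 : nd 810 = n2368 := ndS (p := 551) (l := 6) rfl N551 D2368
theorem N811 : nd 811 = n2371 := ndS (p := 553) (l := 5) rfl N553 D2371
theorem N812 : nd 812 = n2372 := ndS (p := 554) (l := 1) rfl N554 D2372
theorem N813 : nd 813 = n2373 := ndS (p := 555) (l := 1) rfl N555 D2373
theorem N814 : nd 814 = n2374 := ndS (p := 555) (l := 2) rfl N555 D2374
theorem N815 : nd 815 = n2375 := ndS (p := 555) (l := 6) rfl N555 D2375
theorem N816 : nd 816 = n2376 := ndS (p := 556) (l := 3) rfl N556 D2376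
theorem N817 : nd 817 = n2377 := ndS (p := 556) (l := 6) rfl N556 D2377
theorem N818 : nd 818 = n2378 := ndS (p := 557) (l := 5) rfl N557 D2378
theorem N819 : nd 819 = n2380 := ndS (p := 558) (l := 5) rfl N558 D2380
theorem N820 : nd 820 = n2381 := ndS (p := 559) (l := 1) rfl N559 D2381
theorem N821 : nd 821 = n2382 := ndS (p := 559) (l := 6) rfl N559 D2382
theorem N822 : nd 822 = n2383 := ndS (p := 560) (l := 0) rfl N560 D2383
theorem N823 : nd 823 = n2384 := ndS (p := 560) (l := 2) rfl N560 D2384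
theorem N824 : nd 824 = n2385 := ndS (p := 560) (l := 6) rfl N560 D2385
theorem N825 : nd 825 = n2386 := ndS (p := 561) (l := 2) rfl N561 D2386
theorem N826 : nd 826 = n2387 := ndS (p := 562) (l := 1) rfl N562 D2387
theorem N827 : nd 827 = n2388 := ndS (p := 562) (l := 3) rfl N562 D2388
theorem N828 : nd 828 = n2389 := ndS (p := 563) (l := 2) rfl N563 D2389
theorem N829 : nd 829 = n2390 := ndS (p := 563) (l := 4) rfl N563 D2390
theorem N830 : nd 830 = n2391 := ndS (p := 563) (l := 6) rfl N563 D2391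
theorem N831 : nd 831 = n2392 := ndS (p := 564) (l := 1) rfl N564 D2392
theorem N832 : nd 832 = n2393 := ndS (p := 564) (l := 5) rfl N564 D2393
theorem N833 : nd 833 = n2394 := ndS (p := 566) (l := 2) rfl N566 D2394
theorem N834 : nd 834 = n2402 := ndS (p := 570) (l := 1) rfl N570 D2402
theorem N835 : nd 835 = n2403 := ndS (p := 570) (l := 3) rfl N570 D2403
theorem N836 : nd 836 = n2404 := ndS (p := 570) (l := 5) rfl N570 D2404
theorem N837 : nd 837 = n2405 := ndS (p := 570) (l := 6) rfl N570 D2405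
theorem N838 : nd 838 = n2406 := ndS (p := 571) (l := 2) rfl N571 D2406
theorem N839 : nd 839 = n2407 := ndS (p := 571) (l := 4) rfl N571 D2407
theorem N840 : nd 840 = n2408 := ndS (p := 571) (l := 5) rfl N571 D2408
theorem N841 : nd 841 = n2409 := ndS (p := 571) (l := 6) rfl N571 D2409
theorem N842 : nd 842 = n2410 := ndS (p := 572) (l := 1) rfl N572 D2410
theorem N843 : nd 843 = n2411 := ndS (p := 572) (l := 6) rfl N572 D2411
theorem N844 : nd 844 = n2412 := ndS (p := 573) (l := 1) rfl N573 D2412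
theorem N845 : nd 845 = n2413 := ndS (p := 573) (l := 5) rfl N573 D2413
theorem N846 : nd 846 = n2414 := ndS (p := 574) (l := 5) rfl N574 D2414
theorem N847 : nd 847 = n2415 := ndS (p := 574) (l := 6) rfl N574 D2415
theorem N848 : nd 848 = n2416 := ndS (p := 575) (l := 1) rfl N575 D2416
theorem N849 : nd 849 = n2417 := ndS (p := 576) (l := 1) rfl N576 D2417
theorem N850 : nd 850 = n2418 := ndS (p := 577) (l := 0) rfl N577 D2418
theorem N851 : nd 851 = n2419 := ndS (p := 577) (l := 2) rfl N577 D2419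
theorem N852 : nd 852 = n2420 := ndS (p := 577) (l := 6) rfl N577 D2420
theorem N853 : nd 853 = n2421 := ndS (p := 578) (l := 0) rfl N578 D2421
theorem N854 : nd 854 = n2422 := ndS (p := 578) (l := 5) rfl N578 D2422
theorem N855 : nd 855 = n2423 := ndS (p := 579) (l := 2) rfl N579 D2423
theorem N856 : nd 856 = n2424 := ndS (p := 580) (l := 3) rfl N580 D2424
theorem N857 : nd 857 = n2425 := ndS (p := 580) (l := 6) rfl N580 D2425
theorem N858 : nd 858 = n2426 := ndS (p := 582) (l := 2) rfl N582 D2426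
theorem N859 : nd 859 = n2427 := ndS (p := 583) (l := 0) rfl N583 D2427
theorem N860 : nd 860 = n2428 := ndS (p := 583) (l := 2) rfl N583 D2428
theorem N861 : nd 861 = n2430 := ndS (p := 583) (l := 5) rfl N583 D2430
theorem N862 : nd 862 = n2432 := ndS (p := 584) (l := 4) rfl N584 D2432
theorem N863 : nd 863 = n2433 := ndS (p := 584) (l := 5) rfl N584 D2433
theorem N864 : nd 864 = n2437 := ndS (p := 587) (l := 1) rfl N587 D2437
theorem N865 : nd 865 = n2438 := ndS (p := 587) (l := 4) rfl N587 D2438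
theorem N866 : nd 866 = n2439 := ndS (p := 587) (l := 5) rfl N587 D2439
theorem N867 : nd 867 = n2441 := ndS (p := 588) (l := 5) rfl N588 D2441
theorem N868 : nd 868 = n2442 := ndS (p := 588) (l := 6) rfl N588 D2442
theorem N869 : nd 869 = n2443 := ndS (p := 589) (l := 1) rfl N589 D2443
theorem N870 : nd 870 = n2445 := ndS (p := 590) (l := 1) rfl N590 D2445
theorem N871 : nd 871 = n2446 := ndS (p := 590) (l := 5) rfl N590 D2446
theorem N872 : nd 872 = n2447 := ndS (p := 591) (l := 0) rfl N591 D2447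
theorem N873 : nd 873 = n2448 := ndS (p := 591) (l := 6) rfl N591 D2448
theorem N874 : nd 874 = n2449 := ndS (p := 592) (l := 1) rfl N592 D2449
theorem N875 : nd 875 = n2453 := ndS (p := 595) (l := 0) rfl N595 D2453
theorem N876 : nd 876 = n2454 := ndS (p := 595) (l := 4) rfl N595 D2454
theorem N877 : nd 877 = n2455 := ndS (p := 595) (l := 5) rfl N595 D2455
theorem N878 : nd 878 = n2457 := ndS (p := 596) (l := 3) rfl N596 D2457
theorem N879 : nd 879 = n2458 := ndS (p := 596) (l := 5) rfl N596 D2458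
theorem N880 : nd 880 = n2459 := ndS (p := 596) (l := 6) rfl N596 D2459
theorem N881 : nd 881 = n2460 := ndS (p := 597) (l := 1) rfl N597 D2460
theorem N882 : nd 882 = n2462 := ndS (p := 599) (l := 1) rfl N599 D2462
theorem N883 : nd 883 = n2463 := ndS (p := 599) (l := 6) rfl N599 D2463
theorem N884 : nd 884 = n2464 := ndS (p := 600) (l := 1) rfl N600 D2464
theorem N885 : nd 885 = n2465 := ndS (p := 600) (l := 5) rfl N600 D2465
theorem N886 : nd 886 = n2466 := ndS (p := 601) (l := 0) rfl N601 D2466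
theorem N887 : nd 887 = n2467 := ndS (p := 601) (l := 2) rfl N601 D2467
theorem N888 : nd 888 = n2468 := ndS (p := 601) (l := 6) rfl N601 D2468
theorem N889 : nd 889 = n2469 := ndS (p := 602) (l := 1) rfl N602 D2469
theorem N890 : nd 890 = n2474 := ndS (p := 605) (l := 1) rfl N605 D2474
theorem N891 : nd 891 = n2475 := ndS (p := 605) (l := 6) rfl N605 D2475
theorem N892 : nd 892 = n2476 := ndS (p := 606) (l := 1) rfl N606 D2476
theorem N893 : nd 893 = n2477 := ndS (p := 606) (l := 5) rfl N606 D2477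
theorem N894 : nd 894 = n2478 := ndS (p := 607) (l := 0) rfl N607 D2478
theorem N895 : nd 895 = n2479 := ndS (p := 607) (l := 2) rfl N607 D2479
theorem N896 : nd 896 = n2480 := ndS (p := 607) (l := 5) rfl N607 D2480
theorem N897 : nd 897 = n2488 := ndS (p := 608) (l := 2) rfl N608 D2488
theorem N898 : nd 898 = n2489 := ndS (p := 609) (l := 3) rfl N609 D2489
theorem N899 : nd 899 = n2490 := ndS (p := 609) (l := 5) rfl N609 D2490
theorem N900 : nd 900 = n2492 := ndS (p := 611) (l := 6) rfl N611 D2492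
theorem N901 : nd 901 = n2496 := ndS (p := 614) (l := 1) rfl N614 D2496
theorem N902 : nd 902 = n2509 := ndS (p := 617) (l := 0) rfl N617 D2509
theorem N903 : nd 903 = n2510 := ndS (p := 617) (l := 2) rfl N617 D2510
theorem N904 : nd 904 = n2511 := ndS (p := 617) (l := 6) rfl N617 D2511
theorem N905 : nd 905 = n2512 := ndS (p := 618) (l := 0) rfl N618 D2512
theorem N906 : nd 906 = n2514 := ndS (p := 618) (l := 5) rfl N618 D2514
theorem N907 : nd 907 = n2515 := ndS (p := 619) (l := 0) rfl N619 D2515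
theorem N908 : nd 908 = n2516 := ndS (p := 619) (l := 2) rfl N619 D2516
theorem N909 : nd 909 = n2517 := ndS (p := 619) (l := 5) rfl N619 D2517
theorem N910 : nd 910 = n2521 := ndS (p := 620) (l := 0) rfl N620 D2521
theorem N911 : nd 911 = n2523 := ndS (p := 620) (l := 3) rfl N620 D2523
theorem N912 : nd 912 = n2526 := ndS (p := 621) (l := 2) rfl N621 D2526
theorem N913 : nd 913 = n2527 := ndS (p := 621) (l := 4) rfl N621 D2527
theorem N914 : nd 914 = n2528 := ndS (p := 621) (l := 5) rfl N621 D2528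
theorem N915 : nd 915 = n2533 := ndS (p := 624) (l := 4) rfl N624 D2533
theorem N916 : nd 916 = n2534 := ndS (p := 624) (l := 5) rfl N624 D2534
theorem N917 : nd 917 = n2536 := ndS (p := 625) (l := 5) rfl N625 D2536
theorem N918 : nd 918 = n2538 := ndS (p := 626) (l := 1) rfl N626 D2538
theorem N919 : nd 919 = n2539 := ndS (p := 626) (l := 6) rfl N626 D2539
theorem N920 : nd 920 = n2542 := ndS (p := 627) (l := 0) rfl N627 D2542
theorem N921 : nd 921 = n2543 := ndS (p := 627) (l := 2) rfl N627 D2543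
theorem N922 : nd 922 = n2544 := ndS (p := 627) (l := 6) rfl N627 D2544
theorem N923 : nd 923 = n2547 := ndS (p := 629) (l := 5) rfl N629 D2547
theorem N924 : nd 924 = n2548 := ndS (p := 630) (l := 1) rfl N630 D2548
theorem N925 : nd 925 = n2549 := ndS (p := 631) (l := 1) rfl N631 D2549
theorem N926 : nd 926 = n2550 := ndS (p := 632) (l := 1) rfl N632 D2550
theorem N927 : nd 927 = n2551 := ndS (p := 633) (l := 0) rfl N633 D2551
theorem N928 : nd 928 = n2552 := ndS (p := 633) (l := 2) rfl N633 D2552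
theorem N929 : nd 929 = n2553 := ndS (p := 633) (l := 6) rfl N633 D2553
theorem N930 : nd 930 = n2554 := ndS (p := 634) (l := 0) rfl N634 D2554
theorem N931 : nd 931 = n2556 := ndS (p := 634) (l := 5) rfl N634 D2556
theorem N932 : nd 932 = n2557 := ndS (p := 635) (l := 1) rfl N635 D2557
theorem N933 : nd 933 = n2558 := ndS (p := 635) (l := 2) rfl N635 D2558
theorem N934 : nd 934 = n2559 := ndS (p := 635) (l := 6) rfl N635 D2559
theorem N935 : nd 935 = n2560 := ndS (p := 636) (l := 3) rfl N636 D2560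
theorem N936 : nd 936 = n2561 := ndS (p := 636) (l := 6) rfl N636 D2561
theorem N937 : nd 937 = n2562 := ndS (p := 637) (l := 5) rfl N637 D2562
theorem N938 : nd 938 = n2564 := ndS (p := 638) (l := 5) rfl N638 D2564
theorem N939 : nd 939 = n2566 := ndS (p := 640) (l := 2) rfl N640 D2566
theorem N940 : nd 940 = n2572 := ndS (p := 642) (l := 1) rfl N642 D2572
theorem N941 : nd 941 = n2583 := ndS (p := 645) (l := 3) rfl N645 D2583
theorem N942 : nd 942 = n2584 := ndS (p := 645) (l := 5) rfl N645 D2584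
theorem N943 : nd 943 = n2587 := ndS (p := 646) (l := 5) rfl N646 D2587
theorem N944 : nd 944 = n2589 := ndS (p := 647) (l := 2) rfl N647 D2589
theorem N945 : nd 945 = n2590 := ndS (p := 647) (l := 4) rfl N647 D2590
theorem N946 : nd 946 = n2591 := ndS (p := 647) (l := 5) rfl N647 D2591
theorem N947 : nd 947 = n2592 := ndS (p := 647) (l := 6) rfl N647 D2592
theorem N948 : nd 948 = n2596 := ndS (p := 649) (l := 5) rfl N649 D2596
theorem N949 : nd 949 = n2597 := ndS (p := 650) (l := 1) rfl N650 D2597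
theorem N950 : nd 950 = n2598 := ndS (p := 650) (l := 4) rfl N650 D2598
theorem N951 : nd 951 = n2599 := ndS (p := 650) (l := 5) rfl N650 D2599
theorem N952 : nd 952 = n2601 := ndS (p := 651) (l := 5) rfl N651 D2601
theorem N953 : nd 953 = n2602 := ndS (p := 651) (l := 6) rfl N651 D2602
theorem N954 : nd 954 = n2604 := ndS (p := 653) (l := 1) rfl N653 D2604
theorem N955 : nd 955 = n2610 := ndS (p := 654) (l := 5) rfl N654 D2610
theorem N956 : nd 956 = n2615 := ndS (p := 655) (l := 5) rfl N655 D2615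
theorem N957 : nd 957 = n2617 := ndS (p := 656) (l := 1) rfl N656 D2617
theorem N958 : nd 958 = n2618 := ndS (p := 656) (l := 6) rfl N656 D2618
theorem N959 : nd 959 = n2621 := ndS (p := 657) (l := 1) rfl N657 D2621
theorem N960 : nd 960 = n2622 := ndS (p := 657) (l := 6) rfl N657 D2622
theorem N961 : nd 961 = n2623 := ndS (p := 658) (l := 1) rfl N658 D2623
theorem N962 : nd 962 = n2624 := ndS (p := 658) (l := 5) rfl N658 D2624
theorem N963 : nd 963 = n2625 := ndS (p := 659) (l := 0) rfl N659 D2625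
theorem N964 : nd 964 = n2626 := ndS (p := 659) (l := 2) rfl N659 D2626
theorem N965 : nd 965 = n2627 := ndS (p := 659) (l := 6) rfl N659 D2627
theorem N966 : nd 966 = n2628 := ndS (p := 660) (l := 1) rfl N660 D2628
theorem N967 : nd 967 = n2634 := ndS (p := 663) (l := 2) rfl N663 D2634
theorem N968 : nd 968 = n2635 := ndS (p := 664) (l := 6) rfl N664 D2635
theorem N969 : nd 969 = n2636 := ndS (p := 665) (l := 1) rfl N665 D2636
theorem N970 : nd 970 = n2637 := ndS (p := 666) (l := 0) rfl N666 D2637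
theorem N971 : nd 971 = n2638 := ndS (p := 666) (l := 2) rfl N666 D2638
theorem N972 : nd 972 = n2639 := ndS (p := 666) (l := 5) rfl N666 D2639
theorem N973 : nd 973 = n2645 := ndS (p := 667) (l := 0) rfl N667 D2645
theorem N974 : nd 974 = n2646 := ndS (p := 667) (l := 2) rfl N667 D2646
theorem N975 : nd 975 = n2647 := ndS (p := 667) (l := 6) rfl N667 D2647
theorem N976 : nd 976 = n2648 := ndS (p := 668) (l := 1) rfl N668 D2648
theorem N977 : nd 977 = n2653 := ndS (p := 671) (l := 1) rfl N671 D2653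
theorem N978 : nd 978 = n2654 := ndS (p := 671) (l := 2) rfl N671 D2654
theorem N979 : nd 979 = n2655 := ndS (p := 671) (l := 6) rfl N671 D2655
theorem N980 : nd 980 = n2658 := ndS (p := 673) (l := 1) rfl N673 D2658
theorem N981 : nd 981 = n2660 := ndS (p := 674) (l := 0) rfl N674 D2660
theorem N982 : nd 982 = n2661 := ndS (p := 674) (l := 2) rfl N674 D2661
theorem N983 : nd 983 = n2677 := ndS (p := 676) (l := 1) rfl N676 D2677
theorem N984 : nd 984 = n2678 := ndS (p := 676) (l := 6) rfl N676 D2678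
theorem N985 : nd 985 = n2680 := ndS (p := 678) (l := 5) rfl N678 D2680
theorem N986 : nd 986 = n2681 := ndS (p := 679) (l := 0) rfl N679 D2681
theorem N987 : nd 987 = n2682 := ndS (p := 679) (l := 2) rfl N679 D2682
theorem N988 : nd 988 = n2683 := ndS (p := 679) (l := 5) rfl N679 D2683
theorem N989 : nd 989 = n2685 := ndS (p := 681) (l := 1) rfl N681 D2685
theorem N990 : nd 990 = n2686 := ndS (p := 681) (l := 2) rfl N681 D2686
theorem N991 : nd 991 = n2687 := ndS (p := 681) (l := 5) rfl N681 D2687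
theorem N992 : nd 992 = n2688 := ndS (p := 682) (l := 3) rfl N682 D2688
theorem N993 : nd 993 = n2689 := ndS (p := 682) (l := 5) rfl N682 D2689
theorem N994 : nd 994 = n2711 := ndS (p := 685) (l := 1) rfl N685 D2711
theorem N995 : nd 995 = n2730 := ndS (p := 688) (l := 5) rfl N688 D2730
theorem N996 : nd 996 = n2744 := ndS (p := 691) (l := 1) rfl N691 D2744
theorem N997 : nd 997 = n2748 := ndS (p := 692) (l := 0) rfl N692 D2748
theorem N998 : nd 998 = n2749 := ndS (p := 692) (l := 2) rfl N692 D2749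
theorem N999 : nd 999 = n2756 := ndS (p := 693) (l := 1) rfl N693 D2756
theorem N1000 : nd 1000 = n2757 := ndS (p := 693) (l := 2) rfl N693 D2757
theorem N1001 : nd 1001 = n2759 := ndS (p := 694) (l := 3) rfl N694 D2759
theorem N1002 : nd 1002 = n2762 := ndS (p := 696) (l := 1) rfl N696 D2762
theorem N1003 : nd 1003 = n2763 := ndS (p := 696) (l := 2) rfl N696 D2763
theorem N1004 : nd 1004 = n2764 := ndS (p := 696) (l := 5) rfl N696 D2764
theorem N1005 : nd 1005 = n2766 := ndS (p := 697) (l := 5) rfl N697 D2766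
theorem N1006 : nd 1006 = n2767 := ndS (p := 698) (l := 6) rfl N698 D2767
theorem N1007 : nd 1007 = n2768 := ndS (p := 699) (l := 0) rfl N699 D2768
theorem N1008 : nd 1008 = n2769 := ndS (p := 699) (l := 2) rfl N699 D2769
theorem N1009 : nd 1009 = n2770 := ndS (p := 699) (l := 5) rfl N699 D2770
theorem N1010 : nd 1010 = n2771 := ndS (p := 699) (l := 6) rfl N699 D2771
theorem N1011 : nd 1011 = n2772 := ndS (p := 700) (l := 1) rfl N700 D2772
theorem N1012 : nd 1012 = n2778 := ndS (p := 701) (l := 2) rfl N701 D2778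
theorem N1013 : nd 1013 = n2780 := ndS (p := 702) (l := 3) rfl N702 D2780
theorem N1014 : nd 1014 = n2781 := ndS (p := 702) (l := 5) rfl N702 D2781
theorem N1015 : nd 1015 = n2788 := ndS (p := 704) (l := 2) rfl N704 D2788
theorem N1016 : nd 1016 = n2791 := ndS (p := 705) (l := 1) rfl N705 D2791
theorem N1017 : nd 1017 = n2793 := ndS (p := 705) (l := 5) rfl N705 D2793
theorem N1018 : nd 1018 = n2798 := ndS (p := 707) (l := 0) rfl N707 D2798
theorem N1019 : nd 1019 = n2799 := ndS (p := 707) (l := 5) rfl N707 D2799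
theorem N1020 : nd 1020 = n2800 := ndS (p := 707) (l := 6) rfl N707 D2800
theorem N1021 : nd 1021 = n2805 := ndS (p := 708) (l := 1) rfl N708 D2805
theorem N1022 : nd 1022 = n2806 := ndS (p := 709) (l := 0) rfl N709 D2806
theorem N1023 : nd 1023 = n2807 := ndS (p := 709) (l := 2) rfl N709 D2807
theorem N1024 : nd 1024 = n2808 := ndS (p := 709) (l := 6) rfl N709 D2808
theorem N1025 : nd 1025 = n2816 := ndS (p := 711) (l := 1) rfl N711 D2816
theorem N1026 : nd 1026 = n2819 := ndS (p := 712) (l := 1) rfl N712 D2819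
theorem N1027 : nd 1027 = n2820 := ndS (p := 713) (l := 0) rfl N713 D2820
theorem N1028 : nd 1028 = n2821 := ndS (p := 713) (l := 2) rfl N713 D2821
theorem N1029 : nd 1029 = n2822 := ndS (p := 713) (l := 6) rfl N713 D2822
theorem N1030 : nd 1030 = n2823 := ndS (p := 714) (l := 3) rfl N714 D2823
theorem N1031 : nd 1031 = n2828 := ndS (p := 715) (l := 1) rfl N715 D2828
theorem N1032 : nd 1032 = n2830 := ndS (p := 716) (l := 0) rfl N716 D2830
theorem N1033 : nd 1033 = n2831 := ndS (p := 716) (l := 2) rfl N716 D2831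
theorem N1034 : nd 1034 = n2832 := ndS (p := 716) (l := 6) rfl N716 D2832
theorem N1035 : nd 1035 = n2834 := ndS (p := 717) (l := 1) rfl N717 D2834
theorem N1036 : nd 1036 = n2835 := ndS (p := 718) (l := 1) rfl N718 D2835
theorem N1037 : nd 1037 = n2836 := ndS (p := 718) (l := 2) rfl N718 D2836
theorem N1038 : nd 1038 = n2837 := ndS (p := 718) (l := 6) rfl N718 D2837
theorem N1039 : nd 1039 = n2838 := ndS (p := 719) (l := 3) rfl N719 D2838
theorem N1040 : nd 1040 = n2839 := ndS (p := 719) (l := 6) rfl N719 D2839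
theorem N1041 : nd 1041 = n2840 := ndS (p := 720) (l := 5) rfl N720 D2840
theorem N1042 : nd 1042 = n2842 := ndS (p := 722) (l := 4) rfl N722 D2842
theorem N1043 : nd 1043 = n2843 := ndS (p := 722) (l := 6) rfl N722 D2843
theorem N1044 : nd 1044 = n2844 := ndS (p := 723) (l := 1) rfl N723 D2844
theorem N1045 : nd 1045 = n2845 := ndS (p := 724) (l := 0) rfl N724 D2845
theorem N1046 : nd 1046 = n2847 := ndS (p := 724) (l := 5) rfl N724 D2847
theorem N1047 : nd 1047 = n2849 := ndS (p := 725) (l := 5) rfl N725 D2849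
theorem N1048 : nd 1048 = n2851 := ndS (p := 726) (l := 1) rfl N726 D2851
theorem N1049 : nd 1049 = n2856 := ndS (p := 728) (l := 1) rfl N728 D2856
theorem N1050 : nd 1050 = n2857 := ndS (p := 728) (l := 6) rfl N728 D2857
theorem N1051 : nd 1051 = n2858 := ndS (p := 729) (l := 5) rfl N729 D2858
theorem N1052 : nd 1052 = n2859 := ndS (p := 730) (l := 0) rfl N730 D2859
theorem N1053 : nd 1053 = n2860 := ndS (p := 730) (l := 6) rfl N730 D2860
theorem N1054 : nd 1054 = n2861 := ndS (p := 731) (l := 1) rfl N731 D2861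
theorem N1055 : nd 1055 = n2862 := ndS (p := 732) (l := 1) rfl N732 D2862
theorem N1056 : nd 1056 = n2864 := ndS (p := 733) (l := 5) rfl N733 D2864
theorem N1057 : nd 1057 = n2866 := ndS (p := 734) (l := 1) rfl N734 D2866
theorem N1058 : nd 1058 = n2867 := ndS (p := 735) (l := 0) rfl N735 D2867
theorem N1059 : nd 1059 = n2868 := ndS (p := 735) (l := 2) rfl N735 D2868
theorem N1060 : nd 1060 = n2869 := ndS (p := 735) (l := 6) rfl N735 D2869
theorem N1061 : nd 1061 = n2870 := ndS (p := 736) (l := 1) rfl N736 D2870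
theorem N1062 : nd 1062 = n2871 := ndS (p := 736) (l := 6) rfl N736 D2871
theorem N1063 : nd 1063 = n2872 := ndS (p := 737) (l := 1) rfl N737 D2872
theorem N1064 : nd 1064 = n2873 := ndS (p := 737) (l := 5) rfl N737 D2873
theorem N1065 : nd 1065 = n2874 := ndS (p := 738) (l := 0) rfl N738 D2874
theorem N1066 : nd 1066 = n2875 := ndS (p := 738) (l := 2) rfl N738 D2875
theorem N1067 : nd 1067 = n2876 := ndS (p := 738) (l := 5) rfl N738 D2876
theorem N1068 : nd 1068 = n2877 := ndS (p := 739) (l := 3) rfl N739 D2877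
theorem N1069 : nd 1069 = n2878 := ndS (p := 740) (l := 2) rfl N740 D2878
theorem N1070 : nd 1070 = n2879 := ndS (p := 740) (l := 5) rfl N740 D2879
theorem N1071 : nd 1071 = n2881 := ndS (p := 741) (l := 5) rfl N741 D2881
theorem N1072 : nd 1072 = n2883 := ndS (p := 742) (l := 1) rfl N742 D2883
theorem N1073 : nd 1073 = n2884 := ndS (p := 742) (l := 6) rfl N742 D2884
theorem N1074 : nd 1074 = n2888 := ndS (p := 743) (l := 2) rfl N743 D2888
theorem N1075 : nd 1075 = n2893 := ndS (p := 744) (l := 0) rfl N744 D2893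
theorem N1076 : nd 1076 = n2894 := ndS (p := 744) (l := 2) rfl N744 D2894
theorem N1077 : nd 1077 = n2896 := ndS (p := 745) (l := 0) rfl N745 D2896
theorem N1078 : nd 1078 = n2897 := ndS (p := 745) (l := 2) rfl N745 D2897
theorem N1079 : nd 1079 = n2898 := ndS (p := 745) (l := 6) rfl N745 D2898
theorem N1080 : nd 1080 = n2899 := ndS (p := 746) (l := 0) rfl N746 D2899
theorem N1081 : nd 1081 = n2900 := ndS (p := 746) (l := 3) rfl N746 D2900
theorem N1082 : nd 1082 = n2901 := ndS (p := 746) (l := 5) rfl N746 D2901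
theorem N1083 : nd 1083 = n2903 := ndS (p := 747) (l := 5) rfl N747 D2903
theorem N1084 : nd 1084 = n2904 := ndS (p := 747) (l := 6) rfl N747 D2904
theorem N1085 : nd 1085 = n2905 := ndS (p := 748) (l := 1) rfl N748 D2905
theorem N1086 : nd 1086 = n2908 := ndS (p := 751) (l := 5) rfl N751 D2908
theorem N1087 : nd 1087 = n2922 := ndS (p := 755) (l := 1) rfl N755 D2922
theorem N1088 : nd 1088 = n2923 := ndS (p := 755) (l := 3) rfl N755 D2923
theorem N1089 : nd 1089 = n2924 := ndS (p := 755) (l := 5) rfl N755 D2924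
theorem N1090 : nd 1090 = n2925 := ndS (p := 755) (l := 6) rfl N755 D2925
theorem N1091 : nd 1091 = n2926 := ndS (p := 756) (l := 2) rfl N756 D2926
theorem N1092 : nd 1092 = n2928 := ndS (p := 756) (l := 5) rfl N756 D2928
theorem N1093 : nd 1093 = n2930 := ndS (p := 757) (l := 1) rfl N757 D2930
theorem N1094 : nd 1094 = n2933 := ndS (p := 758) (l := 5) rfl N758 D2933
theorem N1095 : nd 1095 = n2934 := ndS (p := 759) (l := 5) rfl N759 D2934
theorem N1096 : nd 1096 = n2936 := ndS (p := 760) (l := 1) rfl N760 D2936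
theorem N1097 : nd 1097 = n2937 := ndS (p := 760) (l := 6) rfl N760 D2937
theorem N1098 : nd 1098 = n2939 := ndS (p := 761) (l := 5) rfl N761 D2939
theorem N1099 : nd 1099 = n2940 := ndS (p := 762) (l := 0) rfl N762 D2940
theorem N1100 : nd 1100 = n2941 := ndS (p := 762) (l := 2) rfl N762 D2941
theorem N1101 : nd 1101 = n2942 := ndS (p := 762) (l := 6) rfl N762 D2942
theorem N1102 : nd 1102 = n2943 := ndS (p := 763) (l := 1) rfl N763 D2943
theorem N1103 : nd 1103 = n2945 := ndS (p := 764) (l := 5) rfl N764 D2945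
theorem N1104 : nd 1104 = n2946 := ndS (p := 765) (l := 1) rfl N765 D2946
theorem N1105 : nd 1105 = n2947 := ndS (p := 766) (l := 3) rfl N766 D2947
theorem N1106 : nd 1106 = n2948 := ndS (p := 767) (l := 5) rfl N767 D2948
theorem N1107 : nd 1107 = n2954 := ndS (p := 770) (l := 1) rfl N770 D2954
theorem N1108 : nd 1108 = n2958 := ndS (p := 771) (l := 0) rfl N771 D2958
theorem N1109 : nd 1109 = n2964 := ndS (p := 772) (l := 1) rfl N772 D2964
theorem N1110 : nd 1110 = n2965 := ndS (p := 773) (l := 1) rfl N773 D2965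
theorem N1111 : nd 1111 = n2966 := ndS (p := 773) (l := 6) rfl N773 D2966
theorem N1112 : nd 1112 = n2969 := ndS (p := 774) (l := 0) rfl N774 D2969
theorem N1113 : nd 1113 = n2970 := ndS (p := 774) (l := 2) rfl N774 D2970
theorem N1114 : nd 1114 = n2971 := ndS (p := 774) (l := 6) rfl N774 D2971
theorem N1115 : nd 1115 = n2972 := ndS (p := 775) (l := 1) rfl N775 D2972
theorem N1116 : nd 1116 = n2976 := ndS (p := 776) (l := 1) rfl N776 D2976
theorem N1117 : nd 1117 = n2977 := ndS (p := 777) (l := 1) rfl N777 D2977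
theorem N1118 : nd 1118 = n2978 := ndS (p := 777) (l := 2) rfl N777 D2978
theorem N1119 : nd 1119 = n2979 := ndS (p := 777) (l := 6) rfl N777 D2979
theorem N1120 : nd 1120 = n2982 := ndS (p := 779) (l := 1) rfl N779 D2982
theorem N1121 : nd 1121 = n2983 := ndS (p := 779) (l := 5) rfl N779 D2983
theorem N1122 : nd 1122 = n2984 := ndS (p := 780) (l := 0) rfl N780 D2984
theorem N1123 : nd 1123 = n2992 := ndS (p := 783) (l := 1) rfl N783 D2992
theorem N1124 : nd 1124 = n2993 := ndS (p := 783) (l := 3) rfl N783 D2993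
theorem N1125 : nd 1125 = n2994 := ndS (p := 784) (l := 4) rfl N784 D2994
theorem N1126 : nd 1126 = n2996 := ndS (p := 785) (l := 5) rfl N785 D2996
theorem N1127 : nd 1127 = n2999 := ndS (p := 787) (l := 5) rfl N787 D2999
theorem N1128 : nd 1128 = n3001 := ndS (p := 788) (l := 5) rfl N788 D3001
theorem N1129 : nd 1129 = n3003 := ndS (p := 789) (l := 5) rfl N789 D3003
theorem N1130 : nd 1130 = n3005 := ndS (p := 790) (l := 1) rfl N790 D3005
theorem N1131 : nd 1131 = n3007 := ndS (p := 792) (l := 3) rfl N792 D3007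
theorem N1132 : nd 1132 = n3010 := ndS (p := 793) (l := 1) rfl N793 D3010
theorem N1133 : nd 1133 = n3012 := ndS (p := 794) (l := 5) rfl N794 D3012
theorem N1134 : nd 1134 = n3013 := ndS (p := 795) (l := 0) rfl N795 D3013
theorem N1135 : nd 1135 = n3014 := ndS (p := 795) (l := 2) rfl N795 D3014
theorem N1136 : nd 1136 = n3015 := ndS (p := 795) (l := 6) rfl N795 D3015
theorem N1137 : nd 1137 = n3017 := ndS (p := 797) (l := 1) rfl N797 D3017
theorem N1138 : nd 1138 = n3018 := ndS (p := 798) (l := 0) rfl N798 D3018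
theorem N1139 : nd 1139 = n3019 := ndS (p := 798) (l := 2) rfl N798 D3019
theorem N1140 : nd 1140 = n3020 := ndS (p := 798) (l := 6) rfl N798 D3020
theorem N1141 : nd 1141 = n3021 := ndS (p := 799) (l := 1) rfl N799 D3021
theorem N1142 : nd 1142 = n3022 := ndS (p := 799) (l := 2) rfl N799 D3022
theorem N1143 : nd 1143 = n3023 := ndS (p := 799) (l := 6) rfl N799 D3023
theorem N1144 : nd 1144 = n3024 := ndS (p := 800) (l := 3) rfl N800 D3024
theorem N1145 : nd 1145 = n3025 := ndS (p := 800) (l := 6) rfl N800 D3025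
theorem N1146 : nd 1146 = n3026 := ndS (p := 801) (l := 5) rfl N801 D3026
theorem N1147 : nd 1147 = n3027 := ndS (p := 802) (l := 4) rfl N802 D3027
theorem N1148 : nd 1148 = n3029 := ndS (p := 803) (l := 3) rfl N803 D3029
theorem N1149 : nd 1149 = n3030 := ndS (p := 804) (l := 5) rfl N804 D3030
theorem N1150 : nd 1150 = n3032 := ndS (p := 805) (l := 3) rfl N805 D3032
theorem N1151 : nd 1151 = n3033 := ndS (p := 805) (l := 5) rfl N805 D3033
theorem N1152 : nd 1152 = n3035 := ndS (p := 806) (l := 1) rfl N806 D3035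
theorem N1153 : nd 1153 = n3039 := ndS (p := 807) (l := 0) rfl N807 D3039
theorem N1154 : nd 1154 = n3040 := ndS (p := 807) (l := 2) rfl N807 D3040
theorem N1155 : nd 1155 = n3041 := ndS (p := 807) (l := 6) rfl N807 D3041
theorem N1156 : nd 1156 = n3046 := ndS (p := 808) (l := 2) rfl N808 D3046
theorem N1157 : nd 1157 = n3054 := ndS (p := 811) (l := 1) rfl N811 D3054
theorem N1158 : nd 1158 = n3055 := ndS (p := 812) (l := 0) rfl N812 D3055
theorem N1159 : nd 1159 = n3056 := ndS (p := 812) (l := 2) rfl N812 D3056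
theorem N1160 : nd 1160 = n3057 := ndS (p := 812) (l := 6) rfl N812 D3057
theorem N1161 : nd 1161 = n3058 := ndS (p := 813) (l := 0) rfl N813 D3058
theorem N1162 : nd 1162 = n3059 := ndS (p := 813) (l := 2) rfl N813 D3059
theorem N1163 : nd 1163 = n3061 := ndS (p := 813) (l := 6) rfl N813 D3061
theorem N1164 : nd 1164 = n3062 := ndS (p := 814) (l := 1) rfl N814 D3062
theorem N1165 : nd 1165 = n3063 := ndS (p := 814) (l := 3) rfl N814 D3063
theorem N1166 : nd 1166 = n3064 := ndS (p := 814) (l := 6) rfl N814 D3064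
theorem N1167 : nd 1167 = n3065 := ndS (p := 815) (l := 1) rfl N815 D3065
theorem N1168 : nd 1168 = n3067 := ndS (p := 816) (l := 4) rfl N816 D3067
theorem N1169 : nd 1169 = n3068 := ndS (p := 816) (l := 6) rfl N816 D3068
theorem N1170 : nd 1170 = n3069 := ndS (p := 817) (l := 1) rfl N817 D3069
theorem N1171 : nd 1171 = n3070 := ndS (p := 817) (l := 5) rfl N817 D3070
theorem N1172 : nd 1172 = n3071 := ndS (p := 818) (l := 1) rfl N818 D3071
theorem N1173 : nd 1173 = n3076 := ndS (p := 819) (l := 1) rfl N819 D3076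
theorem N1174 : nd 1174 = n3077 := ndS (p := 820) (l := 0) rfl N820 D3077
theorem N1175 : nd 1175 = n3078 := ndS (p := 820) (l := 2) rfl N820 D3078
theorem N1176 : nd 1176 = n3079 := ndS (p := 820) (l := 6) rfl N820 D3079
theorem N1177 : nd 1177 = n3080 := ndS (p := 821) (l := 1) rfl N821 D3080
theorem N1178 : nd 1178 = n3081 := ndS (p := 822) (l := 1) rfl N822 D3081
theorem N1179 : nd 1179 = n3082 := ndS (p := 822) (l := 2) rfl N822 D3082
theorem N1180 : nd 1180 = n3083 := ndS (p := 822) (l := 6) rfl N822 D3083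
theorem N1181 : nd 1181 = n3084 := ndS (p := 823) (l := 3) rfl N823 D3084
theorem N1182 : nd 1182 = n3085 := ndS (p := 823) (l := 6) rfl N823 D3085
theorem N1183 : nd 1183 = n3087 := ndS (p := 825) (l := 1) rfl N825 D3087
theorem N1184 : nd 1184 = n3088 := ndS (p := 825) (l := 3) rfl N825 D3088
theorem N1185 : nd 1185 = n3089 := ndS (p := 826) (l := 0) rfl N826 D3089
theorem N1186 : nd 1186 = n3090 := ndS (p := 826) (l := 3) rfl N826 D3090
theorem N1187 : nd 1187 = n3091 := ndS (p := 826) (l := 5) rfl N826 D3091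
theorem N1188 : nd 1188 = n3092 := ndS (p := 826) (l := 6) rfl N826 D3092
theorem N1189 : nd 1189 = n3093 := ndS (p := 827) (l := 4) rfl N827 D3093
theorem N1190 : nd 1190 = n3095 := ndS (p := 828) (l := 4) rfl N828 D3095
theorem N1191 : nd 1191 = n3096 := ndS (p := 829) (l := 6) rfl N829 D3096
theorem N1192 : nd 1192 = n3097 := ndS (p := 830) (l := 1) rfl N830 D3097
theorem N1193 : nd 1193 = n3098 := ndS (p := 830) (l := 5) rfl N830 D3098
theorem N1194 : nd 1194 = n3099 := ndS (p := 831) (l := 0) rfl N831 D3099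
theorem N1195 : nd 1195 = n3100 := ndS (p := 831) (l := 5) rfl N831 D3100
theorem N1196 : nd 1196 = n3101 := ndS (p := 832) (l := 1) rfl N832 D3101
theorem N1197 : nd 1197 = n3121 := ndS (p := 835) (l := 2) rfl N835 D3121
theorem N1198 : nd 1198 = n3122 := ndS (p := 835) (l := 4) rfl N835 D3122
theorem N1199 : nd 1199 = n3123 := ndS (p := 835) (l := 5) rfl N835 D3123
theorem N1200 : nd 1200 = n3125 := ndS (p := 836) (l := 1) rfl N836 D3125
theorem N1201 : nd 1201 = n3127 := ndS (p := 838) (l := 5) rfl N838 D3127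
theorem N1202 : nd 1202 = n3129 := ndS (p := 839) (l := 5) rfl N839 D3129
theorem N1203 : nd 1203 = n3131 := ndS (p := 840) (l := 1) rfl N840 D3131
theorem N1204 : nd 1204 = n3134 := ndS (p := 841) (l := 5) rfl N841 D3134
theorem N1205 : nd 1205 = n3135 := ndS (p := 842) (l := 0) rfl N842 D3135
theorem N1206 : nd 1206 = n3136 := ndS (p := 842) (l := 2) rfl N842 D3136
theorem N1207 : nd 1207 = n3137 := ndS (p := 842) (l := 6) rfl N842 D3137
theorem N1208 : nd 1208 = n3140 := ndS (p := 844) (l := 5) rfl N844 D3140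
theorem N1209 : nd 1209 = n3141 := ndS (p := 845) (l := 1) rfl N845 D3141
theorem N1210 : nd 1210 = n3142 := ndS (p := 846) (l := 1) rfl N846 D3142
theorem N1211 : nd 1211 = n3144 := ndS (p := 848) (l := 0) rfl N848 D3144
theorem N1212 : nd 1212 = n3145 := ndS (p := 848) (l := 2) rfl N848 D3145
theorem N1213 : nd 1213 = n3146 := ndS (p := 848) (l := 6) rfl N848 D3146
theorem N1214 : nd 1214 = n3147 := ndS (p := 849) (l := 0) rfl N849 D3147
theorem N1215 : nd 1215 = n3149 := ndS (p := 849) (l := 5) rfl N849 D3149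
theorem N1216 : nd 1216 = n3150 := ndS (p := 850) (l := 1) rfl N850 D3150
theorem N1217 : nd 1217 = n3151 := ndS (p := 850) (l := 2) rfl N850 D3151
theorem N1218 : nd 1218 = n3152 := ndS (p := 850) (l := 6) rfl N850 D3152
theorem N1219 : nd 1219 = n3153 := ndS (p := 851) (l := 3) rfl N851 D3153
theorem N1220 : nd 1220 = n3154 := ndS (p := 851) (l := 6) rfl N851 D3154
theorem N1221 : nd 1221 = n3155 := ndS (p := 852) (l := 5) rfl N852 D3155
theorem N1222 : nd 1222 = n3157 := ndS (p := 853) (l := 5) rfl N853 D3157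
theorem N1223 : nd 1223 = n3159 := ndS (p := 855) (l := 1) rfl N855 D3159
theorem N1224 : nd 1224 = n3160 := ndS (p := 855) (l := 3) rfl N855 D3160
theorem N1225 : nd 1225 = n3162 := ndS (p := 856) (l := 6) rfl N856 D3162
theorem N1226 : nd 1226 = n3163 := ndS (p := 857) (l := 1) rfl N857 D3163
theorem N1227 : nd 1227 = n3164 := ndS (p := 858) (l := 1) rfl N858 D3164
theorem N1228 : nd 1228 = n3165 := ndS (p := 858) (l := 3) rfl N858 D3165
theorem N1229 : nd 1229 = n3181 := ndS (p := 862) (l := 5) rfl N862 D3181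
theorem N1230 : nd 1230 = n3199 := ndS (p := 867) (l := 1) rfl N867 D3199
theorem N1231 : nd 1231 = n3201 := ndS (p := 868) (l := 1) rfl N868 D3201
theorem N1232 : nd 1232 = n3202 := ndS (p := 868) (l := 5) rfl N868 D3202
theorem N1233 : nd 1233 = n3203 := ndS (p := 869) (l := 0) rfl N869 D3203
theorem N1234 : nd 1234 = n3214 := ndS (p := 874) (l := 2) rfl N874 D3214
theorem N1235 : nd 1235 = n3223 := ndS (p := 876) (l := 3) rfl N876 D3223
theorem N1236 : nd 1236 = n3230 := ndS (p := 878) (l := 5) rfl N878 D3230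
theorem N1237 : nd 1237 = n3231 := ndS (p := 878) (l := 6) rfl N878 D3231
theorem N1238 : nd 1238 = n3240 := ndS (p := 882) (l := 0) rfl N882 D3240
theorem N1239 : nd 1239 = n3241 := ndS (p := 882) (l := 2) rfl N882 D3241
theorem N1240 : nd 1240 = n3242 := ndS (p := 882) (l := 6) rfl N882 D3242
theorem N1241 : nd 1241 = n3243 := ndS (p := 883) (l := 1) rfl N883 D3243
theorem N1242 : nd 1242 = n3249 := ndS (p := 886) (l := 2) rfl N886 D3249
theorem N1243 : nd 1243 = n3250 := ndS (p := 886) (l := 6) rfl N886 D3250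
theorem N1244 : nd 1244 = n3252 := ndS (p := 887) (l := 6) rfl N887 D3252
theorem N1245 : nd 1245 = n3253 := ndS (p := 888) (l := 1) rfl N888 D3253
theorem N1246 : nd 1246 = n3254 := ndS (p := 888) (l := 5) rfl N888 D3254
theorem N1247 : nd 1247 = n3255 := ndS (p := 889) (l := 0) rfl N889 D3255
theorem N1248 : nd 1248 = n3256 := ndS (p := 889) (l := 2) rfl N889 D3256
theorem N1249 : nd 1249 = n3257 := ndS (p := 889) (l := 5) rfl N889 D3257
theorem N1250 : nd 1250 = n3273 := ndS (p := 892) (l := 0) rfl N892 D3273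
theorem N1251 : nd 1251 = n3274 := ndS (p := 892) (l := 2) rfl N892 D3274
theorem N1252 : nd 1252 = n3275 := ndS (p := 892) (l := 5) rfl N892 D3275
theorem N1253 : nd 1253 = n3277 := ndS (p := 894) (l := 1) rfl N894 D3277
theorem N1254 : nd 1254 = n3278 := ndS (p := 894) (l := 2) rfl N894 D3278
theorem N1255 : nd 1255 = n3279 := ndS (p := 894) (l := 5) rfl N894 D3279
theorem N1256 : nd 1256 = n3280 := ndS (p := 895) (l := 3) rfl N895 D3280
theorem N1257 : nd 1257 = n3281 := ndS (p := 895) (l := 5) rfl N895 D3281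
theorem N1258 : nd 1258 = n3298 := ndS (p := 897) (l := 1) rfl N897 D3298
theorem N1259 : nd 1259 = n3299 := ndS (p := 897) (l := 3) rfl N897 D3299
theorem N1260 : nd 1260 = n3301 := ndS (p := 898) (l := 5) rfl N898 D3301
theorem N1261 : nd 1261 = n3302 := ndS (p := 899) (l := 1) rfl N899 D3302
theorem N1262 : nd 1262 = n3326 := ndS (p := 902) (l := 1) rfl N902 D3326
theorem N1263 : nd 1263 = n3327 := ndS (p := 902) (l := 2) rfl N902 D3327
theorem N1264 : nd 1264 = n3329 := ndS (p := 903) (l := 3) rfl N903 D3329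
theorem N1265 : nd 1265 = n3332 := ndS (p := 905) (l := 1) rfl N905 D3332
theorem N1266 : nd 1266 = n3339 := ndS (p := 907) (l := 2) rfl N907 D3339
theorem N1267 : nd 1267 = n3342 := ndS (p := 908) (l := 5) rfl N908 D3342
theorem N1268 : nd 1268 = n3349 := ndS (p := 910) (l := 3) rfl N910 D3349
theorem N1269 : nd 1269 = n3355 := ndS (p := 911) (l := 2) rfl N911 D3355
theorem N1270 : nd 1270 = n3356 := ndS (p := 911) (l := 4) rfl N911 D3356
theorem N1271 : nd 1271 = n3363 := ndS (p := 912) (l := 4) rfl N912 D3363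
theorem N1272 : nd 1272 = n3366 := ndS (p := 913) (l := 5) rfl N913 D3366
theorem N1273 : nd 1273 = n3379 := ndS (p := 915) (l := 5) rfl N915 D3379
theorem N1274 : nd 1274 = n3381 := ndS (p := 916) (l := 1) rfl N916 D3381
theorem N1275 : nd 1275 = n3385 := ndS (p := 917) (l := 1) rfl N917 D3385
theorem N1276 : nd 1276 = n3386 := ndS (p := 917) (l := 6) rfl N917 D3386
theorem N1277 : nd 1277 = n3389 := ndS (p := 918) (l := 0) rfl N918 D3389
theorem N1278 : nd 1278 = n3408 := ndS (p := 924) (l := 2) rfl N924 D3408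
theorem N1279 : nd 1279 = n3410 := ndS (p := 925) (l := 0) rfl N925 D3410
theorem N1280 : nd 1280 = n3411 := ndS (p := 925) (l := 2) rfl N925 D3411
theorem N1281 : nd 1281 = n3412 := ndS (p := 925) (l := 6) rfl N925 D3412
theorem N1282 : nd 1282 = n3413 := ndS (p := 926) (l := 0) rfl N926 D3413
theorem N1283 : nd 1283 = n3415 := ndS (p := 926) (l := 5) rfl N926 D3415
theorem N1284 : nd 1284 = n3416 := ndS (p := 927) (l := 1) rfl N927 D3416
theorem N1285 : nd 1285 = n3428 := ndS (p := 932) (l := 0) rfl N932 D3428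
theorem N1286 : nd 1286 = n3429 := ndS (p := 932) (l := 2) rfl N932 D3429
theorem N1287 : nd 1287 = n3431 := ndS (p := 932) (l := 6) rfl N932 D3431
theorem N1288 : nd 1288 = n3432 := ndS (p := 933) (l := 1) rfl N933 D3432
theorem N1289 : nd 1289 = n3434 := ndS (p := 933) (l := 6) rfl N933 D3434
theorem N1290 : nd 1290 = n3446 := ndS (p := 938) (l := 1) rfl N938 D3446
theorem N1291 : nd 1291 = n3449 := ndS (p := 939) (l := 3) rfl N939 D3449
theorem N1292 : nd 1292 = n3479 := ndS (p := 941) (l := 2) rfl N941 D3479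
theorem N1293 : nd 1293 = n3480 := ndS (p := 941) (l := 4) rfl N941 D3480
theorem N1294 : nd 1294 = n3481 := ndS (p := 941) (l := 5) rfl N941 D3481
theorem N1295 : nd 1295 = n3492 := ndS (p := 944) (l := 1) rfl N944 D3492
theorem N1296 : nd 1296 = n3493 := ndS (p := 944) (l := 3) rfl N944 D3493
theorem N1297 : nd 1297 = n3494 := ndS (p := 944) (l := 5) rfl N944 D3494
theorem N1298 : nd 1298 = n3495 := ndS (p := 944) (l := 6) rfl N944 D3495
theorem N1299 : nd 1299 = n3496 := ndS (p := 945) (l := 5) rfl N945 D3496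
theorem N1300 : nd 1300 = n3501 := ndS (p := 947) (l := 5) rfl N947 D3501
theorem N1301 : nd 1301 = n3510 := ndS (p := 949) (l := 4) rfl N949 D3510
theorem N1302 : nd 1302 = n3513 := ndS (p := 950) (l := 5) rfl N950 D3513
theorem N1303 : nd 1303 = n3524 := ndS (p := 954) (l := 5) rfl N954 D3524
theorem N1304 : nd 1304 = n3541 := ndS (p := 956) (l := 1) rfl N956 D3541
theorem N1305 : nd 1305 = n3542 := ndS (p := 956) (l := 6) rfl N956 D3542
theorem N1306 : nd 1306 = n3546 := ndS (p := 957) (l := 2) rfl N957 D3546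
theorem N1307 : nd 1307 = n3548 := ndS (p := 958) (l := 1) rfl N958 D3548
theorem N1308 : nd 1308 = n3553 := ndS (p := 959) (l := 0) rfl N959 D3553
theorem N1309 : nd 1309 = n3554 := ndS (p := 959) (l := 2) rfl N959 D3554
theorem N1310 : nd 1310 = n3555 := ndS (p := 959) (l := 6) rfl N959 D3555
theorem N1311 : nd 1311 = n3556 := ndS (p := 960) (l := 1) rfl N960 D3556
theorem N1312 : nd 1312 = n3565 := ndS (p := 965) (l := 1) rfl N965 D3565
theorem N1313 : nd 1313 = n3566 := ndS (p := 966) (l := 0) rfl N966 D3566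
theorem N1314 : nd 1314 = n3567 := ndS (p := 966) (l := 2) rfl N966 D3567
theorem N1315 : nd 1315 = n3568 := ndS (p := 966) (l := 5) rfl N966 D3568
theorem N1316 : nd 1316 = n3581 := ndS (p := 967) (l := 1) rfl N967 D3581
theorem N1317 : nd 1317 = n3584 := ndS (p := 969) (l := 2) rfl N969 D3584
theorem N1318 : nd 1318 = n3586 := ndS (p := 970) (l := 1) rfl N970 D3586
theorem N1319 : nd 1319 = n3587 := ndS (p := 970) (l := 2) rfl N970 D3587
theorem N1320 : nd 1320 = n3589 := ndS (p := 971) (l := 3) rfl N971 D3589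
theorem N1321 : nd 1321 = n3590 := ndS (p := 971) (l := 5) rfl N971 D3590
theorem N1322 : nd 1322 = n3605 := ndS (p := 973) (l := 1) rfl N973 D3605
theorem N1323 : nd 1323 = n3606 := ndS (p := 973) (l := 2) rfl N973 D3606
theorem N1324 : nd 1324 = n3607 := ndS (p := 973) (l := 6) rfl N973 D3607
theorem N1325 : nd 1325 = n3608 := ndS (p := 974) (l := 3) rfl N974 D3608
theorem N1326 : nd 1326 = n3610 := ndS (p := 975) (l := 1) rfl N975 D3610
theorem N1327 : nd 1327 = n3612 := ndS (p := 976) (l := 0) rfl N976 D3612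
theorem N1328 : nd 1328 = n3613 := ndS (p := 976) (l := 2) rfl N976 D3613
theorem N1329 : nd 1329 = n3626 := ndS (p := 977) (l := 2) rfl N977 D3626
theorem N1330 : nd 1330 = n3640 := ndS (p := 981) (l := 1) rfl N981 D3640
theorem N1331 : nd 1331 = n3641 := ndS (p := 981) (l := 2) rfl N981 D3641
theorem N1332 : nd 1332 = n3678 := ndS (p := 983) (l := 0) rfl N983 D3678
theorem N1333 : nd 1333 = n3680 := ndS (p := 983) (l := 6) rfl N983 D3680
theorem N1334 : nd 1334 = n3681 := ndS (p := 984) (l := 1) rfl N984 D3681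
theorem N1335 : nd 1335 = n3687 := ndS (p := 986) (l := 2) rfl N986 D3687
theorem N1336 : nd 1336 = n3688 := ndS (p := 987) (l := 3) rfl N987 D3688
theorem N1337 : nd 1337 = n3689 := ndS (p := 987) (l := 5) rfl N987 D3689
theorem N1338 : nd 1338 = n3695 := ndS (p := 989) (l := 2) rfl N989 D3695
theorem N1339 : nd 1339 = n3698 := ndS (p := 990) (l := 1) rfl N990 D3698
theorem N1340 : nd 1340 = n3699 := ndS (p := 990) (l := 3) rfl N990 D3699
theorem N1341 : nd 1341 = n3700 := ndS (p := 990) (l := 5) rfl N990 D3700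
theorem N1342 : nd 1342 = n3704 := ndS (p := 992) (l := 5) rfl N992 D3704
theorem N1343 : nd 1343 = n3705 := ndS (p := 993) (l := 1) rfl N993 D3705
theorem N1344 : nd 1344 = n3751 := ndS (p := 994) (l := 0) rfl N994 D3751
theorem N1345 : nd 1345 = n3811 := ndS (p := 997) (l := 1) rfl N997 D3811
theorem N1346 : nd 1346 = n3812 := ndS (p := 997) (l := 2) rfl N997 D3812
theorem N1347 : nd 1347 = n3823 := ndS (p := 999) (l := 2) rfl N999 D3823
theorem N1348 : nd 1348 = n3825 := ndS (p := 1000) (l := 1) rfl N1000 D3825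
theorem N1349 : nd 1349 = n3826 := ndS (p := 1000) (l := 3) rfl N1000 D3826
theorem N1350 : nd 1350 = n3829 := ndS (p := 1001) (l := 4) rfl N1001 D3829
theorem N1351 : nd 1351 = n3837 := ndS (p := 1003) (l := 5) rfl N1003 D3837
theorem N1352 : nd 1352 = n3841 := ndS (p := 1005) (l := 1) rfl N1005 D3841
theorem N1353 : nd 1353 = n3842 := ndS (p := 1005) (l := 6) rfl N1005 D3842
theorem N1354 : nd 1354 = n3844 := ndS (p := 1007) (l := 2) rfl N1007 D3844
theorem N1355 : nd 1355 = n3845 := ndS (p := 1007) (l := 5) rfl N1007 D3845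
theorem N1356 : nd 1356 = n3846 := ndS (p := 1008) (l := 1) rfl N1008 D3846
theorem N1357 : nd 1357 = n3847 := ndS (p := 1008) (l := 3) rfl N1008 D3847
theorem N1358 : nd 1358 = n3848 := ndS (p := 1008) (l := 5) rfl N1008 D3848
theorem N1359 : nd 1359 = n3849 := ndS (p := 1008) (l := 6) rfl N1008 D3849
theorem N1360 : nd 1360 = n3852 := ndS (p := 1011) (l := 0) rfl N1011 D3852
theorem N1361 : nd 1361 = n3853 := ndS (p := 1011) (l := 5) rfl N1011 D3853
theorem N1362 : nd 1362 = n3854 := ndS (p := 1011) (l := 6) rfl N1011 D3854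
theorem N1363 : nd 1363 = n3868 := ndS (p := 1014) (l := 1) rfl N1014 D3868
theorem N1364 : nd 1364 = n3884 := ndS (p := 1016) (l := 5) rfl N1016 D3884
theorem N1365 : nd 1365 = n3886 := ndS (p := 1017) (l := 1) rfl N1017 D3886
theorem N1366 : nd 1366 = n3892 := ndS (p := 1018) (l := 5) rfl N1018 D3892
theorem N1367 : nd 1367 = n3894 := ndS (p := 1019) (l := 6) rfl N1019 D3894
theorem N1368 : nd 1368 = n3896 := ndS (p := 1020) (l := 5) rfl N1020 D3896
theorem N1369 : nd 1369 = n3906 := ndS (p := 1022) (l := 2) rfl N1022 D3906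
theorem N1370 : nd 1370 = n3908 := ndS (p := 1023) (l := 3) rfl N1023 D3908
theorem N1371 : nd 1371 = n3909 := ndS (p := 1023) (l := 6) rfl N1023 D3909
theorem N1372 : nd 1372 = n3919 := ndS (p := 1025) (l := 0) rfl N1025 D3919
theorem N1373 : nd 1373 = n3920 := ndS (p := 1025) (l := 2) rfl N1025 D3920
theorem N1374 : nd 1374 = n3921 := ndS (p := 1025) (l := 6) rfl N1025 D3921
theorem N1375 : nd 1375 = n3924 := ndS (p := 1026) (l := 0) rfl N1026 D3924
theorem N1376 : nd 1376 = n3927 := ndS (p := 1027) (l := 1) rfl N1027 D3927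
theorem N1377 : nd 1377 = n3928 := ndS (p := 1027) (l := 2) rfl N1027 D3928
theorem N1378 : nd 1378 = n3929 := ndS (p := 1027) (l := 6) rfl N1027 D3929
theorem N1379 : nd 1379 = n3930 := ndS (p := 1028) (l := 3) rfl N1028 D3930
theorem N1380 : nd 1380 = n3931 := ndS (p := 1028) (l := 6) rfl N1028 D3931
theorem N1381 : nd 1381 = n3932 := ndS (p := 1029) (l := 5) rfl N1029 D3932
theorem N1382 : nd 1382 = n3933 := ndS (p := 1030) (l := 4) rfl N1030 D3933
theorem N1383 : nd 1383 = n3936 := ndS (p := 1031) (l := 0) rfl N1031 D3936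
theorem N1384 : nd 1384 = n3942 := ndS (p := 1032) (l := 1) rfl N1032 D3942
theorem N1385 : nd 1385 = n3943 := ndS (p := 1032) (l := 2) rfl N1032 D3943
theorem N1386 : nd 1386 = n3944 := ndS (p := 1033) (l := 3) rfl N1033 D3944
theorem N1387 : nd 1387 = n3950 := ndS (p := 1035) (l := 0) rfl N1035 D3950
theorem N1388 : nd 1388 = n3953 := ndS (p := 1036) (l := 0) rfl N1036 D3953
theorem N1389 : nd 1389 = n3954 := ndS (p := 1036) (l := 2) rfl N1036 D3954
theorem N1390 : nd 1390 = n3955 := ndS (p := 1036) (l := 5) rfl N1036 D3955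
theorem N1391 : nd 1391 = n3956 := ndS (p := 1036) (l := 6) rfl N1036 D3956
theorem N1392 : nd 1392 = n3961 := ndS (p := 1039) (l := 2) rfl N1039 D3961
theorem N1393 : nd 1393 = n3962 := ndS (p := 1039) (l := 4) rfl N1039 D3962
theorem N1394 : nd 1394 = n3964 := ndS (p := 1040) (l := 1) rfl N1040 D3964
theorem N1395 : nd 1395 = n3970 := ndS (p := 1042) (l := 6) rfl N1042 D3970
theorem N1396 : nd 1396 = n3971 := ndS (p := 1043) (l := 1) rfl N1043 D3971
theorem N1397 : nd 1397 = n3972 := ndS (p := 1044) (l := 0) rfl N1044 D3972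
theorem N1398 : nd 1398 = n3974 := ndS (p := 1045) (l := 5) rfl N1045 D3974
theorem N1399 : nd 1399 = n3978 := ndS (p := 1046) (l := 1) rfl N1046 D3978
theorem N1400 : nd 1400 = n3979 := ndS (p := 1046) (l := 6) rfl N1046 D3979
theorem N1401 : nd 1401 = n3985 := ndS (p := 1048) (l := 2) rfl N1048 D3985
theorem N1402 : nd 1402 = n3986 := ndS (p := 1048) (l := 6) rfl N1048 D3986
theorem N1403 : nd 1403 = n3994 := ndS (p := 1049) (l := 0) rfl N1049 D3994
theorem N1404 : nd 1404 = n3996 := ndS (p := 1049) (l := 6) rfl N1049 D3996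
theorem N1405 : nd 1405 = n3999 := ndS (p := 1052) (l := 1) rfl N1052 D3999
theorem N1406 : nd 1406 = n4000 := ndS (p := 1053) (l := 1) rfl N1053 D4000
theorem N1407 : nd 1407 = n4009 := ndS (p := 1056) (l := 1) rfl N1056 D4009
theorem N1408 : nd 1408 = n4012 := ndS (p := 1057) (l := 0) rfl N1057 D4012
theorem N1409 : nd 1409 = n4016 := ndS (p := 1058) (l := 2) rfl N1058 D4016
theorem N1410 : nd 1410 = n4017 := ndS (p := 1058) (l := 6) rfl N1058 D4017
theorem N1411 : nd 1411 = n4021 := ndS (p := 1061) (l := 0) rfl N1061 D4021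
theorem N1412 : nd 1412 = n4024 := ndS (p := 1061) (l := 6) rfl N1061 D4024
theorem N1413 : nd 1413 = n4025 := ndS (p := 1062) (l := 1) rfl N1062 D4025
theorem N1414 : nd 1414 = n4026 := ndS (p := 1063) (l := 0) rfl N1063 D4026
theorem N1415 : nd 1415 = n4027 := ndS (p := 1063) (l := 2) rfl N1063 D4027
theorem N1416 : nd 1416 = n4030 := ndS (p := 1065) (l := 1) rfl N1065 D4030
theorem N1417 : nd 1417 = n4031 := ndS (p := 1065) (l := 2) rfl N1065 D4031
theorem N1418 : nd 1418 = n4033 := ndS (p := 1066) (l := 3) rfl N1066 D4033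
theorem N1419 : nd 1419 = n4034 := ndS (p := 1066) (l := 5) rfl N1066 D4034
theorem N1420 : nd 1420 = n4037 := ndS (p := 1069) (l := 5) rfl N1069 D4037
theorem N1421 : nd 1421 = n4039 := ndS (p := 1071) (l := 1) rfl N1071 D4039
theorem N1422 : nd 1422 = n4040 := ndS (p := 1071) (l := 6) rfl N1071 D4040
theorem N1423 : nd 1423 = n4043 := ndS (p := 1072) (l := 2) rfl N1072 D4043
theorem N1424 : nd 1424 = n4046 := ndS (p := 1074) (l := 3) rfl N1074 D4046
theorem N1425 : nd 1425 = n4053 := ndS (p := 1075) (l := 2) rfl N1075 D4053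
theorem N1426 : nd 1426 = n4054 := ndS (p := 1076) (l := 3) rfl N1076 D4054
theorem N1427 : nd 1427 = n4056 := ndS (p := 1077) (l := 2) rfl N1077 D4056
theorem N1428 : nd 1428 = n4057 := ndS (p := 1078) (l := 3) rfl N1078 D4057
theorem N1429 : nd 1429 = n4058 := ndS (p := 1078) (l := 6) rfl N1078 D4058
theorem N1430 : nd 1430 = n4059 := ndS (p := 1080) (l := 5) rfl N1080 D4059
theorem N1431 : nd 1431 = n4061 := ndS (p := 1081) (l := 2) rfl N1081 D4061
theorem N1432 : nd 1432 = n4062 := ndS (p := 1081) (l := 5) rfl N1081 D4062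
theorem N1433 : nd 1433 = n4068 := ndS (p := 1083) (l := 1) rfl N1083 D4068
theorem N1434 : nd 1434 = n4100 := ndS (p := 1087) (l := 5) rfl N1087 D4100
theorem N1435 : nd 1435 = n4102 := ndS (p := 1088) (l := 2) rfl N1088 D4102
theorem N1436 : nd 1436 = n4108 := ndS (p := 1091) (l := 5) rfl N1091 D4108
theorem N1437 : nd 1437 = n4112 := ndS (p := 1092) (l := 1) rfl N1092 D4112
theorem N1438 : nd 1438 = n4116 := ndS (p := 1093) (l := 0) rfl N1093 D4116
theorem N1439 : nd 1439 = n4122 := ndS (p := 1094) (l := 1) rfl N1094 D4122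
theorem N1440 : nd 1440 = n4123 := ndS (p := 1095) (l := 1) rfl N1095 D4123
theorem N1441 : nd 1441 = n4124 := ndS (p := 1095) (l := 6) rfl N1095 D4124
theorem N1442 : nd 1442 = n4127 := ndS (p := 1096) (l := 0) rfl N1096 D4127
theorem N1443 : nd 1443 = n4128 := ndS (p := 1096) (l := 2) rfl N1096 D4128
theorem N1444 : nd 1444 = n4129 := ndS (p := 1096) (l := 6) rfl N1096 D4129
theorem N1445 : nd 1445 = n4130 := ndS (p := 1097) (l := 1) rfl N1097 D4130
theorem N1446 : nd 1446 = n4134 := ndS (p := 1098) (l := 1) rfl N1098 D4134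
theorem N1447 : nd 1447 = n4135 := ndS (p := 1099) (l := 1) rfl N1099 D4135
theorem N1448 : nd 1448 = n4136 := ndS (p := 1099) (l := 2) rfl N1099 D4136
theorem N1449 : nd 1449 = n4137 := ndS (p := 1099) (l := 6) rfl N1099 D4137
theorem N1450 : nd 1450 = n4140 := ndS (p := 1101) (l := 1) rfl N1101 D4140
theorem N1451 : nd 1451 = n4141 := ndS (p := 1101) (l := 5) rfl N1101 D4141
theorem N1452 : nd 1452 = n4142 := ndS (p := 1102) (l := 0) rfl N1102 D4142
theorem N1453 : nd 1453 = n4150 := ndS (p := 1105) (l := 4) rfl N1105 D4150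
theorem N1454 : nd 1454 = n4166 := ndS (p := 1107) (l := 2) rfl N1107 D4166
theorem N1455 : nd 1455 = n4183 := ndS (p := 1109) (l := 0) rfl N1109 D4183
theorem N1456 : nd 1456 = n4184 := ndS (p := 1109) (l := 2) rfl N1109 D4184
theorem N1457 : nd 1457 = n4185 := ndS (p := 1109) (l := 6) rfl N1109 D4185
theorem N1458 : nd 1458 = n4187 := ndS (p := 1110) (l := 2) rfl N1110 D4187
theorem N1459 : nd 1459 = n4189 := ndS (p := 1111) (l := 1) rfl N1111 D4189
theorem N1460 : nd 1460 = n4200 := ndS (p := 1114) (l := 5) rfl N1114 D4200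
theorem N1461 : nd 1461 = n4201 := ndS (p := 1115) (l := 0) rfl N1115 D4201
theorem N1462 : nd 1462 = n4212 := ndS (p := 1116) (l := 2) rfl N1116 D4212
theorem N1463 : nd 1463 = n4215 := ndS (p := 1117) (l := 2) rfl N1117 D4215
theorem N1464 : nd 1464 = n4218 := ndS (p := 1118) (l := 1) rfl N1118 D4218
theorem N1465 : nd 1465 = n4226 := ndS (p := 1120) (l := 0) rfl N1120 D4226
theorem N1466 : nd 1466 = n4228 := ndS (p := 1121) (l := 1) rfl N1121 D4228
theorem N1467 : nd 1467 = n4243 := ndS (p := 1123) (l := 0) rfl N1123 D4243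
theorem N1468 : nd 1468 = n4244 := ndS (p := 1123) (l := 3) rfl N1123 D4244
theorem N1469 : nd 1469 = n4245 := ndS (p := 1123) (l := 5) rfl N1123 D4245
theorem N1470 : nd 1470 = n4246 := ndS (p := 1123) (l := 6) rfl N1123 D4246
theorem N1471 : nd 1471 = n4247 := ndS (p := 1124) (l := 4) rfl N1124 D4247
theorem N1472 : nd 1472 = n4248 := ndS (p := 1126) (l := 1) rfl N1126 D4248
theorem N1473 : nd 1473 = n4251 := ndS (p := 1127) (l := 1) rfl N1127 D4251
theorem N1474 : nd 1474 = n4254 := ndS (p := 1128) (l := 1) rfl N1128 D4254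
theorem N1475 : nd 1475 = n4258 := ndS (p := 1129) (l := 1) rfl N1129 D4258
theorem N1476 : nd 1476 = n4260 := ndS (p := 1130) (l := 0) rfl N1130 D4260
theorem N1477 : nd 1477 = n4261 := ndS (p := 1130) (l := 2) rfl N1130 D4261
theorem N1478 : nd 1478 = n4262 := ndS (p := 1130) (l := 6) rfl N1130 D4262
theorem N1479 : nd 1479 = n4266 := ndS (p := 1131) (l := 2) rfl N1131 D4266
theorem N1480 : nd 1480 = n4273 := ndS (p := 1132) (l := 6) rfl N1132 D4273
theorem N1481 : nd 1481 = n4277 := ndS (p := 1134) (l := 2) rfl N1134 D4277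
theorem N1482 : nd 1482 = n4278 := ndS (p := 1135) (l := 3) rfl N1135 D4278
theorem N1483 : nd 1483 = n4284 := ndS (p := 1137) (l := 0) rfl N1137 D4284
theorem N1484 : nd 1484 = n4285 := ndS (p := 1137) (l := 2) rfl N1137 D4285
theorem N1485 : nd 1485 = n4288 := ndS (p := 1138) (l := 2) rfl N1138 D4288
theorem N1486 : nd 1486 = n4289 := ndS (p := 1138) (l := 6) rfl N1138 D4289
theorem N1487 : nd 1487 = n4294 := ndS (p := 1141) (l := 2) rfl N1141 D4294
theorem N1488 : nd 1488 = n4297 := ndS (p := 1142) (l := 1) rfl N1142 D4297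
theorem N1489 : nd 1489 = n4298 := ndS (p := 1142) (l := 3) rfl N1142 D4298
theorem N1490 : nd 1490 = n4299 := ndS (p := 1142) (l := 6) rfl N1142 D4299
theorem N1491 : nd 1491 = n4300 := ndS (p := 1143) (l := 1) rfl N1143 D4300
theorem N1492 : nd 1492 = n4301 := ndS (p := 1144) (l := 2) rfl N1144 D4301
theorem N1493 : nd 1493 = n4302 := ndS (p := 1144) (l := 4) rfl N1144 D4302
theorem N1494 : nd 1494 = n4303 := ndS (p := 1144) (l := 6) rfl N1144 D4303
theorem N1495 : nd 1495 = n4304 := ndS (p := 1145) (l := 5) rfl N1145 D4304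
theorem N1496 : nd 1496 = n4310 := ndS (p := 1148) (l := 4) rfl N1148 D4310
theorem N1497 : nd 1497 = n4311 := ndS (p := 1149) (l := 1) rfl N1149 D4311
theorem N1498 : nd 1498 = n4315 := ndS (p := 1151) (l := 1) rfl N1151 D4315
theorem N1499 : nd 1499 = n4317 := ndS (p := 1152) (l := 0) rfl N1152 D4317
theorem N1500 : nd 1500 = n4318 := ndS (p := 1152) (l := 2) rfl N1152 D4318
theorem N1501 : nd 1501 = n4319 := ndS (p := 1152) (l := 6) rfl N1152 D4319
theorem N1502 : nd 1502 = n4325 := ndS (p := 1153) (l := 1) rfl N1153 D4325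
theorem N1503 : nd 1503 = n4328 := ndS (p := 1154) (l := 3) rfl N1154 D4328
theorem N1504 : nd 1504 = n4330 := ndS (p := 1155) (l := 5) rfl N1155 D4330
theorem N1505 : nd 1505 = n4341 := ndS (p := 1156) (l := 1) rfl N1156 D4341
theorem N1506 : nd 1506 = n4360 := ndS (p := 1157) (l := 0) rfl N1157 D4360
theorem N1507 : nd 1507 = n4361 := ndS (p := 1157) (l := 2) rfl N1157 D4361
theorem N1508 : nd 1508 = n4363 := ndS (p := 1158) (l := 1) rfl N1158 D4363
theorem N1509 : nd 1509 = n4364 := ndS (p := 1158) (l := 2) rfl N1158 D4364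
theorem N1510 : nd 1510 = n4366 := ndS (p := 1159) (l := 3) rfl N1159 D4366
theorem N1511 : nd 1511 = n4367 := ndS (p := 1159) (l := 6) rfl N1159 D4367
theorem N1512 : nd 1512 = n4369 := ndS (p := 1161) (l := 2) rfl N1161 D4369
theorem N1513 : nd 1513 = n4372 := ndS (p := 1162) (l := 1) rfl N1162 D4372
theorem N1514 : nd 1514 = n4375 := ndS (p := 1162) (l := 6) rfl N1162 D4375
theorem N1515 : nd 1515 = n4377 := ndS (p := 1163) (l := 1) rfl N1163 D4377
theorem N1516 : nd 1516 = n4382 := ndS (p := 1164) (l := 6) rfl N1164 D4382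
theorem N1517 : nd 1517 = n4385 := ndS (p := 1166) (l := 1) rfl N1166 D4385
theorem N1518 : nd 1518 = n4386 := ndS (p := 1167) (l := 0) rfl N1167 D4386
theorem N1519 : nd 1519 = n4392 := ndS (p := 1168) (l := 6) rfl N1168 D4392
theorem N1520 : nd 1520 = n4393 := ndS (p := 1169) (l := 1) rfl N1169 D4393
theorem N1521 : nd 1521 = n4395 := ndS (p := 1170) (l := 0) rfl N1170 D4395
theorem N1522 : nd 1522 = n4396 := ndS (p := 1170) (l := 5) rfl N1170 D4396
theorem N1523 : nd 1523 = n4404 := ndS (p := 1173) (l := 0) rfl N1173 D4404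
theorem N1524 : nd 1524 = n4407 := ndS (p := 1174) (l := 1) rfl N1174 D4407
theorem N1525 : nd 1525 = n4408 := ndS (p := 1174) (l := 2) rfl N1174 D4408
theorem N1526 : nd 1526 = n4410 := ndS (p := 1175) (l := 6) rfl N1175 D4410
theorem N1527 : nd 1527 = n4415 := ndS (p := 1178) (l := 0) rfl N1178 D4415
theorem N1528 : nd 1528 = n4416 := ndS (p := 1178) (l := 2) rfl N1178 D4416
theorem N1529 : nd 1529 = n4417 := ndS (p := 1178) (l := 5) rfl N1178 D4417
theorem N1530 : nd 1530 = n4418 := ndS (p := 1178) (l := 6) rfl N1178 D4418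
theorem N1531 : nd 1531 = n4419 := ndS (p := 1179) (l := 1) rfl N1179 D4419
theorem N1532 : nd 1532 = n4420 := ndS (p := 1179) (l := 3) rfl N1179 D4420
theorem N1533 : nd 1533 = n4421 := ndS (p := 1179) (l := 6) rfl N1179 D4421
theorem N1534 : nd 1534 = n4425 := ndS (p := 1181) (l := 6) rfl N1181 D4425
theorem N1535 : nd 1535 = n4433 := ndS (p := 1185) (l := 1) rfl N1185 D4433
theorem N1536 : nd 1536 = n4434 := ndS (p := 1185) (l := 3) rfl N1185 D4434
theorem N1537 : nd 1537 = n4435 := ndS (p := 1185) (l := 5) rfl N1185 D4435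
theorem N1538 : nd 1538 = n4436 := ndS (p := 1185) (l := 6) rfl N1185 D4436
theorem N1539 : nd 1539 = n4437 := ndS (p := 1186) (l := 2) rfl N1186 D4437
theorem N1540 : nd 1540 = n4438 := ndS (p := 1186) (l := 4) rfl N1186 D4438
theorem N1541 : nd 1541 = n4439 := ndS (p := 1186) (l := 5) rfl N1186 D4439
theorem N1542 : nd 1542 = n4440 := ndS (p := 1186) (l := 6) rfl N1186 D4440
theorem N1543 : nd 1543 = n4441 := ndS (p := 1187) (l := 6) rfl N1187 D4441
theorem N1544 : nd 1544 = n4442 := ndS (p := 1188) (l := 5) rfl N1188 D4442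
theorem N1545 : nd 1545 = n4447 := ndS (p := 1191) (l := 1) rfl N1191 D4447
theorem N1546 : nd 1546 = n4448 := ndS (p := 1191) (l := 5) rfl N1191 D4448
theorem N1547 : nd 1547 = n4449 := ndS (p := 1192) (l := 0) rfl N1192 D4449
theorem N1548 : nd 1548 = n4450 := ndS (p := 1192) (l := 2) rfl N1192 D4450
theorem N1549 : nd 1549 = n4451 := ndS (p := 1192) (l := 5) rfl N1192 D4451
theorem N1550 : nd 1550 = n4454 := ndS (p := 1194) (l := 5) rfl N1194 D4454
theorem N1551 : nd 1551 = n4455 := ndS (p := 1195) (l := 1) rfl N1195 D4455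
theorem N1552 : nd 1552 = n4456 := ndS (p := 1195) (l := 6) rfl N1195 D4456
theorem N1553 : nd 1553 = n4457 := ndS (p := 1196) (l := 0) rfl N1196 D4457
theorem N1554 : nd 1554 = n4493 := ndS (p := 1198) (l := 5) rfl N1198 D4493
theorem N1555 : nd 1555 = n4507 := ndS (p := 1202) (l := 1) rfl N1202 D4507
theorem N1556 : nd 1556 = n4512 := ndS (p := 1203) (l := 2) rfl N1203 D4512
theorem N1557 : nd 1557 = n4518 := ndS (p := 1204) (l := 1) rfl N1204 D4518
theorem N1558 : nd 1558 = n4521 := ndS (p := 1206) (l := 3) rfl N1206 D4521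
theorem N1559 : nd 1559 = n4530 := ndS (p := 1209) (l := 2) rfl N1209 D4530
theorem N1560 : nd 1560 = n4532 := ndS (p := 1210) (l := 0) rfl N1210 D4532
theorem N1561 : nd 1561 = n4533 := ndS (p := 1210) (l := 2) rfl N1210 D4533
theorem N1562 : nd 1562 = n4534 := ndS (p := 1210) (l := 6) rfl N1210 D4534
theorem N1563 : nd 1563 = n4539 := ndS (p := 1211) (l := 2) rfl N1211 D4539
theorem N1564 : nd 1564 = n4540 := ndS (p := 1211) (l := 6) rfl N1211 D4540
theorem N1565 : nd 1565 = n4541 := ndS (p := 1212) (l := 3) rfl N1212 D4541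
theorem N1566 : nd 1566 = n4542 := ndS (p := 1212) (l := 6) rfl N1212 D4542
theorem N1567 : nd 1567 = n4554 := ndS (p := 1217) (l := 1) rfl N1217 D4554
theorem N1568 : nd 1568 = n4555 := ndS (p := 1217) (l := 3) rfl N1217 D4555
theorem N1569 : nd 1569 = n4556 := ndS (p := 1217) (l := 6) rfl N1217 D4556
theorem N1570 : nd 1570 = n4558 := ndS (p := 1219) (l := 2) rfl N1219 D4558
theorem N1571 : nd 1571 = n4559 := ndS (p := 1219) (l := 4) rfl N1219 D4559
theorem N1572 : nd 1572 = n4560 := ndS (p := 1219) (l := 6) rfl N1219 D4560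
theorem N1573 : nd 1573 = n4576 := ndS (p := 1225) (l := 1) rfl N1225 D4576
theorem N1574 : nd 1574 = n4579 := ndS (p := 1227) (l := 0) rfl N1227 D4579
theorem N1575 : nd 1575 = n4580 := ndS (p := 1227) (l := 3) rfl N1227 D4580
theorem N1576 : nd 1576 = n4581 := ndS (p := 1227) (l := 5) rfl N1227 D4581
theorem N1577 : nd 1577 = n4582 := ndS (p := 1227) (l := 6) rfl N1227 D4582
theorem N1578 : nd 1578 = n4638 := ndS (p := 1230) (l := 0) rfl N1230 D4638
theorem N1579 : nd 1579 = n4690 := ndS (p := 1235) (l := 2) rfl N1235 D4690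
theorem N1580 : nd 1580 = n4724 := ndS (p := 1238) (l := 2) rfl N1238 D4724
theorem N1581 : nd 1581 = n4725 := ndS (p := 1238) (l := 6) rfl N1238 D4725
theorem N1582 : nd 1582 = n4728 := ndS (p := 1240) (l := 1) rfl N1240 D4728
theorem N1583 : nd 1583 = n4730 := ndS (p := 1241) (l := 0) rfl N1241 D4730
theorem N1584 : nd 1584 = n4731 := ndS (p := 1241) (l := 2) rfl N1241 D4731
theorem N1585 : nd 1585 = n4754 := ndS (p := 1244) (l := 1) rfl N1244 D4754
theorem N1586 : nd 1586 = n4757 := ndS (p := 1245) (l := 2) rfl N1245 D4757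
theorem N1587 : nd 1587 = n4758 := ndS (p := 1245) (l := 5) rfl N1245 D4758
theorem N1588 : nd 1588 = n4761 := ndS (p := 1247) (l := 2) rfl N1247 D4761
theorem N1589 : nd 1589 = n4763 := ndS (p := 1248) (l := 3) rfl N1248 D4763
theorem N1590 : nd 1590 = n4801 := ndS (p := 1250) (l := 2) rfl N1250 D4801
theorem N1591 : nd 1591 = n4802 := ndS (p := 1251) (l := 3) rfl N1251 D4802
theorem N1592 : nd 1592 = n4819 := ndS (p := 1257) (l := 1) rfl N1257 D4819
theorem N1593 : nd 1593 = n4859 := ndS (p := 1258) (l := 6) rfl N1258 D4859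
theorem N1594 : nd 1594 = n4862 := ndS (p := 1260) (l := 1) rfl N1260 D4862
theorem N1595 : nd 1595 = n4863 := ndS (p := 1261) (l := 0) rfl N1261 D4863
theorem N1596 : nd 1596 = n4896 := ndS (p := 1262) (l := 2) rfl N1262 D4896
theorem N1597 : nd 1597 = n4929 := ndS (p := 1268) (l := 2) rfl N1268 D4929
theorem N1598 : nd 1598 = n4940 := ndS (p := 1269) (l := 3) rfl N1269 D4940
theorem N1599 : nd 1599 = n4987 := ndS (p := 1273) (l := 1) rfl N1273 D4987
theorem N1600 : nd 1600 = n4999 := ndS (p := 1275) (l := 0) rfl N1275 D4999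
theorem N1601 : nd 1601 = n5052 := ndS (p := 1278) (l := 3) rfl N1278 D5052
theorem N1602 : nd 1602 = n5055 := ndS (p := 1279) (l := 1) rfl N1279 D5055
theorem N1603 : nd 1603 = n5067 := ndS (p := 1284) (l := 0) rfl N1284 D5067
theorem N1604 : nd 1604 = n5068 := ndS (p := 1284) (l := 2) rfl N1284 D5068
theorem N1605 : nd 1605 = n5070 := ndS (p := 1284) (l := 6) rfl N1284 D5070
theorem N1606 : nd 1606 = n5108 := ndS (p := 1288) (l := 6) rfl N1288 D5108
theorem N1607 : nd 1607 = n5112 := ndS (p := 1289) (l := 1) rfl N1289 D5112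
theorem N1608 : nd 1608 = n5208 := ndS (p := 1292) (l := 1) rfl N1292 D5208
theorem N1609 : nd 1609 = n5209 := ndS (p := 1292) (l := 3) rfl N1292 D5209
theorem N1610 : nd 1610 = n5210 := ndS (p := 1292) (l := 5) rfl N1292 D5210
theorem N1611 : nd 1611 = n5236 := ndS (p := 1295) (l := 3) rfl N1295 D5236
theorem N1612 : nd 1612 = n5239 := ndS (p := 1296) (l := 5) rfl N1296 D5239
theorem N1613 : nd 1613 = n5244 := ndS (p := 1298) (l := 5) rfl N1298 D5244
theorem N1614 : nd 1614 = n5342 := ndS (p := 1304) (l := 2) rfl N1304 D5342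
theorem N1615 : nd 1615 = n5344 := ndS (p := 1305) (l := 1) rfl N1305 D5344
theorem N1616 : nd 1616 = n5356 := ndS (p := 1307) (l := 0) rfl N1307 D5356
theorem N1617 : nd 1617 = n5357 := ndS (p := 1307) (l := 2) rfl N1307 D5357
theorem N1618 : nd 1618 = n5371 := ndS (p := 1309) (l := 3) rfl N1309 D5371
theorem N1619 : nd 1619 = n5375 := ndS (p := 1311) (l := 2) rfl N1311 D5375
theorem N1620 : nd 1620 = n5394 := ndS (p := 1312) (l := 2) rfl N1312 D5394
theorem N1621 : nd 1621 = n5396 := ndS (p := 1313) (l := 1) rfl N1313 D5396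
theorem N1622 : nd 1622 = n5397 := ndS (p := 1313) (l := 2) rfl N1313 D5397
theorem N1623 : nd 1623 = n5400 := ndS (p := 1314) (l := 5) rfl N1314 D5400
theorem N1624 : nd 1624 = n5476 := ndS (p := 1322) (l := 2) rfl N1322 D5476
theorem N1625 : nd 1625 = n5492 := ndS (p := 1327) (l := 1) rfl N1327 D5492
theorem N1626 : nd 1626 = n5493 := ndS (p := 1327) (l := 2) rfl N1327 D5493
theorem N1627 : nd 1627 = n5554 := ndS (p := 1330) (l := 2) rfl N1330 D5554
theorem N1628 : nd 1628 = n5660 := ndS (p := 1335) (l := 3) rfl N1335 D5660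
theorem N1629 : nd 1629 = n5664 := ndS (p := 1337) (l := 1) rfl N1337 D5664
theorem N1630 : nd 1630 = n5796 := ndS (p := 1344) (l := 1) rfl N1344 D5796
theorem N1631 : nd 1631 = n5912 := ndS (p := 1345) (l := 2) rfl N1345 D5912
theorem N1632 : nd 1632 = n5913 := ndS (p := 1346) (l := 1) rfl N1346 D5913
theorem N1633 : nd 1633 = n5930 := ndS (p := 1347) (l := 1) rfl N1347 D5930
theorem N1634 : nd 1634 = n5931 := ndS (p := 1347) (l := 3) rfl N1347 D5931
theorem N1635 : nd 1635 = n5934 := ndS (p := 1348) (l := 3) rfl N1348 D5934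
theorem N1636 : nd 1636 = n5935 := ndS (p := 1348) (l := 5) rfl N1348 D5935
theorem N1637 : nd 1637 = n5936 := ndS (p := 1348) (l := 6) rfl N1348 D5936
theorem N1638 : nd 1638 = n5938 := ndS (p := 1349) (l := 4) rfl N1349 D5938
theorem N1639 : nd 1639 = n5969 := ndS (p := 1352) (l := 0) rfl N1352 D5969
theorem N1640 : nd 1640 = n5970 := ndS (p := 1352) (l := 6) rfl N1352 D5970
theorem N1641 : nd 1641 = n5972 := ndS (p := 1354) (l := 1) rfl N1354 D5972
theorem N1642 : nd 1642 = n5973 := ndS (p := 1354) (l := 3) rfl N1354 D5973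
theorem N1643 : nd 1643 = n5974 := ndS (p := 1354) (l := 5) rfl N1354 D5974
theorem N1644 : nd 1644 = n5975 := ndS (p := 1356) (l := 0) rfl N1356 D5975
theorem N1645 : nd 1645 = n5976 := ndS (p := 1356) (l := 3) rfl N1356 D5976
theorem N1646 : nd 1646 = n5978 := ndS (p := 1356) (l := 6) rfl N1356 D5978
theorem N1647 : nd 1647 = n5979 := ndS (p := 1357) (l := 2) rfl N1357 D5979
theorem N1648 : nd 1648 = n5980 := ndS (p := 1357) (l := 4) rfl N1357 D5980
theorem N1649 : nd 1649 = n5981 := ndS (p := 1357) (l := 5) rfl N1357 D5981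
theorem N1650 : nd 1650 = n5982 := ndS (p := 1357) (l := 6) rfl N1357 D5982
theorem N1651 : nd 1651 = n5983 := ndS (p := 1358) (l := 1) rfl N1358 D5983
theorem N1652 : nd 1652 = n5985 := ndS (p := 1359) (l := 1) rfl N1359 D5985
theorem N1653 : nd 1653 = n5989 := ndS (p := 1360) (l := 6) rfl N1360 D5989
theorem N1654 : nd 1654 = n5991 := ndS (p := 1362) (l := 5) rfl N1362 D5991
theorem N1655 : nd 1655 = n6021 := ndS (p := 1363) (l := 0) rfl N1363 D6021
theorem N1656 : nd 1656 = n6022 := ndS (p := 1363) (l := 6) rfl N1363 D6022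
theorem N1657 : nd 1657 = n6061 := ndS (p := 1366) (l := 1) rfl N1366 D6061
theorem N1658 : nd 1658 = n6067 := ndS (p := 1368) (l := 1) rfl N1368 D6067
theorem N1659 : nd 1659 = n6087 := ndS (p := 1369) (l := 3) rfl N1369 D6087
theorem N1660 : nd 1660 = n6089 := ndS (p := 1370) (l := 2) rfl N1370 D6089
theorem N1661 : nd 1661 = n6090 := ndS (p := 1370) (l := 4) rfl N1370 D6090
theorem N1662 : nd 1662 = n6091 := ndS (p := 1370) (l := 6) rfl N1370 D6091
theorem N1663 : nd 1663 = n6109 := ndS (p := 1372) (l := 2) rfl N1372 D6109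
theorem N1664 : nd 1664 = n6126 := ndS (p := 1376) (l := 2) rfl N1376 D6126
theorem N1665 : nd 1665 = n6134 := ndS (p := 1379) (l := 4) rfl N1379 D6134
theorem N1666 : nd 1666 = n6144 := ndS (p := 1383) (l := 1) rfl N1383 D6144
theorem N1667 : nd 1667 = n6155 := ndS (p := 1384) (l := 6) rfl N1384 D6155
theorem N1668 : nd 1668 = n6171 := ndS (p := 1387) (l := 1) rfl N1387 D6171
theorem N1669 : nd 1669 = n6175 := ndS (p := 1388) (l := 2) rfl N1388 D6175
theorem N1670 : nd 1670 = n6179 := ndS (p := 1389) (l := 3) rfl N1389 D6179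
theorem N1671 : nd 1671 = n6180 := ndS (p := 1389) (l := 5) rfl N1389 D6180
theorem N1672 : nd 1672 = n6197 := ndS (p := 1392) (l := 4) rfl N1392 D6197
theorem N1673 : nd 1673 = n6203 := ndS (p := 1394) (l := 5) rfl N1394 D6203
theorem N1674 : nd 1674 = n6215 := ndS (p := 1396) (l := 2) rfl N1396 D6215
theorem N1675 : nd 1675 = n6225 := ndS (p := 1399) (l := 2) rfl N1399 D6225
theorem N1676 : nd 1676 = n6226 := ndS (p := 1399) (l := 6) rfl N1399 D6226
theorem N1677 : nd 1677 = n6322 := ndS (p := 1413) (l := 2) rfl N1413 D6322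
theorem N1678 : nd 1678 = n6324 := ndS (p := 1414) (l := 2) rfl N1414 D6324
theorem N1679 : nd 1679 = n6325 := ndS (p := 1415) (l := 3) rfl N1415 D6325
theorem N1680 : nd 1680 = n6333 := ndS (p := 1417) (l := 1) rfl N1417 D6333
theorem N1681 : nd 1681 = n6334 := ndS (p := 1417) (l := 3) rfl N1417 D6334
theorem N1682 : nd 1682 = n6337 := ndS (p := 1418) (l := 2) rfl N1418 D6337
theorem N1683 : nd 1683 = n6345 := ndS (p := 1421) (l := 2) rfl N1421 D6345
theorem N1684 : nd 1684 = n6352 := ndS (p := 1423) (l := 3) rfl N1423 D6352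
theorem N1685 : nd 1685 = n6356 := ndS (p := 1424) (l := 2) rfl N1424 D6356
theorem N1686 : nd 1686 = n6357 := ndS (p := 1424) (l := 4) rfl N1424 D6357
theorem N1687 : nd 1687 = n6376 := ndS (p := 1428) (l := 4) rfl N1428 D6376
theorem N1688 : nd 1688 = n6381 := ndS (p := 1431) (l := 5) rfl N1431 D6381
theorem N1689 : nd 1689 = n6395 := ndS (p := 1433) (l := 2) rfl N1433 D6395
theorem N1690 : nd 1690 = n6472 := ndS (p := 1436) (l := 1) rfl N1436 D6472
theorem N1691 : nd 1691 = n6481 := ndS (p := 1437) (l := 2) rfl N1437 D6481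
theorem N1692 : nd 1692 = n6499 := ndS (p := 1439) (l := 2) rfl N1439 D6499
theorem N1693 : nd 1693 = n6500 := ndS (p := 1439) (l := 6) rfl N1439 D6500
theorem N1694 : nd 1694 = n6502 := ndS (p := 1440) (l := 2) rfl N1440 D6502
theorem N1695 : nd 1695 = n6510 := ndS (p := 1442) (l := 2) rfl N1442 D6510
theorem N1696 : nd 1696 = n6513 := ndS (p := 1443) (l := 6) rfl N1443 D6513
theorem N1697 : nd 1697 = n6514 := ndS (p := 1444) (l := 1) rfl N1444 D6514
theorem N1698 : nd 1698 = n6515 := ndS (p := 1444) (l := 5) rfl N1444 D6515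
theorem N1699 : nd 1699 = n6517 := ndS (p := 1445) (l := 2) rfl N1445 D6517
theorem N1700 : nd 1700 = n6527 := ndS (p := 1446) (l := 2) rfl N1446 D6527
theorem N1701 : nd 1701 = n6538 := ndS (p := 1450) (l := 0) rfl N1450 D6538
theorem N1702 : nd 1702 = n6717 := ndS (p := 1466) (l := 2) rfl N1466 D6717
theorem N1703 : nd 1703 = n6748 := ndS (p := 1467) (l := 1) rfl N1467 D6748
theorem N1704 : nd 1704 = n6751 := ndS (p := 1467) (l := 6) rfl N1467 D6751
theorem N1705 : nd 1705 = n6753 := ndS (p := 1468) (l := 4) rfl N1468 D6753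
theorem N1706 : nd 1706 = n6756 := ndS (p := 1469) (l := 6) rfl N1469 D6756
theorem N1707 : nd 1707 = n6757 := ndS (p := 1470) (l := 5) rfl N1470 D6757
theorem N1708 : nd 1708 = n6768 := ndS (p := 1473) (l := 2) rfl N1473 D6768
theorem N1709 : nd 1709 = n6784 := ndS (p := 1475) (l := 6) rfl N1475 D6784
theorem N1710 : nd 1710 = n6835 := ndS (p := 1483) (l := 2) rfl N1483 D6835
theorem N1711 : nd 1711 = n6857 := ndS (p := 1487) (l := 1) rfl N1487 D6857
theorem N1712 : nd 1712 = n6858 := ndS (p := 1487) (l := 3) rfl N1487 D6858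
theorem N1713 : nd 1713 = n6875 := ndS (p := 1492) (l := 4) rfl N1492 D6875
theorem N1714 : nd 1714 = n6877 := ndS (p := 1493) (l := 6) rfl N1493 D6877
theorem N1715 : nd 1715 = n6895 := ndS (p := 1497) (l := 6) rfl N1497 D6895
theorem N1716 : nd 1716 = n6906 := ndS (p := 1500) (l := 3) rfl N1500 D6906
theorem N1717 : nd 1717 = n6968 := ndS (p := 1507) (l := 3) rfl N1507 D6968
theorem N1718 : nd 1718 = n6974 := ndS (p := 1509) (l := 3) rfl N1509 D6974
theorem N1719 : nd 1719 = n6990 := ndS (p := 1513) (l := 6) rfl N1513 D6990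
theorem N1720 : nd 1720 = n7011 := ndS (p := 1516) (l := 1) rfl N1516 D7011
theorem N1721 : nd 1721 = n7015 := ndS (p := 1517) (l := 0) rfl N1517 D7015
theorem N1722 : nd 1722 = n7048 := ndS (p := 1523) (l := 1) rfl N1523 D7048
theorem N1723 : nd 1723 = n7052 := ndS (p := 1525) (l := 1) rfl N1525 D7052
theorem N1724 : nd 1724 = n7076 := ndS (p := 1531) (l := 5) rfl N1531 D7076
theorem N1725 : nd 1725 = n7077 := ndS (p := 1531) (l := 6) rfl N1531 D7077
theorem N1726 : nd 1726 = n7079 := ndS (p := 1532) (l := 6) rfl N1532 D7079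
theorem N1727 : nd 1727 = n7103 := ndS (p := 1536) (l := 2) rfl N1536 D7103
theorem N1728 : nd 1728 = n7105 := ndS (p := 1536) (l := 5) rfl N1536 D7105
theorem N1729 : nd 1729 = n7106 := ndS (p := 1536) (l := 6) rfl N1536 D7106
theorem N1730 : nd 1730 = n7108 := ndS (p := 1538) (l := 1) rfl N1538 D7108
theorem N1731 : nd 1731 = n7112 := ndS (p := 1539) (l := 6) rfl N1539 D7112
theorem N1732 : nd 1732 = n7114 := ndS (p := 1540) (l := 6) rfl N1540 D7114
theorem N1733 : nd 1733 = n7115 := ndS (p := 1541) (l := 6) rfl N1541 D7115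
theorem N1734 : nd 1734 = n7116 := ndS (p := 1542) (l := 5) rfl N1542 D7116
theorem N1735 : nd 1735 = n7144 := ndS (p := 1551) (l := 6) rfl N1551 D7144
theorem N1736 : nd 1736 = n7259 := ndS (p := 1557) (l := 2) rfl N1557 D7259
theorem N1737 : nd 1737 = n7294 := ndS (p := 1561) (l := 6) rfl N1561 D7294
theorem N1738 : nd 1738 = n7308 := ndS (p := 1563) (l := 6) rfl N1563 D7308
theorem N1739 : nd 1739 = n7310 := ndS (p := 1565) (l := 2) rfl N1565 D7310
theorem N1740 : nd 1740 = n7338 := ndS (p := 1567) (l := 3) rfl N1567 D7338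
theorem N1741 : nd 1741 = n7341 := ndS (p := 1568) (l := 2) rfl N1568 D7341
theorem N1742 : nd 1742 = n7390 := ndS (p := 1574) (l := 3) rfl N1574 D7390
theorem N1743 : nd 1743 = n7392 := ndS (p := 1574) (l := 6) rfl N1574 D7392
theorem N1744 : nd 1744 = n7398 := ndS (p := 1577) (l := 5) rfl N1577 D7398
theorem N1745 : nd 1745 = n7688 := ndS (p := 1582) (l := 5) rfl N1582 D7688
theorem N1746 : nd 1746 = n7691 := ndS (p := 1583) (l := 2) rfl N1583 D7691
theorem N1747 : nd 1747 = n7693 := ndS (p := 1584) (l := 3) rfl N1584 D7693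
theorem N1748 : nd 1748 = n7752 := ndS (p := 1586) (l := 5) rfl N1586 D7752
theorem N1749 : nd 1749 = n8022 := ndS (p := 1596) (l := 3) rfl N1596 D8022
theorem N1750 : nd 1750 = n8083 := ndS (p := 1597) (l := 1) rfl N1597 D8083
theorem N1751 : nd 1751 = n8293 := ndS (p := 1602) (l := 2) rfl N1602 D8293
theorem N1752 : nd 1752 = n8320 := ndS (p := 1603) (l := 2) rfl N1603 D8320
theorem N1753 : nd 1753 = n8326 := ndS (p := 1604) (l := 6) rfl N1604 D8326
theorem N1754 : nd 1754 = n8575 := ndS (p := 1608) (l := 3) rfl N1608 D8575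
theorem N1755 : nd 1755 = n8632 := ndS (p := 1613) (l := 1) rfl N1613 D8632
theorem N1756 : nd 1756 = n8802 := ndS (p := 1615) (l := 2) rfl N1615 D8802
theorem N1757 : nd 1757 = n8832 := ndS (p := 1616) (l := 2) rfl N1616 D8832
theorem N1758 : nd 1758 = n8920 := ndS (p := 1621) (l := 2) rfl N1621 D8920
theorem N1759 : nd 1759 = n8922 := ndS (p := 1622) (l := 1) rfl N1622 D8922
theorem N1760 : nd 1760 = n9079 := ndS (p := 1625) (l := 2) rfl N1625 D9079
theorem N1761 : nd 1761 = n9638 := ndS (p := 1630) (l := 0) rfl N1630 D9638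
theorem N1762 : nd 1762 = n9639 := ndS (p := 1630) (l := 2) rfl N1630 D9639
theorem N1763 : nd 1763 = n9641 := ndS (p := 1630) (l := 6) rfl N1630 D9641
theorem N1764 : nd 1764 = n9894 := ndS (p := 1635) (l := 6) rfl N1635 D9894
theorem N1765 : nd 1765 = n9948 := ndS (p := 1642) (l := 2) rfl N1642 D9948
theorem N1766 : nd 1766 = n9949 := ndS (p := 1642) (l := 4) rfl N1642 D9949
theorem N1767 : nd 1767 = n9950 := ndS (p := 1642) (l := 5) rfl N1642 D9950
theorem N1768 : nd 1768 = n9961 := ndS (p := 1647) (l := 1) rfl N1647 D9961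
theorem N1769 : nd 1769 = n9962 := ndS (p := 1647) (l := 3) rfl N1647 D9962
theorem N1770 : nd 1770 = n9967 := ndS (p := 1648) (l := 6) rfl N1648 D9967
theorem N1771 : nd 1771 = n9968 := ndS (p := 1649) (l := 1) rfl N1649 D9968
theorem N1772 : nd 1772 = n10036 := ndS (p := 1655) (l := 6) rfl N1655 D10036
theorem N1773 : nd 1773 = n10603 := ndS (p := 1688) (l := 1) rfl N1688 D10603
theorem N1774 : nd 1774 = n10746 := ndS (p := 1690) (l := 2) rfl N1690 D10746
theorem N1775 : nd 1775 = n10832 := ndS (p := 1696) (l := 1) rfl N1696 D10832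
theorem N1776 : nd 1776 = n10833 := ndS (p := 1696) (l := 5) rfl N1696 D10833
theorem N1777 : nd 1777 = n10835 := ndS (p := 1697) (l := 2) rfl N1697 D10835
theorem N1778 : nd 1778 = n11745 := ndS (p := 1729) (l := 1) rfl N1729 D11745
theorem N1779 : nd 1779 = n11948 := ndS (p := 1752) (l := 1) rfl N1752 D11948
theorem N1780 : nd 1780 = n11949 := ndS (p := 1758) (l := 1) rfl N1758 D11949
theorem N1781 : nd 1781 = n11950 := ndS (p := 1775) (l := 2) rfl N1775 D11950

theorem Q1 : ∀ i, i < 1 → P i := stepQ 0 Q0 (allL N0 (tt N0 F1) (tt N0 F2) (tt N0 F3) (tt N0 F4) (tt N0 F5) (tt N0 F6) (tt N1 D1))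
theorem Q2 : ∀ i, i < 2 → P i := stepQ 1 Q1 (allL N1 (tt N1 F7) (tt N2 D2) (tt N1 F8) (tt N1 F9) (tt N1 F10) (tt N1 F11) (tt N0 (iv D1)))
theorem Q3 : ∀ i, i < 3 → P i := stepQ 2 Q2 (allL N2 (tt N3 D3) (tt N1 (iv D2)) (tt N4 D4) (tt N2 F12) (tt N2 F13) (tt N5 D5) (tt N2 F14))
theorem Q4 : ∀ i, i < 4 → P i := stepQ 3 Q3 (allL N3 (tt N2 (iv D3)) (tt N6 D6) (tt N7 D7) (tt N3 F15) (tt N3 F16) (tt N6 (iv F34)) (tt N3 F17))
theorem Q5 : ∀ i, i < 5 → P i := stepQ 4 Q4 (allL N4 (tt N7 (iv F26)) (tt N4 F18) (tt N2 (iv D4)) (tt N8 D9) (tt N4 F19) (tt N9 D10) (tt N4 F20))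
theorem Q6 : ∀ i, i < 6 → P i := stepQ 5 Q5 (allL N5 (tt N6 (iv F33)) (tt N5 F21) (tt N9 (iv F38)) (tt N5 F22) (tt N5 F23) (tt N2 (iv D5)) (tt N6 (iv F35)))
theorem Q7 : ∀ i, i < 7 → P i := stepQ 6 Q6 (allL N6 (tt N5 F33) (tt N3 (iv D6)) (tt N10 D11) (tt N6 F24) (tt N6 F25) (tt N3 F34) (tt N5 F35))
theorem Q8 : ∀ i, i < 8 → P i := stepQ 7 Q7 (allL N7 (tt N4 F26) (tt N11 D12) (tt N3 (iv D7)) (tt N12 D13) (tt N7 F27) (tt N10 (iv F42)) (tt N7 F28))
theorem Q9 : ∀ i, i < 9 → P i := stepQ 8 Q8 (allL N8 (tt N12 (iv F45)) (tt N8 F36) (tt N13 D14) (tt N4 (iv D9)) (tt N14 D15) (tt N15 D16) (tt N8 F37))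
theorem Q10 : ∀ i, i < 10 → P i := stepQ 9 Q9 (allL N9 (tt N10 (iv F40)) (tt N16 D17) (tt N5 F38) (tt N15 (iv F51)) (tt N9 F39) (tt N4 (iv D10)) (tt N10 (iv F43)))
theorem Q11 : ∀ i, i < 11 → P i := stepQ 10 Q10 (allL N10 (tt N9 F40) (tt N17 D18) (tt N6 (iv D11)) (tt N18 D19) (tt N10 F41) (tt N7 F42) (tt N9 F43))
theorem Q12 : ∀ i, i < 12 → P i := stepQ 11 Q11 (allL N11 (tt N19 D20) (tt N7 (iv D12)) (tt N17 (iv F56)) (tt N20 D21) (tt N11 F44) (tt N21 D22) (tt N22 D23))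
theorem Q13 : ∀ i, i < 13 → P i := stepQ 12 Q12 (allL N12 (tt N8 F45) (tt N20 (iv F62)) (tt N23 D24) (tt N7 (iv D13)) (tt N24 D25) (tt N18 (iv F59)) (tt N12 F46))
theorem Q14 : ∀ i, i < 14 → P i := stepQ 13 Q13 (allL N13 (tt N23 (iv F66)) (tt N25 D26) (tt N8 (iv D14)) (tt N23 (iv F68)) (tt N26 D27) (tt N27 D28) (tt N13 F47))
theorem Q15 : ∀ i, i < 15 → P i := stepQ 14 Q14 (allL N14 (tt N24 (iv F69)) (tt N14 F48) (tt N26 (iv F73)) (tt N14 F49) (tt N8 (iv D15)) (tt N28 D29) (tt N14 F50))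
theorem Q16 : ∀ i, i < 16 → P i := stepQ 15 Q15 (allL N15 (tt N18 (iv F58)) (tt N29 D30) (tt N27 (iv F75)) (tt N9 F51) (tt N28 (iv F77)) (tt N8 (iv D16)) (tt N18 (iv F60)))
theorem Q17 : ∀ i, i < 17 → P i := stepQ 16 Q16 (allL N16 (tt N16 F55) (tt N9 (iv D17)) (tt N16 F52) (tt N29 (iv F78)) (tt N16 F53) (tt N16 F54) (tt N30 D31))
theorem Q18 : ∀ i, i < 18 → P i := stepQ 17 Q17 (allL N17 (tt N22 (iv F98)) (tt N10 (iv D18)) (tt N11 F56) (tt N31 D33) (tt N17 F57) (tt N32 D34) (tt N19 (iv F97)))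
theorem Q19 : ∀ i, i < 19 → P i := stepQ 18 Q18 (allL N18 (tt N15 F58) (tt N31 (iv F88)) (tt N33 D36) (tt N10 (iv D19)) (tt N34 D37) (tt N12 F59) (tt N15 F60))
theorem Q20 : ∀ i, i < 20 → P i := stepQ 19 Q19 (allL N19 (tt N11 (iv D20)) (tt N30 F96) (tt N22 (iv F99)) (tt N35 D38) (tt N19 F61) (tt N36 D39) (tt N17 F97))
theorem Q21 : ∀ i, i < 21 → P i := stepQ 20 Q20 (allL N20 (tt N35 (iv F108)) (tt N12 F62) (tt N37 D40) (tt N11 (iv D21)) (tt N38 D41) (tt N39 D42) (tt N40 D43))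
theorem Q22 : ∀ i, i < 22 → P i := stepQ 21 Q21 (allL N21 (tt N36 (iv F110)) (tt N32 (iv F89)) (tt N32 (iv F90)) (tt N39 (iv F115)) (tt N21 F63) (tt N11 (iv D22)) (tt N32 F95))
theorem Q23 : ∀ i, i < 23 → P i := stepQ 22 Q22 (allL N22 (tt N17 F98) (tt N22 F64) (tt N19 F99) (tt N40 (iv F118)) (tt N22 F65) (tt N41 D44) (tt N11 (iv D23)))
theorem Q24 : ∀ i, i < 24 → P i := stepQ 23 Q23 (allL N23 (tt N13 F66) (tt N42 D45) (tt N12 (iv D24)) (tt N13 F68) (tt N43 D46) (tt N33 (iv F101)) (tt N23 F67))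
theorem Q25 : ∀ i, i < 25 → P i := stepQ 24 Q24 (allL N24 (tt N14 F69) (tt N38 (iv F113)) (tt N43 (iv F125)) (tt N24 F70) (tt N12 (iv D25)) (tt N34 (iv F106)) (tt N24 F71))
theorem Q26 : ∀ i, i < 26 → P i := stepQ 25 Q25 (allL N25 (tt N44 D47) (tt N13 (iv D26)) (tt N25 F72) (tt N42 (iv F123)) (tt N45 D48) (tt N46 D49) (tt N47 D50))
theorem Q27 : ∀ i, i < 27 → P i := stepQ 26 Q26 (allL N26 (tt N43 (iv F124)) (tt N45 (iv F128)) (tt N14 F73) (tt N48 D51) (tt N13 (iv D27)) (tt N49 D52) (tt N26 F74))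
theorem Q28 : ∀ i, i < 28 → P i := stepQ 27 Q27 (allL N27 (tt N33 (iv F100)) (tt N50 D53) (tt N15 F75) (tt N33 (iv F103)) (tt N49 (iv F135)) (tt N13 (iv D28)) (tt N33 (iv F102)))
theorem Q29 : ∀ i, i < 29 → P i := stepQ 28 Q28 (allL N28 (tt N34 (iv F104)) (tt N51 D54) (tt N49 (iv F134)) (tt N28 F76) (tt N15 F77) (tt N14 (iv D29)) (tt N34 (iv F107)))
theorem Q30 : ∀ i, i < 30 → P i := stepQ 29 Q29 (allL N29 (tt N29 F80) (tt N15 (iv D30)) (tt N52 D55) (tt N16 F78) (tt N51 (iv F137)) (tt N29 F79) (tt N52 F3704))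
theorem Q31 : ∀ i, i < 31 → P i := stepQ 30 Q30 (allL N30 (tt N30 F81) (tt N19 (iv F96)) (tt N30 F82) (tt N52 F3705) (tt N30 F83) (tt N30 F84) (tt N16 (iv D31)))
theorem Q32 : ∀ i, i < 32 → P i := stepQ 31 Q31 (allL N31 (tt N40 (iv F116)) (tt N18 F88) (tt N53 D57) (tt N17 (iv D33)) (tt N54 D58) (tt N55 D59) (tt N35 (iv F109)))
theorem Q33 : ∀ i, i < 33 → P i := stepQ 32 Q32 (allL N32 (tt N41 (iv F119)) (tt N21 F89) (tt N21 F90) (tt N55 (iv F149)) (tt N32 F91) (tt N17 (iv D34)) (tt N21 (iv F95)))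
theorem Q34 : ∀ i, i < 34 → P i := stepQ 33 Q33 (allL N33 (tt N27 F100) (tt N56 D60) (tt N18 (iv D36)) (tt N27 F103) (tt N57 D61) (tt N23 F101) (tt N27 F102))
theorem Q35 : ∀ i, i < 35 → P i := stepQ 34 Q34 (allL N34 (tt N28 F104) (tt N54 (iv F146)) (tt N57 (iv F153)) (tt N34 F105) (tt N18 (iv D37)) (tt N24 F106) (tt N28 F107))
theorem Q36 : ∀ i, i < 36 → P i := stepQ 35 Q35 (allL N35 (tt N20 F108) (tt N52 (iv F3618)) (tt N50 F3561) (tt N19 (iv D38)) (tt N58 D63) (tt N59 D64) (tt N31 F109))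
theorem Q37 : ∀ i, i < 37 → P i := stepQ 36 Q36 (allL N36 (tt N21 F110) (tt N36 F111) (tt N41 (iv F120)) (tt N59 (iv F163)) (tt N36 F112) (tt N19 (iv D39)) (tt N41 (iv F122)))
theorem Q38 : ∀ i, i < 38 → P i := stepQ 37 Q37 (allL N37 (tt N50 (iv F3556)) (tt N60 D65) (tt N20 (iv D40)) (tt N61 D66) (tt N62 D67) (tt N63 D68) (tt N64 D69))
theorem Q39 : ∀ i, i < 39 → P i := stepQ 38 Q38 (allL N38 (tt N58 (iv F158)) (tt N24 F113) (tt N62 (iv F165)) (tt N38 F114) (tt N20 (iv D41)) (tt N65 D70) (tt N66 D71))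
theorem Q40 : ∀ i, i < 40 → P i := stepQ 39 Q39 (allL N39 (tt N59 (iv F161)) (tt N55 (iv F148)) (tt N63 (iv F166)) (tt N21 F115) (tt N65 (iv F170)) (tt N20 (iv D42)) (tt N55 (iv F150)))
theorem Q41 : ∀ i, i < 41 → P i := stepQ 40 Q40 (allL N40 (tt N31 F116) (tt N40 F117) (tt N64 (iv F168)) (tt N22 F118) (tt N66 (iv F174)) (tt N67 D72) (tt N20 (iv D43)))
theorem Q42 : ∀ i, i < 42 → P i := stepQ 41 Q41 (allL N41 (tt N32 F119) (tt N68 D73) (tt N36 F120) (tt N67 (iv F176)) (tt N41 F121) (tt N22 (iv D44)) (tt N36 F122))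
theorem Q43 : ∀ i, i < 43 → P i := stepQ 42 Q42 (allL N42 (tt N69 D74) (tt N23 (iv D45)) (tt N60 (iv F164)) (tt N25 F123) (tt N70 D75) (tt N71 D76) (tt N72 D77))
theorem Q44 : ∀ i, i < 44 → P i := stepQ 43 Q43 (allL N43 (tt N26 F124) (tt N70 (iv F184)) (tt N24 F125) (tt N73 D78) (tt N23 (iv D46)) (tt N57 (iv F154)) (tt N43 F126))
theorem Q45 : ∀ i, i < 45 → P i := stepQ 44 Q44 (allL N44 (tt N25 (iv D47)) (tt N64 F3574) (tt N44 F127) (tt N69 (iv F183)) (tt N74 D80) (tt N75 D81) (tt N76 D82))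
theorem Q46 : ∀ i, i < 46 → P i := stepQ 45 Q45 (allL N45 (tt N74 (iv F191)) (tt N26 F128) (tt N45 F129) (tt N77 D83) (tt N25 (iv D48)) (tt N78 D84) (tt N79 D85))
theorem Q47 : ∀ i, i < 47 → P i := stepQ 46 Q46 (allL N46 (tt N75 (iv F193)) (tt N80 D86) (tt N46 F130) (tt N71 (iv F185)) (tt N78 (iv F199)) (tt N25 (iv D49)) (tt N81 D87))
theorem Q48 : ∀ i, i < 48 → P i := stepQ 47 Q47 (allL N47 (tt N76 (iv F195)) (tt N47 F131) (tt N47 F132) (tt N72 (iv F187)) (tt N79 (iv F202)) (tt N82 D88) (tt N25 (iv D50)))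
theorem Q49 : ∀ i, i < 49 → P i := stepQ 48 Q48 (allL N48 (tt N73 (iv F188)) (tt N77 (iv F197)) (tt N83 D89) (tt N26 (iv D51)) (tt N73 (iv F189)) (tt N84 D90) (tt N48 F133))
theorem Q50 : ∀ i, i < 50 → P i := stepQ 49 Q49 (allL N49 (tt N57 (iv F152)) (tt N85 D91) (tt N28 F134) (tt N84 (iv F210)) (tt N27 F135) (tt N26 (iv D52)) (tt N57 (iv F155)))
theorem Q51 : ∀ i, i < 51 → P i := stepQ 50 Q50 (allL N50 (tt N37 F3556) (tt N27 (iv D53)) (tt N35 (iv F3561)) (tt N56 (iv F151)) (tt N85 (iv F211)) (tt N80 (iv F203)) (tt N53 F3557))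
theorem Q52 : ∀ i, i < 52 → P i := stepQ 51 Q51 (allL N51 (tt N51 F139) (tt N28 (iv D54)) (tt N86 D95) (tt N51 F136) (tt N29 F137) (tt N51 F138) (tt N86 F3786))
theorem Q53 : ∀ i, i < 53 → P i := stepQ 52 Q52 (allL N52 (tt N52 F140) (tt N35 F3618) (tt N29 (iv D55)) (tt N30 (iv F3705)) (tt N86 (iv F214)) (tt N52 F141) (tt N29 (iv F3704)))
theorem Q54 : ∀ i, i < 54 → P i := stepQ 53 Q53 (allL N53 (tt N64 (iv F167)) (tt N87 D99) (tt N31 (iv D57)) (tt N87 F3562) (tt N88 D101) (tt N89 D102) (tt N50 (iv F3557)))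
theorem Q55 : ∀ i, i < 55 → P i := stepQ 54 Q54 (allL N54 (tt N66 (iv F171)) (tt N34 F146) (tt N88 (iv F228)) (tt N54 F147) (tt N31 (iv D58)) (tt N90 D103) (tt N58 (iv F160)))
theorem Q56 : ∀ i, i < 56 → P i := stepQ 55 Q55 (allL N55 (tt N67 (iv F175)) (tt N39 F148) (tt N89 (iv F229)) (tt N32 F149) (tt N90 (iv F233)) (tt N31 (iv D59)) (tt N39 F150))
theorem Q57 : ∀ i, i < 57 → P i := stepQ 56 Q56 (allL N56 (tt N61 F3560) (tt N33 (iv D60)) (tt N87 (iv F227)) (tt N50 F151) (tt N91 D105) (tt N92 D106) (tt N87 (iv F3524)))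
theorem Q58 : ∀ i, i < 58 → P i := stepQ 57 Q57 (allL N57 (tt N49 F152) (tt N91 (iv F236)) (tt N34 F153) (tt N93 D108) (tt N33 (iv D61)) (tt N43 F154) (tt N49 F155))
theorem Q59 : ∀ i, i < 59 → P i := stepQ 58 Q58 (allL N58 (tt N38 F158) (tt N86 (iv F3706)) (tt N85 F3619) (tt N58 F159) (tt N35 (iv D63)) (tt N94 D113) (tt N54 F160))
theorem Q60 : ∀ i, i < 60 → P i := stepQ 59 Q59 (allL N59 (tt N39 F161) (tt N59 F162) (tt N80 F3617) (tt N36 F163) (tt N94 (iv F256)) (tt N35 (iv D64)) (tt N67 (iv F177)))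
theorem Q61 : ∀ i, i < 61 → P i := stepQ 60 Q60 (allL N60 (tt N95 D114) (tt N37 (iv D65)) (tt N42 F164) (tt N96 D115) (tt N97 D116) (tt N98 D117) (tt N99 D118))
theorem Q62 : ∀ i, i < 62 → P i := stepQ 61 Q61 (allL N61 (tt N56 (iv F3560)) (tt N96 (iv F258)) (tt N100 D119) (tt N37 (iv D66)) (tt N101 D120) (tt N102 D121) (tt N100 F265))
theorem Q63 : ∀ i, i < 63 → P i := stepQ 62 Q62 (allL N62 (tt N85 (iv F3612)) (tt N97 (iv F259)) (tt N38 F165) (tt N103 D122) (tt N37 (iv D67)) (tt N104 D123) (tt N105 D124))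
theorem Q64 : ∀ i, i < 64 → P i := stepQ 63 Q63 (allL N63 (tt N80 (iv F3558)) (tt N106 D125) (tt N39 F166) (tt N102 (iv F266)) (tt N104 (iv F268)) (tt N37 (iv D68)) (tt N89 (iv F230)))
theorem Q65 : ∀ i, i < 65 → P i := stepQ 64 Q64 (allL N64 (tt N53 F167) (tt N44 (iv F3574)) (tt N40 F168) (tt N100 (iv F264)) (tt N105 (iv F271)) (tt N107 D127) (tt N37 (iv D69)))
theorem Q66 : ∀ i, i < 66 → P i := stepQ 65 Q65 (allL N65 (tt N94 (iv F253)) (tt N90 (iv F231)) (tt N104 (iv F267)) (tt N65 F169) (tt N39 F170) (tt N38 (iv D70)) (tt N90 (iv F234)))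
theorem Q67 : ∀ i, i < 67 → P i := stepQ 66 Q66 (allL N66 (tt N54 F171) (tt N66 F172) (tt N105 (iv F270)) (tt N66 F173) (tt N40 F174) (tt N108 D128) (tt N38 (iv D71)))
theorem Q68 : ∀ i, i < 68 → P i := stepQ 67 Q67 (allL N67 (tt N55 F175) (tt N109 D129) (tt N107 (iv F274)) (tt N41 F176) (tt N108 (iv F278)) (tt N40 (iv D72)) (tt N59 F177))
theorem Q69 : ∀ i, i < 69 → P i := stepQ 68 Q68 (allL N68 (tt N68 F178) (tt N41 (iv D73)) (tt N68 F179) (tt N109 (iv F281)) (tt N68 F180) (tt N68 F181) (tt N68 F182))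
theorem Q70 : ∀ i, i < 70 → P i := stepQ 69 Q69 (allL N69 (tt N42 (iv D74)) (tt N100 F3522) (tt N95 (iv F257)) (tt N44 F183) (tt N110 D131) (tt N111 D132) (tt N112 D133))
theorem Q71 : ∀ i, i < 71 → P i := stepQ 70 Q70 (allL N70 (tt N110 (iv F285)) (tt N43 F184) (tt N97 (iv F260)) (tt N113 D134) (tt N42 (iv D75)) (tt N114 D135) (tt N115 D136))
theorem Q72 : ∀ i, i < 72 → P i := stepQ 71 Q71 (allL N71 (tt N111 (iv F286)) (tt N92 (iv F237)) (tt N98 (iv F261)) (tt N46 F185) (tt N114 (iv F292)) (tt N42 (iv D76)) (tt N116 D137))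
theorem Q73 : ∀ i, i < 73 → P i := stepQ 72 Q72 (allL N72 (tt N112 (iv F288)) (tt N72 F186) (tt N99 (iv F262)) (tt N47 F187) (tt N115 (iv F294)) (tt N117 D138) (tt N42 (iv D77)))
theorem Q74 : ∀ i, i < 74 → P i := stepQ 73 Q73 (allL N73 (tt N48 F188) (tt N113 (iv F290)) (tt N118 D139) (tt N43 (iv D78)) (tt N48 F189) (tt N93 (iv F243)) (tt N73 F190))
theorem Q75 : ∀ i, i < 75 → P i := stepQ 74 Q74 (allL N74 (tt N45 F191) (tt N105 F3640) (tt N74 F192) (tt N119 D145) (tt N44 (iv D80)) (tt N120 D146) (tt N121 D147))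
theorem Q76 : ∀ i, i < 76 → P i := stepQ 75 Q75 (allL N75 (tt N46 F193) (tt N122 D148) (tt N75 F194) (tt N111 (iv F287)) (tt N120 (iv F309)) (tt N44 (iv D81)) (tt N82 (iv F208)))
theorem Q77 : ∀ i, i < 77 → P i := stepQ 76 Q76 (allL N76 (tt N47 F195) (tt N99 F3630) (tt N76 F196) (tt N112 (iv F289)) (tt N121 (iv F312)) (tt N81 (iv F205)) (tt N44 (iv D82)))
theorem Q78 : ∀ i, i < 78 → P i := stepQ 77 Q77 (allL N77 (tt N119 (iv F306)) (tt N48 F197) (tt N123 D150) (tt N45 (iv D83)) (tt N113 (iv F291)) (tt N124 D151) (tt N125 D152))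
theorem Q79 : ∀ i, i < 79 → P i := stepQ 78 Q78 (allL N78 (tt N120 (iv F307)) (tt N126 D153) (tt N78 F198) (tt N124 (iv F313)) (tt N46 F199) (tt N45 (iv D84)) (tt N127 D154))
theorem Q80 : ∀ i, i < 80 → P i := stepQ 79 Q79 (allL N79 (tt N121 (iv F310)) (tt N79 F200) (tt N79 F201) (tt N125 (iv F315)) (tt N47 F202) (tt N128 D155) (tt N45 (iv D85)))
theorem Q81 : ∀ i, i < 81 → P i := stepQ 80 Q80 (allL N80 (tt N63 F3558) (tt N46 (iv D86)) (tt N59 (iv F3617)) (tt N92 (iv F238)) (tt N126 (iv F316)) (tt N50 F203) (tt N107 F3559))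
theorem Q82 : ∀ i, i < 82 → P i := stepQ 81 Q81 (allL N81 (tt N82 (iv F206)) (tt N129 D159) (tt N81 F204) (tt N116 (iv F295)) (tt N127 (iv F319)) (tt N76 F205) (tt N46 (iv D87)))
theorem Q83 : ∀ i, i < 83 → P i := stepQ 82 Q82 (allL N82 (tt N81 F206) (tt N130 D160) (tt N82 F207) (tt N117 (iv F298)) (tt N128 (iv F323)) (tt N47 (iv D88)) (tt N75 F208))
theorem Q84 : ∀ i, i < 84 → P i := stepQ 83 Q83 (allL N83 (tt N118 (iv F300)) (tt N131 D161) (tt N48 (iv D89)) (tt N118 (iv F303)) (tt N118 (iv F301)) (tt N132 D162) (tt N83 F209))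
theorem Q85 : ∀ i, i < 85 → P i := stepQ 84 Q84 (allL N84 (tt N93 (iv F241)) (tt N133 D163) (tt N132 (iv F329)) (tt N49 F210) (tt N93 (iv F242)) (tt N48 (iv D90)) (tt N93 (iv F244)))
theorem Q86 : ∀ i, i < 86 → P i := stepQ 85 Q85 (allL N85 (tt N62 F3612) (tt N49 (iv D91)) (tt N58 (iv F3619)) (tt N133 (iv F330)) (tt N50 F211) (tt N126 (iv F317)) (tt N88 F3613))
theorem Q87 : ∀ i, i < 87 → P i := stepQ 86 Q86 (allL N86 (tt N86 F213) (tt N58 F3706) (tt N51 (iv D95)) (tt N86 F3787) (tt N52 F214) (tt N86 F215) (tt N51 (iv F3786)))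
theorem Q88 : ∀ i, i < 88 → P i := stepQ 87 Q87 (allL N87 (tt N100 F3519) (tt N53 (iv D99)) (tt N56 F227) (tt N53 (iv F3562)) (tt N134 D180) (tt N135 D181) (tt N56 F3524))
theorem Q89 : ∀ i, i < 89 → P i := stepQ 88 Q88 (allL N88 (tt N105 (iv F269)) (tt N134 (iv F358)) (tt N54 F228) (tt N136 D185) (tt N53 (iv D101)) (tt N137 D186) (tt N85 (iv F3613)))
theorem Q90 : ∀ i, i < 90 → P i := stepQ 89 Q89 (allL N89 (tt N107 (iv F273)) (tt N138 D187) (tt N55 F229) (tt N135 F3588) (tt N137 (iv F365)) (tt N53 (iv D102)) (tt N63 F230))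
theorem Q91 : ∀ i, i < 91 → P i := stepQ 90 Q90 (allL N90 (tt N108 (iv F276)) (tt N65 F231) (tt N137 (iv F364)) (tt N90 F232) (tt N55 F233) (tt N54 (iv D103)) (tt N65 F234))
theorem Q92 : ∀ i, i < 92 → P i := stepQ 91 Q91 (allL N91 (tt N101 F3578) (tt N57 F236) (tt N134 (iv F359)) (tt N139 D192) (tt N56 (iv D105)) (tt N140 D193) (tt N134 (iv F3575)))
theorem Q93 : ∀ i, i < 93 → P i := stepQ 92 Q92 (allL N92 (tt N102 (iv F3580)) (tt N71 F237) (tt N135 (iv F360)) (tt N80 F238) (tt N140 (iv F377)) (tt N56 (iv D106)) (tt N141 D195))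
theorem Q94 : ∀ i, i < 94 → P i := stepQ 93 Q93 (allL N93 (tt N84 F241) (tt N139 (iv F374)) (tt N142 D197) (tt N57 (iv D108)) (tt N84 F242) (tt N73 F243) (tt N84 F244))
theorem Q95 : ∀ i, i < 95 → P i := stepQ 94 Q94 (allL N94 (tt N65 F253) (tt N94 F254) (tt N126 F3701) (tt N94 F255) (tt N59 F256) (tt N58 (iv D113)) (tt N108 (iv F279)))
theorem Q96 : ∀ i, i < 96 → P i := stepQ 95 Q95 (allL N95 (tt N60 (iv D114)) (tt N143 D208) (tt N69 F257) (tt N143 (iv F3521)) (tt N144 D210) (tt N145 D211) (tt N146 D212))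
theorem Q97 : ∀ i, i < 97 → P i := stepQ 96 Q96 (allL N96 (tt N143 F3539) (tt N61 F258) (tt N143 F3540) (tt N60 (iv D115)) (tt N147 D213) (tt N148 D214) (tt N149 D215))
theorem Q98 : ∀ i, i < 98 → P i := stepQ 97 Q97 (allL N97 (tt N144 (iv F407)) (tt N62 F259) (tt N70 F260) (tt N150 D216) (tt N60 (iv D116)) (tt N151 D217) (tt N152 D218))
theorem Q99 : ∀ i, i < 99 → P i := stepQ 98 Q98 (allL N98 (tt N145 (iv F409)) (tt N153 D219) (tt N71 F261) (tt N148 (iv F414)) (tt N151 (iv F418)) (tt N60 (iv D117)) (tt N154 D220))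
theorem Q100 : ∀ i, i < 100 → P i := stepQ 99 Q99 (allL N99 (tt N146 (iv F411)) (tt N76 (iv F3630)) (tt N72 F262) (tt N149 (iv F415)) (tt N152 (iv F420)) (tt N155 D222) (tt N60 (iv D118)))
theorem Q101 : ∀ i, i < 101 → P i := stepQ 100 Q100 (allL N100 (tt N87 (iv F3519)) (tt N69 (iv F3522)) (tt N61 (iv D119)) (tt N64 F264) (tt N156 D224) (tt N141 (iv F3526)) (tt N61 (iv F265)))
theorem Q102 : ∀ i, i < 102 → P i := stepQ 101 Q101 (allL N101 (tt N91 (iv F3578)) (tt N147 (iv F413)) (tt N156 (iv F431)) (tt N157 D226) (tt N61 (iv D120)) (tt N158 D227) (tt N156 (iv F432)))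
theorem Q103 : ∀ i, i < 103 → P i := stepQ 102 Q102 (allL N102 (tt N92 F3580) (tt N159 D228) (tt N141 F3527) (tt N63 F266) (tt N158 (iv F438)) (tt N61 (iv D121)) (tt N135 (iv F3538)))
theorem Q104 : ∀ i, i < 104 → P i := stepQ 103 Q103 (allL N103 (tt N133 (iv F3644)) (tt N150 (iv F416)) (tt N160 D229) (tt N62 (iv D122)) (tt N157 (iv F437)) (tt N161 D230) (tt N162 D231))
theorem Q105 : ∀ i, i < 105 → P i := stepQ 104 Q104 (allL N104 (tt N126 (iv F3615)) (tt N163 D232) (tt N65 F267) (tt N161 (iv F440)) (tt N63 F268) (tt N62 (iv D123)) (tt N137 (iv F366)))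
theorem Q106 : ∀ i, i < 106 → P i := stepQ 105 Q105 (allL N105 (tt N88 F269) (tt N74 (iv F3640)) (tt N66 F270) (tt N162 (iv F442)) (tt N64 F271) (tt N164 D234) (tt N62 (iv D124)))
theorem Q107 : ∀ i, i < 107 → P i := stepQ 106 Q106 (allL N106 (tt N165 D235) (tt N63 (iv D125)) (tt N138 (iv F367)) (tt N159 (iv F439)) (tt N163 (iv F443)) (tt N153 (iv F421)) (tt N166 D236))
theorem Q108 : ∀ i, i < 108 → P i := stepQ 107 Q107 (allL N107 (tt N89 F273) (tt N167 D239) (tt N67 F274) (tt N141 (iv F3525)) (tt N164 (iv F448)) (tt N64 (iv D127)) (tt N80 (iv F3559)))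
theorem Q109 : ∀ i, i < 109 → P i := stepQ 108 Q108 (allL N108 (tt N90 F276) (tt N168 D240) (tt N164 (iv F447)) (tt N108 F277) (tt N67 F278) (tt N66 (iv D128)) (tt N94 F279))
theorem Q110 : ∀ i, i < 110 → P i := stepQ 109 Q109 (allL N109 (tt N109 F280) (tt N67 (iv D129)) (tt N169 D241) (tt N68 F281) (tt N168 (iv F454)) (tt N109 F282) (tt N109 F283))
theorem Q111 : ∀ i, i < 111 → P i := stepQ 110 Q110 (allL N110 (tt N70 F285) (tt N156 F3566) (tt N144 (iv F408)) (tt N170 D247) (tt N69 (iv D131)) (tt N171 D248) (tt N172 D249))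
theorem Q112 : ∀ i, i < 112 → P i := stepQ 111 Q111 (allL N111 (tt N71 F286) (tt N173 D250) (tt N145 (iv F410)) (tt N75 F287) (tt N171 (iv F468)) (tt N69 (iv D132)) (tt N117 (iv F299)))
theorem Q113 : ∀ i, i < 113 → P i := stepQ 112 Q112 (allL N112 (tt N72 F288) (tt N149 (iv F3592)) (tt N146 (iv F412)) (tt N76 F289) (tt N172 (iv F470)) (tt N116 (iv F296)) (tt N69 (iv D133)))
theorem Q114 : ∀ i, i < 114 → P i := stepQ 113 Q113 (allL N113 (tt N170 (iv F465)) (tt N73 F290) (tt N174 D252) (tt N70 (iv D134)) (tt N77 F291) (tt N175 D253) (tt N176 D254))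
theorem Q115 : ∀ i, i < 115 → P i := stepQ 114 Q114 (allL N114 (tt N171 (iv F467)) (tt N140 (iv F376)) (tt N151 (iv F417)) (tt N175 (iv F474)) (tt N71 F292) (tt N70 (iv D135)) (tt N177 D255))
theorem Q116 : ∀ i, i < 116 → P i := stepQ 115 Q115 (allL N115 (tt N172 (iv F469)) (tt N115 F293) (tt N152 (iv F419)) (tt N176 (iv F477)) (tt N72 F294) (tt N178 D256) (tt N70 (iv D136)))
theorem Q117 : ∀ i, i < 117 → P i := stepQ 116 Q116 (allL N116 (tt N117 (iv F297)) (tt N179 D257) (tt N154 (iv F422)) (tt N81 F295) (tt N177 (iv F479)) (tt N112 F296) (tt N71 (iv D137)))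
theorem Q118 : ∀ i, i < 118 → P i := stepQ 117 Q117 (allL N117 (tt N116 F297) (tt N180 D258) (tt N155 (iv F427)) (tt N82 F298) (tt N178 (iv F482)) (tt N72 (iv D138)) (tt N111 F299))
theorem Q119 : ∀ i, i < 119 → P i := stepQ 118 Q118 (allL N118 (tt N83 F300) (tt N181 D259) (tt N73 (iv D139)) (tt N83 F303) (tt N83 F301) (tt N142 (iv F387)) (tt N118 F302))
theorem Q120 : ∀ i, i < 120 → P i := stepQ 119 Q119 (allL N119 (tt N77 F306) (tt N162 F3714) (tt N182 D275) (tt N74 (iv D145)) (tt N170 (iv F466)) (tt N183 D276) (tt N184 D277))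
theorem Q121 : ∀ i, i < 121 → P i := stepQ 120 Q120 (allL N120 (tt N78 F307) (tt N185 D278) (tt N120 F308) (tt N183 (iv F508)) (tt N75 F309) (tt N74 (iv D146)) (tt N128 (iv F324)))
theorem Q122 : ∀ i, i < 122 → P i := stepQ 121 Q121 (allL N121 (tt N79 F310) (tt N152 F3667) (tt N121 F311) (tt N184 (iv F510)) (tt N76 F312) (tt N127 (iv F320)) (tt N74 (iv D147)))
theorem Q123 : ∀ i, i < 123 → P i := stepQ 122 Q122 (allL N122 (tt N186 D280) (tt N75 (iv D148)) (tt N187 D281) (tt N173 (iv F471)) (tt N185 (iv F511)) (tt N167 (iv F3650)) (tt N188 D282))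
theorem Q124 : ∀ i, i < 124 → P i := stepQ 123 Q123 (allL N123 (tt N182 (iv F506)) (tt N189 D286) (tt N77 (iv D150)) (tt N190 D287) (tt N174 (iv F473)) (tt N191 D288) (tt N192 D289))
theorem Q125 : ∀ i, i < 125 → P i := stepQ 124 Q124 (allL N124 (tt N183 (iv F507)) (tt N193 D290) (tt N191 (iv F516)) (tt N78 F313) (tt N175 (iv F475)) (tt N77 (iv D151)) (tt N194 D291))
theorem Q126 : ∀ i, i < 126 → P i := stepQ 125 Q125 (allL N125 (tt N184 (iv F509)) (tt N125 F314) (tt N192 (iv F517)) (tt N79 F315) (tt N176 (iv F478)) (tt N195 D292) (tt N77 (iv D152)))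
theorem Q127 : ∀ i, i < 127 → P i := stepQ 126 Q126 (allL N126 (tt N104 F3615) (tt N78 (iv D153)) (tt N94 (iv F3701)) (tt N193 (iv F518)) (tt N80 F316) (tt N85 F317) (tt N164 F3616))
theorem Q128 : ∀ i, i < 128 → P i := stepQ 127 Q127 (allL N127 (tt N128 (iv F321)) (tt N196 D296) (tt N127 F318) (tt N194 (iv F520)) (tt N81 F319) (tt N121 F320) (tt N78 (iv D154)))
theorem Q129 : ∀ i, i < 129 → P i := stepQ 128 Q128 (allL N128 (tt N127 F321) (tt N197 D297) (tt N128 F322) (tt N195 (iv F523)) (tt N82 F323) (tt N79 (iv D155)) (tt N120 F324))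
theorem Q130 : ∀ i, i < 130 → P i := stepQ 129 Q129 (allL N129 (tt N198 D303) (tt N81 (iv D159)) (tt N199 D304) (tt N179 (iv F484)) (tt N196 (iv F531)) (tt N200 D305) (tt N167 F3602))
theorem Q131 : ∀ i, i < 131 → P i := stepQ 130 Q130 (allL N130 (tt N180 F3769) (tt N82 (iv D160)) (tt N201 D307) (tt N180 (iv F485)) (tt N197 (iv F532)) (tt N130 F328) (tt N202 D308))
theorem Q132 : ∀ i, i < 132 → P i := stepQ 131 Q131 (allL N131 (tt N203 D309) (tt N83 (iv D161)) (tt N189 (iv F515)) (tt N181 (iv F487)) (tt N181 (iv F488)) (tt N204 D310) (tt N205 D311))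
theorem Q133 : ∀ i, i < 133 → P i := stepQ 132 Q132 (allL N132 (tt N142 (iv F385)) (tt N206 D312) (tt N84 F329) (tt N142 (iv F389)) (tt N142 (iv F386)) (tt N83 (iv D162)) (tt N142 (iv F388)))
theorem Q134 : ∀ i, i < 134 → P i := stepQ 133 Q133 (allL N133 (tt N103 F3644) (tt N84 (iv D163)) (tt N207 D314) (tt N85 F330) (tt N139 (iv F375)) (tt N193 (iv F519)) (tt N136 F3645))
theorem Q135 : ∀ i, i < 135 → P i := stepQ 134 Q134 (allL N134 (tt N156 F3563) (tt N88 F358) (tt N91 F359) (tt N208 D353) (tt N87 (iv D180)) (tt N209 D354) (tt N91 F3575))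
theorem Q136 : ∀ i, i < 136 → P i := stepQ 135 Q135 (allL N135 (tt N141 F3564) (tt N210 D356) (tt N92 F360) (tt N89 (iv F3588)) (tt N209 (iv F604)) (tt N87 (iv D181)) (tt N102 F3538))
theorem Q137 : ∀ i, i < 137 → P i := stepQ 136 Q136 (allL N136 (tt N162 (iv F441)) (tt N208 (iv F602)) (tt N211 D362) (tt N88 (iv D185)) (tt N208 F3707) (tt N212 D363) (tt N133 (iv F3645)))
theorem Q138 : ∀ i, i < 138 → P i := stepQ 137 Q137 (allL N137 (tt N164 (iv F446)) (tt N213 D364) (tt N90 F364) (tt N212 (iv F618)) (tt N89 F365) (tt N88 (iv D186)) (tt N104 F366))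
theorem Q139 : ∀ i, i < 139 → P i := stepQ 138 Q138 (allL N138 (tt N214 D365) (tt N89 (iv D187)) (tt N106 F367) (tt N210 F3656) (tt N213 (iv F621)) (tt N210 (iv F608)) (tt N215 D366))
theorem Q140 : ∀ i, i < 140 → P i := stepQ 139 Q139 (allL N139 (tt N157 (iv F3641)) (tt N93 F374) (tt N216 D377) (tt N91 (iv D192)) (tt N133 F375) (tt N217 D378) (tt N208 (iv F3642)))
theorem Q141 : ∀ i, i < 141 → P i := stepQ 140 Q140 (allL N140 (tt N158 (iv F3643)) (tt N114 F376) (tt N209 (iv F603)) (tt N217 (iv F640)) (tt N92 F377) (tt N91 (iv D193)) (tt N218 D380))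
theorem Q142 : ∀ i, i < 142 → P i := stepQ 141 Q141 (allL N141 (tt N135 (iv F3564)) (tt N219 D382) (tt N102 (iv F3527)) (tt N107 F3525) (tt N218 (iv F645)) (tt N100 F3526) (tt N92 (iv D195)))
theorem Q143 : ∀ i, i < 143 → P i := stepQ 142 Q142 (allL N142 (tt N132 F385) (tt N220 D384) (tt N93 (iv D197)) (tt N132 F389) (tt N132 F386) (tt N118 F387) (tt N132 F388))
theorem Q144 : ∀ i, i < 144 → P i := stepQ 143 Q143 (allL N143 (tt N96 (iv F3539)) (tt N95 (iv D208)) (tt N96 (iv F3540)) (tt N95 F3521) (tt N221 D411) (tt N222 D412) (tt N223 D413))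
theorem Q145 : ∀ i, i < 145 → P i := stepQ 144 Q144 (allL N144 (tt N97 F407) (tt N221 (iv F698)) (tt N110 F408) (tt N224 D417) (tt N95 (iv D210)) (tt N225 D418) (tt N226 D419))
theorem Q146 : ∀ i, i < 146 → P i := stepQ 145 Q145 (allL N145 (tt N98 F409) (tt N227 D420) (tt N111 F410) (tt N222 (iv F3573)) (tt N225 (iv F710)) (tt N95 (iv D211)) (tt N155 (iv F428)))
theorem Q147 : ∀ i, i < 147 → P i := stepQ 146 Q146 (allL N146 (tt N99 F411) (tt N228 D421) (tt N112 F412) (tt N223 F3627) (tt N226 (iv F713)) (tt N154 (iv F423)) (tt N95 (iv D212)))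
theorem Q148 : ∀ i, i < 148 → P i := stepQ 147 Q147 (allL N147 (tt N221 F3589) (tt N101 F413) (tt N221 F3590) (tt N229 D422) (tt N96 (iv D213)) (tt N230 D423) (tt N231 D424))
theorem Q149 : ∀ i, i < 149 → P i := stepQ 148 Q148 (allL N148 (tt N222 (iv F3571)) (tt N232 D425) (tt N222 (iv F3572)) (tt N98 F414) (tt N230 (iv F716)) (tt N96 (iv D214)) (tt N233 D426))
theorem Q150 : ∀ i, i < 150 → P i := stepQ 149 Q149 (allL N149 (tt N223 F3591) (tt N112 F3592) (tt N223 F3593) (tt N99 F415) (tt N231 (iv F717)) (tt N234 D428) (tt N96 (iv D215)))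
theorem Q151 : ∀ i, i < 151 → P i := stepQ 150 Q150 (allL N150 (tt N224 (iv F707)) (tt N103 F416) (tt N235 D429) (tt N97 (iv D216)) (tt N229 (iv F715)) (tt N236 D430) (tt N237 D431))
theorem Q152 : ∀ i, i < 152 → P i := stepQ 151 Q151 (allL N151 (tt N225 (iv F708)) (tt N238 D432) (tt N114 F417) (tt N236 (iv F728)) (tt N98 F418) (tt N97 (iv D217)) (tt N239 D433))
theorem Q153 : ∀ i, i < 153 → P i := stepQ 152 Q152 (allL N152 (tt N226 (iv F711)) (tt N121 (iv F3667)) (tt N115 F419) (tt N237 (iv F729)) (tt N99 F420) (tt N240 D435) (tt N97 (iv D218)))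
theorem Q154 : ∀ i, i < 154 → P i := stepQ 153 Q153 (allL N153 (tt N241 D436) (tt N98 (iv D219)) (tt N210 (iv F607)) (tt N232 (iv F718)) (tt N238 (iv F730)) (tt N106 F421) (tt N232 (iv F3753)))
theorem Q155 : ∀ i, i < 155 → P i := stepQ 154 Q154 (allL N154 (tt N155 (iv F426)) (tt N233 (iv F3628)) (tt N116 F422) (tt N233 (iv F720)) (tt N239 (iv F733)) (tt N146 F423) (tt N98 (iv D220)))
theorem Q156 : ∀ i, i < 156 → P i := stepQ 155 Q155 (allL N155 (tt N154 F426) (tt N200 F3727) (tt N117 F427) (tt N234 (iv F726)) (tt N240 (iv F740)) (tt N99 (iv D222)) (tt N145 F428))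
theorem Q157 : ∀ i, i < 157 → P i := stepQ 156 Q156 (allL N156 (tt N134 (iv F3563)) (tt N110 (iv F3566)) (tt N101 F431) (tt N242 D445) (tt N100 (iv D224)) (tt N218 (iv F3565)) (tt N101 F432))
theorem Q158 : ∀ i, i < 158 → P i := stepQ 157 Q157 (allL N157 (tt N139 F3641) (tt N229 (iv F714)) (tt N243 D448) (tt N101 (iv D226)) (tt N103 F437) (tt N244 D449) (tt N242 (iv F751)))
theorem Q159 : ∀ i, i < 159 → P i := stepQ 158 Q158 (allL N158 (tt N140 F3643) (tt N245 D450) (tt N218 F3577) (tt N244 (iv F758)) (tt N102 F438) (tt N101 (iv D227)) (tt N209 (iv F3581)))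
theorem Q160 : ∀ i, i < 160 → P i := stepQ 159 Q159 (allL N159 (tt N166 F3699) (tt N102 (iv D228)) (tt N246 D452) (tt N106 F439) (tt N245 (iv F760)) (tt N232 (iv F719)) (tt N165 F3700))
theorem Q161 : ∀ i, i < 161 → P i := stepQ 160 Q160 (allL N160 (tt N207 (iv F3736)) (tt N247 D454) (tt N103 (iv D229)) (tt N207 F3802) (tt N243 (iv F757)) (tt N248 D455) (tt N249 D456))
theorem Q162 : ∀ i, i < 162 → P i := stepQ 161 Q161 (allL N161 (tt N193 (iv F3702)) (tt N250 D457) (tt N248 (iv F763)) (tt N104 F440) (tt N244 (iv F759)) (tt N103 (iv D230)) (tt N212 (iv F619)))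
theorem Q163 : ∀ i, i < 163 → P i := stepQ 162 Q162 (allL N162 (tt N136 F441) (tt N119 (iv F3714)) (tt N249 (iv F765)) (tt N105 F442) (tt N242 (iv F750)) (tt N251 D459) (tt N103 (iv D231)))
theorem Q164 : ∀ i, i < 164 → P i := stepQ 163 Q163 (allL N163 (tt N252 D460) (tt N104 (iv D232)) (tt N213 (iv F620)) (tt N250 (iv F767)) (tt N106 F443) (tt N238 (iv F731)) (tt N253 D461))
theorem Q165 : ∀ i, i < 165 → P i := stepQ 164 Q164 (allL N164 (tt N137 F446) (tt N254 D464) (tt N108 F447) (tt N251 (iv F770)) (tt N107 F448) (tt N105 (iv D234)) (tt N126 (iv F3616)))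
theorem Q166 : ∀ i, i < 166 → P i := stepQ 165 Q165 (allL N165 (tt N106 (iv D235)) (tt N255 D465) (tt N214 (iv F622)) (tt N166 (iv F3657)) (tt N252 (iv F772)) (tt N241 (iv F742)) (tt N159 (iv F3700)))
theorem Q167 : ∀ i, i < 167 → P i := stepQ 166 Q166 (allL N166 (tt N159 (iv F3699)) (tt N215 (iv F623)) (tt N215 (iv F624)) (tt N165 F3657) (tt N253 (iv F773)) (tt N256 D467) (tt N106 (iv D236)))
theorem Q168 : ∀ i, i < 168 → P i := stepQ 167 Q167 (allL N167 (tt N257 D472) (tt N107 (iv D239)) (tt N258 D473) (tt N219 (iv F3579)) (tt N254 (iv F778)) (tt N122 F3650) (tt N129 (iv F3602)))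
theorem Q169 : ∀ i, i < 169 → P i := stepQ 168 Q168 (allL N168 (tt N168 F452) (tt N108 (iv D240)) (tt N259 D475) (tt N168 F453) (tt N109 F454) (tt N168 F455) (tt N168 F456))
theorem Q170 : ∀ i, i < 170 → P i := stepQ 169 Q169 (allL N169 (tt N169 F457) (tt N258 (iv F790)) (tt N109 (iv D241)) (tt N260 D476) (tt N259 (iv F793)) (tt N169 F458) (tt N169 F459))
theorem Q171 : ∀ i, i < 171 → P i := stepQ 170 Q170 (allL N170 (tt N113 F465) (tt N242 F3625) (tt N261 D491) (tt N110 (iv D247)) (tt N119 F466) (tt N262 D492) (tt N263 D493))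
theorem Q172 : ∀ i, i < 172 → P i := stepQ 171 Q171 (allL N171 (tt N114 F467) (tt N264 D494) (tt N225 (iv F709)) (tt N262 (iv F825)) (tt N111 F468) (tt N110 (iv D248)) (tt N178 (iv F483)))
theorem Q173 : ∀ i, i < 173 → P i := stepQ 172 Q172 (allL N172 (tt N115 F469) (tt N231 (iv F3665)) (tt N226 (iv F712)) (tt N263 (iv F828)) (tt N112 F470) (tt N177 (iv F480)) (tt N110 (iv D249)))
theorem Q174 : ∀ i, i < 174 → P i := stepQ 173 Q173 (allL N173 (tt N265 D496) (tt N111 (iv D250)) (tt N266 D497) (tt N122 F471) (tt N264 (iv F830)) (tt N219 F3595) (tt N267 D498))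
theorem Q175 : ∀ i, i < 175 → P i := stepQ 174 Q174 (allL N174 (tt N261 (iv F822)) (tt N268 D502) (tt N113 (iv D252)) (tt N269 D503) (tt N123 F473) (tt N270 D504) (tt N271 D505))
theorem Q176 : ∀ i, i < 176 → P i := stepQ 175 Q175 (allL N175 (tt N262 (iv F824)) (tt N217 (iv F639)) (tt N270 (iv F841)) (tt N114 F474) (tt N124 F475) (tt N113 (iv D253)) (tt N272 D506))
theorem Q177 : ∀ i, i < 177 → P i := stepQ 176 Q176 (allL N176 (tt N263 (iv F827)) (tt N176 F476) (tt N271 (iv F843)) (tt N115 F477) (tt N125 F478) (tt N273 D507) (tt N113 (iv D254)))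
theorem Q178 : ∀ i, i < 178 → P i := stepQ 177 Q177 (allL N177 (tt N178 (iv F481)) (tt N274 D508) (tt N239 (iv F732)) (tt N272 (iv F845)) (tt N116 F479) (tt N172 F480) (tt N114 (iv D255)))
theorem Q179 : ∀ i, i < 179 → P i := stepQ 178 Q178 (allL N178 (tt N177 F481) (tt N275 D509) (tt N240 (iv F739)) (tt N273 (iv F849)) (tt N117 F482) (tt N115 (iv D256)) (tt N171 F483))
theorem Q180 : ∀ i, i < 180 → P i := stepQ 179 Q179 (allL N179 (tt N276 D510) (tt N116 (iv D257)) (tt N277 D511) (tt N129 F484) (tt N274 (iv F852)) (tt N277 (iv F3606)) (tt N219 (iv F651)))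
theorem Q181 : ∀ i, i < 181 → P i := stepQ 180 Q180 (allL N180 (tt N130 (iv F3769)) (tt N117 (iv D258)) (tt N278 D514) (tt N130 F485) (tt N275 (iv F853)) (tt N180 F486) (tt N279 D515))
theorem Q182 : ∀ i, i < 182 → P i := stepQ 181 Q181 (allL N181 (tt N280 D516) (tt N118 (iv D259)) (tt N268 (iv F839)) (tt N131 F487) (tt N131 F488) (tt N281 D517) (tt N282 D518))
theorem Q183 : ∀ i, i < 183 → P i := stepQ 182 Q182 (allL N182 (tt N123 F506) (tt N283 D554) (tt N119 (iv D275)) (tt N284 D555) (tt N261 (iv F823)) (tt N285 D556) (tt N286 D557))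
theorem Q184 : ∀ i, i < 184 → P i := stepQ 183 Q183 (allL N183 (tt N124 F507) (tt N287 D558) (tt N285 (iv F916)) (tt N120 F508) (tt N262 (iv F826)) (tt N119 (iv D276)) (tt N195 (iv F524)))
theorem Q185 : ∀ i, i < 185 → P i := stepQ 184 Q184 (allL N184 (tt N125 F509) (tt N237 F3754) (tt N286 (iv F918)) (tt N121 F510) (tt N263 (iv F829)) (tt N194 (iv F521)) (tt N119 (iv D277)))
theorem Q186 : ∀ i, i < 186 → P i := stepQ 185 Q185 (allL N185 (tt N288 D560) (tt N120 (iv D278)) (tt N289 D561) (tt N287 (iv F919)) (tt N122 F511) (tt N254 (iv F3743)) (tt N290 D562))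
theorem Q187 : ∀ i, i < 187 → P i := stepQ 186 Q186 (allL N186 (tt N122 (iv D280)) (tt N291 D566) (tt N292 D567) (tt N265 (iv F832)) (tt N288 (iv F921)) (tt N257 (iv F3599)) (tt N200 (iv F3636)))
theorem Q188 : ∀ i, i < 188 → P i := stepQ 187 Q187 (allL N187 (tt N292 (iv F929)) (tt N187 F513) (tt N122 (iv D281)) (tt N293 D569) (tt N289 (iv F923)) (tt N258 (iv F3742)) (tt N294 D570))
theorem Q189 : ∀ i, i < 189 → P i := stepQ 188 Q188 (allL N188 (tt N200 (iv F3635)) (tt N202 (iv F545)) (tt N294 (iv F933)) (tt N267 (iv F836)) (tt N290 (iv F924)) (tt N198 (iv F3677)) (tt N122 (iv D282)))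
theorem Q190 : ∀ i, i < 190 → P i := stepQ 189 Q189 (allL N189 (tt N295 D578) (tt N123 (iv D286)) (tt N131 F515) (tt N296 D579) (tt N268 (iv F840)) (tt N297 D580) (tt N298 D581))
theorem Q191 : ∀ i, i < 191 → P i := stepQ 190 Q190 (allL N190 (tt N284 (iv F913)) (tt N296 (iv F945)) (tt N284 (iv F914)) (tt N123 (iv D287)) (tt N299 D582) (tt N300 D583) (tt N301 D584))
theorem Q192 : ∀ i, i < 192 → P i := stepQ 191 Q191 (allL N191 (tt N285 (iv F915)) (tt N302 D585) (tt N124 F516) (tt N300 (iv F948)) (tt N270 (iv F842)) (tt N123 (iv D288)) (tt N303 D586))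
theorem Q193 : ∀ i, i < 193 → P i := stepQ 192 Q192 (allL N192 (tt N286 (iv F917)) (tt N304 D587) (tt N125 F517) (tt N301 (iv F949)) (tt N271 (iv F844)) (tt N305 D588) (tt N123 (iv D289)))
theorem Q194 : ∀ i, i < 194 → P i := stepQ 193 Q193 (allL N193 (tt N161 F3702) (tt N124 (iv D290)) (tt N306 D590) (tt N126 F518) (tt N217 (iv F641)) (tt N133 F519) (tt N251 F3703))
theorem Q195 : ∀ i, i < 195 → P i := stepQ 194 Q194 (allL N194 (tt N195 (iv F522)) (tt N307 D592) (tt N303 (iv F950)) (tt N127 F520) (tt N272 (iv F846)) (tt N184 F521) (tt N124 (iv D291)))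
theorem Q196 : ∀ i, i < 196 → P i := stepQ 195 Q195 (allL N195 (tt N194 F522) (tt N308 D593) (tt N305 (iv F954)) (tt N128 F523) (tt N273 (iv F850)) (tt N125 (iv D292)) (tt N183 F524))
theorem Q197 : ∀ i, i < 197 → P i := stepQ 196 Q196 (allL N196 (tt N309 D599) (tt N127 (iv D296)) (tt N310 D600) (tt N307 (iv F960)) (tt N129 F531) (tt N311 D601) (tt N254 F3669))
theorem Q198 : ∀ i, i < 198 → P i := stepQ 197 Q197 (allL N197 (tt N275 F3814) (tt N128 (iv D297)) (tt N312 D603) (tt N308 (iv F961)) (tt N130 F532) (tt N197 F533) (tt N313 D604))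
theorem Q199 : ∀ i, i < 199 → P i := stepQ 198 Q198 (allL N198 (tt N129 (iv D303)) (tt N276 F3676) (tt N314 D619) (tt N276 (iv F855)) (tt N309 (iv F973)) (tt N188 F3677) (tt N257 (iv F3601)))
theorem Q200 : ∀ i, i < 200 → P i := stepQ 199 Q199 (allL N199 (tt N314 (iv F995)) (tt N199 F540) (tt N129 (iv D304)) (tt N315 D621) (tt N310 (iv F975)) (tt N316 D622) (tt N258 F3680))
theorem Q201 : ∀ i, i < 201 → P i := stepQ 200 Q200 (allL N200 (tt N188 F3635) (tt N155 (iv F3727)) (tt N316 (iv F999)) (tt N277 F3686) (tt N311 (iv F977)) (tt N129 (iv D305)) (tt N186 F3636))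
theorem Q202 : ∀ i, i < 202 → P i := stepQ 201 Q201 (allL N201 (tt N278 F3815) (tt N201 F543) (tt N130 (iv D307)) (tt N317 D627) (tt N312 (iv F981)) (tt N201 F544) (tt N318 D628))
theorem Q203 : ∀ i, i < 203 → P i := stepQ 202 Q202 (allL N202 (tt N279 F3674) (tt N188 F545) (tt N318 (iv F1008)) (tt N279 (iv F862)) (tt N313 (iv F984)) (tt N279 F3675) (tt N130 (iv D308)))
theorem Q204 : ∀ i, i < 204 → P i := stepQ 203 Q203 (allL N203 (tt N131 (iv D309)) (tt N319 D629) (tt N295 (iv F944)) (tt N280 (iv F863)) (tt N280 (iv F864)) (tt N320 D630) (tt N321 D631))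
theorem Q205 : ∀ i, i < 205 → P i := stepQ 204 Q204 (allL N204 (tt N320 (iv F1009)) (tt N322 D632) (tt N297 (iv F946)) (tt N281 (iv F865)) (tt N281 (iv F866)) (tt N131 (iv D310)) (tt N323 D633))
theorem Q206 : ∀ i, i < 206 → P i := stepQ 205 Q205 (allL N205 (tt N321 (iv F1010)) (tt N205 F546) (tt N298 (iv F947)) (tt N282 (iv F868)) (tt N282 (iv F869)) (tt N324 D634) (tt N131 (iv D311)))
theorem Q207 : ∀ i, i < 207 → P i := stepQ 206 Q206 (allL N206 (tt N325 D635) (tt N132 (iv D312)) (tt N326 D636) (tt N220 (iv F654)) (tt N220 (iv F655)) (tt N322 (iv F1011)) (tt N327 D637))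
theorem Q208 : ∀ i, i < 208 → P i := stepQ 207 Q207 (allL N207 (tt N160 F3736) (tt N326 (iv F1015)) (tt N133 (iv D314)) (tt N160 (iv F3802)) (tt N216 (iv F638)) (tt N306 (iv F958)) (tt N211 F3737))
theorem Q209 : ∀ i, i < 209 → P i := stepQ 208 Q208 (allL N208 (tt N242 F3621) (tt N136 F602) (tt N328 D727) (tt N134 (iv D353)) (tt N136 (iv F3707)) (tt N329 D728) (tt N139 F3642))
theorem Q210 : ∀ i, i < 210 → P i := stepQ 209 Q209 (allL N209 (tt N218 F3622) (tt N330 D730) (tt N140 F603) (tt N329 (iv F1143)) (tt N135 F604) (tt N134 (iv D354)) (tt N158 F3581))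
theorem Q211 : ∀ i, i < 211 → P i := stepQ 210 Q210 (allL N210 (tt N227 (iv F3658)) (tt N135 (iv D356)) (tt N153 F607) (tt N138 (iv F3656)) (tt N330 (iv F1146)) (tt N138 F608) (tt N255 F3744))
theorem Q212 : ∀ i, i < 212 → P i := stepQ 211 Q211 (allL N211 (tt N249 (iv F764)) (tt N331 D743) (tt N136 (iv D362)) (tt N249 (iv F766)) (tt N328 F3788) (tt N332 D744) (tt N207 (iv F3737)))
theorem Q213 : ∀ i, i < 213 → P i := stepQ 212 Q212 (allL N212 (tt N251 (iv F769)) (tt N333 D745) (tt N332 (iv F1166)) (tt N137 F618) (tt N329 F3748) (tt N136 (iv D363)) (tt N161 F619))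
theorem Q214 : ∀ i, i < 214 → P i := stepQ 213 Q213 (allL N213 (tt N334 D746) (tt N137 (iv D364)) (tt N163 F620) (tt N333 (iv F1168)) (tt N138 F621) (tt N330 (iv F1147)) (tt N335 D747))
theorem Q215 : ∀ i, i < 215 → P i := stepQ 214 Q214 (allL N214 (tt N138 (iv D365)) (tt N222 (iv F3740)) (tt N165 F622) (tt N227 (iv F3661)) (tt N334 (iv F1170)) (tt N227 (iv F3660)) (tt N246 (iv F3696)))
theorem Q216 : ∀ i, i < 216 → P i := stepQ 215 Q215 (allL N215 (tt N246 (iv F3694)) (tt N166 F623) (tt N166 F624) (tt N255 (iv F3663)) (tt N335 (iv F1173)) (tt N291 F3750) (tt N138 (iv D366)))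
theorem Q217 : ∀ i, i < 217 → P i := stepQ 216 Q216 (allL N216 (tt N243 (iv F3730)) (tt N336 D777) (tt N139 (iv D377)) (tt N337 D778) (tt N207 F638) (tt N338 D779) (tt N328 (iv F3732)))
theorem Q218 : ∀ i, i < 218 → P i := stepQ 217 Q217 (allL N217 (tt N244 (iv F3731)) (tt N175 F639) (tt N338 (iv F1219)) (tt N140 F640) (tt N193 F641) (tt N139 (iv D378)) (tt N339 D781))
theorem Q219 : ∀ i, i < 219 → P i := stepQ 218 Q218 (allL N218 (tt N209 (iv F3622)) (tt N340 D783) (tt N158 (iv F3577)) (tt N339 (iv F1223)) (tt N141 F645) (tt N156 F3565) (tt N140 (iv D380)))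
theorem Q220 : ∀ i, i < 220 → P i := stepQ 219 Q219 (allL N219 (tt N266 (iv F3648)) (tt N141 (iv D382)) (tt N265 (iv F3649)) (tt N167 F3579) (tt N340 (iv F1230)) (tt N173 (iv F3595)) (tt N179 F651))
theorem Q221 : ∀ i, i < 221 → P i := stepQ 220 Q220 (allL N220 (tt N341 D791) (tt N142 (iv D384)) (tt N336 (iv F1217)) (tt N206 F654) (tt N206 F655) (tt N342 D792) (tt N343 D793))
theorem Q222 : ∀ i, i < 222 → P i := stepQ 221 Q221 (allL N221 (tt N147 (iv F3589)) (tt N144 F698) (tt N147 (iv F3590)) (tt N344 D848) (tt N143 (iv D411)) (tt N345 D849) (tt N346 D850))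
theorem Q223 : ∀ i, i < 223 → P i := stepQ 222 Q222 (allL N222 (tt N148 F3571) (tt N214 F3740) (tt N148 F3572) (tt N145 F3573) (tt N345 (iv F1346)) (tt N143 (iv D412)) (tt N234 (iv F3637)))
theorem Q224 : ∀ i, i < 224 → P i := stepQ 223 Q223 (allL N223 (tt N149 (iv F3591)) (tt N347 D853) (tt N149 (iv F3593)) (tt N146 (iv F3627)) (tt N346 (iv F1347)) (tt N233 (iv F3629)) (tt N143 (iv D413)))
theorem Q225 : ∀ i, i < 225 → P i := stepQ 224 Q224 (allL N224 (tt N150 F707) (tt N344 (iv F1345)) (tt N348 D860) (tt N144 (iv D417)) (tt N344 (iv F3634)) (tt N349 D861) (tt N350 D862))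
theorem Q226 : ∀ i, i < 226 → P i := stepQ 225 Q225 (allL N225 (tt N151 F708) (tt N351 D863) (tt N171 F709) (tt N349 (iv F1366)) (tt N145 F710) (tt N144 (iv D418)) (tt N240 (iv F741)))
theorem Q227 : ∀ i, i < 227 → P i := stepQ 226 Q226 (allL N226 (tt N152 F711) (tt N352 D864) (tt N172 F712) (tt N350 (iv F1368)) (tt N146 F713) (tt N239 (iv F734)) (tt N144 (iv D419)))
theorem Q228 : ∀ i, i < 228 → P i := stepQ 227 Q227 (allL N227 (tt N210 F3658) (tt N145 (iv D420)) (tt N241 F3659) (tt N214 F3661) (tt N351 (iv F1369)) (tt N214 F3660) (tt N291 (iv F3582)))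
theorem Q229 : ∀ i, i < 229 → P i := stepQ 228 Q228 (allL N228 (tt N228 F3509) (tt N146 (iv D421)) (tt N347 F3472) (tt N347 F3567) (tt N352 (iv F1370)) (tt N347 (iv F3511)) (tt N347 (iv F1350)))
theorem Q230 : ∀ i, i < 230 → P i := stepQ 229 Q229 (allL N229 (tt N344 (iv F3633)) (tt N157 F714) (tt N353 D871) (tt N147 (iv D422)) (tt N150 F715) (tt N354 D872) (tt N355 D873))
theorem Q231 : ∀ i, i < 231 → P i := stepQ 230 Q230 (allL N230 (tt N345 F3631) (tt N356 D874) (tt N345 F3632) (tt N354 (iv F1397)) (tt N148 F716) (tt N147 (iv D423)) (tt N357 D875))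
theorem Q232 : ∀ i, i < 232 → P i := stepQ 231 Q231 (allL N231 (tt N346 F3664) (tt N172 F3665) (tt N346 F3666) (tt N355 (iv F1399)) (tt N149 F717) (tt N358 D877) (tt N147 (iv D424)))
theorem Q233 : ∀ i, i < 233 → P i := stepQ 232 Q232 (allL N232 (tt N256 (iv F3697)) (tt N148 (iv D425)) (tt N255 F3749) (tt N153 F718) (tt N356 (iv F1401)) (tt N159 F719) (tt N153 F3753))
theorem Q234 : ∀ i, i < 234 → P i := stepQ 233 Q233 (allL N233 (tt N234 (iv F724)) (tt N154 F3628) (tt N234 (iv F725)) (tt N154 F720) (tt N357 (iv F1403)) (tt N223 F3629) (tt N148 (iv D426)))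
theorem Q235 : ∀ i, i < 235 → P i := stepQ 234 Q234 (allL N234 (tt N233 F724) (tt N277 (iv F3638)) (tt N233 F725) (tt N155 F726) (tt N358 (iv F1409)) (tt N149 (iv D428)) (tt N222 F3637))
theorem Q236 : ∀ i, i < 236 → P i := stepQ 235 Q235 (allL N235 (tt N348 (iv F1364)) (tt N359 D885) (tt N150 (iv D429)) (tt N360 D886) (tt N353 (iv F1396)) (tt N361 D887) (tt N362 D888))
theorem Q237 : ∀ i, i < 237 → P i := stepQ 236 Q236 (allL N236 (tt N349 (iv F1365)) (tt N363 D889) (tt N361 (iv F1421)) (tt N151 F728) (tt N354 (iv F1398)) (tt N150 (iv D430)) (tt N364 D890))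
theorem Q238 : ∀ i, i < 238 → P i := stepQ 237 Q237 (allL N237 (tt N350 (iv F1367)) (tt N184 (iv F3754)) (tt N362 (iv F1422)) (tt N152 F729) (tt N355 (iv F1400)) (tt N365 D892) (tt N150 (iv D431)))
theorem Q239 : ∀ i, i < 239 → P i := stepQ 238 Q238 (allL N238 (tt N366 D893) (tt N151 (iv D432)) (tt N330 (iv F1145)) (tt N363 (iv F1423)) (tt N153 F730) (tt N163 F731) (tt N356 F3781))
theorem Q240 : ∀ i, i < 240 → P i := stepQ 239 Q239 (allL N239 (tt N240 (iv F738)) (tt N357 (iv F3720)) (tt N177 F732) (tt N364 (iv F1425)) (tt N154 F733) (tt N226 F734) (tt N151 (iv D433)))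
theorem Q241 : ∀ i, i < 241 → P i := stepQ 240 Q240 (allL N240 (tt N239 F738) (tt N311 (iv F3692)) (tt N178 F739) (tt N365 (iv F1430)) (tt N155 F740) (tt N152 (iv D435)) (tt N225 F741))
theorem Q242 : ∀ i, i < 242 → P i := stepQ 241 Q241 (allL N241 (tt N153 (iv D436)) (tt N266 F3741) (tt N227 (iv F3659)) (tt N256 (iv F3698)) (tt N366 (iv F1432)) (tt N165 F742) (tt N256 (iv F782)))
theorem Q243 : ∀ i, i < 243 → P i := stepQ 242 Q242 (allL N242 (tt N208 (iv F3621)) (tt N170 (iv F3625)) (tt N367 D916) (tt N156 (iv D445)) (tt N162 F750) (tt N339 (iv F3624)) (tt N157 F751))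
theorem Q244 : ∀ i, i < 244 → P i := stepQ 243 Q243 (allL N243 (tt N216 F3730) (tt N368 D922) (tt N157 (iv D448)) (tt N369 D923) (tt N160 F757) (tt N370 D924) (tt N367 (iv F1463)))
theorem Q245 : ∀ i, i < 245 → P i := stepQ 244 Q244 (allL N244 (tt N217 F3731) (tt N371 D925) (tt N370 (iv F1474)) (tt N158 F758) (tt N161 F759) (tt N157 (iv D449)) (tt N329 (iv F3651)))
theorem Q246 : ∀ i, i < 246 → P i := stepQ 245 Q245 (allL N245 (tt N253 F3751) (tt N158 (iv D450)) (tt N372 D927) (tt N371 (iv F1476)) (tt N159 F760) (tt N356 (iv F1402)) (tt N252 F3752))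
theorem Q247 : ∀ i, i < 247 → P i := stepQ 246 Q246 (allL N246 (tt N215 F3694) (tt N265 (iv F3803)) (tt N159 (iv D452)) (tt N291 (iv F3654)) (tt N372 (iv F1479)) (tt N255 F3738) (tt N214 F3696))
theorem Q248 : ∀ i, i < 248 → P i := stepQ 247 Q247 (allL N247 (tt N373 D935) (tt N160 (iv D454)) (tt N359 (iv F1420)) (tt N326 F3823) (tt N368 (iv F1473)) (tt N374 D936) (tt N375 D937))
theorem Q249 : ∀ i, i < 249 → P i := stepQ 248 Q248 (allL N248 (tt N306 (iv F3784)) (tt N376 D938) (tt N161 F763) (tt N306 F3820) (tt N370 (iv F1475)) (tt N160 (iv D455)) (tt N332 (iv F1167)))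
theorem Q250 : ∀ i, i < 250 → P i := stepQ 249 Q249 (allL N249 (tt N211 F764) (tt N377 D939) (tt N162 F765) (tt N211 F766) (tt N367 (iv F1462)) (tt N378 D940) (tt N160 (iv D456)))
theorem Q251 : ∀ i, i < 251 → P i := stepQ 250 Q250 (allL N250 (tt N379 D941) (tt N161 (iv D457)) (tt N380 D942) (tt N163 F767) (tt N371 (iv F1477)) (tt N363 (iv F1424)) (tt N381 D943))
theorem Q252 : ∀ i, i < 252 → P i := stepQ 251 Q251 (allL N251 (tt N212 F769) (tt N382 D947) (tt N378 (iv F1492)) (tt N164 F770) (tt N339 (iv F3623)) (tt N162 (iv D459)) (tt N193 (iv F3703)))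
theorem Q253 : ∀ i, i < 253 → P i := stepQ 252 Q252 (allL N252 (tt N163 (iv D460)) (tt N383 D948) (tt N334 (iv F1169)) (tt N379 (iv F1495)) (tt N165 F772) (tt N366 (iv F1433)) (tt N245 (iv F3752)))
theorem Q254 : ∀ i, i < 254 → P i := stepQ 253 Q253 (allL N253 (tt N245 (iv F3751)) (tt N335 (iv F1171)) (tt N335 (iv F1172)) (tt N381 (iv F1496)) (tt N166 F773) (tt N384 D950) (tt N163 (iv D461)))
theorem Q255 : ∀ i, i < 255 → P i := stepQ 254 Q254 (allL N254 (tt N385 D955) (tt N164 (iv D464)) (tt N386 D956) (tt N382 (iv F1499)) (tt N167 F778) (tt N185 F3743) (tt N196 (iv F3669)))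
theorem Q256 : ∀ i, i < 256 → P i := stepQ 255 Q255 (allL N255 (tt N291 (iv F3739)) (tt N165 (iv D465)) (tt N232 (iv F3749)) (tt N215 F3663) (tt N383 (iv F1500)) (tt N246 (iv F3738)) (tt N210 (iv F3744)))
theorem Q257 : ∀ i, i < 257 → P i := stepQ 256 Q256 (allL N256 (tt N232 F3697) (tt N257 (iv F3771)) (tt N291 F3806) (tt N241 F3698) (tt N384 (iv F1505)) (tt N166 (iv D467)) (tt N241 F782))
theorem Q258 : ∀ i, i < 258 → P i := stepQ 257 Q257 (allL N257 (tt N167 (iv D472)) (tt N256 F3771) (tt N387 D972) (tt N266 (iv F3647)) (tt N385 (iv F1518)) (tt N186 F3599) (tt N198 F3601))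
theorem Q259 : ∀ i, i < 259 → P i := stepQ 258 Q258 (allL N258 (tt N387 (iv F1526)) (tt N169 F790) (tt N167 (iv D473)) (tt N388 D974) (tt N386 (iv F1520)) (tt N187 F3742) (tt N199 (iv F3680)))
theorem Q260 : ∀ i, i < 260 → P i := stepQ 259 Q259 (allL N259 (tt N259 F792) (tt N386 (iv F1519)) (tt N168 (iv D475)) (tt N259 F23352) (tt N169 F793) (tt N259 F794) (tt N259 F795))
theorem Q261 : ∀ i, i < 261 → P i := stepQ 260 Q260 (allL N260 (tt N260 F796) (tt N388 (iv F1529)) (tt N260 F799) (tt N169 (iv D476)) (tt N260 F24067) (tt N260 F797) (tt N260 F798))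
theorem Q262 : ∀ i, i < 262 → P i := stepQ 261 Q261 (allL N261 (tt N174 F822) (tt N389 D1008) (tt N170 (iv D491)) (tt N390 D1009) (tt N182 F823) (tt N391 D1010) (tt N392 D1011))
theorem Q263 : ∀ i, i < 263 → P i := stepQ 262 Q262 (allL N262 (tt N175 F824) (tt N393 D1012) (tt N391 (iv F1588)) (tt N171 F825) (tt N183 F826) (tt N170 (iv D492)) (tt N273 (iv F851)))
theorem Q264 : ∀ i, i < 264 → P i := stepQ 263 Q263 (allL N263 (tt N176 F827) (tt N355 F3684) (tt N392 (iv F1591)) (tt N172 F828) (tt N184 F829) (tt N272 (iv F847)) (tt N170 (iv D493)))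
theorem Q265 : ∀ i, i < 265 → P i := stepQ 264 Q264 (allL N264 (tt N394 D1014) (tt N171 (iv D494)) (tt N395 D1015) (tt N393 (iv F1593)) (tt N173 F830) (tt N340 (iv F3626)) (tt N396 D1016))
theorem Q266 : ∀ i, i < 266 → P i := stepQ 265 Q265 (allL N265 (tt N173 (iv D496)) (tt N246 F3803) (tt N219 F3649) (tt N186 F832) (tt N394 (iv F1597)) (tt N266 F833) (tt N277 (iv F3672)))
theorem Q267 : ∀ i, i < 267 → P i := stepQ 266 Q266 (allL N266 (tt N219 F3648) (tt N241 (iv F3741)) (tt N173 (iv D497)) (tt N257 F3647) (tt N395 (iv F1600)) (tt N265 (iv F833)) (tt N276 (iv F3673)))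
theorem Q268 : ∀ i, i < 268 → P i := stepQ 267 Q267 (allL N267 (tt N277 F3763) (tt N279 (iv F861)) (tt N276 F3764) (tt N188 F836) (tt N396 (iv F1602)) (tt N276 F3765) (tt N173 (iv D498)))
theorem Q269 : ∀ i, i < 269 → P i := stepQ 268 Q268 (allL N268 (tt N397 D1029) (tt N174 (iv D502)) (tt N181 F839) (tt N398 D1030) (tt N189 F840) (tt N399 D1031) (tt N400 D1032))
theorem Q270 : ∀ i, i < 270 → P i := stepQ 269 Q269 (allL N269 (tt N390 (iv F1585)) (tt N398 (iv F1632)) (tt N401 D1033) (tt N174 (iv D503)) (tt N402 D1034) (tt N403 D1035) (tt N404 D1036))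
theorem Q271 : ∀ i, i < 271 → P i := stepQ 270 Q270 (allL N270 (tt N391 (iv F1587)) (tt N405 D1037) (tt N175 F841) (tt N403 (iv F1640)) (tt N191 F842) (tt N174 (iv D504)) (tt N406 D1038))
theorem Q272 : ∀ i, i < 272 → P i := stepQ 271 Q271 (allL N271 (tt N392 (iv F1590)) (tt N407 D1039) (tt N176 F843) (tt N404 (iv F1641)) (tt N192 F844) (tt N408 D1040) (tt N174 (iv D505)))
theorem Q273 : ∀ i, i < 273 → P i := stepQ 272 Q272 (allL N272 (tt N273 (iv F848)) (tt N409 D1041) (tt N406 (iv F1643)) (tt N177 F845) (tt N194 F846) (tt N263 F847) (tt N175 (iv D506)))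
theorem Q274 : ∀ i, i < 274 → P i := stepQ 273 Q273 (allL N273 (tt N272 F848) (tt N410 D1042) (tt N408 (iv F1649)) (tt N178 F849) (tt N195 F850) (tt N176 (iv D507)) (tt N262 F851))
theorem Q275 : ∀ i, i < 275 → P i := stepQ 274 Q274 (allL N274 (tt N411 D1043) (tt N177 (iv D508)) (tt N412 D1044) (tt N409 (iv F1652)) (tt N179 F852) (tt N412 (iv F3687)) (tt N340 (iv F1231)))
theorem Q276 : ∀ i, i < 276 → P i := stepQ 275 Q275 (allL N275 (tt N197 (iv F3814)) (tt N178 (iv D509)) (tt N413 D1047) (tt N410 (iv F1654)) (tt N180 F853) (tt N275 F854) (tt N414 D1048))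
theorem Q277 : ∀ i, i < 277 → P i := stepQ 276 Q276 (allL N276 (tt N179 (iv D510)) (tt N198 (iv F3676)) (tt N267 (iv F3764)) (tt N198 F855) (tt N411 (iv F1657)) (tt N267 (iv F3765)) (tt N266 F3673))
theorem Q278 : ∀ i, i < 278 → P i := stepQ 277 Q277 (allL N277 (tt N267 (iv F3763)) (tt N234 F3638) (tt N179 (iv D511)) (tt N200 (iv F3686)) (tt N412 (iv F1658)) (tt N179 F3606) (tt N265 F3672))
theorem Q279 : ∀ i, i < 279 → P i := stepQ 278 Q278 (allL N278 (tt N201 (iv F3815)) (tt N316 F3776) (tt N180 (iv D514)) (tt N415 D1058) (tt N413 (iv F1663)) (tt N278 F860) (tt N416 D1059))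
theorem Q280 : ∀ i, i < 280 → P i := stepQ 279 Q279 (allL N279 (tt N202 (iv F3674)) (tt N267 F861) (tt N416 (iv F1693)) (tt N202 F862) (tt N414 (iv F1666)) (tt N202 (iv F3675)) (tt N180 (iv D515)))
theorem Q281 : ∀ i, i < 281 → P i := stepQ 280 Q280 (allL N280 (tt N181 (iv D516)) (tt N417 D1060) (tt N397 (iv F1630)) (tt N203 F863) (tt N203 F864) (tt N418 D1061) (tt N419 D1062))
theorem Q282 : ∀ i, i < 282 → P i := stepQ 281 Q281 (allL N281 (tt N418 (iv F1697)) (tt N342 (iv F1246)) (tt N399 (iv F1633)) (tt N204 F865) (tt N204 F866) (tt N181 (iv D517)) (tt N420 D1063))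
theorem Q283 : ∀ i, i < 283 → P i := stepQ 282 Q282 (allL N282 (tt N419 (iv F1700)) (tt N282 F867) (tt N400 (iv F1635)) (tt N205 F868) (tt N205 F869) (tt N421 D1064) (tt N181 (iv D518)))
theorem Q284 : ∀ i, i < 284 → P i := stepQ 283 Q283 (allL N283 (tt N422 D1136) (tt N182 (iv D554)) (tt N377 F3821) (tt N423 D1137) (tt N389 (iv F1584)) (tt N424 D1138) (tt N425 D1139))
theorem Q285 : ∀ i, i < 285 → P i := stepQ 284 Q284 (allL N284 (tt N190 F913) (tt N423 (iv F1853)) (tt N190 F914) (tt N182 (iv D555)) (tt N426 D1140) (tt N427 D1141) (tt N428 D1142))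
theorem Q286 : ∀ i, i < 286 → P i := stepQ 285 Q285 (allL N285 (tt N191 F915) (tt N429 D1143) (tt N183 F916) (tt N427 (iv F1858)) (tt N391 (iv F1589)) (tt N182 (iv D556)) (tt N305 (iv F955)))
theorem Q287 : ∀ i, i < 287 → P i := stepQ 286 Q286 (allL N286 (tt N192 F917) (tt N430 D1144) (tt N184 F918) (tt N428 (iv F1861)) (tt N392 (iv F1592)) (tt N303 (iv F951)) (tt N182 (iv D557)))
theorem Q288 : ∀ i, i < 288 → P i := stepQ 287 Q287 (allL N287 (tt N431 D1145) (tt N183 (iv D558)) (tt N432 D1146) (tt N185 F919) (tt N393 (iv F1594)) (tt N382 (iv F3791)) (tt N433 D1147))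
theorem Q289 : ∀ i, i < 289 → P i := stepQ 288 Q288 (allL N288 (tt N185 (iv D560)) (tt N434 D1151) (tt N435 D1152) (tt N431 (iv F1862)) (tt N186 F921) (tt N385 (iv F3668)) (tt N311 (iv F3670)))
theorem Q290 : ∀ i, i < 290 → P i := stepQ 289 Q289 (allL N289 (tt N435 (iv F1867)) (tt N289 F922) (tt N185 (iv D561)) (tt N289 F22674) (tt N187 F923) (tt N386 (iv F3808)) (tt N436 D1155))
theorem Q291 : ∀ i, i < 291 → P i := stepQ 290 Q290 (allL N290 (tt N311 (iv F3691)) (tt N313 (iv F983)) (tt N436 (iv F1873)) (tt N433 (iv F1863)) (tt N188 F924) (tt N309 (iv F3758)) (tt N185 (iv D562)))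
theorem Q292 : ∀ i, i < 292 → P i := stepQ 291 Q291 (allL N291 (tt N255 F3739) (tt N186 (iv D566)) (tt N256 (iv F3806)) (tt N246 F3654) (tt N434 (iv F1866)) (tt N215 (iv F3750)) (tt N227 F3582))
theorem Q293 : ∀ i, i < 293 → P i := stepQ 292 Q292 (allL N292 (tt N187 F929) (tt N387 F3770) (tt N186 (iv D567)) (tt N437 D1167) (tt N435 (iv F1868)) (tt N387 (iv F3678)) (tt N316 F3600))
theorem Q294 : ∀ i, i < 294 → P i := stepQ 293 Q293 (allL N293 (tt N437 (iv F1909)) (tt N293 F932) (tt N388 F3827) (tt N187 (iv D569)) (tt N293 F23351) (tt N388 (iv F3807)) (tt N438 D1170))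
theorem Q295 : ∀ i, i < 295 → P i := stepQ 294 Q294 (allL N294 (tt N316 (iv F3693)) (tt N439 D1171) (tt N188 F933) (tt N438 (iv F1914)) (tt N436 (iv F1874)) (tt N314 (iv F3766)) (tt N187 (iv D570)))
theorem Q296 : ∀ i, i < 296 → P i := stepQ 295 Q295 (allL N295 (tt N189 (iv D578)) (tt N440 D1178) (tt N203 F944) (tt N441 D1179) (tt N397 (iv F1631)) (tt N442 D1180) (tt N443 D1181))
theorem Q297 : ∀ i, i < 297 → P i := stepQ 296 Q296 (allL N296 (tt N441 (iv F1928)) (tt N190 F945) (tt N444 D1182) (tt N189 (iv D579)) (tt N445 D1183) (tt N446 D1184) (tt N447 D1185))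
theorem Q298 : ∀ i, i < 298 → P i := stepQ 297 Q297 (allL N297 (tt N442 (iv F1929)) (tt N448 D1186) (tt N204 F946) (tt N446 (iv F1934)) (tt N399 (iv F1634)) (tt N189 (iv D580)) (tt N449 D1187))
theorem Q299 : ∀ i, i < 299 → P i := stepQ 298 Q298 (allL N298 (tt N443 (iv F1931)) (tt N450 D1188) (tt N205 F947) (tt N447 (iv F1935)) (tt N400 (iv F1636)) (tt N451 D1189) (tt N189 (iv D581)))
theorem Q300 : ∀ i, i < 300 → P i := stepQ 299 Q299 (allL N299 (tt N426 (iv F1854)) (tt N445 (iv F1933)) (tt N426 (iv F1855)) (tt N402 (iv F1639)) (tt N190 (iv D582)) (tt N452 D1190) (tt N453 D1191))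
theorem Q301 : ∀ i, i < 301 → P i := stepQ 300 Q300 (allL N300 (tt N427 (iv F1856)) (tt N454 D1192) (tt N427 (iv F1857)) (tt N191 F948) (tt N452 (iv F1944)) (tt N190 (iv D583)) (tt N455 D1193))
theorem Q302 : ∀ i, i < 302 → P i := stepQ 301 Q301 (allL N301 (tt N428 (iv F1859)) (tt N456 D1194) (tt N428 (iv F1860)) (tt N192 F949) (tt N453 (iv F1945)) (tt N457 D1195) (tt N190 (iv D584)))
theorem Q303 : ∀ i, i < 303 → P i := stepQ 302 Q302 (allL N302 (tt N458 D1196) (tt N191 (iv D585)) (tt N459 D1197) (tt N454 (iv F1946)) (tt N405 (iv F1642)) (tt N448 (iv F1936)) (tt N460 D1198))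
theorem Q304 : ∀ i, i < 304 → P i := stepQ 303 Q303 (allL N303 (tt N305 (iv F953)) (tt N461 D1199) (tt N194 F950) (tt N455 (iv F1947)) (tt N406 (iv F1644)) (tt N286 F951) (tt N191 (iv D586)))
theorem Q305 : ∀ i, i < 305 → P i := stepQ 304 Q304 (allL N304 (tt N304 F21907) (tt N192 (iv D587)) (tt N304 F952) (tt N456 (iv F1949)) (tt N407 (iv F1647)) (tt N450 F24332) (tt N450 (iv F1940)))
theorem Q306 : ∀ i, i < 306 → P i := stepQ 305 Q305 (allL N305 (tt N303 F953) (tt N451 F24287) (tt N195 F954) (tt N457 (iv F1952)) (tt N408 (iv F1650)) (tt N192 (iv D588)) (tt N285 F955))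
theorem Q307 : ∀ i, i < 307 → P i := stepQ 306 Q306 (allL N306 (tt N248 F3784) (tt N459 (iv F1954)) (tt N193 (iv D590)) (tt N248 (iv F3820)) (tt N338 (iv F1220)) (tt N207 F958) (tt N378 F3785))
theorem Q308 : ∀ i, i < 308 → P i := stepQ 307 Q307 (allL N307 (tt N462 D1208) (tt N194 (iv D592)) (tt N463 D1209) (tt N196 F960) (tt N409 (iv F1653)) (tt N464 D1210) (tt N382 F3760))
theorem Q309 : ∀ i, i < 309 → P i := stepQ 308 Q308 (allL N308 (tt N410 F3829) (tt N195 (iv D593)) (tt N465 D1212) (tt N197 F961) (tt N410 (iv F1655)) (tt N308 F962) (tt N466 D1213))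
theorem Q310 : ∀ i, i < 310 → P i := stepQ 309 Q309 (allL N309 (tt N196 (iv D599)) (tt N411 F3757) (tt N467 D1228) (tt N462 (iv F1964)) (tt N198 F973) (tt N290 F3758) (tt N385 F3671))
theorem Q311 : ∀ i, i < 311 → P i := stepQ 310 Q310 (allL N310 (tt N467 (iv F1996)) (tt N310 F974) (tt N196 (iv D600)) (tt N310 F23010) (tt N199 F975) (tt N468 D1231) (tt N386 F3759))
theorem Q312 : ∀ i, i < 312 → P i := stepQ 311 Q311 (allL N311 (tt N290 F3691) (tt N240 F3692) (tt N468 (iv F2002)) (tt N464 (iv F1966)) (tt N200 F977) (tt N196 (iv D601)) (tt N288 F3670))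
theorem Q313 : ∀ i, i < 313 → P i := stepQ 312 Q312 (allL N312 (tt N413 F3828) (tt N312 F980) (tt N197 (iv D603)) (tt N312 F23357) (tt N201 F981) (tt N312 F982) (tt N469 D1236))
theorem Q314 : ∀ i, i < 314 → P i := stepQ 313 Q313 (allL N313 (tt N414 F3761) (tt N290 F983) (tt N469 (iv F2016)) (tt N466 (iv F1971)) (tt N202 F984) (tt N414 F3762) (tt N197 (iv D604)))
theorem Q315 : ∀ i, i < 315 → P i := stepQ 314 Q314 (allL N314 (tt N199 F995) (tt N416 F1694) (tt N198 (iv D619)) (tt N470 D1260) (tt N467 (iv F1997)) (tt N294 F3766) (tt N387 (iv F3679)))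
theorem Q316 : ∀ i, i < 316 → P i := stepQ 315 Q315 (allL N315 (tt N470 (iv F2055)) (tt N315 F998) (tt N438 (iv F3846)) (tt N199 (iv D621)) (tt N315 F23736) (tt N471 D1264) (tt N388 F3772))
theorem Q317 : ∀ i, i < 317 → P i := stepQ 316 Q316 (allL N316 (tt N294 F3693) (tt N278 (iv F3776)) (tt N200 F999) (tt N471 (iv F2060)) (tt N468 (iv F2003)) (tt N199 (iv D622)) (tt N292 (iv F3600)))
theorem Q318 : ∀ i, i < 318 → P i := stepQ 317 Q317 (allL N317 (tt N415 F3830) (tt N317 F1006) (tt N472 D1269) (tt N201 (iv D627)) (tt N317 F24070) (tt N317 F1007) (tt N473 D1271))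
theorem Q319 : ∀ i, i < 319 → P i := stepQ 318 Q318 (allL N318 (tt N416 F3767) (tt N474 D1272) (tt N202 F1008) (tt N473 (iv F2076)) (tt N469 (iv F2017)) (tt N416 F3768) (tt N201 (iv D628)))
theorem Q320 : ∀ i, i < 320 → P i := stepQ 319 Q319 (allL N319 (tt N327 (iv F22880)) (tt N203 (iv D629)) (tt N475 D1274) (tt N417 (iv F1695)) (tt N417 (iv F1696)) (tt N476 D1275) (tt N325 (iv F22873)))
theorem Q321 : ∀ i, i < 321 → P i := stepQ 320 Q320 (allL N320 (tt N204 F1009) (tt N477 D1277) (tt N442 (iv F1930)) (tt N418 (iv F1698)) (tt N418 (iv F1699)) (tt N203 (iv D630)) (tt N324 (iv F1014)))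
theorem Q322 : ∀ i, i < 322 → P i := stepQ 321 Q321 (allL N321 (tt N205 F1010) (tt N478 D1278) (tt N443 (iv F1932)) (tt N419 (iv F1701)) (tt N419 (iv F1702)) (tt N323 (iv F1012)) (tt N203 (iv D631)))
theorem Q323 : ∀ i, i < 323 → P i := stepQ 322 Q322 (allL N322 (tt N479 D1279) (tt N204 (iv D632)) (tt N480 D1280) (tt N342 (iv F1247)) (tt N342 (iv F1248)) (tt N206 F1011) (tt N476 (iv F22883)))
theorem Q324 : ∀ i, i < 324 → P i := stepQ 323 Q323 (allL N323 (tt N324 (iv F1013)) (tt N481 D1282) (tt N449 (iv F1937)) (tt N420 (iv F1703)) (tt N420 (iv F1704)) (tt N321 F1012) (tt N204 (iv D633)))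
theorem Q325 : ∀ i, i < 325 → P i := stepQ 324 Q324 (allL N324 (tt N323 F1013) (tt N465 (iv F24236)) (tt N451 (iv F1942)) (tt N421 (iv F1707)) (tt N421 (iv F1708)) (tt N205 (iv D634)) (tt N320 F1014))
theorem Q326 : ∀ i, i < 326 → P i := stepQ 325 Q325 (allL N325 (tt N206 (iv D635)) (tt N482 D1284) (tt N483 D1285) (tt N341 (iv F1244)) (tt N341 (iv F1245)) (tt N479 (iv F2079)) (tt N319 F22873))
theorem Q327 : ∀ i, i < 327 → P i := stepQ 326 Q326 (allL N326 (tt N483 (iv F2082)) (tt N207 F1015) (tt N206 (iv D636)) (tt N247 (iv F3823)) (tt N336 (iv F1218)) (tt N480 (iv F2080)) (tt N484 D1288))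
theorem Q328 : ∀ i, i < 328 → P i := stepQ 327 Q327 (allL N327 (tt N319 F22880) (tt N343 (iv F1249)) (tt N484 (iv F2086)) (tt N343 (iv F1250)) (tt N343 (iv F1251)) (tt N485 D1289) (tt N206 (iv D637)))
theorem Q329 : ∀ i, i < 329 → P i := stepQ 328 Q328 (allL N328 (tt N367 F3708) (tt N486 D1452) (tt N208 (iv D727)) (tt N487 D1453) (tt N211 (iv F3788)) (tt N488 D1454) (tt N216 F3732))
theorem Q330 : ∀ i, i < 330 → P i := stepQ 329 Q329 (allL N329 (tt N339 F3709) (tt N489 D1456) (tt N488 (iv F2368)) (tt N209 F1143) (tt N212 (iv F3748)) (tt N208 (iv D728)) (tt N244 F3651))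
theorem Q331 : ∀ i, i < 331 → P i := stepQ 330 Q330 (allL N330 (tt N351 (iv F3722)) (tt N209 (iv D730)) (tt N238 F1145) (tt N489 (iv F2370)) (tt N210 F1146) (tt N213 F1147) (tt N383 F3809))
theorem Q332 : ∀ i, i < 332 → P i := stepQ 331 Q331 (allL N331 (tt N490 D1484) (tt N211 (iv D743)) (tt N486 (iv F2367)) (tt N377 (iv F1490)) (tt N486 (iv F3789)) (tt N491 D1485) (tt N492 D1486))
theorem Q333 : ∀ i, i < 333 → P i := stepQ 332 Q332 (allL N332 (tt N378 (iv F1491)) (tt N493 D1487) (tt N212 F1166) (tt N378 (iv F1493)) (tt N488 (iv F3746)) (tt N211 (iv D744)) (tt N248 F1167))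
theorem Q334 : ∀ i, i < 334 → P i := stepQ 333 Q333 (allL N333 (tt N494 D1488) (tt N212 (iv D745)) (tt N495 D1489) (tt N213 F1168) (tt N489 (iv F3745)) (tt N489 (iv F2371)) (tt N496 D1490))
theorem Q335 : ∀ i, i < 335 → P i := stepQ 334 Q334 (allL N334 (tt N213 (iv D746)) (tt N345 (iv F3777)) (tt N252 F1169) (tt N494 (iv F2409)) (tt N214 F1170) (tt N351 (iv F3724)) (tt N372 (iv F3779)))
theorem Q336 : ∀ i, i < 336 → P i := stepQ 335 Q335 (allL N335 (tt N372 (iv F3778)) (tt N253 F1171) (tt N253 F1172) (tt N496 (iv F2411)) (tt N215 F1173) (tt N434 (iv F3794)) (tt N213 (iv D747)))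
theorem Q337 : ∀ i, i < 337 → P i := stepQ 336 Q336 (allL N336 (tt N497 D1524) (tt N216 (iv D777)) (tt N220 F1217) (tt N498 D1525) (tt N326 F1218) (tt N499 D1526) (tt N500 D1527))
theorem Q338 : ∀ i, i < 338 → P i := stepQ 337 Q337 (allL N337 (tt N369 (iv F3797)) (tt N498 (iv F2478)) (tt N501 D1528) (tt N216 (iv D778)) (tt N369 (iv F3801)) (tt N502 D1530) (tt N487 (iv F3800)))
theorem Q339 : ∀ i, i < 339 → P i := stepQ 338 Q338 (allL N338 (tt N370 (iv F3799)) (tt N503 D1532) (tt N217 F1219) (tt N502 (iv F2486)) (tt N306 F1220) (tt N216 (iv D779)) (tt N504 D1533))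
theorem Q340 : ∀ i, i < 340 → P i := stepQ 339 Q339 (allL N339 (tt N329 (iv F3709)) (tt N505 D1536) (tt N504 (iv F2490)) (tt N218 F1223) (tt N251 F3623) (tt N242 F3624) (tt N217 (iv D781)))
theorem Q341 : ∀ i, i < 341 → P i := stepQ 340 Q340 (allL N340 (tt N395 (iv F3718)) (tt N218 (iv D783)) (tt N394 (iv F3719)) (tt N505 (iv F2499)) (tt N219 F1230) (tt N264 F3626) (tt N274 F1231))
theorem Q342 : ∀ i, i < 342 → P i := stepQ 341 Q341 (allL N341 (tt N220 (iv D791)) (tt N506 D1550) (tt N497 (iv F2476)) (tt N325 F1244) (tt N325 F1245) (tt N507 D1551) (tt N417 F22833))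
theorem Q343 : ∀ i, i < 343 → P i := stepQ 342 Q342 (allL N342 (tt N507 (iv F2529)) (tt N281 F1246) (tt N499 (iv F2479)) (tt N322 F1247) (tt N322 F1248) (tt N220 (iv D792)) (tt N508 D1553))
theorem Q344 : ∀ i, i < 344 → P i := stepQ 343 Q343 (allL N343 (tt N417 F22835) (tt N327 F1249) (tt N500 (iv F2481)) (tt N327 F1250) (tt N327 F1251) (tt N509 D1554) (tt N220 (iv D793)))
theorem Q345 : ∀ i, i < 345 → P i := stepQ 344 Q344 (allL N344 (tt N229 F3633) (tt N224 F1345) (tt N510 D1669) (tt N221 (iv D848)) (tt N224 F3634) (tt N511 D1670) (tt N512 D1671))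
theorem Q346 : ∀ i, i < 346 → P i := stepQ 345 Q345 (allL N345 (tt N230 (iv F3631)) (tt N334 F3777) (tt N230 (iv F3632)) (tt N511 (iv F2731)) (tt N222 F1346) (tt N221 (iv D849)) (tt N358 (iv F3639)))
theorem Q347 : ∀ i, i < 347 → P i := stepQ 346 Q346 (allL N346 (tt N231 (iv F3664)) (tt N513 D1674) (tt N231 (iv F3666)) (tt N512 (iv F2732)) (tt N223 F1347) (tt N357 (iv F3721)) (tt N221 (iv D850)))
theorem Q348 : ∀ i, i < 348 → P i := stepQ 347 Q347 (allL N347 (tt N347 F3482) (tt N223 (iv D853)) (tt N228 (iv F3472)) (tt N228 (iv F3567)) (tt N513 (iv F2739)) (tt N228 F3511) (tt N228 F1350))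
theorem Q349 : ∀ i, i < 349 → P i := stepQ 348 Q348 (allL N348 (tt N235 F1364) (tt N514 D1692) (tt N224 (iv D860)) (tt N401 (iv F1638)) (tt N510 (iv F3726)) (tt N515 D1693) (tt N516 D1694))
theorem Q350 : ∀ i, i < 350 → P i := stepQ 349 Q349 (allL N349 (tt N236 F1365) (tt N517 D1695) (tt N515 (iv F2766)) (tt N225 F1366) (tt N511 (iv F3689)) (tt N224 (iv D861)) (tt N365 (iv F1431)))
theorem Q351 : ∀ i, i < 351 → P i := stepQ 350 Q350 (allL N350 (tt N237 F1367) (tt N518 D1696) (tt N516 (iv F2768)) (tt N226 F1368) (tt N512 (iv F3682)) (tt N364 (iv F1426)) (tt N224 (iv D862)))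
theorem Q352 : ∀ i, i < 352 → P i := stepQ 351 Q351 (allL N351 (tt N330 F3722) (tt N225 (iv D863)) (tt N366 F3723) (tt N517 (iv F2769)) (tt N227 F1369) (tt N334 F3724) (tt N434 (iv F3652)))
theorem Q353 : ∀ i, i < 353 → P i := stepQ 352 Q352 (allL N352 (tt N352 F3547) (tt N226 (iv D864)) (tt N513 (iv F3473)) (tt N518 (iv F2770)) (tt N228 F1370) (tt N513 (iv F3550)) (tt N513 (iv F2740)))
theorem Q354 : ∀ i, i < 354 → P i := stepQ 353 Q353 (allL N353 (tt N510 (iv F3725)) (tt N519 D1711) (tt N229 (iv D871)) (tt N520 D1712) (tt N235 F1396) (tt N521 D1713) (tt N522 D1714))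
theorem Q355 : ∀ i, i < 355 → P i := stepQ 354 Q354 (allL N354 (tt N511 (iv F3688)) (tt N523 D1715) (tt N521 (iv F2797)) (tt N230 F1397) (tt N236 F1398) (tt N229 (iv D872)) (tt N524 D1716))
theorem Q356 : ∀ i, i < 356 → P i := stepQ 355 Q355 (allL N355 (tt N512 (iv F3681)) (tt N263 (iv F3684)) (tt N522 (iv F2799)) (tt N231 F1399) (tt N237 F1400) (tt N525 D1718) (tt N229 (iv D873)))
theorem Q357 : ∀ i, i < 357 → P i := stepQ 356 Q356 (allL N356 (tt N384 (iv F3780)) (tt N230 (iv D874)) (tt N383 F3810) (tt N523 (iv F2801)) (tt N232 F1401) (tt N245 F1402) (tt N238 (iv F3781)))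
theorem Q358 : ∀ i, i < 358 → P i := stepQ 357 Q357 (allL N357 (tt N358 (iv F1407)) (tt N239 F3720) (tt N358 (iv F1408)) (tt N524 (iv F2804)) (tt N233 F1403) (tt N346 F3721) (tt N230 (iv D875)))
theorem Q359 : ∀ i, i < 359 → P i := stepQ 358 Q358 (allL N358 (tt N357 F1407) (tt N412 (iv F3728)) (tt N357 F1408) (tt N525 (iv F2811)) (tt N234 F1409) (tt N231 (iv D877)) (tt N345 F3639))
theorem Q360 : ∀ i, i < 360 → P i := stepQ 359 Q359 (allL N359 (tt N526 D1739) (tt N235 (iv D885)) (tt N247 F1420) (tt N527 D1740) (tt N519 (iv F2795)) (tt N528 D1741) (tt N529 D1742))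
theorem Q361 : ∀ i, i < 361 → P i := stepQ 360 Q360 (allL N360 (tt N401 (iv F1637)) (tt N527 (iv F2842)) (tt N390 (iv F1586)) (tt N235 (iv D886)) (tt N530 D1743) (tt N531 D1744) (tt N532 D1745))
theorem Q362 : ∀ i, i < 362 → P i := stepQ 361 Q361 (allL N361 (tt N515 (iv F2765)) (tt N533 D1746) (tt N236 F1421) (tt N531 (iv F2845)) (tt N521 (iv F2798)) (tt N235 (iv D887)) (tt N534 D1747))
theorem Q363 : ∀ i, i < 363 → P i := stepQ 362 Q362 (allL N362 (tt N516 (iv F2767)) (tt N535 D1748) (tt N237 F1422) (tt N532 (iv F2846)) (tt N522 (iv F2800)) (tt N536 D1749) (tt N235 (iv D888)))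
theorem Q364 : ∀ i, i < 364 → P i := stepQ 363 Q363 (allL N363 (tt N537 D1750) (tt N236 (iv D889)) (tt N538 D1751) (tt N238 F1423) (tt N523 (iv F2802)) (tt N250 F1424) (tt N523 (iv F3783)))
theorem Q365 : ∀ i, i < 365 → P i := stepQ 364 Q364 (allL N364 (tt N365 (iv F1429)) (tt N524 (iv F3792)) (tt N534 (iv F2847)) (tt N239 F1425) (tt N524 (iv F2805)) (tt N350 F1426) (tt N236 (iv D890)))
theorem Q366 : ∀ i, i < 366 → P i := stepQ 365 Q365 (allL N365 (tt N364 F1429) (tt N464 (iv F3774)) (tt N536 (iv F2850)) (tt N240 F1430) (tt N525 (iv F2812)) (tt N237 (iv D892)) (tt N349 F1431))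
theorem Q367 : ∀ i, i < 367 → P i := stepQ 366 Q366 (allL N366 (tt N238 (iv D893)) (tt N395 (iv F3775)) (tt N351 (iv F3723)) (tt N537 (iv F2852)) (tt N241 F1432) (tt N252 F1433) (tt N384 (iv F1506)))
theorem Q368 : ∀ i, i < 368 → P i := stepQ 367 Q367 (allL N367 (tt N328 (iv F3708)) (tt N539 D1809) (tt N242 (iv D916)) (tt N501 (iv F3733)) (tt N249 F1462) (tt N504 (iv F3713)) (tt N243 F1463))
theorem Q369 : ∀ i, i < 369 → P i := stepQ 368 Q368 (allL N368 (tt N540 D1822) (tt N243 (iv D922)) (tt N519 (iv F2794)) (tt N541 D1823) (tt N247 F1473) (tt N542 D1824) (tt N543 D1825))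
theorem Q370 : ∀ i, i < 370 → P i := stepQ 369 Q369 (allL N369 (tt N337 F3797) (tt N541 (iv F2954)) (tt N487 F3798) (tt N243 (iv D923)) (tt N337 F3801) (tt N544 D1826) (tt N501 (iv F3735)))
theorem Q371 : ∀ i, i < 371 → P i := stepQ 370 Q370 (allL N370 (tt N338 F3799) (tt N545 D1827) (tt N244 F1474) (tt N544 (iv F2957)) (tt N248 F1475) (tt N243 (iv D924)) (tt N488 (iv F3747)))
theorem Q372 : ∀ i, i < 372 → P i := stepQ 371 Q371 (allL N371 (tt N381 F3812) (tt N244 (iv D925)) (tt N546 D1829) (tt N245 F1476) (tt N250 F1477) (tt N523 (iv F2803)) (tt N379 F3813))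
theorem Q373 : ∀ i, i < 373 → P i := stepQ 372 Q372 (allL N372 (tt N335 F3778) (tt N394 (iv F3710)) (tt N245 (iv D927)) (tt N547 D1834) (tt N246 F1479) (tt N383 F3804) (tt N334 F3779))
theorem Q374 : ∀ i, i < 374 → P i := stepQ 373 Q373 (allL N373 (tt N247 (iv D935)) (tt N548 D1851) (tt N526 (iv F2841)) (tt N483 (iv F3822)) (tt N540 (iv F2953)) (tt N549 D1852) (tt N550 D1853))
theorem Q375 : ∀ i, i < 375 → P i := stepQ 374 Q374 (allL N374 (tt N549 (iv F2991)) (tt N551 D1854) (tt N528 (iv F2843)) (tt N480 (iv F3824)) (tt N542 (iv F2955)) (tt N247 (iv D936)) (tt N552 D1855))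
theorem Q376 : ∀ i, i < 376 → P i := stepQ 375 Q375 (allL N375 (tt N550 (iv F2992)) (tt N553 D1856) (tt N529 (iv F2844)) (tt N484 (iv F3826)) (tt N543 (iv F2956)) (tt N554 D1857) (tt N247 (iv D937)))
theorem Q377 : ∀ i, i < 377 → P i := stepQ 376 Q376 (allL N376 (tt N555 D1858) (tt N248 (iv D938)) (tt N556 D1859) (tt N459 (iv F3819)) (tt N545 (iv F2958)) (tt N551 (iv F2993)) (tt N557 D1860))
theorem Q378 : ∀ i, i < 378 → P i := stepQ 377 Q377 (allL N377 (tt N558 D1861) (tt N249 (iv D939)) (tt N283 (iv F3821)) (tt N331 F1490) (tt N539 (iv F2927)) (tt N559 D1863) (tt N553 (iv F2996)))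
theorem Q379 : ∀ i, i < 379 → P i := stepQ 378 Q378 (allL N378 (tt N332 F1491) (tt N560 D1864) (tt N251 F1492) (tt N332 F1493) (tt N504 (iv F3712)) (tt N249 (iv D940)) (tt N306 (iv F3785)))
theorem Q380 : ∀ i, i < 380 → P i := stepQ 379 Q379 (allL N379 (tt N250 (iv D941)) (tt N561 D1865) (tt N562 D1866) (tt N252 F1495) (tt N381 (iv F3811)) (tt N537 (iv F2853)) (tt N371 (iv F3813)))
theorem Q381 : ∀ i, i < 381 → P i := stepQ 380 Q380 (allL N380 (tt N562 (iv F3005)) (tt N556 (iv F2999)) (tt N250 (iv D942)) (tt N563 D1868) (tt N546 (iv F2961)) (tt N538 (iv F2854)) (tt N564 D1869))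
theorem Q382 : ∀ i, i < 382 → P i := stepQ 381 Q381 (allL N381 (tt N371 (iv F3812)) (tt N496 (iv F2410)) (tt N564 (iv F3009)) (tt N253 F1496) (tt N379 F3811) (tt N565 D1870) (tt N250 (iv D943)))
theorem Q383 : ∀ i, i < 383 → P i := stepQ 382 Q382 (allL N382 (tt N566 D1878) (tt N251 (iv D947)) (tt N567 D1879) (tt N254 F1499) (tt N505 (iv F3711)) (tt N287 F3791) (tt N307 (iv F3760)))
theorem Q384 : ∀ i, i < 384 → P i := stepQ 383 Q383 (allL N383 (tt N434 (iv F3805)) (tt N252 (iv D948)) (tt N356 (iv F3810)) (tt N561 (iv F3004)) (tt N255 F1500) (tt N372 (iv F3804)) (tt N330 (iv F3809)))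
theorem Q385 : ∀ i, i < 385 → P i := stepQ 384 Q384 (allL N384 (tt N356 F3780) (tt N385 (iv F3816)) (tt N434 (iv F3793)) (tt N565 (iv F3011)) (tt N256 F1505) (tt N253 (iv D950)) (tt N366 F1506))
theorem Q386 : ∀ i, i < 386 → P i := stepQ 385 Q385 (allL N385 (tt N254 (iv D955)) (tt N384 F3816) (tt N568 D1895) (tt N566 (iv F3024)) (tt N257 F1518) (tt N288 F3668) (tt N309 (iv F3671)))
theorem Q387 : ∀ i, i < 387 → P i := stepQ 386 Q386 (allL N386 (tt N568 (iv F3044)) (tt N259 F1519) (tt N254 (iv D956)) (tt N386 F23005) (tt N258 F1520) (tt N289 F3808) (tt N310 (iv F3759)))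
theorem Q388 : ∀ i, i < 388 → P i := stepQ 387 Q387 (allL N387 (tt N258 F1526) (tt N292 (iv F3770)) (tt N257 (iv D972)) (tt N569 D1934) (tt N568 (iv F3045)) (tt N292 F3678) (tt N314 F3679))
theorem Q389 : ∀ i, i < 389 → P i := stepQ 388 Q388 (allL N388 (tt N569 (iv F3103)) (tt N260 F1529) (tt N293 (iv F3827)) (tt N258 (iv D974)) (tt N388 F23730) (tt N293 F3807) (tt N315 (iv F3772)))
theorem Q390 : ∀ i, i < 390 → P i := stepQ 389 Q389 (allL N389 (tt N570 D1990) (tt N261 (iv D1008)) (tt N539 (iv F3715)) (tt N571 D1991) (tt N283 F1584) (tt N572 D1992) (tt N573 D1993))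
theorem Q391 : ∀ i, i < 391 → P i := stepQ 390 Q390 (allL N390 (tt N269 F1585) (tt N571 (iv F3222)) (tt N360 F1586) (tt N261 (iv D1009)) (tt N574 D1994) (tt N575 D1995) (tt N576 D1996))
theorem Q392 : ∀ i, i < 392 → P i := stepQ 391 Q391 (allL N391 (tt N270 F1587) (tt N577 D1997) (tt N262 F1588) (tt N575 (iv F3230)) (tt N285 F1589) (tt N261 (iv D1010)) (tt N408 (iv F1651)))
theorem Q393 : ∀ i, i < 393 → P i := stepQ 392 Q392 (allL N392 (tt N271 F1590) (tt N578 D1998) (tt N263 F1591) (tt N576 (iv F3233)) (tt N286 F1592) (tt N406 (iv F1645)) (tt N261 (iv D1011)))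
theorem Q394 : ∀ i, i < 394 → P i := stepQ 393 Q393 (allL N393 (tt N579 D1999) (tt N262 (iv D1012)) (tt N580 D2000) (tt N264 F1593) (tt N287 F1594) (tt N505 (iv F3717)) (tt N581 D2001))
theorem Q395 : ∀ i, i < 395 → P i := stepQ 394 Q394 (allL N394 (tt N264 (iv D1014)) (tt N372 F3710) (tt N340 F3719) (tt N579 (iv F3236)) (tt N265 F1597) (tt N395 (iv F1601)) (tt N412 (iv F3729)))
theorem Q396 : ∀ i, i < 396 → P i := stepQ 395 Q395 (allL N395 (tt N340 F3718) (tt N366 F3775) (tt N264 (iv D1015)) (tt N582 D2007) (tt N266 F1600) (tt N394 F1601) (tt N411 (iv F3756)))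
theorem Q397 : ∀ i, i < 397 → P i := stepQ 396 Q396 (allL N396 (tt N412 F3795) (tt N414 (iv F1665)) (tt N411 F3796) (tt N581 (iv F3239)) (tt N267 F1602) (tt N411 (iv F3755)) (tt N264 (iv D1016)))
theorem Q398 : ∀ i, i < 398 → P i := stepQ 397 Q397 (allL N397 (tt N268 (iv D1029)) (tt N583 D2020) (tt N280 F1630) (tt N584 D2021) (tt N295 F1631) (tt N585 D2022) (tt N586 D2023))
theorem Q399 : ∀ i, i < 399 → P i := stepQ 398 Q398 (allL N398 (tt N584 (iv F3282)) (tt N269 F1632) (tt N587 D2024) (tt N268 (iv D1030)) (tt N588 D2025) (tt N589 D2026) (tt N590 D2027))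
theorem Q400 : ∀ i, i < 400 → P i := stepQ 399 Q399 (allL N399 (tt N585 (iv F3283)) (tt N591 D2028) (tt N281 F1633) (tt N589 (iv F3291)) (tt N297 F1634) (tt N268 (iv D1031)) (tt N592 D2029))
theorem Q401 : ∀ i, i < 401 → P i := stepQ 400 Q400 (allL N400 (tt N586 (iv F3286)) (tt N593 D2030) (tt N282 F1635) (tt N590 (iv F3292)) (tt N298 F1636) (tt N594 D2031) (tt N268 (iv D1032)))
theorem Q402 : ∀ i, i < 402 → P i := stepQ 401 Q401 (allL N401 (tt N360 F1637) (tt N595 D2032) (tt N269 (iv D1033)) (tt N348 F1638) (tt N596 D2033) (tt N597 D2034) (tt N598 D2035))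
theorem Q403 : ∀ i, i < 403 → P i := stepQ 402 Q402 (allL N402 (tt N574 (iv F3225)) (tt N588 (iv F3289)) (tt N596 (iv F3307)) (tt N299 F1639) (tt N269 (iv D1034)) (tt N599 D2036) (tt N600 D2037))
theorem Q404 : ∀ i, i < 404 → P i := stepQ 403 Q403 (allL N403 (tt N575 (iv F3228)) (tt N601 D2038) (tt N597 (iv F3309)) (tt N270 F1640) (tt N599 (iv F3315)) (tt N269 (iv D1035)) (tt N602 D2039))
theorem Q405 : ∀ i, i < 405 → P i := stepQ 404 Q404 (allL N404 (tt N576 (iv F3231)) (tt N603 D2040) (tt N598 (iv F3312)) (tt N271 F1641) (tt N600 (iv F3317)) (tt N604 D2041) (tt N269 (iv D1036)))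
theorem Q406 : ∀ i, i < 406 → P i := stepQ 405 Q405 (allL N405 (tt N605 D2042) (tt N270 (iv D1037)) (tt N503 (iv F2488)) (tt N601 (iv F3318)) (tt N302 F1642) (tt N591 (iv F3294)) (tt N606 D2043))
theorem Q407 : ∀ i, i < 407 → P i := stepQ 406 Q406 (allL N406 (tt N408 (iv F1648)) (tt N607 D2044) (tt N272 F1643) (tt N602 (iv F3319)) (tt N303 F1644) (tt N392 F1645) (tt N270 (iv D1038)))
theorem Q408 : ∀ i, i < 408 → P i := stepQ 407 Q407 (allL N407 (tt N407 F21518) (tt N271 (iv D1039)) (tt N407 F1646) (tt N603 (iv F3321)) (tt N304 F1647) (tt N593 F24383) (tt N593 (iv F3300)))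
theorem Q409 : ∀ i, i < 409 → P i := stepQ 408 Q408 (allL N408 (tt N406 F1648) (tt N594 F24177) (tt N273 F1649) (tt N604 (iv F3323)) (tt N305 F1650) (tt N271 (iv D1040)) (tt N391 F1651))
theorem Q410 : ∀ i, i < 410 → P i := stepQ 409 Q409 (allL N409 (tt N608 D2048) (tt N272 (iv D1041)) (tt N609 D2049) (tt N274 F1652) (tt N307 F1653) (tt N610 D2050) (tt N505 (iv F2501)))
theorem Q411 : ∀ i, i < 411 → P i := stepQ 410 Q410 (allL N410 (tt N308 (iv F3829)) (tt N273 (iv D1042)) (tt N611 D2052) (tt N275 F1654) (tt N308 F1655) (tt N410 F1656) (tt N612 D2053))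
theorem Q412 : ∀ i, i < 412 → P i := stepQ 411 Q411 (allL N411 (tt N274 (iv D1043)) (tt N309 (iv F3757)) (tt N396 (iv F3796)) (tt N608 (iv F3333)) (tt N276 F1657) (tt N396 F3755) (tt N395 F3756))
theorem Q413 : ∀ i, i < 413 → P i := stepQ 412 Q412 (allL N412 (tt N396 (iv F3795)) (tt N358 F3728) (tt N274 (iv D1044)) (tt N610 (iv F3773)) (tt N277 F1658) (tt N274 F3687) (tt N394 F3729))
theorem Q414 : ∀ i, i < 414 → P i := stepQ 413 Q413 (allL N413 (tt N312 (iv F3828)) (tt N468 F3817) (tt N275 (iv D1047)) (tt N413 F23009) (tt N278 F1663) (tt N413 F1664) (tt N613 D2063))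
theorem Q415 : ∀ i, i < 415 → P i := stepQ 414 Q414 (allL N414 (tt N313 (iv F3761)) (tt N396 F1665) (tt N613 (iv F3369)) (tt N612 (iv F3345)) (tt N279 F1666) (tt N313 (iv F3762)) (tt N275 (iv D1048)))
theorem Q416 : ∀ i, i < 416 → P i := stepQ 415 Q415 (allL N415 (tt N317 (iv F3830)) (tt N471 F3818) (tt N614 D2076) (tt N278 (iv D1058)) (tt N415 F23735) (tt N415 F1692) (tt N615 D2078))
theorem Q417 : ∀ i, i < 417 → P i := stepQ 416 Q416 (allL N416 (tt N318 (iv F3767)) (tt N314 (iv F1694)) (tt N279 F1693) (tt N615 (iv F3390)) (tt N613 (iv F3370)) (tt N318 (iv F3768)) (tt N278 (iv D1059)))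
theorem Q418 : ∀ i, i < 418 → P i := stepQ 417 Q417 (allL N417 (tt N343 (iv F22835)) (tt N280 (iv D1060)) (tt N616 D2080) (tt N319 F1695) (tt N319 F1696) (tt N508 (iv F22836)) (tt N341 (iv F22833)))
theorem Q419 : ∀ i, i < 419 → P i := stepQ 418 Q418 (allL N418 (tt N281 F1697) (tt N617 D2083) (tt N585 (iv F3284)) (tt N320 F1698) (tt N320 F1699) (tt N280 (iv D1061)) (tt N421 (iv F1709)))
theorem Q420 : ∀ i, i < 420 → P i := stepQ 419 Q419 (allL N419 (tt N282 F1700) (tt N618 D2084) (tt N586 (iv F3287)) (tt N321 F1701) (tt N321 F1702) (tt N420 (iv F1705)) (tt N280 (iv D1062)))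
theorem Q421 : ∀ i, i < 421 → P i := stepQ 420 Q420 (allL N420 (tt N421 (iv F1706)) (tt N619 D2085) (tt N592 (iv F3295)) (tt N323 F1703) (tt N323 F1704) (tt N419 F1705) (tt N281 (iv D1063)))
theorem Q422 : ∀ i, i < 422 → P i := stepQ 421 Q421 (allL N421 (tt N420 F1706) (tt N611 (iv F24272)) (tt N594 (iv F3302)) (tt N324 F1707) (tt N324 F1708) (tt N282 (iv D1064)) (tt N418 F1709))
theorem Q423 : ∀ i, i < 423 → P i := stepQ 422 Q422 (allL N422 (tt N283 (iv D1136)) (tt N620 D2104) (tt N558 (iv F3855)) (tt N621 D2105) (tt N570 (iv F3221)) (tt N622 D2106) (tt N623 D2107))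
theorem Q424 : ∀ i, i < 424 → P i := stepQ 423 Q423 (allL N423 (tt N621 (iv F3903)) (tt N284 F1853) (tt N624 D2108) (tt N283 (iv D1137)) (tt N625 D2109) (tt N626 D2110) (tt N624 (iv F24060)))
theorem Q425 : ∀ i, i < 425 → P i := stepQ 424 Q424 (allL N424 (tt N622 (iv F3904)) (tt N627 D2112) (tt N559 (iv F3856)) (tt N626 (iv F3908)) (tt N572 (iv F3223)) (tt N283 (iv D1138)) (tt N628 D2113))
theorem Q426 : ∀ i, i < 426 → P i := stepQ 425 Q425 (allL N425 (tt N623 (iv F3905)) (tt N629 D2114) (tt N553 (iv F3857)) (tt N624 (iv F24059)) (tt N573 (iv F3224)) (tt N630 D2115) (tt N283 (iv D1139)))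
theorem Q427 : ∀ i, i < 427 → P i := stepQ 426 Q426 (allL N426 (tt N299 F1854) (tt N625 (iv F3907)) (tt N299 F1855) (tt N574 (iv F3227)) (tt N284 (iv D1140)) (tt N631 D2116) (tt N632 D2117))
theorem Q428 : ∀ i, i < 428 → P i := stepQ 427 Q427 (allL N427 (tt N300 F1856) (tt N633 D2118) (tt N300 F1857) (tt N285 F1858) (tt N631 (iv F3917)) (tt N284 (iv D1141)) (tt N457 (iv F1953)))
theorem Q429 : ∀ i, i < 429 → P i := stepQ 428 Q428 (allL N428 (tt N301 F1859) (tt N634 D2119) (tt N301 F1860) (tt N286 F1861) (tt N632 (iv F3920)) (tt N455 (iv F1948)) (tt N284 (iv D1142)))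
theorem Q430 : ∀ i, i < 430 → P i := stepQ 429 Q429 (allL N429 (tt N635 D2120) (tt N285 (iv D1143)) (tt N636 D2121) (tt N633 (iv F3921)) (tt N577 (iv F3234)) (tt N627 (iv F3910)) (tt N637 D2122))
theorem Q431 : ∀ i, i < 431 → P i := stepQ 430 Q430 (allL N430 (tt N638 D2123) (tt N286 (iv D1144)) (tt N535 (iv F3902)) (tt N634 (iv F3922)) (tt N578 (iv F3235)) (tt N639 D2124) (tt N629 (iv F3912)))
theorem Q432 : ∀ i, i < 432 → P i := stepQ 431 Q431 (allL N431 (tt N287 (iv D1145)) (tt N640 D2125) (tt N641 D2126) (tt N288 F1862) (tt N579 (iv F3237)) (tt N566 (iv F3879)) (tt N464 F3873))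
theorem Q433 : ∀ i, i < 433 → P i := stepQ 432 Q432 (allL N432 (tt N641 (iv F3929)) (tt N636 (iv F3923)) (tt N287 (iv D1146)) (tt N641 F22270) (tt N580 (iv F3238)) (tt N567 F3897) (tt N642 D2128))
theorem Q434 : ∀ i, i < 434 → P i := stepQ 433 Q433 (allL N433 (tt N464 F3877) (tt N466 (iv F1970)) (tt N642 (iv F3930)) (tt N290 F1863) (tt N581 (iv F3240)) (tt N462 (iv F3876)) (tt N287 (iv D1147)))
theorem Q435 : ∀ i, i < 435 → P i := stepQ 434 Q434 (allL N434 (tt N383 F3805) (tt N288 (iv D1151)) (tt N384 F3793) (tt N640 (iv F3925)) (tt N291 F1866) (tt N335 F3794) (tt N351 F3652))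
theorem Q436 : ∀ i, i < 436 → P i := stepQ 435 Q435 (allL N435 (tt N289 F1867) (tt N568 F3859) (tt N288 (iv D1152)) (tt N435 F22443) (tt N292 F1868) (tt N568 F3861) (tt N468 F3862))
theorem Q437 : ∀ i, i < 437 → P i := stepQ 436 Q436 (allL N436 (tt N468 (iv F3863)) (tt N643 D2133) (tt N290 F1873) (tt N436 F23006) (tt N294 F1874) (tt N467 F3865) (tt N289 (iv D1155)))
theorem Q438 : ∀ i, i < 438 → P i := stepQ 437 Q437 (allL N437 (tt N293 F1909) (tt N569 (iv F3853)) (tt N569 (iv F3844)) (tt N292 (iv D1167)) (tt N437 F23008) (tt N569 (iv F3852)) (tt N471 F3850))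
theorem Q439 : ∀ i, i < 439 → P i := stepQ 438 Q438 (allL N438 (tt N471 (iv F3849)) (tt N644 D2136) (tt N315 F3846) (tt N294 F1914) (tt N438 F23731) (tt N470 (iv F3848)) (tt N293 (iv D1170)))
theorem Q440 : ∀ i, i < 440 → P i := stepQ 439 Q439 (allL N439 (tt N439 F3884) (tt N294 (iv D1171)) (tt N474 (iv F2077)) (tt N644 (iv F3943)) (tt N643 (iv F3936)) (tt N474 F3886) (tt N439 F1915))
theorem Q441 : ∀ i, i < 441 → P i := stepQ 440 Q440 (allL N440 (tt N645 D2137) (tt N295 (iv D1178)) (tt N646 D2138) (tt N647 D2139) (tt N583 (iv F3281)) (tt N648 D2140) (tt N649 D2141))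
theorem Q442 : ∀ i, i < 442 → P i := stepQ 441 Q441 (allL N441 (tt N296 F1928) (tt N647 (iv F3946)) (tt N650 D2142) (tt N295 (iv D1179)) (tt N651 D2143) (tt N652 D2144) (tt N653 D2145))
theorem Q443 : ∀ i, i < 443 → P i := stepQ 442 Q442 (allL N442 (tt N297 F1929) (tt N637 F23750) (tt N320 F1930) (tt N652 (iv F3951)) (tt N585 (iv F3285)) (tt N295 (iv D1180)) (tt N451 (iv F1943)))
theorem Q444 : ∀ i, i < 444 → P i := stepQ 443 Q443 (allL N443 (tt N298 F1931) (tt N654 D2147) (tt N321 F1932) (tt N653 (iv F3953)) (tt N586 (iv F3288)) (tt N449 (iv F1938)) (tt N295 (iv D1181)))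
theorem Q445 : ∀ i, i < 445 → P i := stepQ 444 Q444 (allL N444 (tt N650 (iv F3947)) (tt N624 (iv F3906)) (tt N296 (iv D1182)) (tt N629 (iv F24238)) (tt N655 D2149) (tt N656 D2150) (tt N634 F24094))
theorem Q446 : ∀ i, i < 446 → P i := stepQ 445 Q445 (allL N445 (tt N651 (iv F3949)) (tt N299 F1933) (tt N655 (iv F3956)) (tt N588 (iv F3290)) (tt N296 (iv D1183)) (tt N657 D2152) (tt N658 D2153))
theorem Q447 : ∀ i, i < 447 → P i := stepQ 446 Q446 (allL N446 (tt N652 (iv F3950)) (tt N659 D2154) (tt N656 (iv F3957)) (tt N297 F1934) (tt N657 (iv F3959)) (tt N296 (iv D1184)) (tt N660 D2155))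
theorem Q448 : ∀ i, i < 448 → P i := stepQ 447 Q447 (allL N447 (tt N653 (iv F3952)) (tt N661 D2156) (tt N634 F24095) (tt N298 F1935) (tt N658 (iv F3960)) (tt N662 D2157) (tt N296 (iv D1185)))
theorem Q449 : ∀ i, i < 449 → P i := stepQ 448 Q448 (allL N448 (tt N663 D2158) (tt N297 (iv D1186)) (tt N664 D2159) (tt N659 (iv F3961)) (tt N591 (iv F3293)) (tt N302 F1936) (tt N665 D2160))
theorem Q450 : ∀ i, i < 450 → P i := stepQ 449 Q449 (allL N449 (tt N451 (iv F1941)) (tt N666 D2161) (tt N323 F1937) (tt N660 (iv F3963)) (tt N592 (iv F3296)) (tt N443 F1938) (tt N297 (iv D1187)))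
theorem Q451 : ∀ i, i < 451 → P i := stepQ 450 Q450 (allL N450 (tt N450 F21750) (tt N298 (iv D1188)) (tt N450 F1939) (tt N661 (iv F3965)) (tt N593 (iv F3299)) (tt N304 (iv F24332)) (tt N304 F1940))
theorem Q452 : ∀ i, i < 452 → P i := stepQ 451 Q451 (allL N451 (tt N449 F1941) (tt N305 (iv F24287)) (tt N324 F1942) (tt N662 (iv F3968)) (tt N594 (iv F3303)) (tt N298 (iv D1189)) (tt N442 F1943))
theorem Q453 : ∀ i, i < 453 → P i := stepQ 452 Q452 (allL N452 (tt N631 (iv F3915)) (tt N667 D2165) (tt N631 (iv F3916)) (tt N599 (iv F3314)) (tt N300 F1944) (tt N299 (iv D1190)) (tt N668 D2166))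
theorem Q454 : ∀ i, i < 454 → P i := stepQ 453 Q453 (allL N453 (tt N632 (iv F3918)) (tt N669 D2167) (tt N632 (iv F3919)) (tt N600 (iv F3316)) (tt N301 F1945) (tt N670 D2168) (tt N299 (iv D1191)))
theorem Q455 : ∀ i, i < 455 → P i := stepQ 454 Q454 (allL N454 (tt N671 D2169) (tt N300 (iv D1192)) (tt N672 D2170) (tt N302 F1946) (tt N667 (iv F3977)) (tt N659 (iv F3962)) (tt N673 D2171))
theorem Q456 : ∀ i, i < 456 → P i := stepQ 455 Q455 (allL N455 (tt N457 (iv F1950)) (tt N674 D2172) (tt N457 (iv F1951)) (tt N303 F1947) (tt N668 (iv F3978)) (tt N428 F1948) (tt N300 (iv D1193)))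
theorem Q457 : ∀ i, i < 457 → P i := stepQ 456 Q456 (allL N456 (tt N456 F22164) (tt N301 (iv D1194)) (tt N661 F24309) (tt N304 F1949) (tt N669 (iv F3980)) (tt N661 F24310) (tt N661 (iv F3966)))
theorem Q458 : ∀ i, i < 458 → P i := stepQ 457 Q457 (allL N457 (tt N455 F1950) (tt N662 F24078) (tt N455 F1951) (tt N305 F1952) (tt N670 (iv F3983)) (tt N301 (iv D1195)) (tt N427 F1953))
theorem Q459 : ∀ i, i < 459 → P i := stepQ 458 Q458 (allL N458 (tt N302 (iv D1196)) (tt N675 D2177) (tt N676 D2178) (tt N671 (iv F3985)) (tt N605 (iv F3325)) (tt N663 (iv F3970)) (tt N677 D2179))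
theorem Q460 : ∀ i, i < 460 → P i := stepQ 459 Q459 (allL N459 (tt N676 (iv F3991)) (tt N306 F1954) (tt N302 (iv D1197)) (tt N376 F3819) (tt N503 (iv F2489)) (tt N664 (iv F3972)) (tt N678 D2180))
theorem Q461 : ∀ i, i < 461 → P i := stepQ 460 Q460 (allL N460 (tt N677 (iv F3993)) (tt N679 D2181) (tt N678 (iv F3995)) (tt N673 (iv F3986)) (tt N606 (iv F3326)) (tt N680 D2182) (tt N302 (iv D1198)))
theorem Q462 : ∀ i, i < 462 → P i := stepQ 461 Q461 (allL N461 (tt N681 D2183) (tt N303 (iv D1199)) (tt N682 D2184) (tt N674 (iv F3987)) (tt N607 (iv F3327)) (tt N683 D2185) (tt N679 (iv F3997)))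
theorem Q463 : ∀ i, i < 463 → P i := stepQ 462 Q462 (allL N462 (tt N307 (iv D1208)) (tt N608 (iv F3837)) (tt N684 D2193) (tt N309 F1964) (tt N608 (iv F3334)) (tt N433 F3876) (tt N566 (iv F3878)))
theorem Q464 : ∀ i, i < 464 → P i := stepQ 463 Q463 (allL N463 (tt N684 (iv F4011)) (tt N682 (iv F4000)) (tt N307 (iv D1209)) (tt N684 F22377) (tt N609 (iv F3335)) (tt N685 D2195) (tt N567 (iv F3899)))
theorem Q465 : ∀ i, i < 465 → P i := stepQ 464 Q464 (allL N464 (tt N433 (iv F3877)) (tt N365 F3774) (tt N685 (iv F4014)) (tt N311 F1966) (tt N610 (iv F3338)) (tt N307 (iv D1210)) (tt N431 (iv F3873)))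
theorem Q466 : ∀ i, i < 466 → P i := stepQ 465 Q465 (allL N465 (tt N611 (iv F3838)) (tt N324 F24236) (tt N308 (iv D1212)) (tt N611 F24283) (tt N611 (iv F3342)) (tt N465 F1969) (tt N686 D2197))
theorem Q467 : ∀ i, i < 467 → P i := stepQ 466 Q466 (allL N466 (tt N612 (iv F3839)) (tt N433 F1970) (tt N686 (iv F4017)) (tt N313 F1971) (tt N612 (iv F3346)) (tt N612 (iv F3840)) (tt N308 (iv D1213)))
theorem Q468 : ∀ i, i < 468 → P i := stepQ 467 Q467 (allL N467 (tt N310 F1996) (tt N613 F3371) (tt N309 (iv D1228)) (tt N467 F23007) (tt N314 F1997) (tt N436 (iv F3865)) (tt N568 F3864))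
theorem Q469 : ∀ i, i < 469 → P i := stepQ 468 Q468 (allL N468 (tt N436 F3863) (tt N413 (iv F3817)) (tt N311 F2002) (tt N468 F22676) (tt N316 F2003) (tt N310 (iv D1231)) (tt N435 (iv F3862)))
theorem Q470 : ∀ i, i < 470 → P i := stepQ 469 Q469 (allL N469 (tt N613 (iv F3842)) (tt N687 D2205) (tt N313 F2016) (tt N469 F23734) (tt N318 F2017) (tt N613 (iv F3843)) (tt N312 (iv D1236)))
theorem Q471 : ∀ i, i < 471 → P i := stepQ 470 Q470 (allL N470 (tt N315 F2055) (tt N615 F3391) (tt N471 (iv F3847)) (tt N314 (iv D1260)) (tt N470 F23733) (tt N438 F3848) (tt N569 F3851))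
theorem Q472 : ∀ i, i < 472 → P i := stepQ 471 Q471 (allL N471 (tt N438 F3849) (tt N415 (iv F3818)) (tt N470 F3847) (tt N316 F2060) (tt N471 F23356) (tt N315 (iv D1264)) (tt N437 (iv F3850)))
theorem Q473 : ∀ i, i < 473 → P i := stepQ 472 Q472 (allL N472 (tt N614 (iv F3831)) (tt N688 D2208) (tt N317 (iv D1269)) (tt N472 F3836) (tt N472 F24282) (tt N472 F2073) (tt N689 D2210))
theorem Q474 : ∀ i, i < 474 → P i := stepQ 473 Q473 (allL N473 (tt N615 (iv F3833)) (tt N690 D2212) (tt N689 (iv F4048)) (tt N318 F2076) (tt N473 F24280) (tt N615 (iv F3835)) (tt N317 (iv D1271)))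
theorem Q475 : ∀ i, i < 475 → P i := stepQ 474 Q474 (allL N474 (tt N474 F3885) (tt N318 (iv D1272)) (tt N439 F2077) (tt N690 (iv F4052)) (tt N687 (iv F4033)) (tt N439 (iv F3886)) (tt N474 F2078))
theorem Q476 : ∀ i, i < 476 → P i := stepQ 475 Q475 (allL N475 (tt N484 (iv F23188)) (tt N646 (iv F3945)) (tt N319 (iv D1274)) (tt N550 F23534) (tt N616 (iv F3395)) (tt N691 D2217) (tt N483 (iv F22938)))
theorem Q477 : ∀ i, i < 477 → P i := stepQ 476 Q476 (allL N476 (tt N485 (iv F23189)) (tt N692 D2219) (tt N691 (iv F4061)) (tt N508 F22881) (tt N508 F22882) (tt N319 (iv D1275)) (tt N322 F22883))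
theorem Q478 : ∀ i, i < 478 → P i := stepQ 477 Q477 (allL N477 (tt N693 D2223) (tt N320 (iv D1277)) (tt N694 D2224) (tt N617 (iv F3400)) (tt N617 (iv F3401)) (tt N692 (iv F4063)) (tt N695 D2225))
theorem Q479 : ∀ i, i < 479 → P i := stepQ 478 Q478 (allL N478 (tt N696 D2226) (tt N321 (iv D1278)) (tt N697 D2227) (tt N618 (iv F3402)) (tt N618 (iv F3403)) (tt N698 D2228) (tt N482 (iv F22561)))
theorem Q480 : ∀ i, i < 480 → P i := stepQ 479 Q479 (allL N479 (tt N322 (iv D1279)) (tt N699 D2229) (tt N700 D2230) (tt N507 (iv F2530)) (tt N507 (iv F2531)) (tt N325 F2079) (tt N485 (iv F2088)))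
theorem Q481 : ∀ i, i < 481 → P i := stepQ 480 Q480 (allL N480 (tt N700 (iv F4068)) (tt N664 (iv F3971)) (tt N322 (iv D1280)) (tt N374 F3824) (tt N499 (iv F2480)) (tt N326 F2080) (tt N691 (iv F22937)))
theorem Q482 : ∀ i, i < 482 → P i := stepQ 481 Q481 (allL N481 (tt N701 D2233) (tt N323 (iv D1282)) (tt N702 D2234) (tt N619 (iv F3404)) (tt N619 (iv F3405)) (tt N703 D2235) (tt N692 (iv F22879)))
theorem Q483 : ∀ i, i < 483 → P i := stepQ 482 Q482 (allL N482 (tt N704 D2239) (tt N325 (iv D1284)) (tt N705 D2240) (tt N506 (iv F2527)) (tt N506 (iv F2528)) (tt N706 D2241) (tt N478 F22561))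
theorem Q484 : ∀ i, i < 484 → P i := stepQ 483 Q483 (allL N483 (tt N326 F2082) (tt N707 D2243) (tt N325 (iv D1285)) (tt N373 F3822) (tt N497 (iv F2477)) (tt N700 (iv F4069)) (tt N475 F22938))
theorem Q485 : ∀ i, i < 485 → P i := stepQ 484 Q484 (allL N484 (tt N475 F23188) (tt N492 F3825) (tt N327 F2086) (tt N375 F3826) (tt N500 (iv F2482)) (tt N708 D2246) (tt N326 (iv D1288)))
theorem Q486 : ∀ i, i < 486 → P i := stepQ 485 Q485 (allL N485 (tt N476 F23189) (tt N709 D2247) (tt N708 (iv F4084)) (tt N509 (iv F2539)) (tt N509 (iv F2540)) (tt N327 (iv D1289)) (tt N479 F2088))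
theorem Q487 : ∀ i, i < 487 → P i := stepQ 486 Q486 (allL N486 (tt N492 (iv F23530)) (tt N328 (iv D1452)) (tt N331 F2367) (tt N710 D2249) (tt N331 F3789) (tt N711 D2250) (tt N490 F23438))
theorem Q488 : ∀ i, i < 488 → P i := stepQ 487 Q487 (allL N487 (tt N501 (iv F2483)) (tt N710 (iv F4089)) (tt N369 (iv F3798)) (tt N328 (iv D1453)) (tt N501 (iv F3734)) (tt N712 D2252) (tt N337 F3800))
theorem Q489 : ∀ i, i < 489 → P i := stepQ 488 Q488 (allL N488 (tt N504 F3790) (tt N713 D2253) (tt N329 F2368) (tt N712 (iv F4096)) (tt N332 F3746) (tt N328 (iv D1454)) (tt N370 F3747))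
theorem Q490 : ∀ i, i < 490 → P i := stepQ 489 Q489 (allL N489 (tt N517 F3869) (tt N329 (iv D1456)) (tt N714 D2254) (tt N330 F2370) (tt N333 F3745) (tt N333 F2371) (tt N561 (iv F3881)))
theorem Q491 : ∀ i, i < 491 → P i := stepQ 490 Q490 (allL N490 (tt N331 (iv D1484)) (tt N500 F23230) (tt N492 (iv F23531)) (tt N558 (iv F3000)) (tt N492 (iv F23532)) (tt N715 D2256) (tt N486 (iv F23438)))
theorem Q492 : ∀ i, i < 492 → P i := stepQ 491 Q491 (allL N491 (tt N715 (iv F4101)) (tt N716 D2258) (tt N711 (iv F4090)) (tt N559 (iv F3002)) (tt N711 (iv F4091)) (tt N331 (iv D1485)) (tt N711 (iv F23815)))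
theorem Q493 : ∀ i, i < 493 → P i := stepQ 492 Q492 (allL N492 (tt N486 F23530) (tt N484 (iv F3825)) (tt N490 F23531) (tt N553 (iv F2995)) (tt N490 F23532) (tt N717 D2260) (tt N331 (iv D1486)))
theorem Q494 : ∀ i, i < 494 → P i := stepQ 493 Q493 (allL N493 (tt N718 D2261) (tt N332 (iv D1487)) (tt N719 D2262) (tt N560 (iv F3003)) (tt N713 (iv F4098)) (tt N716 (iv F4103)) (tt N720 D2263))
theorem Q495 : ∀ i, i < 495 → P i := stepQ 494 Q494 (allL N494 (tt N333 (iv D1488)) (tt N511 F3866) (tt N721 D2264) (tt N334 F2409) (tt N517 (iv F3867)) (tt N517 (iv F3868)) (tt N547 (iv F3894)))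
theorem Q496 : ∀ i, i < 496 → P i := stepQ 495 Q495 (allL N495 (tt N721 (iv F4109)) (tt N719 (iv F4107)) (tt N333 (iv D1489)) (tt N722 D2265) (tt N714 (iv F4099)) (tt N714 (iv F4100)) (tt N723 D2266))
theorem Q497 : ∀ i, i < 497 → P i := stepQ 496 Q496 (allL N496 (tt N547 F3895) (tt N381 F2410) (tt N723 (iv F4110)) (tt N335 F2411) (tt N561 F3882) (tt N640 (iv F3927)) (tt N333 (iv D1490)))
theorem Q498 : ∀ i, i < 498 → P i := stepQ 497 Q497 (allL N497 (tt N336 (iv D1524)) (tt N724 D2267) (tt N341 F2476) (tt N725 D2268) (tt N483 F2477) (tt N726 D2269) (tt N616 F23154))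
theorem Q499 : ∀ i, i < 499 → P i := stepQ 498 Q498 (allL N498 (tt N725 (iv F4112)) (tt N337 F2478) (tt N727 D2271) (tt N336 (iv D1525)) (tt N541 F3854) (tt N728 D2272) (tt N729 D2273))
theorem Q500 : ∀ i, i < 500 → P i := stepQ 499 Q499 (allL N499 (tt N726 (iv F4114)) (tt N730 D2274) (tt N342 F2479) (tt N728 (iv F4122)) (tt N480 F2480) (tt N336 (iv D1526)) (tt N731 D2275))
theorem Q501 : ∀ i, i < 501 → P i := stepQ 500 Q500 (allL N500 (tt N616 F23157) (tt N490 (iv F23230)) (tt N343 F2481) (tt N729 (iv F4123)) (tt N484 F2482) (tt N732 D2276) (tt N336 (iv D1527)))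
theorem Q502 : ∀ i, i < 502 → P i := stepQ 501 Q501 (allL N501 (tt N487 F2483) (tt N733 D2277) (tt N337 (iv D1528)) (tt N367 F3733) (tt N487 F3734) (tt N734 D2278) (tt N369 F3735))
theorem Q503 : ∀ i, i < 503 → P i := stepQ 502 Q502 (allL N502 (tt N544 F3896) (tt N735 D2279) (tt N734 (iv F4137)) (tt N338 F2486) (tt N544 F3858) (tt N337 (iv D1530)) (tt N734 (iv F4140)))
theorem Q504 : ∀ i, i < 504 → P i := stepQ 503 Q503 (allL N503 (tt N736 D2280) (tt N338 (iv D1532)) (tt N405 F2488) (tt N735 (iv F4141)) (tt N459 F2489) (tt N730 (iv F4126)) (tt N737 D2281))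
theorem Q505 : ∀ i, i < 505 → P i := stepQ 504 Q504 (allL N504 (tt N488 (iv F3790)) (tt N738 D2282) (tt N339 F2490) (tt N734 (iv F4138)) (tt N378 F3712) (tt N367 F3713) (tt N338 (iv D1533)))
theorem Q506 : ∀ i, i < 506 → P i := stepQ 505 Q505 (allL N505 (tt N582 F3716) (tt N339 (iv D1536)) (tt N739 D2283) (tt N340 F2499) (tt N382 F3711) (tt N393 F3717) (tt N409 F2501))
theorem Q507 : ∀ i, i < 507 → P i := stepQ 506 Q506 (allL N506 (tt N740 D2284) (tt N341 (iv D1550)) (tt N741 D2285) (tt N482 F2527) (tt N482 F2528) (tt N742 D2286) (tt N618 F22548))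
theorem Q508 : ∀ i, i < 508 → P i := stepQ 507 Q507 (allL N507 (tt N342 F2529) (tt N743 D2288) (tt N726 (iv F4115)) (tt N479 F2530) (tt N479 F2531) (tt N341 (iv D1551)) (tt N509 (iv F2541)))
theorem Q509 : ∀ i, i < 509 → P i := stepQ 508 Q508 (allL N508 (tt N509 (iv F2538)) (tt N744 D2290) (tt N731 (iv F4127)) (tt N476 (iv F22881)) (tt N476 (iv F22882)) (tt N417 F22836) (tt N342 (iv D1553)))
theorem Q510 : ∀ i, i < 510 → P i := stepQ 509 Q509 (allL N509 (tt N508 F2538) (tt N745 D2291) (tt N732 (iv F4131)) (tt N485 F2539) (tt N485 F2540) (tt N343 (iv D1554)) (tt N507 F2541))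
theorem Q511 : ∀ i, i < 511 → P i := stepQ 510 Q510 (allL N510 (tt N353 F3725) (tt N746 D2292) (tt N344 (iv D1669)) (tt N747 D2293) (tt N348 F3726) (tt N748 D2294) (tt N749 D2295))
theorem Q512 : ∀ i, i < 512 → P i := stepQ 511 Q511 (allL N511 (tt N354 F3688) (tt N494 (iv F3866)) (tt N748 (iv F4173)) (tt N345 F2731) (tt N349 F3689) (tt N344 (iv D1670)) (tt N525 F3690))
theorem Q513 : ∀ i, i < 513 → P i := stepQ 512 Q512 (allL N512 (tt N355 F3681) (tt N750 D2296) (tt N749 (iv F4176)) (tt N346 F2732) (tt N350 F3682) (tt N524 F3683) (tt N344 (iv D1671)))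
theorem Q514 : ∀ i, i < 514 → P i := stepQ 513 Q513 (allL N513 (tt N513 F3483) (tt N346 (iv D1674)) (tt N352 F3473) (tt N750 (iv F4179)) (tt N347 F2739) (tt N352 F3550) (tt N352 F2740))
theorem Q515 : ∀ i, i < 515 → P i := stepQ 514 Q514 (allL N514 (tt N751 D2297) (tt N348 (iv D1692)) (tt N746 (iv F4168)) (tt N595 (iv F3305)) (tt N746 (iv F4169)) (tt N752 D2298) (tt N514 F22484))
theorem Q516 : ∀ i, i < 516 → P i := stepQ 515 Q515 (allL N515 (tt N361 F2765) (tt N753 D2300) (tt N349 F2766) (tt N597 (iv F3310)) (tt N748 (iv F4174)) (tt N348 (iv D1693)) (tt N536 (iv F2851)))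
theorem Q517 : ∀ i, i < 517 → P i := stepQ 516 Q516 (allL N516 (tt N362 F2767) (tt N516 F22249) (tt N350 F2768) (tt N598 (iv F3313)) (tt N749 (iv F4177)) (tt N534 (iv F2848)) (tt N348 (iv D1694)))
theorem Q518 : ∀ i, i < 518 → P i := stepQ 517 Q517 (allL N517 (tt N489 (iv F3869)) (tt N349 (iv D1695)) (tt N754 D2302) (tt N351 F2769) (tt N494 F3867) (tt N494 F3868) (tt N640 (iv F3928)))
theorem Q519 : ∀ i, i < 519 → P i := stepQ 518 Q518 (allL N518 (tt N518 F3901) (tt N350 (iv D1696)) (tt N518 F22481) (tt N352 F2770) (tt N750 (iv F4180)) (tt N750 (iv F4181)) (tt N750 (iv F4182)))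
theorem Q520 : ∀ i, i < 520 → P i := stepQ 519 Q519 (allL N519 (tt N755 D2304) (tt N353 (iv D1711)) (tt N368 F2794) (tt N756 D2305) (tt N359 F2795) (tt N757 D2306) (tt N758 D2307))
theorem Q521 : ∀ i, i < 521 → P i := stepQ 520 Q520 (allL N520 (tt N747 (iv F4170)) (tt N756 (iv F4189)) (tt N520 F2796) (tt N353 (iv D1712)) (tt N759 D2308) (tt N760 D2309) (tt N761 D2310))
theorem Q522 : ∀ i, i < 522 → P i := stepQ 521 Q521 (allL N521 (tt N748 (iv F4172)) (tt N762 D2311) (tt N354 F2797) (tt N760 (iv F4197)) (tt N361 F2798) (tt N353 (iv D1713)) (tt N763 D2312))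
theorem Q523 : ∀ i, i < 523 → P i := stepQ 522 Q522 (allL N522 (tt N749 (iv F4175)) (tt N764 D2313) (tt N355 F2799) (tt N761 (iv F4199)) (tt N362 F2800) (tt N765 D2314) (tt N353 (iv D1714)))
theorem Q524 : ∀ i, i < 524 → P i := stepQ 523 Q523 (allL N523 (tt N565 F3782) (tt N354 (iv D1715)) (tt N766 D2315) (tt N356 F2801) (tt N363 F2802) (tt N371 F2803) (tt N363 F3783))
theorem Q525 : ∀ i, i < 525 → P i := stepQ 524 Q524 (allL N524 (tt N525 (iv F2810)) (tt N364 F3792) (tt N763 (iv F4201)) (tt N357 F2804) (tt N364 F2805) (tt N512 (iv F3683)) (tt N354 (iv D1716)))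
theorem Q526 : ∀ i, i < 526 → P i := stepQ 525 Q525 (allL N525 (tt N524 F2810) (tt N610 F3685) (tt N765 (iv F4207)) (tt N358 F2811) (tt N365 F2812) (tt N355 (iv D1718)) (tt N511 (iv F3690)))
theorem Q527 : ∀ i, i < 527 → P i := stepQ 526 Q526 (allL N526 (tt N359 (iv D1739)) (tt N767 D2316) (tt N373 F2841) (tt N727 (iv F4121)) (tt N755 (iv F4188)) (tt N768 D2317) (tt N769 D2318))
theorem Q528 : ∀ i, i < 528 → P i := stepQ 527 Q527 (allL N527 (tt N727 (iv F4120)) (tt N360 F2842) (tt N725 (iv F4113)) (tt N359 (iv D1740)) (tt N649 F23858) (tt N770 D2320) (tt N583 F23859))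
theorem Q529 : ∀ i, i < 529 → P i := stepQ 528 Q528 (allL N528 (tt N768 (iv F4213)) (tt N771 D2322) (tt N374 F2843) (tt N770 (iv F4218)) (tt N757 (iv F4191)) (tt N359 (iv D1741)) (tt N753 (iv F23585)))
theorem Q530 : ∀ i, i < 530 → P i := stepQ 529 Q529 (allL N529 (tt N769 (iv F4215)) (tt N584 (iv F24062)) (tt N375 F2844) (tt N583 F23870) (tt N758 (iv F4193)) (tt N772 D2325) (tt N359 (iv D1742)))
theorem Q531 : ∀ i, i < 531 → P i := stepQ 530 Q530 (allL N530 (tt N596 (iv F3306)) (tt N649 F23968) (tt N574 (iv F3226)) (tt N759 (iv F4195)) (tt N360 (iv D1743)) (tt N773 D2326) (tt N654 (iv F24034)))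
theorem Q532 : ∀ i, i < 532 → P i := stepQ 531 Q531 (allL N531 (tt N597 (iv F3308)) (tt N774 D2328) (tt N575 (iv F3229)) (tt N361 F2845) (tt N773 (iv F4228)) (tt N360 (iv D1744)) (tt N775 D2329))
theorem Q533 : ∀ i, i < 533 → P i := stepQ 532 Q532 (allL N532 (tt N598 (iv F3311)) (tt N586 F24260) (tt N576 (iv F3232)) (tt N362 F2846) (tt N654 F24261) (tt N776 D2331) (tt N360 (iv D1745)))
theorem Q534 : ∀ i, i < 534 → P i := stepQ 533 Q533 (allL N533 (tt N777 D2332) (tt N361 (iv D1746)) (tt N778 D2333) (tt N774 (iv F4230)) (tt N762 (iv F4200)) (tt N771 (iv F4220)) (tt N779 D2334))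
theorem Q535 : ∀ i, i < 535 → P i := stepQ 534 Q534 (allL N534 (tt N536 (iv F2849)) (tt N780 D2335) (tt N364 F2847) (tt N775 (iv F4232)) (tt N763 (iv F4202)) (tt N516 F2848) (tt N361 (iv D1747)))
theorem Q536 : ∀ i, i < 536 → P i := stepQ 535 Q535 (allL N535 (tt N590 (iv F24360)) (tt N362 (iv D1748)) (tt N430 F3902) (tt N586 F24273) (tt N764 (iv F4205)) (tt N781 D2337) (tt N584 F24274))
theorem Q537 : ∀ i, i < 537 → P i := stepQ 536 Q536 (allL N536 (tt N534 F2849) (tt N782 D2338) (tt N365 F2850) (tt N776 (iv F4237)) (tt N765 (iv F4208)) (tt N362 (iv D1749)) (tt N515 F2851))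
theorem Q538 : ∀ i, i < 538 → P i := stepQ 537 Q537 (allL N537 (tt N363 (iv D1750)) (tt N582 F3870) (tt N783 D2339) (tt N366 F2852) (tt N565 (iv F3883)) (tt N379 F2853) (tt N565 (iv F3012)))
theorem Q539 : ∀ i, i < 539 → P i := stepQ 538 Q538 (allL N538 (tt N783 (iv F4242)) (tt N778 (iv F4239)) (tt N363 (iv D1751)) (tt N784 D2340) (tt N766 (iv F4210)) (tt N380 F2854) (tt N766 (iv F4212)))
theorem Q540 : ∀ i, i < 540 → P i := stepQ 539 Q539 (allL N539 (tt N785 D2341) (tt N367 (iv D1809)) (tt N389 F3715) (tt N733 (iv F4134)) (tt N377 F2927) (tt N786 D2342) (tt N787 D2343))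
theorem Q541 : ∀ i, i < 541 → P i := stepQ 540 Q540 (allL N540 (tt N368 (iv D1822)) (tt N788 D2344) (tt N755 (iv F4187)) (tt N789 D2345) (tt N373 F2953) (tt N790 D2346) (tt N791 D2347))
theorem Q542 : ∀ i, i < 542 → P i := stepQ 541 Q541 (allL N541 (tt N789 (iv F4253)) (tt N369 F2954) (tt N792 D2348) (tt N368 (iv D1823)) (tt N498 (iv F3854)) (tt N793 D2349) (tt N794 D2350))
theorem Q543 : ∀ i, i < 543 → P i := stepQ 542 Q542 (allL N542 (tt N790 (iv F4256)) (tt N795 D2351) (tt N757 (iv F4190)) (tt N793 (iv F4262)) (tt N374 F2955) (tt N368 (iv D1824)) (tt N796 D2352))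
theorem Q544 : ∀ i, i < 544 → P i := stepQ 543 Q543 (allL N543 (tt N791 (iv F4258)) (tt N787 (iv F4249)) (tt N758 (iv F4192)) (tt N794 (iv F4264)) (tt N375 F2956) (tt N797 D2353) (tt N368 (iv D1825)))
theorem Q545 : ∀ i, i < 545 → P i := stepQ 544 Q544 (allL N544 (tt N502 (iv F3896)) (tt N798 D2354) (tt N712 (iv F4095)) (tt N370 F2957) (tt N502 (iv F3858)) (tt N369 (iv D1826)) (tt N712 (iv F4097)))
theorem Q546 : ∀ i, i < 546 → P i := stepQ 545 Q545 (allL N545 (tt N799 D2355) (tt N370 (iv D1827)) (tt N800 D2356) (tt N798 (iv F4273)) (tt N376 F2958) (tt N795 (iv F4267)) (tt N801 D2357))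
theorem Q547 : ∀ i, i < 547 → P i := stepQ 546 Q546 (allL N546 (tt N564 F3888) (tt N800 (iv F4276)) (tt N371 (iv D1829)) (tt N802 D2358) (tt N380 F2961) (tt N766 (iv F4211)) (tt N562 (iv F3887)))
theorem Q548 : ∀ i, i < 548 → P i := stepQ 547 Q547 (allL N547 (tt N496 (iv F3895)) (tt N579 F3893) (tt N803 D2359) (tt N372 (iv D1834)) (tt N640 (iv F3926)) (tt N561 (iv F3892)) (tt N494 F3894))
theorem Q549 : ∀ i, i < 549 → P i := stepQ 548 Q548 (allL N548 (tt N804 D2360) (tt N373 (iv D1851)) (tt N805 D2361) (tt N707 (iv F4078)) (tt N788 (iv F4252)) (tt N806 D2362) (tt N788 (iv F23225)))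
theorem Q550 : ∀ i, i < 550 → P i := stepQ 549 Q549 (allL N549 (tt N374 F2991) (tt N807 D2364) (tt N768 (iv F4214)) (tt N700 F4070) (tt N790 (iv F4257)) (tt N373 (iv D1852)) (tt N554 (iv F2998)))
theorem Q551 : ∀ i, i < 551 → P i := stepQ 550 Q550 (allL N550 (tt N375 F2992) (tt N791 (iv F22622)) (tt N769 (iv F4216)) (tt N475 (iv F23534)) (tt N791 (iv F4259)) (tt N552 (iv F2994)) (tt N373 (iv D1853)))
theorem Q552 : ∀ i, i < 552 → P i := stepQ 551 Q551 (allL N551 (tt N808 D2366) (tt N374 (iv D1854)) (tt N809 D2367) (tt N664 F3973) (tt N795 (iv F4266)) (tt N376 F2993) (tt N810 D2368))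
theorem Q553 : ∀ i, i < 553 → P i := stepQ 552 Q552 (allL N552 (tt N554 (iv F2997)) (tt N754 (iv F23249)) (tt N753 (iv F23583)) (tt N691 F23228) (tt N796 (iv F4268)) (tt N550 F2994) (tt N374 (iv D1855)))
theorem Q554 : ∀ i, i < 554 → P i := stepQ 553 Q553 (allL N553 (tt N710 F23592) (tt N375 (iv D1856)) (tt N425 F3857) (tt N492 F2995) (tt N787 (iv F4251)) (tt N811 D2371) (tt N377 F2996))
theorem Q555 : ∀ i, i < 555 → P i := stepQ 554 Q554 (allL N554 (tt N552 F2997) (tt N812 D2372) (tt N772 (iv F4226)) (tt N708 (iv F4085)) (tt N797 (iv F4271)) (tt N375 (iv D1857)) (tt N549 F2998))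
theorem Q556 : ∀ i, i < 556 → P i := stepQ 555 Q555 (allL N555 (tt N376 (iv D1858)) (tt N813 D2373) (tt N814 D2374) (tt N676 F3992) (tt N799 (iv F4275)) (tt N808 (iv F4281)) (tt N815 D2375))
theorem Q557 : ∀ i, i < 557 → P i := stepQ 556 Q556 (allL N556 (tt N814 (iv F4288)) (tt N380 F2999) (tt N376 (iv D1859)) (tt N816 D2376) (tt N800 (iv F4277)) (tt N809 (iv F4282)) (tt N817 D2377))
theorem Q558 : ∀ i, i < 558 → P i := stepQ 557 Q557 (allL N557 (tt N815 (iv F4289)) (tt N720 (iv F4108)) (tt N817 (iv F4292)) (tt N678 (iv F3996)) (tt N801 (iv F4278)) (tt N818 D2378) (tt N376 (iv D1860)))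
theorem Q559 : ∀ i, i < 559 → P i := stepQ 558 Q558 (allL N558 (tt N377 (iv D1861)) (tt N729 F23160) (tt N422 F3855) (tt N490 F3000) (tt N785 (iv F4246)) (tt N819 D2380) (tt N710 (iv F23234)))
theorem Q560 : ∀ i, i < 560 → P i := stepQ 559 Q559 (allL N559 (tt N819 (iv F4296)) (tt N820 D2381) (tt N424 F3856) (tt N491 F3002) (tt N786 (iv F4248)) (tt N377 (iv D1863)) (tt N821 D2382))
theorem Q561 : ∀ i, i < 561 → P i := stepQ 560 Q560 (allL N560 (tt N822 D2383) (tt N378 (iv D1864)) (tt N823 D2384) (tt N493 F3003) (tt N738 (iv F4146)) (tt N820 (iv F4301)) (tt N824 D2385))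
theorem Q562 : ∀ i, i < 562 → P i := stepQ 561 Q561 (allL N561 (tt N640 (iv F3924)) (tt N379 (iv D1865)) (tt N825 D2386) (tt N383 F3004) (tt N496 (iv F3882)) (tt N547 F3892) (tt N489 F3881))
theorem Q563 : ∀ i, i < 563 → P i := stepQ 562 Q562 (allL N562 (tt N380 F3005) (tt N826 D2387) (tt N379 (iv D1866)) (tt N827 D2388) (tt N564 (iv F3889)) (tt N783 (iv F4243)) (tt N546 F3887))
theorem Q564 : ∀ i, i < 564 → P i := stepQ 563 Q563 (allL N563 (tt N827 (iv F4313)) (tt N816 (iv F4291)) (tt N828 D2389) (tt N380 (iv D1868)) (tt N829 D2390) (tt N784 (iv F4244)) (tt N830 D2391))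
theorem Q565 : ∀ i, i < 565 → P i := stepQ 564 Q564 (allL N564 (tt N546 (iv F3888)) (tt N831 D2392) (tt N381 F3009) (tt N830 (iv F4319)) (tt N562 F3889) (tt N832 D2393) (tt N380 (iv D1869)))
theorem Q566 : ∀ i, i < 566 → P i := stepQ 565 Q565 (allL N565 (tt N523 (iv F3782)) (tt N566 F3860) (tt N832 (iv F4322)) (tt N384 F3011) (tt N537 F3883) (tt N381 (iv D1870)) (tt N537 F3012))
theorem Q567 : ∀ i, i < 567 → P i := stepQ 566 Q566 (allL N566 (tt N382 (iv D1878)) (tt N565 (iv F3860)) (tt N833 D2394) (tt N385 F3024) (tt N582 (iv F3880)) (tt N431 F3879) (tt N462 F3878))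
theorem Q568 : ∀ i, i < 568 → P i := stepQ 567 Q567 (allL N567 (tt N833 (iv F4325)) (tt N823 (iv F4307)) (tt N382 (iv D1879)) (tt N833 F22368) (tt N739 (iv F4147)) (tt N432 (iv F3897)) (tt N463 F3899))
theorem Q569 : ∀ i, i < 569 → P i := stepQ 568 Q568 (allL N568 (tt N386 F3044) (tt N435 (iv F3859)) (tt N385 (iv D1895)) (tt N568 F22675) (tt N387 F3045) (tt N435 (iv F3861)) (tt N467 (iv F3864)))
theorem Q570 : ∀ i, i < 570 → P i := stepQ 569 Q569 (allL N569 (tt N388 F3103) (tt N437 F3853) (tt N437 F3844) (tt N387 (iv D1934)) (tt N569 F23354) (tt N437 F3852) (tt N470 (iv F3851)))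
theorem Q571 : ∀ i, i < 571 → P i := stepQ 570 Q570 (allL N570 (tt N389 (iv D1990)) (tt N834 D2402) (tt N785 (iv F4245)) (tt N835 D2403) (tt N422 F3221) (tt N836 D2404) (tt N837 D2405))
theorem Q572 : ∀ i, i < 572 → P i := stepQ 571 Q571 (allL N571 (tt N835 (iv F4351)) (tt N390 F3222) (tt N838 D2406) (tt N389 (iv D1991)) (tt N839 D2407) (tt N840 D2408) (tt N841 D2409))
theorem Q573 : ∀ i, i < 573 → P i := stepQ 572 Q572 (allL N572 (tt N836 (iv F4352)) (tt N842 D2410) (tt N786 (iv F4247)) (tt N840 (iv F4360)) (tt N424 F3223) (tt N389 (iv D1992)) (tt N843 D2411))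
theorem Q574 : ∀ i, i < 574 → P i := stepQ 573 Q573 (allL N573 (tt N837 (iv F4354)) (tt N844 D2412) (tt N787 (iv F4250)) (tt N841 (iv F4361)) (tt N425 F3224) (tt N845 D2413) (tt N389 (iv D1993)))
theorem Q575 : ∀ i, i < 575 → P i := stepQ 574 Q574 (allL N574 (tt N402 F3225) (tt N839 (iv F4358)) (tt N530 F3226) (tt N426 F3227) (tt N390 (iv D1994)) (tt N846 D2414) (tt N847 D2415))
theorem Q576 : ∀ i, i < 576 → P i := stepQ 575 Q575 (allL N575 (tt N403 F3228) (tt N848 D2416) (tt N531 F3229) (tt N391 F3230) (tt N846 (iv F4374)) (tt N390 (iv D1995)) (tt N604 (iv F3324)))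
theorem Q577 : ∀ i, i < 577 → P i := stepQ 576 Q576 (allL N576 (tt N404 F3231) (tt N849 D2417) (tt N532 F3232) (tt N392 F3233) (tt N847 (iv F4378)) (tt N602 (iv F3320)) (tt N390 (iv D1996)))
theorem Q578 : ∀ i, i < 578 → P i := stepQ 577 Q577 (allL N577 (tt N850 D2418) (tt N391 (iv D1997)) (tt N851 D2419) (tt N848 (iv F4379)) (tt N429 F3234) (tt N842 (iv F4363)) (tt N852 D2420))
theorem Q579 : ∀ i, i < 579 → P i := stepQ 578 Q578 (allL N578 (tt N853 D2421) (tt N392 (iv D1998)) (tt N764 (iv F4204)) (tt N849 (iv F4380)) (tt N430 F3235) (tt N854 D2422) (tt N844 (iv F4367)))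
theorem Q580 : ∀ i, i < 580 → P i := stepQ 579 Q579 (allL N579 (tt N393 (iv D1999)) (tt N547 (iv F3893)) (tt N855 D2423) (tt N394 F3236) (tt N431 F3237) (tt N582 (iv F3254)) (tt N610 (iv F3871)))
theorem Q581 : ∀ i, i < 581 → P i := stepQ 580 Q580 (allL N580 (tt N855 (iv F4387)) (tt N851 (iv F4382)) (tt N393 (iv D2000)) (tt N856 D2424) (tt N432 F3238) (tt N739 (iv F4148)) (tt N857 D2425))
theorem Q582 : ∀ i, i < 582 → P i := stepQ 581 Q581 (allL N581 (tt N610 F3872) (tt N612 (iv F3344)) (tt N857 (iv F4389)) (tt N396 F3239) (tt N433 F3240) (tt N608 F3875) (tt N393 (iv D2001)))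
theorem Q583 : ∀ i, i < 583 → P i := stepQ 582 Q582 (allL N582 (tt N505 (iv F3716)) (tt N537 (iv F3870)) (tt N858 D2426) (tt N395 (iv D2007)) (tt N566 F3880) (tt N579 F3254) (tt N608 F3874))
theorem Q584 : ∀ i, i < 584 → P i := stepQ 583 Q583 (allL N583 (tt N859 D2427) (tt N397 (iv D2020)) (tt N860 D2428) (tt N529 (iv F23870)) (tt N440 F3281) (tt N861 D2430) (tt N527 (iv F23859)))
theorem Q585 : ∀ i, i < 585 → P i := stepQ 584 Q584 (allL N584 (tt N398 F3282) (tt N529 F24062) (tt N629 (iv F24237)) (tt N397 (iv D2021)) (tt N862 D2432) (tt N863 D2433) (tt N535 (iv F24274)))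
theorem Q586 : ∀ i, i < 586 → P i := stepQ 585 Q585 (allL N585 (tt N399 F3283) (tt N852 F23824) (tt N418 F3284) (tt N863 (iv F4403)) (tt N442 F3285) (tt N397 (iv D2022)) (tt N594 (iv F3304)))
theorem Q587 : ∀ i, i < 587 → P i := stepQ 586 Q586 (allL N586 (tt N400 F3286) (tt N532 (iv F24260)) (tt N419 F3287) (tt N535 (iv F24273)) (tt N443 F3288) (tt N592 (iv F3297)) (tt N397 (iv D2023)))
theorem Q588 : ∀ i, i < 588 → P i := stepQ 587 Q587 (allL N587 (tt N629 F24334) (tt N864 D2437) (tt N398 (iv D2024)) (tt N650 (iv F3948)) (tt N865 D2438) (tt N866 D2439) (tt N638 F24335))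
theorem Q589 : ∀ i, i < 589 → P i := stepQ 588 Q588 (allL N588 (tt N862 (iv F4400)) (tt N402 F3289) (tt N865 (iv F4409)) (tt N445 F3290) (tt N398 (iv D2025)) (tt N867 D2441) (tt N868 D2442))
theorem Q590 : ∀ i, i < 590 → P i := stepQ 589 Q589 (allL N589 (tt N863 (iv F4402)) (tt N869 D2443) (tt N866 (iv F4410)) (tt N399 F3291) (tt N867 (iv F4413)) (tt N398 (iv D2026)) (tt N781 (iv F24205)))
theorem Q591 : ∀ i, i < 591 → P i := stepQ 590 Q590 (allL N590 (tt N535 F24360) (tt N870 D2445) (tt N638 F24361) (tt N400 F3292) (tt N868 (iv F4415)) (tt N871 D2446) (tt N398 (iv D2027)))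
theorem Q592 : ∀ i, i < 592 → P i := stepQ 591 Q591 (allL N591 (tt N872 D2447) (tt N399 (iv D2028)) (tt N730 (iv F4124)) (tt N869 (iv F4416)) (tt N448 F3293) (tt N405 F3294) (tt N873 D2448))
theorem Q593 : ∀ i, i < 593 → P i := stepQ 592 Q592 (allL N592 (tt N594 (iv F3301)) (tt N874 D2449) (tt N420 F3295) (tt N781 F24275) (tt N449 F3296) (tt N586 F3297) (tt N399 (iv D2029)))
theorem Q594 : ∀ i, i < 594 → P i := stepQ 593 Q593 (allL N593 (tt N593 F21515) (tt N400 (iv D2030)) (tt N593 F3298) (tt N870 (iv F4420)) (tt N450 F3299) (tt N407 (iv F24383)) (tt N407 F3300))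
theorem Q595 : ∀ i, i < 595 → P i := stepQ 594 Q594 (allL N594 (tt N592 F3301) (tt N408 (iv F24177)) (tt N421 F3302) (tt N871 (iv F4423)) (tt N451 F3303) (tt N400 (iv D2031)) (tt N585 F3304))
theorem Q596 : ∀ i, i < 596 → P i := stepQ 595 Q595 (allL N595 (tt N875 D2453) (tt N401 (iv D2032)) (tt N864 (iv F4408)) (tt N514 F3305) (tt N876 D2454) (tt N877 D2455) (tt N595 F22542))
theorem Q597 : ∀ i, i < 597 → P i := stepQ 596 Q596 (allL N596 (tt N530 F3306) (tt N876 (iv F4436)) (tt N402 F3307) (tt N878 D2457) (tt N401 (iv D2033)) (tt N879 D2458) (tt N880 D2459))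
theorem Q598 : ∀ i, i < 598 → P i := stepQ 597 Q597 (allL N597 (tt N531 F3308) (tt N881 D2460) (tt N403 F3309) (tt N515 F3310) (tt N879 (iv F4444)) (tt N401 (iv D2034)) (tt N776 (iv F4238)))
theorem Q599 : ∀ i, i < 599 → P i := stepQ 598 Q598 (allL N598 (tt N532 F3311) (tt N598 F22291) (tt N404 F3312) (tt N516 F3313) (tt N880 (iv F4447)) (tt N775 (iv F4233)) (tt N401 (iv D2035)))
theorem Q600 : ∀ i, i < 600 → P i := stepQ 599 Q599 (allL N599 (tt N846 (iv F4371)) (tt N882 D2462) (tt N879 (iv F4443)) (tt N452 F3314) (tt N403 F3315) (tt N402 (iv D2036)) (tt N883 D2463))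
theorem Q601 : ∀ i, i < 601 → P i := stepQ 600 Q600 (allL N600 (tt N847 (iv F4375)) (tt N884 D2464) (tt N880 (iv F4446)) (tt N453 F3316) (tt N404 F3317) (tt N885 D2465) (tt N402 (iv D2037)))
theorem Q602 : ∀ i, i < 602 → P i := stepQ 601 Q601 (allL N601 (tt N886 D2466) (tt N403 (iv D2038)) (tt N887 D2467) (tt N405 F3318) (tt N882 (iv F4451)) (tt N869 (iv F4417)) (tt N888 D2468))
theorem Q603 : ∀ i, i < 603 → P i := stepQ 602 Q602 (allL N602 (tt N604 (iv F3322)) (tt N889 D2469) (tt N776 (iv F4236)) (tt N406 F3319) (tt N883 (iv F4453)) (tt N576 F3320) (tt N403 (iv D2039)))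
theorem Q604 : ∀ i, i < 604 → P i := stepQ 603 Q603 (allL N603 (tt N603 F21905) (tt N404 (iv D2040)) (tt N603 F21906) (tt N407 F3321) (tt N884 (iv F4456)) (tt N870 (iv F24391)) (tt N870 (iv F4421)))
theorem Q605 : ∀ i, i < 605 → P i := stepQ 604 Q604 (allL N604 (tt N602 F3322) (tt N871 (iv F24232)) (tt N775 (iv F4231)) (tt N408 F3323) (tt N885 (iv F4459)) (tt N404 (iv D2041)) (tt N575 F3324))
theorem Q606 : ∀ i, i < 606 → P i := stepQ 605 Q605 (allL N605 (tt N405 (iv D2042)) (tt N890 D2474) (tt N736 (iv F4142)) (tt N886 (iv F4461)) (tt N458 F3325) (tt N872 (iv F4426)) (tt N891 D2475))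
theorem Q607 : ∀ i, i < 607 → P i := stepQ 606 Q606 (allL N606 (tt N891 (iv F4468)) (tt N892 D2476) (tt N737 (iv F4144)) (tt N888 (iv F4462)) (tt N460 F3326) (tt N893 D2477) (tt N405 (iv D2043)))
theorem Q608 : ∀ i, i < 608 → P i := stepQ 607 Q607 (allL N607 (tt N894 D2478) (tt N406 (iv D2044)) (tt N895 D2479) (tt N889 (iv F4463)) (tt N461 F3327) (tt N896 D2480) (tt N892 (iv F4472)))
theorem Q609 : ∀ i, i < 609 → P i := stepQ 608 Q608 (allL N608 (tt N409 (iv D2048)) (tt N462 F3837) (tt N897 D2488) (tt N411 F3333) (tt N462 F3334) (tt N581 (iv F3875)) (tt N582 (iv F3874)))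
theorem Q610 : ∀ i, i < 610 → P i := stepQ 609 Q609 (allL N609 (tt N897 (iv F4497)) (tt N895 (iv F4477)) (tt N409 (iv D2049)) (tt N898 D2489) (tt N463 F3335) (tt N899 D2490) (tt N739 (iv F4149)))
theorem Q611 : ∀ i, i < 611 → P i := stepQ 610 Q610 (allL N610 (tt N581 (iv F3872)) (tt N525 (iv F3685)) (tt N899 (iv F4502)) (tt N412 F3773) (tt N464 F3338) (tt N409 (iv D2050)) (tt N579 F3871))
theorem Q612 : ∀ i, i < 612 → P i := stepQ 611 Q611 (allL N611 (tt N465 F3838) (tt N421 F24272) (tt N410 (iv D2052)) (tt N465 (iv F24283)) (tt N465 F3342) (tt N611 F3343) (tt N900 D2492))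
theorem Q613 : ∀ i, i < 613 → P i := stepQ 612 Q612 (allL N612 (tt N466 F3839) (tt N581 F3344) (tt N900 (iv F4508)) (tt N414 F3345) (tt N466 F3346) (tt N466 F3840) (tt N410 (iv D2053)))
theorem Q614 : ∀ i, i < 614 → P i := stepQ 613 Q613 (allL N613 (tt N469 F3842) (tt N467 (iv F3371)) (tt N414 F3369) (tt N613 F23355) (tt N416 F3370) (tt N469 F3843) (tt N413 (iv D2063)))
theorem Q615 : ∀ i, i < 615 → P i := stepQ 614 Q614 (allL N614 (tt N472 F3831) (tt N901 D2496) (tt N415 (iv D2076)) (tt N614 F3834) (tt N614 F24071) (tt N614 F3388) (tt N901 F4523))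
theorem Q616 : ∀ i, i < 616 → P i := stepQ 615 Q615 (allL N615 (tt N473 F3833) (tt N470 (iv F3391)) (tt N901 (iv F4520)) (tt N416 F3390) (tt N615 F24069) (tt N473 F3835) (tt N415 (iv D2078)))
theorem Q617 : ∀ i, i < 617 → P i := stepQ 616 Q616 (allL N616 (tt N500 (iv F23157)) (tt N860 (iv F4395)) (tt N417 (iv D2080)) (tt N860 F5634) (tt N475 F3395) (tt N731 (iv F22978)) (tt N497 (iv F23154)))
theorem Q618 : ∀ i, i < 618 → P i := stepQ 617 Q617 (allL N617 (tt N902 D2509) (tt N418 (iv D2083)) (tt N903 D2510) (tt N477 F3400) (tt N477 F3401) (tt N744 (iv F22834)) (tt N904 D2511))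
theorem Q619 : ∀ i, i < 619 → P i := stepQ 618 Q618 (allL N618 (tt N905 D2512) (tt N419 (iv D2084)) (tt N849 (iv F24207)) (tt N478 F3402) (tt N478 F3403) (tt N906 D2514) (tt N506 (iv F22548)))
theorem Q620 : ∀ i, i < 620 → P i := stepQ 619 Q619 (allL N619 (tt N907 D2515) (tt N420 (iv D2085)) (tt N908 D2516) (tt N481 F3404) (tt N481 F3405) (tt N909 D2517) (tt N744 (iv F4164)))
theorem Q621 : ∀ i, i < 621 → P i := stepQ 620 Q620 (allL N620 (tt N910 D2521) (tt N422 (iv D2104)) (tt N877 F20703) (tt N911 D2523) (tt N834 (iv F4350)) (tt N864 F20704) (tt N910 (iv F22889)))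
theorem Q622 : ∀ i, i < 622 → P i := stepQ 621 Q621 (allL N621 (tt N423 F3903) (tt N911 (iv F4582)) (tt N912 D2526) (tt N422 (iv D2105)) (tt N913 D2527) (tt N914 D2528) (tt N912 F23872))
theorem Q623 : ∀ i, i < 623 → P i := stepQ 622 Q622 (allL N622 (tt N424 F3904) (tt N866 F20334) (tt N819 (iv F4297)) (tt N914 (iv F4586)) (tt N836 (iv F4353)) (tt N422 (iv D2106)) (tt N630 (iv F3914)))
theorem Q624 : ∀ i, i < 624 → P i := stepQ 623 Q623 (allL N623 (tt N425 F3905) (tt N792 F23596) (tt N710 F23597) (tt N912 (iv F23714)) (tt N837 (iv F4355)) (tt N628 (iv F3911)) (tt N422 (iv D2107)))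
theorem Q625 : ∀ i, i < 625 → P i := stepQ 624 Q624 (allL N624 (tt N912 (iv F4583)) (tt N444 F3906) (tt N423 (iv D2108)) (tt N425 F24059) (tt N915 D2533) (tt N916 D2534) (tt N423 F24060))
theorem Q626 : ∀ i, i < 626 → P i := stepQ 625 Q625 (allL N625 (tt N913 (iv F4584)) (tt N426 F3907) (tt N915 (iv F4591)) (tt N839 (iv F4359)) (tt N423 (iv D2109)) (tt N917 D2536) (tt N915 F24087))
theorem Q627 : ∀ i, i < 627 → P i := stepQ 626 Q626 (allL N626 (tt N914 (iv F4585)) (tt N918 D2538) (tt N916 (iv F4592)) (tt N424 F3908) (tt N917 (iv F4594)) (tt N423 (iv D2110)) (tt N919 D2539))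
theorem Q628 : ∀ i, i < 628 → P i := stepQ 627 Q627 (allL N627 (tt N920 D2542) (tt N424 (iv D2112)) (tt N921 D2543) (tt N918 (iv F4596)) (tt N842 (iv F4362)) (tt N429 F3910) (tt N922 D2544))
theorem Q629 : ∀ i, i < 629 → P i := stepQ 628 Q628 (allL N628 (tt N630 (iv F3913)) (tt N663 F23830) (tt N821 (iv F4303)) (tt N919 (iv F4598)) (tt N843 (iv F4364)) (tt N623 F3911) (tt N424 (iv D2113)))
theorem Q630 : ∀ i, i < 630 → P i := stepQ 629 Q629 (allL N629 (tt N587 (iv F24334)) (tt N425 (iv D2114)) (tt N584 F24237) (tt N444 F24238) (tt N844 (iv F4366)) (tt N923 D2547) (tt N430 F3912))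
theorem Q631 : ∀ i, i < 631 → P i := stepQ 630 Q630 (allL N630 (tt N628 F3913) (tt N924 D2548) (tt N811 (iv F4286)) (tt N916 F23763) (tt N845 (iv F4369)) (tt N425 (iv D2115)) (tt N622 F3914))
theorem Q632 : ∀ i, i < 632 → P i := stepQ 631 Q631 (allL N631 (tt N452 F3915) (tt N925 D2549) (tt N452 F3916) (tt N846 (iv F4373)) (tt N427 F3917) (tt N426 (iv D2116)) (tt N670 (iv F3984)))
theorem Q633 : ∀ i, i < 633 → P i := stepQ 632 Q632 (allL N632 (tt N453 F3918) (tt N926 D2550) (tt N453 F3919) (tt N847 (iv F4377)) (tt N428 F3920) (tt N668 (iv F3979)) (tt N426 (iv D2117)))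
theorem Q634 : ∀ i, i < 634 → P i := stepQ 633 Q633 (allL N633 (tt N927 D2551) (tt N427 (iv D2118)) (tt N928 D2552) (tt N429 F3921) (tt N925 (iv F4608)) (tt N918 (iv F4597)) (tt N929 D2553))
theorem Q635 : ∀ i, i < 635 → P i := stepQ 634 Q634 (allL N634 (tt N930 D2554) (tt N428 (iv D2119)) (tt N447 (iv F24095)) (tt N430 F3922) (tt N926 (iv F4609)) (tt N931 D2556) (tt N444 (iv F24094)))
theorem Q636 : ∀ i, i < 636 → P i := stepQ 635 Q635 (allL N635 (tt N429 (iv D2120)) (tt N932 D2557) (tt N933 D2558) (tt N927 (iv F4610)) (tt N850 (iv F4381)) (tt N920 (iv F4605)) (tt N934 D2559))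
theorem Q637 : ∀ i, i < 637 → P i := stepQ 636 Q636 (allL N636 (tt N933 (iv F4616)) (tt N432 F3923) (tt N429 (iv D2121)) (tt N935 D2560) (tt N851 (iv F4383)) (tt N921 (iv F4606)) (tt N936 D2561))
theorem Q638 : ∀ i, i < 638 → P i := stepQ 637 Q637 (allL N637 (tt N934 (iv F4617)) (tt N442 (iv F23750)) (tt N936 (iv F4620)) (tt N929 (iv F4612)) (tt N852 (iv F4384)) (tt N937 D2562) (tt N429 (iv D2122)))
theorem Q639 : ∀ i, i < 639 → P i := stepQ 638 Q638 (allL N638 (tt N430 (iv D2123)) (tt N638 F22073) (tt N590 (iv F24361)) (tt N930 (iv F4613)) (tt N853 (iv F4385)) (tt N938 D2564) (tt N587 (iv F24335)))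
theorem Q640 : ∀ i, i < 640 → P i := stepQ 639 Q639 (allL N639 (tt N938 (iv F4623)) (tt N683 (iv F4001)) (tt N781 (iv F4241)) (tt N931 (iv F4615)) (tt N854 (iv F4386)) (tt N430 (iv D2124)) (tt N866 (iv F24171)))
theorem Q641 : ∀ i, i < 641 → P i := stepQ 640 Q640 (allL N640 (tt N561 F3924) (tt N431 (iv D2125)) (tt N939 D2566) (tt N434 F3925) (tt N547 F3926) (tt N496 F3927) (tt N517 F3928))
theorem Q642 : ∀ i, i < 642 → P i := stepQ 641 Q641 (allL N641 (tt N432 F3929) (tt N935 F22121) (tt N431 (iv D2126)) (tt N432 (iv F22270)) (tt N855 (iv F4388)) (tt N833 (iv F4326)) (tt N685 (iv F4015)))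
theorem Q643 : ∀ i, i < 643 → P i := stepQ 642 Q642 (allL N642 (tt N685 (iv F4013)) (tt N940 D2572) (tt N433 F3930) (tt N685 F22376) (tt N857 (iv F4390)) (tt N684 (iv F4012)) (tt N432 (iv D2128)))
theorem Q644 : ∀ i, i < 644 → P i := stepQ 643 Q643 (allL N643 (tt N643 F3935) (tt N436 (iv D2133)) (tt N687 (iv F4032)) (tt N643 F23353) (tt N439 F3936) (tt N687 (iv F4034)) (tt N643 F3937))
theorem Q645 : ∀ i, i < 645 → P i := stepQ 644 Q644 (allL N644 (tt N644 F3941) (tt N438 (iv D2136)) (tt N644 F3942) (tt N439 F3943) (tt N644 F24068) (tt N690 (iv F4053)) (tt N644 F3944))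
theorem Q646 : ∀ i, i < 646 → P i := stepQ 645 Q645 (allL N645 (tt N440 (iv D2137)) (tt N910 (iv F4581)) (tt N794 F23195) (tt N941 D2583) (tt N859 (iv F4394)) (tt N942 D2584) (tt N792 (iv F23236)))
theorem Q647 : ∀ i, i < 647 → P i := stepQ 646 Q646 (allL N646 (tt N794 F22935) (tt N475 F3945) (tt N440 (iv D2138)) (tt N791 F22936) (tt N860 (iv F4396)) (tt N943 D2587) (tt N789 (iv F23226)))
theorem Q648 : ∀ i, i < 648 → P i := stepQ 647 Q647 (allL N647 (tt N941 (iv F4652)) (tt N441 F3946) (tt N944 D2589) (tt N440 (iv D2139)) (tt N945 D2590) (tt N946 D2591) (tt N947 D2592))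
theorem Q649 : ∀ i, i < 649 → P i := stepQ 648 Q648 (allL N648 (tt N942 (iv F4653)) (tt N937 (iv F23551)) (tt N943 (iv F4656)) (tt N946 (iv F4659)) (tt N861 (iv F4398)) (tt N440 (iv D2140)) (tt N675 (iv F23604)))
theorem Q650 : ∀ i, i < 650 → P i := stepQ 649 Q649 (allL N649 (tt N792 F23581) (tt N530 (iv F23968)) (tt N789 F23582) (tt N947 (iv F4660)) (tt N527 (iv F23858)) (tt N948 D2596) (tt N440 (iv D2141)))
theorem Q651 : ∀ i, i < 651 → P i := stepQ 650 Q650 (allL N650 (tt N444 F3947) (tt N949 D2597) (tt N441 (iv D2142)) (tt N587 F3948) (tt N950 D2598) (tt N951 D2599) (tt N930 F24270))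
theorem Q652 : ∀ i, i < 652 → P i := stepQ 651 Q651 (allL N651 (tt N445 F3949) (tt N945 (iv F4658)) (tt N950 (iv F4668)) (tt N862 (iv F4401)) (tt N441 (iv D2143)) (tt N952 D2601) (tt N953 D2602))
theorem Q653 : ∀ i, i < 653 → P i := stepQ 652 Q652 (allL N652 (tt N446 F3950) (tt N929 F23380) (tt N951 (iv F4670)) (tt N442 F3951) (tt N952 (iv F4676)) (tt N441 (iv D2144)) (tt N662 (iv F3969)))
theorem Q654 : ∀ i, i < 654 → P i := stepQ 653 Q653 (allL N653 (tt N447 F3952) (tt N954 D2604) (tt N930 F24290) (tt N443 F3953) (tt N953 (iv F4678)) (tt N660 (iv F3964)) (tt N441 (iv D2145)))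
theorem Q655 : ∀ i, i < 655 → P i := stepQ 654 Q654 (allL N654 (tt N880 F24033) (tt N443 (iv D2147)) (tt N847 (iv F24257)) (tt N954 (iv F4680)) (tt N532 (iv F24261)) (tt N955 D2610) (tt N530 F24034))
theorem Q656 : ∀ i, i < 656 → P i := stepQ 655 Q655 (allL N655 (tt N950 (iv F4667)) (tt N915 (iv F4590)) (tt N445 F3956) (tt N705 F5047) (tt N444 (iv D2149)) (tt N956 D2615) (tt N926 (iv F24096)))
theorem Q657 : ∀ i, i < 657 → P i := stepQ 656 Q656 (allL N656 (tt N951 (iv F4669)) (tt N957 D2617) (tt N446 F3957) (tt N923 (iv F24092)) (tt N956 (iv F4692)) (tt N444 (iv D2150)) (tt N958 D2618))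
theorem Q658 : ∀ i, i < 658 → P i := stepQ 657 Q657 (allL N657 (tt N952 (iv F4675)) (tt N959 D2621) (tt N956 (iv F4691)) (tt N867 (iv F4412)) (tt N446 F3959) (tt N445 (iv D2152)) (tt N960 D2622))
theorem Q659 : ∀ i, i < 659 → P i := stepQ 658 Q658 (allL N658 (tt N953 (iv F4677)) (tt N961 D2623) (tt N926 F24289) (tt N868 (iv F4414)) (tt N447 F3960) (tt N962 D2624) (tt N445 (iv D2153)))
theorem Q660 : ∀ i, i < 660 → P i := stepQ 659 Q659 (allL N659 (tt N963 D2625) (tt N446 (iv D2154)) (tt N964 D2626) (tt N448 F3961) (tt N959 (iv F4700)) (tt N454 F3962) (tt N965 D2627))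
theorem Q661 : ∀ i, i < 661 → P i := stepQ 660 Q660 (allL N660 (tt N662 (iv F3967)) (tt N966 D2628) (tt N958 (iv F4695)) (tt N449 F3963) (tt N960 (iv F4702)) (tt N653 F3964) (tt N446 (iv D2155)))
theorem Q662 : ∀ i, i < 662 → P i := stepQ 661 Q661 (allL N661 (tt N661 F22044) (tt N447 (iv D2156)) (tt N456 (iv F24309)) (tt N450 F3965) (tt N961 (iv F4704)) (tt N456 (iv F24310)) (tt N456 F3966))
theorem Q663 : ∀ i, i < 663 → P i := stepQ 662 Q662 (allL N662 (tt N660 F3967) (tt N457 (iv F24078)) (tt N931 F23781) (tt N451 F3968) (tt N962 (iv F4707)) (tt N447 (iv D2157)) (tt N652 F3969))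
theorem Q664 : ∀ i, i < 664 → P i := stepQ 663 Q663 (allL N663 (tt N448 (iv D2158)) (tt N628 (iv F23830)) (tt N967 D2634) (tt N963 (iv F4709)) (tt N872 (iv F4425)) (tt N458 F3970) (tt N680 (iv F3999)))
theorem Q665 : ∀ i, i < 665 → P i := stepQ 664 Q664 (allL N664 (tt N967 (iv F4719)) (tt N480 F3971) (tt N448 (iv D2159)) (tt N551 (iv F3973)) (tt N730 (iv F4125)) (tt N459 F3972) (tt N968 D2635))
theorem Q666 : ∀ i, i < 666 → P i := stepQ 665 Q665 (allL N665 (tt N680 (iv F3998)) (tt N969 D2636) (tt N968 (iv F4722)) (tt N965 (iv F4712)) (tt N873 (iv F4427)) (tt N677 (iv F3994)) (tt N448 (iv D2160)))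
theorem Q667 : ∀ i, i < 667 → P i := stepQ 666 Q666 (allL N666 (tt N970 D2637) (tt N449 (iv D2161)) (tt N971 D2638) (tt N966 (iv F4713)) (tt N874 (iv F4428)) (tt N972 D2639) (tt N969 (iv F4724)))
theorem Q668 : ∀ i, i < 668 → P i := stepQ 667 Q667 (allL N667 (tt N973 D2645) (tt N452 (iv D2165)) (tt N974 D2646) (tt N882 (iv F4450)) (tt N454 F3977) (tt N959 (iv F4701)) (tt N975 D2647))
theorem Q669 : ∀ i, i < 669 → P i := stepQ 668 Q668 (allL N668 (tt N670 (iv F3981)) (tt N976 D2648) (tt N670 (iv F3982)) (tt N883 (iv F4452)) (tt N455 F3978) (tt N632 F3979) (tt N452 (iv D2166)))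
theorem Q670 : ∀ i, i < 670 → P i := stepQ 669 Q669 (allL N669 (tt N669 F22304) (tt N453 (iv D2167)) (tt N961 F24380) (tt N884 (iv F4455)) (tt N456 F3980) (tt N961 F24381) (tt N961 (iv F4705)))
theorem Q671 : ∀ i, i < 671 → P i := stepQ 670 Q670 (allL N670 (tt N668 F3981) (tt N962 F24286) (tt N668 F3982) (tt N885 (iv F4458)) (tt N457 F3983) (tt N453 (iv D2168)) (tt N631 F3984))
theorem Q672 : ∀ i, i < 672 → P i := stepQ 671 Q671 (allL N671 (tt N454 (iv D2169)) (tt N977 D2653) (tt N978 D2654) (tt N458 F3985) (tt N973 (iv F4730)) (tt N963 (iv F4710)) (tt N979 D2655))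
theorem Q673 : ∀ i, i < 673 → P i := stepQ 672 Q672 (allL N672 (tt N978 (iv F4739)) (tt N928 (iv F4611)) (tt N454 (iv D2170)) (tt N922 (iv F23209)) (tt N974 (iv F4731)) (tt N964 (iv F4711)) (tt N918 (iv F23320)))
theorem Q674 : ∀ i, i < 674 → P i := stepQ 673 Q673 (allL N673 (tt N979 (iv F4740)) (tt N980 D2658) (tt N918 F23700) (tt N460 F3986) (tt N975 (iv F4732)) (tt N928 F23061) (tt N454 (iv D2171)))
theorem Q675 : ∀ i, i < 675 → P i := stepQ 674 Q674 (allL N674 (tt N981 D2660) (tt N455 (iv D2172)) (tt N982 D2661) (tt N461 F3987) (tt N976 (iv F4733)) (tt N982 (iv F23094)) (tt N980 (iv F4745)))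
theorem Q676 : ∀ i, i < 676 → P i := stepQ 675 Q675 (allL N675 (tt N948 F23603) (tt N458 (iv D2177)) (tt N793 (iv F20306)) (tt N977 (iv F4738)) (tt N890 (iv F4467)) (tt N792 (iv F20289)) (tt N648 F23604))
theorem Q677 : ∀ i, i < 677 → P i := stepQ 676 Q676 (allL N676 (tt N459 F3991) (tt N983 D2677) (tt N458 (iv D2178)) (tt N555 (iv F3992)) (tt N736 (iv F4143)) (tt N967 (iv F4720)) (tt N984 D2678))
theorem Q678 : ∀ i, i < 678 → P i := stepQ 677 Q677 (allL N677 (tt N460 F3993) (tt N920 (iv F22941)) (tt N984 (iv F4769)) (tt N979 (iv F4741)) (tt N891 (iv F4469)) (tt N665 F3994) (tt N458 (iv D2179)))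
theorem Q679 : ∀ i, i < 679 → P i := stepQ 678 Q678 (allL N678 (tt N984 (iv F4768)) (tt N824 (iv F4308)) (tt N460 F3995) (tt N557 F3996) (tt N737 (iv F4145)) (tt N985 D2680) (tt N459 (iv D2180)))
theorem Q680 : ∀ i, i < 680 → P i := stepQ 679 Q679 (allL N679 (tt N986 D2681) (tt N460 (iv D2181)) (tt N987 D2682) (tt N980 (iv F4744)) (tt N892 (iv F4471)) (tt N988 D2683) (tt N461 F3997))
theorem Q681 : ∀ i, i < 681 → P i := stepQ 680 Q680 (allL N680 (tt N665 F3998) (tt N922 F23213) (tt N985 (iv F4773)) (tt N928 (iv F23049)) (tt N893 (iv F4474)) (tt N460 (iv D2182)) (tt N663 F3999))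
theorem Q682 : ∀ i, i < 682 → P i := stepQ 681 Q681 (allL N681 (tt N461 (iv D2183)) (tt N989 D2685) (tt N990 D2686) (tt N981 (iv F4749)) (tt N894 (iv F4476)) (tt N991 D2687) (tt N986 (iv F4776)))
theorem Q683 : ∀ i, i < 683 → P i := stepQ 682 Q682 (allL N682 (tt N990 (iv F4778)) (tt N463 F4000) (tt N461 (iv D2184)) (tt N992 D2688) (tt N895 (iv F4478)) (tt N993 D2689) (tt N987 (iv F4777)))
theorem Q684 : ∀ i, i < 684 → P i := stepQ 683 Q683 (allL N683 (tt N991 (iv F4779)) (tt N639 F4001) (tt N993 (iv F4782)) (tt N982 F23407) (tt N896 (iv F4480)) (tt N461 (iv D2185)) (tt N924 F23564))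
theorem Q685 : ∀ i, i < 685 → P i := stepQ 684 Q684 (allL N684 (tt N463 F4011) (tt N992 (iv F22525)) (tt N462 (iv D2193)) (tt N463 (iv F22377)) (tt N897 (iv F4498)) (tt N642 F4012) (tt N833 (iv F4327)))
theorem Q686 : ∀ i, i < 686 → P i := stepQ 685 Q685 (allL N685 (tt N642 F4013) (tt N994 D2711) (tt N464 F4014) (tt N642 (iv F22376)) (tt N899 (iv F4503)) (tt N463 (iv D2195)) (tt N641 F4015))
theorem Q687 : ∀ i, i < 687 → P i := stepQ 686 Q686 (allL N686 (tt N900 (iv F4507)) (tt N695 F24362) (tt N466 F4017) (tt N900 F24371) (tt N900 (iv F4509)) (tt N900 (iv F4510)) (tt N465 (iv D2197)))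
theorem Q688 : ∀ i, i < 688 → P i := stepQ 687 Q687 (allL N687 (tt N687 F4031) (tt N469 (iv D2205)) (tt N643 F4032) (tt N687 F23732) (tt N474 F4033) (tt N643 F4034) (tt N687 F4035))
theorem Q689 : ∀ i, i < 689 → P i := stepQ 688 Q688 (allL N688 (tt N688 F4045) (tt N472 (iv D2208)) (tt N688 F4043) (tt N688 F4044) (tt N688 F24372) (tt N995 D2730) (tt N688 F4057))
theorem Q690 : ∀ i, i < 690 → P i := stepQ 689 Q689 (allL N689 (tt N901 (iv F4522)) (tt N689 F4056) (tt N473 F4048) (tt N689 F4049) (tt N689 F24370) (tt N901 F4524) (tt N472 (iv D2210)))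
theorem Q691 : ∀ i, i < 691 → P i := stepQ 690 Q690 (allL N690 (tt N690 F4051) (tt N473 (iv D2212)) (tt N690 F4055) (tt N474 F4052) (tt N690 F24279) (tt N644 F4053) (tt N690 F4054))
theorem Q692 : ∀ i, i < 692 → P i := stepQ 691 Q691 (allL N691 (tt N708 (iv F23227)) (tt N996 D2744) (tt N476 F4061) (tt N552 (iv F23228)) (tt N731 (iv F22977)) (tt N475 (iv D2217)) (tt N480 F22937))
theorem Q693 : ∀ i, i < 693 → P i := stepQ 692 Q692 (allL N692 (tt N997 D2748) (tt N476 (iv D2219)) (tt N998 D2749) (tt N744 F22877) (tt N744 F22878) (tt N477 F4063) (tt N481 F22879))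
theorem Q694 : ∀ i, i < 694 → P i := stepQ 693 Q693 (allL N693 (tt N477 (iv D2223)) (tt N999 D2756) (tt N1000 D2757) (tt N902 (iv F4557)) (tt N902 (iv F4558)) (tt N997 (iv F4869)) (tt N703 F22896))
theorem Q695 : ∀ i, i < 695 → P i := stepQ 694 Q694 (allL N694 (tt N1000 (iv F4873)) (tt N936 F23922) (tt N477 (iv D2224)) (tt N1001 D2759) (tt N903 (iv F4559)) (tt N998 (iv F4870)) (tt N940 (iv F24194)))
theorem Q696 : ∀ i, i < 696 → P i := stepQ 695 Q695 (allL N695 (tt N703 F22894) (tt N686 (iv F24362)) (tt N940 F24235) (tt N904 (iv F4560)) (tt N904 (iv F4561)) (tt N701 F22895) (tt N477 (iv D2225)))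
theorem Q697 : ∀ i, i < 697 → P i := stepQ 696 Q696 (allL N696 (tt N478 (iv D2226)) (tt N1002 D2762) (tt N1003 D2763) (tt N905 (iv F4562)) (tt N905 (iv F4563)) (tt N1004 D2764) (tt N704 (iv F22718)))
theorem Q698 : ∀ i, i < 698 → P i := stepQ 697 Q697 (allL N697 (tt N1003 (iv F4880)) (tt N847 (iv F24256)) (tt N478 (iv D2227)) (tt N926 F24293) (tt N849 (iv F24208)) (tt N1005 D2766) (tt N705 (iv F22466)))
theorem Q699 : ∀ i, i < 699 → P i := stepQ 698 Q698 (allL N698 (tt N1004 (iv F4881)) (tt N703 (iv F4074)) (tt N1005 (iv F4883)) (tt N906 (iv F4565)) (tt N906 (iv F4566)) (tt N478 (iv D2228)) (tt N1006 D2767))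
theorem Q700 : ∀ i, i < 700 → P i := stepQ 699 Q699 (allL N699 (tt N1007 D2768) (tt N479 (iv D2229)) (tt N1008 D2769) (tt N743 (iv F4158)) (tt N743 (iv F4159)) (tt N1009 D2770) (tt N1010 D2771))
theorem Q701 : ∀ i, i < 701 → P i := stepQ 700 Q700 (allL N700 (tt N480 F4068) (tt N1011 D2772) (tt N479 (iv D2230)) (tt N549 (iv F4070)) (tt N726 (iv F4116)) (tt N483 F4069) (tt N708 (iv F4086)))
theorem Q702 : ∀ i, i < 702 → P i := stepQ 701 Q701 (allL N701 (tt N481 (iv D2233)) (tt N907 F22876) (tt N1012 D2778) (tt N907 (iv F4567)) (tt N907 (iv F4568)) (tt N695 (iv F22895)) (tt N997 (iv F23185)))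
theorem Q703 : ∀ i, i < 703 → P i := stepQ 702 Q702 (allL N702 (tt N1012 (iv F4891)) (tt N971 (iv F4725)) (tt N481 (iv D2234)) (tt N1013 D2780) (tt N908 (iv F4569)) (tt N1014 D2781) (tt N998 (iv F23187)))
theorem Q704 : ∀ i, i < 704 → P i := stepQ 703 Q703 (allL N703 (tt N695 (iv F22894)) (tt N698 F4074) (tt N1014 (iv F4894)) (tt N909 (iv F4571)) (tt N909 (iv F4572)) (tt N481 (iv D2235)) (tt N693 (iv F22896)))
theorem Q705 : ∀ i, i < 705 → P i := stepQ 704 Q704 (allL N704 (tt N482 (iv D2239)) (tt N740 (iv F4150)) (tt N1015 D2788) (tt N740 (iv F4151)) (tt N740 (iv F4152)) (tt N1006 (iv F22872)) (tt N696 F22718))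
theorem Q706 : ∀ i, i < 706 → P i := stepQ 705 Q705 (allL N705 (tt N1015 (iv F4903)) (tt N1016 D2791) (tt N482 (iv D2240)) (tt N655 (iv F5047)) (tt N741 (iv F4153)) (tt N1017 D2793) (tt N697 F22466))
theorem Q707 : ∀ i, i < 707 → P i := stepQ 706 Q706 (allL N706 (tt N1006 F22874) (tt N1009 (iv F4886)) (tt N1017 (iv F4907)) (tt N742 (iv F4154)) (tt N742 (iv F4155)) (tt N482 (iv D2241)) (tt N1004 F22875))
theorem Q708 : ∀ i, i < 708 → P i := stepQ 707 Q707 (allL N707 (tt N1018 D2798) (tt N483 (iv D2243)) (tt N1016 (iv F4906)) (tt N548 F4078) (tt N724 (iv F4111)) (tt N1019 D2799) (tt N1020 D2800))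
theorem Q709 : ∀ i, i < 709 → P i := stepQ 708 Q708 (allL N708 (tt N691 F23227) (tt N1021 D2805) (tt N485 F4084) (tt N554 F4085) (tt N732 (iv F4132)) (tt N484 (iv D2246)) (tt N700 F4086))
theorem Q710 : ∀ i, i < 710 → P i := stepQ 709 Q709 (allL N709 (tt N1022 D2806) (tt N485 (iv D2247)) (tt N1023 D2807) (tt N745 (iv F4165)) (tt N745 (iv F4166)) (tt N745 (iv F4167)) (tt N1024 D2808))
theorem Q711 : ∀ i, i < 711 → P i := stepQ 710 Q710 (allL N710 (tt N553 (iv F23592)) (tt N487 F4089) (tt N623 (iv F23597)) (tt N486 (iv D2249)) (tt N733 (iv F4135)) (tt N821 (iv F23450)) (tt N558 F23234))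
theorem Q712 : ∀ i, i < 712 → P i := stepQ 711 Q711 (allL N711 (tt N717 F23813) (tt N1025 D2816) (tt N491 F4090) (tt N821 F23814) (tt N491 F4091) (tt N486 (iv D2250)) (tt N491 F23815))
theorem Q713 : ∀ i, i < 713 → P i := stepQ 712 Q712 (allL N712 (tt N734 (iv F4136)) (tt N1026 D2819) (tt N544 F4095) (tt N488 F4096) (tt N734 (iv F4139)) (tt N487 (iv D2252)) (tt N544 F4097))
theorem Q714 : ∀ i, i < 714 → P i := stepQ 713 Q713 (allL N713 (tt N1027 D2820) (tt N488 (iv D2253)) (tt N1028 D2821) (tt N1026 (iv F4949)) (tt N493 F4098) (tt N1025 (iv F4941)) (tt N1029 D2822))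
theorem Q715 : ∀ i, i < 715 → P i := stepQ 714 Q714 (allL N714 (tt N754 (iv F4183)) (tt N1028 (iv F4951)) (tt N489 (iv D2254)) (tt N1030 D2823) (tt N495 F4099) (tt N495 F4100) (tt N825 (iv F4312)))
theorem Q716 : ∀ i, i < 716 → P i := stepQ 715 Q715 (allL N715 (tt N491 F4101) (tt N1031 D2828) (tt N717 (iv F23598)) (tt N819 (iv F4298)) (tt N717 (iv F23599)) (tt N490 (iv D2256)) (tt N717 (iv F4106)))
theorem Q717 : ∀ i, i < 717 → P i := stepQ 716 Q716 (allL N716 (tt N1032 D2830) (tt N491 (iv D2258)) (tt N1033 D2831) (tt N820 (iv F4300)) (tt N1025 (iv F4940)) (tt N493 F4103) (tt N1034 D2832))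
theorem Q718 : ∀ i, i < 718 → P i := stepQ 717 Q717 (allL N717 (tt N711 (iv F23813)) (tt N1035 D2834) (tt N715 F23598) (tt N811 (iv F4287)) (tt N715 F23599) (tt N492 (iv D2260)) (tt N715 F4106))
theorem Q719 : ∀ i, i < 719 → P i := stepQ 718 Q718 (allL N718 (tt N493 (iv D2261)) (tt N1036 D2835) (tt N1037 D2836) (tt N822 (iv F4306)) (tt N1027 (iv F4950)) (tt N1032 (iv F4956)) (tt N1038 D2837))
theorem Q720 : ∀ i, i < 720 → P i := stepQ 719 Q719 (allL N719 (tt N1037 (iv F4959)) (tt N495 F4107) (tt N493 (iv D2262)) (tt N1039 D2838) (tt N1028 (iv F4952)) (tt N1033 (iv F4957)) (tt N1040 D2839))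
theorem Q721 : ∀ i, i < 721 → P i := stepQ 720 Q720 (allL N720 (tt N1038 (iv F4960)) (tt N557 F4108) (tt N1040 (iv F4963)) (tt N824 (iv F4309)) (tt N1029 (iv F4954)) (tt N1041 D2840) (tt N493 (iv D2263)))
theorem Q722 : ∀ i, i < 722 → P i := stepQ 721 Q721 (allL N721 (tt N495 F4109) (tt N796 F23540) (tt N494 (iv D2264)) (tt N828 (iv F4317)) (tt N754 (iv F4184)) (tt N754 (iv F4185)) (tt N803 (iv F4280)))
theorem Q723 : ∀ i, i < 723 → P i := stepQ 722 Q722 (allL N722 (tt N828 (iv F4316)) (tt N1039 (iv F4962)) (tt N827 (iv F4315)) (tt N495 (iv D2265)) (tt N1042 D2842) (tt N1030 (iv F4955)) (tt N1043 D2843))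
theorem Q724 : ∀ i, i < 724 → P i := stepQ 723 Q723 (allL N723 (tt N803 (iv F4279)) (tt N1044 D2844) (tt N496 F4110) (tt N1043 (iv F4967)) (tt N825 (iv F4310)) (tt N939 (iv F4629)) (tt N495 (iv D2266)))
theorem Q725 : ∀ i, i < 725 → P i := stepQ 724 Q724 (allL N724 (tt N1045 D2845) (tt N497 (iv D2267)) (tt N841 (iv F23574)) (tt N838 F4357) (tt N707 F4111) (tt N1046 D2847) (tt N838 (iv F23576)))
theorem Q726 : ∀ i, i < 726 → P i := stepQ 725 Q725 (allL N725 (tt N498 F4112) (tt N838 (iv F4356)) (tt N527 F4113) (tt N497 (iv D2268)) (tt N789 (iv F4254)) (tt N1047 D2849) (tt N860 F23478))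
theorem Q727 : ∀ i, i < 727 → P i := stepQ 726 Q726 (allL N726 (tt N499 F4114) (tt N1048 D2851) (tt N507 F4115) (tt N1047 (iv F4976)) (tt N700 F4116) (tt N497 (iv D2269)) (tt N732 (iv F4133)))
theorem Q728 : ∀ i, i < 728 → P i := stepQ 727 Q727 (allL N727 (tt N527 F4120) (tt N837 F23476) (tt N498 (iv D2271)) (tt N526 F4121) (tt N792 (iv F4261)) (tt N890 F20390) (tt N859 F23477))
theorem Q729 : ∀ i, i < 729 → P i := stepQ 728 Q728 (allL N728 (tt N1047 (iv F4974)) (tt N1049 D2856) (tt N890 F20411) (tt N499 F4122) (tt N793 (iv F4263)) (tt N498 (iv D2272)) (tt N1050 D2857))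
theorem Q730 : ∀ i, i < 730 → P i := stepQ 729 Q729 (allL N729 (tt N860 (iv F23158)) (tt N558 (iv F23160)) (tt N859 (iv F23235)) (tt N500 F4123) (tt N794 (iv F4265)) (tt N1051 D2858) (tt N498 (iv D2273)))
theorem Q731 : ∀ i, i < 731 → P i := stepQ 730 Q730 (allL N730 (tt N1052 D2859) (tt N499 (iv D2274)) (tt N591 F4124) (tt N1049 (iv F4997)) (tt N664 F4125) (tt N503 F4126) (tt N1053 D2860))
theorem Q732 : ∀ i, i < 732 → P i := stepQ 731 Q731 (allL N731 (tt N732 (iv F4130)) (tt N1054 D2861) (tt N508 F4127) (tt N1050 (iv F4999)) (tt N691 F22977) (tt N616 F22978) (tt N499 (iv D2275)))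
theorem Q733 : ∀ i, i < 733 → P i := stepQ 732 Q732 (allL N732 (tt N731 F4130) (tt N1055 D2862) (tt N509 F4131) (tt N1051 (iv F5002)) (tt N708 F4132) (tt N500 (iv D2276)) (tt N726 F4133))
theorem Q734 : ∀ i, i < 734 → P i := stepQ 733 Q733 (allL N733 (tt N787 (iv F23231)) (tt N501 (iv D2277)) (tt N837 (iv F23233)) (tt N539 F4134) (tt N710 F4135) (tt N1056 D2864) (tt N785 (iv F22940)))
theorem Q735 : ∀ i, i < 735 → P i := stepQ 734 Q734 (allL N734 (tt N712 F4136) (tt N1057 D2866) (tt N502 F4137) (tt N504 F4138) (tt N712 F4139) (tt N501 (iv D2278)) (tt N502 F4140))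
theorem Q736 : ∀ i, i < 736 → P i := stepQ 735 Q735 (allL N735 (tt N1058 D2867) (tt N502 (iv D2279)) (tt N1059 D2868) (tt N503 F4141) (tt N798 (iv F4274)) (tt N1049 (iv F4998)) (tt N1060 D2869))
theorem Q737 : ∀ i, i < 737 → P i := stepQ 736 Q736 (allL N736 (tt N503 (iv D2280)) (tt N1061 D2870) (tt N605 F4142) (tt N1058 (iv F5020)) (tt N676 F4143) (tt N1052 (iv F5006)) (tt N1062 D2871))
theorem Q738 : ∀ i, i < 738 → P i := stepQ 737 Q737 (allL N737 (tt N1062 (iv F5023)) (tt N1063 D2872) (tt N606 F4144) (tt N1060 (iv F5021)) (tt N678 F4145) (tt N1064 D2873) (tt N503 (iv D2281)))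
theorem Q739 : ∀ i, i < 739 → P i := stepQ 738 Q738 (allL N738 (tt N1065 D2874) (tt N504 (iv D2282)) (tt N1066 D2875) (tt N1057 (iv F5018)) (tt N560 F4146) (tt N1067 D2876) (tt N1063 (iv F5028)))
theorem Q740 : ∀ i, i < 740 → P i := stepQ 739 Q739 (allL N739 (tt N858 (iv F4391)) (tt N1066 (iv F5034)) (tt N505 (iv D2283)) (tt N1068 D2877) (tt N567 F4147) (tt N580 F4148) (tt N609 F4149))
theorem Q741 : ∀ i, i < 741 → P i := stepQ 740 Q740 (allL N740 (tt N506 (iv D2284)) (tt N704 F4150) (tt N1069 D2878) (tt N704 F4151) (tt N704 F4152) (tt N1070 D2879) (tt N905 F22831))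
theorem Q742 : ∀ i, i < 742 → P i := stepQ 741 Q741 (allL N741 (tt N1069 (iv F5041)) (tt N841 F23958) (tt N506 (iv D2285)) (tt N844 (iv F23972)) (tt N705 F4153) (tt N1071 D2881) (tt N849 (iv F24209)))
theorem Q743 : ∀ i, i < 743 → P i := stepQ 742 Q742 (allL N742 (tt N1070 (iv F5051)) (tt N1072 D2883) (tt N1071 (iv F5057)) (tt N706 F4154) (tt N706 F4155) (tt N506 (iv D2286)) (tt N1073 D2884))
theorem Q744 : ∀ i, i < 744 → P i := stepQ 743 Q743 (allL N743 (tt N1010 (iv F23492)) (tt N507 (iv D2288)) (tt N1074 D2888) (tt N699 F4158) (tt N699 F4159) (tt N1072 (iv F5063)) (tt N1007 (iv F23497)))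
theorem Q745 : ∀ i, i < 745 → P i := stepQ 744 Q744 (allL N744 (tt N1075 D2893) (tt N508 (iv D2290)) (tt N1076 D2894) (tt N692 (iv F22877)) (tt N692 (iv F22878)) (tt N617 F22834) (tt N619 F4164))
theorem Q746 : ∀ i, i < 746 → P i := stepQ 745 Q745 (allL N745 (tt N1077 D2896) (tt N509 (iv D2291)) (tt N1078 D2897) (tt N709 F4165) (tt N709 F4166) (tt N709 F4167) (tt N1079 D2898))
theorem Q747 : ∀ i, i < 747 → P i := stepQ 746 Q746 (allL N746 (tt N1080 D2899) (tt N510 (iv D2292)) (tt N514 F4168) (tt N1081 D2900) (tt N514 F4169) (tt N1082 D2901) (tt N746 F22769))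
theorem Q748 : ∀ i, i < 748 → P i := stepQ 747 Q747 (allL N747 (tt N520 F4170) (tt N1081 (iv F5103)) (tt N747 F4171) (tt N510 (iv D2293)) (tt N878 (iv F4441)) (tt N1083 D2903) (tt N1084 D2904))
theorem Q749 : ∀ i, i < 749 → P i := stepQ 748 Q748 (allL N748 (tt N521 F4172) (tt N1085 D2905) (tt N511 F4173) (tt N1083 (iv F5110)) (tt N515 F4174) (tt N510 (iv D2294)) (tt N765 (iv F4209)))
theorem Q750 : ∀ i, i < 750 → P i := stepQ 749 Q749 (allL N749 (tt N522 F4175) (tt N749 F22346) (tt N512 F4176) (tt N1084 (iv F5113)) (tt N516 F4177) (tt N763 (iv F4203)) (tt N510 (iv D2295)))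
theorem Q751 : ∀ i, i < 751 → P i := stepQ 750 Q750 (allL N750 (tt N750 F4178) (tt N512 (iv D2296)) (tt N750 F22767) (tt N513 F4179) (tt N518 F4180) (tt N518 F4181) (tt N518 F4182))
theorem Q752 : ∀ i, i < 752 → P i := stepQ 751 Q751 (allL N751 (tt N514 (iv D2297)) (tt N1069 F5043) (tt N1080 (iv F5100)) (tt N875 (iv F4435)) (tt N1080 (iv F5101)) (tt N1086 D2908) (tt N751 F22771))
theorem Q753 : ∀ i, i < 753 → P i := stepQ 752 Q752 (allL N752 (tt N1086 (iv F5121)) (tt N769 F23755) (tt N1082 (iv F5104)) (tt N877 (iv F4437)) (tt N1082 (iv F5105)) (tt N514 (iv D2298)) (tt N1086 (iv F23098)))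
theorem Q754 : ∀ i, i < 754 → P i := stepQ 753 Q753 (allL N753 (tt N772 (iv F23880)) (tt N515 (iv D2300)) (tt N552 F23583) (tt N881 (iv F4448)) (tt N1085 (iv F5115)) (tt N769 F23584) (tt N528 F23585))
theorem Q755 : ∀ i, i < 755 → P i := stepQ 754 Q754 (allL N754 (tt N714 F4183) (tt N552 F23249) (tt N517 (iv D2302)) (tt N996 F21458) (tt N721 F4184) (tt N721 F4185) (tt N939 (iv F4630)))
theorem Q756 : ∀ i, i < 756 → P i := stepQ 755 Q755 (allL N755 (tt N519 (iv D2304)) (tt N1087 D2922) (tt N540 F4187) (tt N1088 D2923) (tt N526 F4188) (tt N1089 D2924) (tt N1090 D2925))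
theorem Q757 : ∀ i, i < 757 → P i := stepQ 756 Q756 (allL N756 (tt N1088 (iv F5138)) (tt N520 F4189) (tt N1091 D2926) (tt N519 (iv D2305)) (tt N947 F23704) (tt N1092 D2928) (tt N945 F23705))
theorem Q758 : ∀ i, i < 758 → P i := stepQ 757 Q757 (allL N757 (tt N1089 (iv F5139)) (tt N1093 D2930) (tt N542 F4190) (tt N1092 (iv F5148)) (tt N528 F4191) (tt N519 (iv D2306)) (tt N1085 F23917))
theorem Q759 : ∀ i, i < 759 → P i := stepQ 758 Q758 (allL N758 (tt N1090 (iv F5142)) (tt N862 (iv F23914)) (tt N543 F4192) (tt N945 F23536) (tt N529 F4193) (tt N1094 D2933) (tt N519 (iv D2307)))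
theorem Q760 : ∀ i, i < 760 → P i := stepQ 759 Q759 (allL N759 (tt N878 (iv F4439)) (tt N947 F23706) (tt N759 F4194) (tt N530 F4195) (tt N520 (iv D2308)) (tt N1095 D2934) (tt N954 (iv F24058)))
theorem Q761 : ∀ i, i < 761 → P i := stepQ 760 Q760 (allL N760 (tt N1083 (iv F5108)) (tt N1096 D2936) (tt N760 F4196) (tt N521 F4197) (tt N1095 (iv F5164)) (tt N520 (iv D2309)) (tt N1097 D2937))
theorem Q762 : ∀ i, i < 762 → P i := stepQ 761 Q761 (allL N761 (tt N1084 (iv F5111)) (tt N953 F24268) (tt N761 F4198) (tt N522 F4199) (tt N954 F24269) (tt N1098 D2939) (tt N520 (iv D2310)))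
theorem Q763 : ∀ i, i < 763 → P i := stepQ 762 Q762 (allL N762 (tt N1099 D2940) (tt N521 (iv D2311)) (tt N1100 D2941) (tt N1096 (iv F5168)) (tt N533 F4200) (tt N1093 (iv F5151)) (tt N1101 D2942))
theorem Q764 : ∀ i, i < 764 → P i := stepQ 763 Q763 (allL N763 (tt N765 (iv F4206)) (tt N1102 D2943) (tt N524 F4201) (tt N1097 (iv F5170)) (tt N534 F4202) (tt N749 F4203) (tt N521 (iv D2312)))
theorem Q765 : ∀ i, i < 765 → P i := stepQ 764 Q764 (allL N764 (tt N868 (iv F24291)) (tt N522 (iv D2313)) (tt N578 F4204) (tt N953 F24192) (tt N535 F4205) (tt N1103 D2945) (tt N862 F24193))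
theorem Q766 : ∀ i, i < 766 → P i := stepQ 765 Q765 (allL N765 (tt N763 F4206) (tt N1104 D2946) (tt N525 F4207) (tt N1098 (iv F5175)) (tt N536 F4208) (tt N522 (iv D2314)) (tt N748 F4209))
theorem Q767 : ∀ i, i < 767 → P i := stepQ 766 Q766 (allL N766 (tt N832 (iv F4321)) (tt N1100 (iv F5178)) (tt N523 (iv D2315)) (tt N1105 D2947) (tt N538 F4210) (tt N546 F4211) (tt N538 F4212))
theorem Q768 : ∀ i, i < 768 → P i := stepQ 767 Q767 (allL N767 (tt N841 F23593) (tt N526 (iv D2316)) (tt N1045 (iv F4986)) (tt N837 F23594) (tt N1087 (iv F5137)) (tt N1106 D2948) (tt N835 F23595))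
theorem Q769 : ∀ i, i < 769 → P i := stepQ 768 Q768 (allL N768 (tt N528 F4213) (tt N886 F20407) (tt N549 F4214) (tt N890 F20408) (tt N1089 (iv F5141)) (tt N526 (iv D2317)) (tt N772 (iv F4227)))
theorem Q770 : ∀ i, i < 770 → P i := stepQ 769 Q769 (allL N769 (tt N529 F4215) (tt N752 (iv F23755)) (tt N550 F4216) (tt N859 F23533) (tt N1090 (iv F5144)) (tt N753 (iv F23584)) (tt N526 (iv D2318)))
theorem Q771 : ∀ i, i < 771 → P i := stepQ 770 Q770 (allL N770 (tt N890 F20409) (tt N1107 D2954) (tt N1047 (iv F4975)) (tt N528 F4218) (tt N948 F23681) (tt N527 (iv D2320)) (tt N881 F23682))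
theorem Q772 : ∀ i, i < 772 → P i := stepQ 771 Q771 (allL N771 (tt N1108 D2958) (tt N528 (iv D2322)) (tt N1001 F20800) (tt N1107 (iv F5192)) (tt N1093 (iv F5150)) (tt N533 F4220) (tt N782 (iv F24135)))
theorem Q773 : ∀ i, i < 773 → P i := stepQ 772 Q772 (allL N772 (tt N753 F23880) (tt N1109 D2964) (tt N554 F4226) (tt N861 F23881) (tt N1094 (iv F5160)) (tt N529 (iv D2325)) (tt N768 F4227))
theorem Q774 : ∀ i, i < 774 → P i := stepQ 773 Q773 (allL N773 (tt N879 (iv F4442)) (tt N1110 D2965) (tt N846 (iv F4372)) (tt N1095 (iv F5163)) (tt N531 F4228) (tt N530 (iv D2326)) (tt N1111 D2966))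
theorem Q775 : ∀ i, i < 775 → P i := stepQ 774 Q774 (allL N774 (tt N1112 D2969) (tt N531 (iv D2328)) (tt N1113 D2970) (tt N533 F4230) (tt N1110 (iv F5209)) (tt N1107 (iv F5193)) (tt N1114 D2971))
theorem Q776 : ∀ i, i < 776 → P i := stepQ 775 Q775 (allL N775 (tt N776 (iv F4235)) (tt N1115 D2972) (tt N604 F4231) (tt N534 F4232) (tt N1111 (iv F5211)) (tt N598 F4233) (tt N531 (iv D2329)))
theorem Q777 : ∀ i, i < 777 → P i := stepQ 776 Q776 (allL N776 (tt N775 F4235) (tt N1116 D2976) (tt N602 F4236) (tt N536 F4237) (tt N955 F24032) (tt N532 (iv D2331)) (tt N597 F4238))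
theorem Q778 : ∀ i, i < 778 → P i := stepQ 777 Q777 (allL N777 (tt N533 (iv D2332)) (tt N1117 D2977) (tt N1118 D2978) (tt N1112 (iv F5218)) (tt N1099 (iv F5177)) (tt N1108 (iv F5203)) (tt N1119 D2979))
theorem Q779 : ∀ i, i < 779 → P i := stepQ 778 Q778 (allL N778 (tt N1118 (iv F5224)) (tt N538 F4239) (tt N533 (iv D2333)) (tt N998 F20802) (tt N1100 (iv F5179)) (tt N1001 F20803) (tt N1013 F23529))
theorem Q780 : ∀ i, i < 780 → P i := stepQ 779 Q779 (allL N779 (tt N1119 (iv F5225)) (tt N1120 D2982) (tt N1013 F23528) (tt N1114 (iv F5219)) (tt N1101 (iv F5180)) (tt N1121 D2983) (tt N533 (iv D2334)))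
theorem Q781 : ∀ i, i < 781 → P i := stepQ 780 Q780 (allL N780 (tt N1122 D2984) (tt N534 (iv D2335)) (tt N1102 (iv F5181)) (tt N1115 (iv F5220)) (tt N1102 (iv F5182)) (tt N780 F22483) (tt N1120 (iv F5229)))
theorem Q782 : ∀ i, i < 782 → P i := stepQ 781 Q781 (allL N781 (tt N871 (iv F24231)) (tt N1119 F24204) (tt N639 F4241) (tt N592 (iv F24275)) (tt N1103 (iv F5186)) (tt N535 (iv D2337)) (tt N589 F24205))
theorem Q783 : ∀ i, i < 783 → P i := stepQ 782 Q782 (allL N782 (tt N1121 F24134) (tt N536 (iv D2338)) (tt N994 (iv F4801)) (tt N1116 (iv F5223)) (tt N1104 (iv F5187)) (tt N1119 (iv F24191)) (tt N771 F24135))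
theorem Q784 : ∀ i, i < 784 → P i := stepQ 783 Q783 (allL N783 (tt N538 F4242) (tt N1123 D2992) (tt N537 (iv D2339)) (tt N1124 D2993) (tt N832 (iv F4323)) (tt N562 F4243) (tt N832 (iv F4324)))
theorem Q785 : ∀ i, i < 785 → P i := stepQ 784 Q784 (allL N784 (tt N1124 (iv F5241)) (tt N998 F20804) (tt N996 (iv F21136)) (tt N538 (iv D2340)) (tt N1125 D2994) (tt N563 F4244) (tt N1105 (iv F5189)))
theorem Q786 : ∀ i, i < 786 → P i := stepQ 785 Q785 (allL N785 (tt N539 (iv D2341)) (tt N794 F22939) (tt N570 F4245) (tt N787 (iv F23232)) (tt N558 F4246) (tt N1126 D2996) (tt N733 F22940))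
theorem Q787 : ∀ i, i < 787 → P i := stepQ 786 Q786 (allL N786 (tt N1126 (iv F5246)) (tt N1067 (iv F5036)) (tt N572 F4247) (tt N1056 (iv F5013)) (tt N559 F4248) (tt N539 (iv D2342)) (tt N1056 F23448))
theorem Q788 : ∀ i, i < 788 → P i := stepQ 787 Q787 (allL N787 (tt N733 F23231) (tt N543 F4249) (tt N573 F4250) (tt N785 F23232) (tt N553 F4251) (tt N1127 D2999) (tt N539 (iv D2343)))
theorem Q789 : ∀ i, i < 789 → P i := stepQ 788 Q788 (allL N788 (tt N805 F4988) (tt N540 (iv D2344)) (tt N804 F4990) (tt N1020 (iv F23518)) (tt N548 F4252) (tt N1128 D3001) (tt N548 F23225))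
theorem Q790 : ∀ i, i < 790 → P i := stepQ 789 Q789 (allL N789 (tt N541 F4253) (tt N1020 (iv F23517)) (tt N649 (iv F23582)) (tt N540 (iv D2345)) (tt N725 F4254) (tt N1129 D3003) (tt N646 F23226))
theorem Q791 : ∀ i, i < 791 → P i := stepQ 790 Q790 (allL N790 (tt N542 F4256) (tt N1130 D3005) (tt N1089 (iv F5140)) (tt N1129 (iv F5266)) (tt N549 F4257) (tt N540 (iv D2346)) (tt N797 (iv F4272)))
theorem Q792 : ∀ i, i < 792 → P i := stepQ 791 Q791 (allL N791 (tt N543 F4258) (tt N550 F22622) (tt N1090 (iv F5143)) (tt N646 (iv F22936)) (tt N550 F4259) (tt N796 (iv F4269)) (tt N540 (iv D2347)))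
theorem Q793 : ∀ i, i < 793 → P i := stepQ 792 Q792 (allL N792 (tt N649 (iv F23581)) (tt N623 (iv F23596)) (tt N541 (iv D2348)) (tt N1131 D3007) (tt N727 F4261) (tt N675 F20289) (tt N645 F23236))
theorem Q794 : ∀ i, i < 794 → P i := stepQ 793 Q793 (allL N793 (tt N1129 (iv F5264)) (tt N1132 D3010) (tt N675 F20306) (tt N542 F4262) (tt N728 F4263) (tt N541 (iv D2349)) (tt N943 F23237))
theorem Q795 : ∀ i, i < 795 → P i := stepQ 794 Q794 (allL N794 (tt N646 (iv F22935)) (tt N785 (iv F22939)) (tt N645 (iv F23195)) (tt N543 F4264) (tt N729 F4265) (tt N1133 D3012) (tt N541 (iv D2350)))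
theorem Q796 : ∀ i, i < 796 → P i := stepQ 795 Q795 (allL N795 (tt N1134 D3013) (tt N542 (iv D2351)) (tt N1135 D3014) (tt N1132 (iv F5283)) (tt N551 F4266) (tt N545 F4267) (tt N1136 D3015))
theorem Q797 : ∀ i, i < 797 → P i := stepQ 796 Q796 (allL N796 (tt N797 (iv F4270)) (tt N721 (iv F23540)) (tt N1085 (iv F23538)) (tt N943 F23199) (tt N552 F4268) (tt N791 F4269) (tt N542 (iv D2352)))
theorem Q798 : ∀ i, i < 798 → P i := stepQ 797 Q797 (allL N797 (tt N796 F4270) (tt N1137 D3017) (tt N1094 (iv F5159)) (tt N1133 (iv F5290)) (tt N554 F4271) (tt N543 (iv D2353)) (tt N790 F4272))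
theorem Q799 : ∀ i, i < 799 → P i := stepQ 798 Q798 (allL N798 (tt N1138 D3018) (tt N544 (iv D2354)) (tt N1139 D3019) (tt N545 F4273) (tt N735 F4274) (tt N1132 (iv F5285)) (tt N1140 D3020))
theorem Q800 : ∀ i, i < 800 → P i := stepQ 799 Q799 (allL N799 (tt N545 (iv D2355)) (tt N1141 D3021) (tt N1142 D3022) (tt N1138 (iv F5300)) (tt N555 F4275) (tt N1134 (iv F5294)) (tt N1143 D3023))
theorem Q801 : ∀ i, i < 801 → P i := stepQ 800 Q800 (allL N800 (tt N1142 (iv F5306)) (tt N546 F4276) (tt N545 (iv D2356)) (tt N1144 D3024) (tt N556 F4277) (tt N1135 (iv F5296)) (tt N1145 D3025))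
theorem Q802 : ∀ i, i < 802 → P i := stepQ 801 Q801 (allL N801 (tt N1143 (iv F5308)) (tt N1029 (iv F4953)) (tt N1145 (iv F5312)) (tt N1140 (iv F5303)) (tt N557 F4278) (tt N1146 D3026) (tt N545 (iv D2357)))
theorem Q803 : ∀ i, i < 803 → P i := stepQ 802 Q802 (allL N802 (tt N830 (iv F4318)) (tt N1144 (iv F5311)) (tt N1043 (iv F4966)) (tt N546 (iv D2358)) (tt N1147 D3027) (tt N1105 (iv F5188)) (tt N827 (iv F4314)))
theorem Q804 : ∀ i, i < 804 → P i := stepQ 803 Q803 (allL N803 (tt N723 F4279) (tt N1136 F23918) (tt N547 (iv D2359)) (tt N1148 D3029) (tt N939 (iv F4628)) (tt N825 (iv F4311)) (tt N721 F4280))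
theorem Q805 : ∀ i, i < 805 → P i := stepQ 804 Q804 (allL N804 (tt N548 (iv D2360)) (tt N1018 (iv F4913)) (tt N788 (iv F4990)) (tt N1018 (iv F4914)) (tt N805 F4989) (tt N1149 D3030) (tt N805 (iv F23229)))
theorem Q806 : ∀ i, i < 806 → P i := stepQ 805 Q805 (allL N805 (tt N788 (iv F4988)) (tt N1045 F4987) (tt N548 (iv D2361)) (tt N1150 D3032) (tt N804 (iv F4989)) (tt N1151 D3033) (tt N804 F23229))
theorem Q807 : ∀ i, i < 807 → P i := stepQ 806 Q806 (allL N806 (tt N1149 (iv F5321)) (tt N1152 D3035) (tt N1151 (iv F5327)) (tt N1019 (iv F4915)) (tt N1128 (iv F5262)) (tt N548 (iv D2362)) (tt N1151 (iv F23589)))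
theorem Q808 : ∀ i, i < 808 → P i := stepQ 807 Q807 (allL N807 (tt N1153 D3039) (tt N549 (iv D2364)) (tt N1154 D3040) (tt N1011 (iv F4887)) (tt N1130 (iv F5272)) (tt N1152 (iv F5332)) (tt N1155 D3041))
theorem Q809 : ∀ i, i < 809 → P i := stepQ 808 Q808 (allL N808 (tt N551 (iv D2366)) (tt N1064 F23238) (tt N1156 D3046) (tt N967 F4721) (tt N1134 (iv F5293)) (tt N555 F4281) (tt N818 (iv F4294)))
theorem Q810 : ∀ i, i < 810 → P i := stepQ 809 Q809 (allL N809 (tt N1156 (iv F5337)) (tt N1001 (iv F20557)) (tt N551 (iv D2367)) (tt N936 (iv F23557)) (tt N1135 (iv F5295)) (tt N556 F4282) (tt N935 (iv F23559)))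
theorem Q811 : ∀ i, i < 811 → P i := stepQ 810 Q810 (allL N810 (tt N818 (iv F4293)) (tt N939 (iv F23560)) (tt N935 (iv F23558)) (tt N968 (iv F4723)) (tt N1136 (iv F5297)) (tt N815 (iv F4290)) (tt N551 (iv D2368)))
theorem Q812 : ∀ i, i < 812 → P i := stepQ 811 Q811 (allL N811 (tt N821 (iv F4302)) (tt N1157 D3054) (tt N630 F4286) (tt N717 F4287) (tt N1127 (iv F5257)) (tt N553 (iv D2371)) (tt N819 (iv F4299)))
theorem Q813 : ∀ i, i < 813 → P i := stepQ 812 Q812 (allL N812 (tt N1158 D3055) (tt N554 (iv D2372)) (tt N1159 D3056) (tt N1021 (iv F4919)) (tt N1137 (iv F5299)) (tt N1157 (iv F5345)) (tt N1160 D3057))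
theorem Q814 : ∀ i, i < 814 → P i := stepQ 813 Q813 (allL N813 (tt N1161 D3058) (tt N555 (iv D2373)) (tt N1162 D3059) (tt N983 (iv F4767)) (tt N1141 (iv F5305)) (tt N1063 F23468) (tt N1163 D3061))
theorem Q815 : ∀ i, i < 815 → P i := stepQ 814 Q814 (allL N814 (tt N556 F4288) (tt N1164 D3062) (tt N555 (iv D2374)) (tt N1165 D3063) (tt N1142 (iv F5307)) (tt N1156 (iv F5338)) (tt N1166 D3064))
theorem Q816 : ∀ i, i < 816 → P i := stepQ 815 Q815 (allL N815 (tt N557 F4289) (tt N1167 D3065) (tt N1166 (iv F5350)) (tt N984 (iv F4770)) (tt N1143 (iv F5309)) (tt N810 F4290) (tt N555 (iv D2375)))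
theorem Q817 : ∀ i, i < 817 → P i := stepQ 816 Q816 (allL N816 (tt N1165 (iv F5347)) (tt N563 F4291) (tt N937 F23835) (tt N556 (iv D2376)) (tt N1168 D3067) (tt N936 F23836) (tt N1169 D3068))
theorem Q818 : ∀ i, i < 818 → P i := stepQ 817 Q817 (allL N817 (tt N1166 (iv F5349)) (tt N1170 D3069) (tt N557 F4292) (tt N1169 (iv F5355)) (tt N1145 (iv F5313)) (tt N1171 D3070) (tt N556 (iv D2377)))
theorem Q819 : ∀ i, i < 819 → P i := stepQ 818 Q818 (allL N818 (tt N810 F4293) (tt N1172 D3071) (tt N1171 (iv F5358)) (tt N985 (iv F4774)) (tt N1146 (iv F5315)) (tt N557 (iv D2378)) (tt N808 F4294))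
theorem Q820 : ∀ i, i < 820 → P i := stepQ 819 Q819 (allL N819 (tt N559 F4296) (tt N1173 D3076) (tt N622 F4297) (tt N715 F4298) (tt N1126 (iv F5248)) (tt N558 (iv D2380)) (tt N811 F4299))
theorem Q821 : ∀ i, i < 821 → P i := stepQ 820 Q820 (allL N820 (tt N1174 D3077) (tt N559 (iv D2381)) (tt N1175 D3078) (tt N716 F4300) (tt N1067 (iv F5037)) (tt N560 F4301) (tt N1176 D3079))
theorem Q822 : ∀ i, i < 822 → P i := stepQ 821 Q821 (allL N821 (tt N811 F4302) (tt N1177 D3080) (tt N628 F4303) (tt N711 (iv F23814)) (tt N1056 F23449) (tt N710 F23450) (tt N559 (iv D2382)))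
theorem Q823 : ∀ i, i < 823 → P i := stepQ 822 Q822 (allL N822 (tt N560 (iv D2383)) (tt N1178 D3081) (tt N1179 D3082) (tt N718 F4306) (tt N1065 (iv F5033)) (tt N1174 (iv F5367)) (tt N1180 D3083))
theorem Q824 : ∀ i, i < 824 → P i := stepQ 823 Q823 (allL N823 (tt N1179 (iv F5373)) (tt N567 F4307) (tt N560 (iv D2384)) (tt N1181 D3084) (tt N1066 (iv F5035)) (tt N1175 (iv F5369)) (tt N1182 D3085))
theorem Q825 : ∀ i, i < 825 → P i := stepQ 824 Q824 (allL N824 (tt N1180 (iv F5374)) (tt N678 F4308) (tt N1182 (iv F5379)) (tt N720 F4309) (tt N1063 (iv F5027)) (tt N1141 (iv F23838)) (tt N560 (iv D2385)))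
theorem Q826 : ∀ i, i < 826 → P i := stepQ 825 Q825 (allL N825 (tt N939 (iv F4627)) (tt N1183 D3087) (tt N561 (iv D2386)) (tt N1184 D3088) (tt N723 F4310) (tt N803 F4311) (tt N714 F4312))
theorem Q827 : ∀ i, i < 827 → P i := stepQ 826 Q826 (allL N826 (tt N1185 D3089) (tt N562 (iv D2387)) (tt N1183 (iv F5383)) (tt N1186 D3090) (tt N831 (iv F4320)) (tt N1187 D3091) (tt N1188 D3092))
theorem Q828 : ∀ i, i < 828 → P i := stepQ 827 Q827 (allL N827 (tt N563 F4313) (tt N1186 (iv F5387)) (tt N722 F4315) (tt N562 (iv D2388)) (tt N1189 D3093) (tt N1124 (iv F5243)) (tt N802 F4314))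
theorem Q829 : ∀ i, i < 829 → P i := stepQ 828 Q828 (allL N828 (tt N722 F4316) (tt N943 F20814) (tt N563 (iv D2389)) (tt N721 F4317) (tt N1190 D3095) (tt N996 (iv F21137)) (tt N1148 (iv F5320)))
theorem Q830 : ∀ i, i < 830 → P i := stepQ 829 Q829 (allL N829 (tt N1189 (iv F5390)) (tt N1168 (iv F5354)) (tt N1190 (iv F5395)) (tt N1147 (iv F5317)) (tt N563 (iv D2390)) (tt N1125 (iv F5244)) (tt N1191 D3096))
theorem Q831 : ∀ i, i < 831 → P i := stepQ 830 Q830 (allL N830 (tt N802 F4318) (tt N1192 D3097) (tt N1148 (iv F5319)) (tt N564 F4319) (tt N1191 (iv F5398)) (tt N1193 D3098) (tt N563 (iv D2391)))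
theorem Q832 : ∀ i, i < 832 → P i := stepQ 831 Q831 (allL N831 (tt N1194 D3099) (tt N564 (iv D2392)) (tt N1044 (iv F4968)) (tt N1192 (iv F5399)) (tt N826 F4320) (tt N1195 D3100) (tt N1170 (iv F5356)))
theorem Q833 : ∀ i, i < 833 → P i := stepQ 832 Q832 (allL N832 (tt N766 F4321) (tt N1196 D3101) (tt N565 F4322) (tt N1193 (iv F5402)) (tt N783 F4323) (tt N564 (iv D2393)) (tt N783 F4324))
theorem Q834 : ∀ i, i < 834 → P i := stepQ 833 Q833 (allL N833 (tt N567 F4325) (tt N1181 F22260) (tt N566 (iv D2394)) (tt N567 (iv F22368)) (tt N858 (iv F4392)) (tt N641 F4326) (tt N684 F4327))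
theorem Q835 : ∀ i, i < 835 → P i := stepQ 834 Q834 (allL N834 (tt N877 F20747) (tt N570 (iv D2402)) (tt N910 (iv F5651)) (tt N1086 (iv F21053)) (tt N620 F4350) (tt N875 F20748) (tt N877 (iv F22819)))
theorem Q836 : ∀ i, i < 836 → P i := stepQ 835 Q835 (allL N835 (tt N571 F4351) (tt N1086 (iv F21052)) (tt N1197 D3121) (tt N570 (iv D2403)) (tt N1198 D3122) (tt N1199 D3123) (tt N767 (iv F23595)))
theorem Q837 : ∀ i, i < 837 → P i := stepQ 836 Q836 (allL N836 (tt N572 F4352) (tt N1200 D3125) (tt N1126 (iv F5247)) (tt N1199 (iv F5457)) (tt N622 F4353) (tt N570 (iv D2404)) (tt N845 (iv F4370)))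
theorem Q838 : ∀ i, i < 838 → P i := stepQ 837 Q837 (allL N837 (tt N573 F4354) (tt N727 (iv F23476)) (tt N733 F23233) (tt N767 (iv F23594)) (tt N623 F4355) (tt N843 (iv F4365)) (tt N570 (iv D2405)))
theorem Q839 : ∀ i, i < 839 → P i := stepQ 838 Q838 (allL N838 (tt N1197 (iv F5449)) (tt N725 F4356) (tt N571 (iv D2406)) (tt N724 (iv F4357)) (tt N1020 F23575) (tt N1201 D3127) (tt N724 F23576))
theorem Q840 : ∀ i, i < 840 → P i := stepQ 839 Q839 (allL N839 (tt N1198 (iv F5453)) (tt N574 F4358) (tt N1020 F23902) (tt N625 F4359) (tt N571 (iv D2407)) (tt N1202 D3129) (tt N1016 F23903))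
theorem Q841 : ∀ i, i < 841 → P i := stepQ 840 Q840 (allL N840 (tt N1199 (iv F5456)) (tt N1203 D3131) (tt N1201 (iv F5462)) (tt N572 F4360) (tt N1202 (iv F5467)) (tt N571 (iv D2408)) (tt N1106 (iv F23741)))
theorem Q842 : ∀ i, i < 842 → P i := stepQ 841 Q841 (allL N841 (tt N767 (iv F23593)) (tt N741 (iv F23958)) (tt N724 F23574) (tt N573 F4361) (tt N1016 (iv F23587)) (tt N1204 D3134) (tt N571 (iv D2409)))
theorem Q843 : ∀ i, i < 843 → P i := stepQ 842 Q842 (allL N842 (tt N1205 D3135) (tt N572 (iv D2410)) (tt N1206 D3136) (tt N1203 (iv F5470)) (tt N627 F4362) (tt N577 F4363) (tt N1207 D3137))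
theorem Q844 : ∀ i, i < 844 → P i := stepQ 843 Q843 (allL N843 (tt N845 (iv F4368)) (tt N872 (iv F23829)) (tt N1056 F23447) (tt N1106 (iv F23740)) (tt N628 F4364) (tt N837 F4365) (tt N572 (iv D2411)))
theorem Q845 : ∀ i, i < 845 → P i := stepQ 844 Q844 (allL N844 (tt N865 (iv F24210)) (tt N573 (iv D2412)) (tt N862 F23971) (tt N741 F23972) (tt N629 F4366) (tt N1208 D3140) (tt N578 F4367))
theorem Q846 : ∀ i, i < 846 → P i := stepQ 845 Q845 (allL N845 (tt N843 F4368) (tt N1209 D3141) (tt N1127 (iv F5256)) (tt N1204 (iv F5477)) (tt N630 F4369) (tt N573 (iv D2413)) (tt N836 F4370))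
theorem Q847 : ∀ i, i < 847 → P i := stepQ 846 Q846 (allL N846 (tt N599 F4371) (tt N1210 D3142) (tt N773 F4372) (tt N631 F4373) (tt N575 F4374) (tt N574 (iv D2414)) (tt N885 (iv F4460)))
theorem Q848 : ∀ i, i < 848 → P i := stepQ 847 Q847 (allL N847 (tt N600 F4375) (tt N697 F24256) (tt N654 F24257) (tt N632 F4377) (tt N576 F4378) (tt N883 (iv F4454)) (tt N574 (iv D2415)))
theorem Q849 : ∀ i, i < 849 → P i := stepQ 848 Q848 (allL N848 (tt N1211 D3144) (tt N575 (iv D2416)) (tt N1212 D3145) (tt N577 F4379) (tt N1210 (iv F5490)) (tt N1203 (iv F5471)) (tt N1213 D3146))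
theorem Q850 : ∀ i, i < 850 → P i := stepQ 849 Q849 (allL N849 (tt N1214 D3147) (tt N576 (iv D2417)) (tt N618 F24207) (tt N578 F4380) (tt N697 F24208) (tt N1215 D3149) (tt N741 F24209))
theorem Q851 : ∀ i, i < 851 → P i := stepQ 850 Q850 (allL N850 (tt N577 (iv D2418)) (tt N1216 D3150) (tt N1217 D3151) (tt N1211 (iv F5493)) (tt N635 F4381) (tt N1205 (iv F5480)) (tt N1218 D3152))
theorem Q852 : ∀ i, i < 852 → P i := stepQ 851 Q851 (allL N851 (tt N1217 (iv F5500)) (tt N580 F4382) (tt N577 (iv D2419)) (tt N1219 D3153) (tt N636 F4383) (tt N1206 (iv F5482)) (tt N1220 D3154))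
theorem Q853 : ∀ i, i < 853 → P i := stepQ 852 Q852 (allL N852 (tt N1218 (iv F5502)) (tt N585 (iv F23824)) (tt N1220 (iv F5506)) (tt N1213 (iv F5495)) (tt N637 F4384) (tt N1221 D3155) (tt N577 (iv D2420)))
theorem Q854 : ∀ i, i < 854 → P i := stepQ 853 Q853 (allL N853 (tt N578 (iv D2421)) (tt N853 F22256) (tt N868 (iv F24292)) (tt N1214 (iv F5496)) (tt N638 F4385) (tt N1222 D3157) (tt N865 (iv F24211)))
theorem Q855 : ∀ i, i < 855 → P i := stepQ 854 Q854 (allL N854 (tt N1222 (iv F5512)) (tt N896 (iv F4479)) (tt N1103 (iv F5185)) (tt N1215 (iv F5498)) (tt N639 F4386) (tt N578 (iv D2422)) (tt N1200 (iv F23933)))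
theorem Q856 : ∀ i, i < 856 → P i := stepQ 855 Q855 (allL N855 (tt N580 F4387) (tt N1223 D3159) (tt N579 (iv D2423)) (tt N1224 D3160) (tt N641 F4388) (tt N858 (iv F4393)) (tt N899 (iv F4504)))
theorem Q857 : ∀ i, i < 857 → P i := stepQ 856 Q856 (allL N856 (tt N1224 (iv F5520)) (tt N1219 (iv F5505)) (tt N1068 (iv F5040)) (tt N580 (iv D2424)) (tt N1224 F22425) (tt N1068 (iv F5038)) (tt N1225 D3162))
theorem Q858 : ∀ i, i < 858 → P i := stepQ 857 Q857 (allL N857 (tt N899 (iv F4501)) (tt N1226 D3163) (tt N581 F4389) (tt N1225 (iv F5523)) (tt N642 F4390) (tt N897 (iv F4499)) (tt N580 (iv D2425)))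
theorem Q859 : ∀ i, i < 859 → P i := stepQ 858 Q858 (allL N858 (tt N739 F4391) (tt N1227 D3164) (tt N582 (iv D2426)) (tt N1228 D3165) (tt N833 F4392) (tt N855 F4393) (tt N897 (iv F4500)))
theorem Q860 : ∀ i, i < 860 → P i := stepQ 859 Q859 (allL N859 (tt N583 (iv D2427)) (tt N877 (iv F20584)) (tt N729 F23235) (tt N769 (iv F23533)) (tt N645 F4394) (tt N881 (iv F20580)) (tt N727 (iv F23477)))
theorem Q861 : ∀ i, i < 861 → P i := stepQ 860 Q860 (allL N860 (tt N729 F23158) (tt N616 F4395) (tt N583 (iv D2428)) (tt N616 (iv F5634)) (tt N646 F4396) (tt N1050 (iv F23252)) (tt N725 (iv F23478)))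
theorem Q862 : ∀ i, i < 862 → P i := stepQ 861 Q861 (allL N861 (tt N881 (iv F20577)) (tt N1221 F23629) (tt N1050 F23630) (tt N772 (iv F23881)) (tt N648 F4398) (tt N583 (iv D2430)) (tt N890 F23631))
theorem Q863 : ∀ i, i < 863 → P i := stepQ 862 Q862 (allL N862 (tt N588 F4400) (tt N758 F23914) (tt N844 (iv F23971)) (tt N651 F4401) (tt N584 (iv D2432)) (tt N1229 D3181) (tt N764 (iv F24193)))
theorem Q864 : ∀ i, i < 864 → P i := stepQ 863 Q863 (allL N863 (tt N589 F4402) (tt N1213 F23967) (tt N923 (iv F24091)) (tt N585 F4403) (tt N1229 (iv F5559)) (tt N584 (iv D2433)) (tt N871 (iv F4424)))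
theorem Q865 : ∀ i, i < 865 → P i := stepQ 864 Q864 (allL N864 (tt N876 (iv F4933)) (tt N587 (iv D2437)) (tt N595 F4408) (tt N949 (iv F4666)) (tt N875 F4935) (tt N620 (iv F20704)) (tt N864 F22558))
theorem Q866 : ∀ i, i < 866 → P i := stepQ 865 Q865 (allL N865 (tt N844 F24210) (tt N875 (iv F4936)) (tt N588 F4409) (tt N1069 (iv F5044)) (tt N587 (iv D2438)) (tt N1200 F20339) (tt N853 F24211))
theorem Q867 : ∀ i, i < 867 → P i := stepQ 866 Q866 (allL N866 (tt N923 F24170) (tt N622 (iv F20334)) (tt N589 F4410) (tt N951 (iv F4671)) (tt N1200 (iv F20275)) (tt N587 (iv D2439)) (tt N639 F24171))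
theorem Q868 : ∀ i, i < 868 → P i := stepQ 867 Q867 (allL N867 (tt N1229 (iv F5557)) (tt N1230 D3199) (tt N1200 (iv F20274)) (tt N657 F4412) (tt N589 F4413) (tt N588 (iv D2441)) (tt N1103 (iv F23932)))
theorem Q869 : ∀ i, i < 869 → P i := stepQ 868 Q868 (allL N868 (tt N764 F24291) (tt N1231 D3201) (tt N853 F24292) (tt N658 F4414) (tt N590 F4415) (tt N1232 D3202) (tt N588 (iv D2442)))
theorem Q870 : ∀ i, i < 870 → P i := stepQ 869 Q869 (allL N869 (tt N1233 D3203) (tt N589 (iv D2443)) (tt N1173 (iv F20276)) (tt N591 F4416) (tt N1230 (iv F5587)) (tt N601 F4417) (tt N1117 (iv F22856)))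
theorem Q871 : ∀ i, i < 871 → P i := stepQ 870 Q870 (allL N870 (tt N870 F21898) (tt N590 (iv D2445)) (tt N870 F21899) (tt N593 F4420) (tt N1231 (iv F5593)) (tt N603 F24391) (tt N603 F4421))
theorem Q872 : ∀ i, i < 872 → P i := stepQ 871 Q871 (allL N871 (tt N781 F24231) (tt N604 F24232) (tt N938 F24233) (tt N594 F4423) (tt N1232 (iv F5597)) (tt N590 (iv D2446)) (tt N863 F4424))
theorem Q873 : ∀ i, i < 873 → P i := stepQ 872 Q872 (allL N872 (tt N591 (iv D2447)) (tt N843 F23829) (tt N1052 (iv F5004)) (tt N1233 (iv F5599)) (tt N663 F4425) (tt N605 F4426) (tt N893 (iv F4475)))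
theorem Q874 : ∀ i, i < 874 → P i := stepQ 873 Q873 (allL N873 (tt N893 (iv F4473)) (tt N1112 F22559) (tt N1053 (iv F5007)) (tt N1117 (iv F22854)) (tt N665 F4427) (tt N891 (iv F4470)) (tt N591 (iv D2448)))
theorem Q875 : ∀ i, i < 875 → P i := stepQ 874 Q874 (allL N874 (tt N1114 (iv F22551)) (tt N592 (iv D2449)) (tt N1234 D3214) (tt N1119 (iv F22550)) (tt N666 F4428) (tt N1116 F24137) (tt N1112 (iv F22552)))
theorem Q876 : ∀ i, i < 876 → P i := stepQ 875 Q875 (allL N875 (tt N595 (iv D2453)) (tt N865 F4936) (tt N876 F4934) (tt N751 F4435) (tt N864 (iv F4935)) (tt N834 (iv F20748)) (tt N875 F22818))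
theorem Q877 : ∀ i, i < 877 → P i := stepQ 876 Q876 (allL N876 (tt N864 F4933) (tt N596 F4436) (tt N875 (iv F4934)) (tt N1235 D3223) (tt N595 (iv D2454)) (tt N910 (iv F20847)) (tt N876 F22817))
theorem Q878 : ∀ i, i < 878 → P i := stepQ 877 Q877 (allL N877 (tt N834 (iv F20747)) (tt N859 F20584) (tt N620 (iv F20703)) (tt N752 F4437) (tt N910 (iv F20846)) (tt N595 (iv D2455)) (tt N834 F22819))
theorem Q879 : ∀ i, i < 879 → P i := stepQ 878 Q878 (allL N878 (tt N759 F4439) (tt N1235 (iv F5632)) (tt N878 F4440) (tt N596 (iv D2457)) (tt N747 F4441) (tt N1236 D3230) (tt N1237 D3231))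
theorem Q880 : ∀ i, i < 880 → P i := stepQ 879 Q879 (allL N879 (tt N773 F4442) (tt N942 (iv F20546)) (tt N599 F4443) (tt N1236 (iv F5682)) (tt N597 F4444) (tt N596 (iv D2458)) (tt N955 (iv F23689)))
theorem Q881 : ∀ i, i < 881 → P i := stepQ 880 Q880 (allL N880 (tt N654 (iv F24033)) (tt N880 F22383) (tt N600 F4446) (tt N1237 (iv F5686)) (tt N598 F4447) (tt N1111 (iv F5212)) (tt N596 (iv D2459)))
theorem Q882 : ∀ i, i < 882 → P i := stepQ 881 Q881 (allL N881 (tt N861 F20577) (tt N597 (iv D2460)) (tt N1051 F23300) (tt N753 F4448) (tt N942 F20579) (tt N859 F20580) (tt N770 (iv F23682)))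
theorem Q883 : ∀ i, i < 883 → P i := stepQ 882 Q882 (allL N882 (tt N1238 D3240) (tt N599 (iv D2462)) (tt N1239 D3241) (tt N667 F4450) (tt N601 F4451) (tt N1230 (iv F5588)) (tt N1240 D3242))
theorem Q884 : ∀ i, i < 884 → P i := stepQ 883 Q883 (allL N883 (tt N885 (iv F4457)) (tt N1241 D3243) (tt N955 F24030) (tt N668 F4452) (tt N602 F4453) (tt N847 F4454) (tt N599 (iv D2463)))
theorem Q885 : ∀ i, i < 885 → P i := stepQ 884 Q884 (allL N884 (tt N884 F22162) (tt N600 (iv D2464)) (tt N884 F22163) (tt N669 F4455) (tt N603 F4456) (tt N1231 (iv F24373)) (tt N1231 (iv F5594)))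
theorem Q886 : ∀ i, i < 886 → P i := stepQ 885 Q885 (allL N885 (tt N883 F4457) (tt N1232 F24230) (tt N1111 (iv F5210)) (tt N670 F4458) (tt N604 F4459) (tt N600 (iv D2465)) (tt N846 F4460))
theorem Q887 : ∀ i, i < 887 → P i := stepQ 886 Q886 (allL N886 (tt N601 (iv D2466)) (tt N768 (iv F20407)) (tt N1242 D3249) (tt N605 F4461) (tt N1238 (iv F5697)) (tt N1233 (iv F5600)) (tt N1243 D3250))
theorem Q888 : ∀ i, i < 888 → P i := stepQ 887 Q887 (allL N887 (tt N1242 (iv F5711)) (tt N1051 F23360) (tt N601 (iv D2467)) (tt N1055 F23361) (tt N1239 (iv F5698)) (tt N1173 F20343) (tt N1244 D3252))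
theorem Q889 : ∀ i, i < 889 → P i := stepQ 888 Q888 (allL N888 (tt N1243 (iv F5712)) (tt N1245 D3253) (tt N1244 (iv F5715)) (tt N606 F4462) (tt N1240 (iv F5700)) (tt N1246 D3254) (tt N601 (iv D2468)))
theorem Q890 : ∀ i, i < 890 → P i := stepQ 889 Q889 (allL N889 (tt N1247 D3255) (tt N602 (iv D2469)) (tt N1248 D3256) (tt N607 F4463) (tt N1241 (iv F5702)) (tt N1249 D3257) (tt N1245 (iv F5717)))
theorem Q891 : ∀ i, i < 891 → P i := stepQ 890 Q890 (allL N890 (tt N770 (iv F20409)) (tt N605 (iv D2474)) (tt N728 (iv F20411)) (tt N768 (iv F20408)) (tt N675 F4467) (tt N727 (iv F20390)) (tt N861 (iv F23631)))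
theorem Q892 : ∀ i, i < 892 → P i := stepQ 891 Q891 (allL N891 (tt N606 F4468) (tt N1205 F22816) (tt N1062 (iv F5024)) (tt N1243 (iv F5713)) (tt N677 F4469) (tt N873 F4470) (tt N605 (iv D2475)))
theorem Q893 : ∀ i, i < 893 → P i := stepQ 892 Q892 (allL N892 (tt N1250 D3273) (tt N606 (iv D2476)) (tt N1251 D3274) (tt N1245 (iv F5716)) (tt N679 F4471) (tt N1252 D3275) (tt N607 F4472))
theorem Q894 : ∀ i, i < 894 → P i := stepQ 893 Q893 (allL N893 (tt N873 F4473) (tt N1207 F23507) (tt N1064 (iv F5030)) (tt N1246 (iv F5719)) (tt N680 F4474) (tt N606 (iv D2477)) (tt N872 F4475))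
theorem Q895 : ∀ i, i < 895 → P i := stepQ 894 Q894 (allL N894 (tt N607 (iv D2478)) (tt N1253 D3277) (tt N1254 D3278) (tt N1247 (iv F5721)) (tt N681 F4476) (tt N1255 D3279) (tt N1250 (iv F5744)))
theorem Q896 : ∀ i, i < 896 → P i := stepQ 895 Q895 (allL N895 (tt N1254 (iv F5750)) (tt N609 F4477) (tt N607 (iv D2479)) (tt N1256 D3280) (tt N682 F4478) (tt N1257 D3281) (tt N1251 (iv F5746)))
theorem Q897 : ∀ i, i < 897 → P i := stepQ 896 Q896 (allL N896 (tt N1255 (iv F5752)) (tt N854 F4479) (tt N1257 (iv F5756)) (tt N1249 (iv F5723)) (tt N683 F4480) (tt N607 (iv D2480)) (tt N1209 (iv F23400)))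
theorem Q898 : ∀ i, i < 898 → P i := stepQ 897 Q897 (allL N897 (tt N609 F4497) (tt N1258 D3298) (tt N608 (iv D2488)) (tt N1259 D3299) (tt N684 F4498) (tt N857 F4499) (tt N858 F4500))
theorem Q899 : ∀ i, i < 899 → P i := stepQ 898 Q898 (allL N898 (tt N1259 (iv F5788)) (tt N1256 (iv F5755)) (tt N1225 (iv F5522)) (tt N609 (iv D2489)) (tt N1259 F22650) (tt N1260 D3301) (tt N1068 (iv F5039)))
theorem Q900 : ∀ i, i < 900 → P i := stepQ 899 Q899 (allL N899 (tt N857 F4501) (tt N1261 D3302) (tt N610 F4502) (tt N1260 (iv F5794)) (tt N685 F4503) (tt N609 (iv D2490)) (tt N855 F4504))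
theorem Q901 : ∀ i, i < 901 → P i := stepQ 900 Q900 (allL N900 (tt N686 F4507) (tt N904 F24284) (tt N612 F4508) (tt N686 (iv F24371)) (tt N686 F4509) (tt N686 F4510) (tt N611 (iv D2492)))
theorem Q902 : ∀ i, i < 902 → P i := stepQ 901 Q901 (allL N901 (tt N689 F4522) (tt N614 (iv D2496)) (tt N615 F4520) (tt N901 F4521) (tt N901 F24281) (tt N689 (iv F4524)) (tt N614 (iv F4523)))
theorem Q903 : ∀ i, i < 903 → P i := stepQ 902 Q902 (allL N902 (tt N617 (iv D2509)) (tt N1262 D3326) (tt N1263 D3327) (tt N693 F4557) (tt N693 F4558) (tt N1075 (iv F23155)) (tt N909 F22844))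
theorem Q904 : ∀ i, i < 904 → P i := stepQ 903 Q903 (allL N903 (tt N1263 (iv F5860)) (tt N1220 F24145) (tt N617 (iv D2510)) (tt N1264 D3329) (tt N694 F4559) (tt N1076 (iv F23156)) (tt N1226 (iv F24326)))
theorem Q905 : ∀ i, i < 905 → P i := stepQ 904 Q904 (allL N904 (tt N909 F22842) (tt N900 (iv F24284)) (tt N1226 (iv F24324)) (tt N695 F4560) (tt N695 F4561) (tt N907 F22843) (tt N617 (iv D2511)))
theorem Q906 : ∀ i, i < 906 → P i := stepQ 905 Q905 (allL N905 (tt N618 (iv D2512)) (tt N1265 D3332) (tt N1214 (iv F24315)) (tt N696 F4562) (tt N696 F4563) (tt N1073 (iv F22830)) (tt N740 (iv F22831)))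
theorem Q907 : ∀ i, i < 907 → P i := stepQ 906 Q906 (allL N906 (tt N1073 (iv F22829)) (tt N909 (iv F4570)) (tt N1215 F24206) (tt N698 F4565) (tt N698 F4566) (tt N618 (iv D2514)) (tt N1070 (iv F22832)))
theorem Q908 : ∀ i, i < 908 → P i := stepQ 907 Q907 (allL N907 (tt N619 (iv D2515)) (tt N701 (iv F22876)) (tt N1266 D3339) (tt N701 F4567) (tt N701 F4568) (tt N904 (iv F22843)) (tt N1075 (iv F5086)))
theorem Q909 : ∀ i, i < 909 → P i := stepQ 908 Q908 (allL N908 (tt N1266 (iv F5889)) (tt N1234 (iv F5613)) (tt N619 (iv D2516)) (tt N1234 (iv F23159)) (tt N702 F4569) (tt N1267 D3342) (tt N1076 (iv F5088)))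
theorem Q910 : ∀ i, i < 910 → P i := stepQ 909 Q909 (allL N909 (tt N904 (iv F22842)) (tt N906 F4570) (tt N1267 (iv F5903)) (tt N703 F4571) (tt N703 F4572) (tt N619 (iv D2517)) (tt N902 (iv F22844)))
theorem Q911 : ∀ i, i < 911 → P i := stepQ 910 Q910 (allL N910 (tt N620 (iv D2521)) (tt N645 F4581) (tt N834 F5651) (tt N1268 D3349) (tt N877 F20846) (tt N876 F20847) (tt N620 F22889))
theorem Q912 : ∀ i, i < 912 → P i := stepQ 911 Q911 (allL N911 (tt N1268 (iv F5923)) (tt N621 F4582) (tt N1269 D3355) (tt N620 (iv D2523)) (tt N1270 D3356) (tt N949 F20488) (tt N1268 F22724))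
theorem Q913 : ∀ i, i < 913 → P i := stepQ 912 Q912 (allL N912 (tt N624 F4583) (tt N1131 (iv F5275)) (tt N621 (iv D2526)) (tt N623 F23714) (tt N1271 D3363) (tt N919 (iv F23760)) (tt N621 (iv F23872)))
theorem Q914 : ∀ i, i < 914 → P i := stepQ 913 Q913 (allL N913 (tt N625 F4584) (tt N1270 (iv F5937)) (tt N1271 (iv F5947)) (tt N1198 (iv F5455)) (tt N621 (iv D2527)) (tt N1272 D3366) (tt N1271 F24169))
theorem Q915 : ∀ i, i < 915 → P i := stepQ 914 Q914 (allL N914 (tt N626 F4585) (tt N951 F20272) (tt N919 (iv F23759)) (tt N622 F4586) (tt N1272 (iv F5954)) (tt N621 (iv D2528)) (tt N916 F23756))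
theorem Q916 : ∀ i, i < 916 → P i := stepQ 915 Q915 (allL N915 (tt N1271 (iv F5945)) (tt N655 F4590) (tt N625 F4591) (tt N1016 (iv F5048)) (tt N624 (iv D2533)) (tt N1273 D3379) (tt N625 (iv F24087)))
theorem Q917 : ∀ i, i < 917 → P i := stepQ 916 Q916 (allL N916 (tt N919 (iv F23757)) (tt N1274 D3381) (tt N626 F4592) (tt N630 (iv F23763)) (tt N1273 (iv F5966)) (tt N624 (iv D2534)) (tt N914 (iv F23756)))
theorem Q918 : ∀ i, i < 918 → P i := stepQ 917 Q917 (allL N917 (tt N1272 (iv F5953)) (tt N1275 D3385) (tt N1273 (iv F5965)) (tt N1202 (iv F5466)) (tt N626 F4594) (tt N625 (iv D2536)) (tt N1276 D3386))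
theorem Q919 : ∀ i, i < 919 → P i := stepQ 918 Q918 (allL N918 (tt N1277 D3389) (tt N626 (iv D2538)) (tt N673 (iv F23700)) (tt N627 F4596) (tt N1275 (iv F5976)) (tt N633 F4597) (tt N672 F23320))
theorem Q920 : ∀ i, i < 920 → P i := stepQ 919 Q919 (allL N919 (tt N916 F23757) (tt N963 F23758) (tt N914 F23759) (tt N628 F4598) (tt N1276 (iv F5978)) (tt N912 F23760) (tt N626 (iv D2539)))
theorem Q921 : ∀ i, i < 921 → P i := stepQ 920 Q920 (allL N920 (tt N627 (iv D2542)) (tt N677 F22941) (tt N1169 (iv F23976)) (tt N1277 (iv F5985)) (tt N1205 (iv F5479)) (tt N635 F4605) (tt N937 (iv F4622)))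
theorem Q922 : ∀ i, i < 922 → P i := stepQ 921 Q921 (allL N921 (tt N1169 (iv F23975)) (tt N1175 (iv F5368)) (tt N627 (iv D2543)) (tt N1166 (iv F23928)) (tt N1206 (iv F5481)) (tt N636 F4606) (tt N1165 F23894))
theorem Q923 : ∀ i, i < 923 → P i := stepQ 922 Q922 (allL N922 (tt N937 (iv F4621)) (tt N680 (iv F23213)) (tt N1165 (iv F23553)) (tt N672 F23209) (tt N1207 (iv F5483)) (tt N934 (iv F4618)) (tt N627 (iv D2544)))
theorem Q924 : ∀ i, i < 924 → P i := stepQ 923 Q923 (allL N923 (tt N866 (iv F24170)) (tt N986 F24090) (tt N863 F24091) (tt N656 F24092) (tt N1208 (iv F5487)) (tt N629 (iv D2547)) (tt N938 (iv F4624)))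
theorem Q925 : ∀ i, i < 925 → P i := stepQ 924 Q924 (allL N924 (tt N988 F23393) (tt N630 (iv D2548)) (tt N1278 D3408) (tt N1274 F23394) (tt N1209 (iv F5488)) (tt N986 (iv F23762)) (tt N683 (iv F23564)))
theorem Q926 : ∀ i, i < 926 → P i := stepQ 925 Q925 (allL N925 (tt N1279 D3410) (tt N631 (iv D2549)) (tt N1280 D3411) (tt N1210 (iv F5489)) (tt N633 F4608) (tt N1275 (iv F5977)) (tt N1281 D3412))
theorem Q927 : ∀ i, i < 927 → P i := stepQ 926 Q926 (allL N926 (tt N1282 D3413) (tt N632 (iv D2550)) (tt N658 (iv F24289)) (tt N697 (iv F24293)) (tt N634 F4609) (tt N1283 D3415) (tt N655 F24096))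
theorem Q928 : ∀ i, i < 928 → P i := stepQ 927 Q927 (allL N927 (tt N633 (iv D2551)) (tt N1284 D3416) (tt N965 F23051) (tt N635 F4610) (tt N1279 (iv F6003)) (tt N1277 (iv F5986)) (tt N964 F23052))
theorem Q929 : ∀ i, i < 929 → P i := stepQ 928 Q928 (allL N928 (tt N965 F23048) (tt N672 F4611) (tt N633 (iv D2552)) (tt N680 F23049) (tt N1280 (iv F6005)) (tt N673 (iv F23061)) (tt N963 F23050))
theorem Q930 : ∀ i, i < 930 → P i := stepQ 929 Q929 (allL N929 (tt N964 F23057) (tt N652 (iv F23380)) (tt N963 F23058) (tt N637 F4612) (tt N1281 (iv F6006)) (tt N978 (iv F23322)) (tt N633 (iv D2553)))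
theorem Q931 : ∀ i, i < 931 → P i := stepQ 930 Q930 (allL N930 (tt N634 (iv D2554)) (tt N930 F22074) (tt N653 (iv F24290)) (tt N638 F4613) (tt N1282 (iv F6007)) (tt N958 F24111) (tt N650 (iv F24270)))
theorem Q932 : ∀ i, i < 932 → P i := stepQ 931 Q931 (allL N931 (tt N958 (iv F24088)) (tt N982 F23406) (tt N662 (iv F23781)) (tt N639 F4615) (tt N1283 (iv F6010)) (tt N634 (iv D2556)) (tt N951 (iv F24086)))
theorem Q933 : ∀ i, i < 933 → P i := stepQ 932 Q932 (allL N932 (tt N1285 D3428) (tt N635 (iv D2557)) (tt N1286 D3429) (tt N1284 (iv F6011)) (tt N1216 (iv F5499)) (tt N969 F22888) (tt N1287 D3431))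
theorem Q934 : ∀ i, i < 934 → P i := stepQ 933 Q933 (allL N933 (tt N636 F4616) (tt N1288 D3432) (tt N635 (iv D2558)) (tt N1171 (iv F23845)) (tt N1217 (iv F5501)) (tt N1169 (iv F23977)) (tt N1289 D3434))
theorem Q935 : ∀ i, i < 935 → P i := stepQ 934 Q934 (allL N934 (tt N637 F4617) (tt N988 (iv F22757)) (tt N1289 (iv F6034)) (tt N964 F23060) (tt N1218 (iv F5503)) (tt N922 F4618) (tt N635 (iv D2559)))
theorem Q936 : ∀ i, i < 936 → P i := stepQ 935 Q935 (allL N935 (tt N1171 (iv F23844)) (tt N641 (iv F22121)) (tt N810 F23558) (tt N636 (iv D2560)) (tt N1223 (iv F21949)) (tt N1166 (iv F23929)) (tt N809 F23559))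
theorem Q937 : ∀ i, i < 937 → P i := stepQ 936 Q936 (allL N936 (tt N1289 (iv F6033)) (tt N694 (iv F23922)) (tt N637 F4620) (tt N809 F23557) (tt N1220 (iv F5507)) (tt N816 (iv F23836)) (tt N636 (iv D2561)))
theorem Q938 : ∀ i, i < 938 → P i := stepQ 937 Q937 (allL N937 (tt N922 F4621) (tt N648 F23551) (tt N816 (iv F23835)) (tt N978 F23552) (tt N1221 (iv F5509)) (tt N637 (iv D2562)) (tt N920 F4622))
theorem Q939 : ∀ i, i < 939 → P i := stepQ 938 Q938 (allL N938 (tt N639 F4623) (tt N1290 D3446) (tt N871 (iv F24233)) (tt N958 F24113) (tt N1222 (iv F5513)) (tt N638 (iv D2564)) (tt N923 F4624))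
theorem Q940 : ∀ i, i < 940 → P i := stepQ 939 Q939 (allL N939 (tt N825 F4627) (tt N810 F23560) (tt N640 (iv D2566)) (tt N1291 D3449) (tt N803 F4628) (tt N723 F4629) (tt N754 F4630))
theorem Q941 : ∀ i, i < 941 → P i := stepQ 940 Q940 (allL N940 (tt N1014 (iv F24276)) (tt N642 (iv D2572)) (tt N695 (iv F24235)) (tt N994 F22424) (tt N1226 (iv F5524)) (tt N1012 (iv F24296)) (tt N694 F24194))
theorem Q942 : ∀ i, i < 942 → P i := stepQ 941 Q941 (allL N941 (tt N647 F4652) (tt N1268 (iv F5924)) (tt N1292 D3479) (tt N645 (iv D2583)) (tt N1293 D3480) (tt N1294 D3481) (tt N1131 (iv F23328)))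
theorem Q943 : ∀ i, i < 943 → P i := stepQ 942 Q942 (allL N942 (tt N648 F4653) (tt N879 F20546) (tt N1133 (iv F23198)) (tt N1294 (iv F6093)) (tt N881 (iv F20579)) (tt N645 (iv D2584)) (tt N948 (iv F4665)))
theorem Q944 : ∀ i, i < 944 → P i := stepQ 943 Q943 (allL N943 (tt N1133 (iv F23196)) (tt N828 (iv F20814)) (tt N648 F4656) (tt N796 (iv F23199)) (tt N1050 (iv F23251)) (tt N646 (iv D2587)) (tt N793 (iv F23237)))
theorem Q945 : ∀ i, i < 945 → P i := stepQ 944 Q944 (allL N944 (tt N1292 (iv F6090)) (tt N1295 D3492) (tt N647 (iv D2589)) (tt N1296 D3493) (tt N1296 F6112) (tt N1297 D3494) (tt N1298 D3495))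
theorem Q946 : ∀ i, i < 946 → P i := stepQ 945 Q945 (allL N945 (tt N1293 (iv F6091)) (tt N651 F4658) (tt N1296 (iv F6111)) (tt N758 (iv F23536)) (tt N647 (iv D2590)) (tt N1299 D3496) (tt N756 (iv F23705)))
theorem Q947 : ∀ i, i < 947 → P i := stepQ 946 Q946 (allL N946 (tt N1294 (iv F6092)) (tt N978 F20332) (tt N1297 (iv F6113)) (tt N648 F4659) (tt N1299 (iv F6115)) (tt N647 (iv D2591)) (tt N977 (iv F23605)))
theorem Q948 : ∀ i, i < 948 → P i := stepQ 947 Q947 (allL N947 (tt N1131 (iv F23327)) (tt N759 (iv F23706)) (tt N1298 (iv F6114)) (tt N649 F4660) (tt N756 (iv F23704)) (tt N1300 D3501) (tt N647 (iv D2592)))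
theorem Q949 : ∀ i, i < 949 → P i := stepQ 948 Q948 (allL N948 (tt N675 (iv F23603)) (tt N1285 (iv F23691)) (tt N1129 F23301) (tt N1300 (iv F6124)) (tt N770 (iv F23681)) (tt N649 (iv D2596)) (tt N942 F4665))
theorem Q950 : ∀ i, i < 950 → P i := stepQ 949 Q949 (allL N949 (tt N1235 (iv F5631)) (tt N650 (iv D2597)) (tt N1295 (iv F6110)) (tt N864 F4666) (tt N1301 D3510) (tt N911 (iv F20488)) (tt N949 F22459))
theorem Q951 : ∀ i, i < 951 → P i := stepQ 950 Q950 (allL N950 (tt N655 F4667) (tt N1301 (iv F6131)) (tt N651 F4668) (tt N1015 F5046) (tt N650 (iv D2598)) (tt N1302 D3513) (tt N1282 (iv F24267)))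
theorem Q952 : ∀ i, i < 952 → P i := stepQ 951 Q951 (allL N951 (tt N656 F4669) (tt N914 (iv F20272)) (tt N652 F4670) (tt N866 F4671) (tt N1302 (iv F6137)) (tt N650 (iv D2599)) (tt N931 F24086))
theorem Q953 : ∀ i, i < 953 → P i := stepQ 952 Q952 (allL N952 (tt N657 F4675) (tt N1281 F23751) (tt N1302 (iv F6136)) (tt N1229 (iv F5558)) (tt N652 F4676) (tt N651 (iv D2601)) (tt N962 (iv F4708)))
theorem Q954 : ∀ i, i < 954 → P i := stepQ 953 Q953 (allL N953 (tt N658 F4677) (tt N761 (iv F24268)) (tt N1282 (iv F24265)) (tt N764 (iv F24192)) (tt N653 F4678) (tt N960 (iv F4703)) (tt N651 (iv D2602)))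
theorem Q955 : ∀ i, i < 955 → P i := stepQ 954 Q954 (allL N954 (tt N1237 (iv F24259)) (tt N653 (iv D2604)) (tt N954 F22330) (tt N654 F4680) (tt N761 (iv F24269)) (tt N1303 D3524) (tt N759 F24058))
theorem Q956 : ∀ i, i < 956 → P i := stepQ 955 Q955 (allL N955 (tt N1111 (iv F24029)) (tt N972 (iv F4726)) (tt N883 (iv F24030)) (tt N1303 (iv F6148)) (tt N776 (iv F24032)) (tt N654 (iv D2610)) (tt N879 F23689))
theorem Q957 : ∀ i, i < 957 → P i := stepQ 956 Q956 (allL N956 (tt N1302 (iv F6135)) (tt N1304 D3541) (tt N657 F4691) (tt N1017 (iv F5049)) (tt N656 F4692) (tt N655 (iv D2615)) (tt N1305 D3542))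
theorem Q958 : ∀ i, i < 958 → P i := stepQ 957 Q957 (allL N957 (tt N980 (iv F22733)) (tt N656 (iv D2617)) (tt N1306 D3546) (tt N986 (iv F22731)) (tt N1304 (iv F6173)) (tt N1274 (iv F5969)) (tt N981 (iv F22734)))
theorem Q959 : ∀ i, i < 959 → P i := stepQ 958 Q958 (allL N958 (tt N931 F24088) (tt N1307 D3548) (tt N660 F4695) (tt N938 (iv F24113)) (tt N1305 (iv F6175)) (tt N930 (iv F24111)) (tt N656 (iv D2618)))
theorem Q960 : ∀ i, i < 960 → P i := stepQ 959 Q959 (allL N959 (tt N1308 D3553) (tt N657 (iv D2621)) (tt N1309 D3554) (tt N1230 (iv F5586)) (tt N659 F4700) (tt N667 F4701) (tt N1310 D3555))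
theorem Q961 : ∀ i, i < 961 → P i := stepQ 960 Q960 (allL N960 (tt N962 (iv F4706)) (tt N1311 D3556) (tt N1305 (iv F6174)) (tt N1103 F24203) (tt N660 F4702) (tt N953 F4703) (tt N657 (iv D2622)))
theorem Q962 : ∀ i, i < 962 → P i := stepQ 961 Q961 (allL N961 (tt N961 F22243) (tt N658 (iv D2623)) (tt N669 (iv F24380)) (tt N1231 (iv F5592)) (tt N661 F4704) (tt N669 (iv F24381)) (tt N669 F4705))
theorem Q963 : ∀ i, i < 963 → P i := stepQ 962 Q962 (allL N962 (tt N960 F4706) (tt N670 (iv F24286)) (tt N1283 F24097) (tt N1232 (iv F5596)) (tt N662 F4707) (tt N658 (iv D2624)) (tt N952 F4708))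
theorem Q964 : ∀ i, i < 964 → P i := stepQ 963 Q963 (allL N963 (tt N659 (iv D2625)) (tt N919 (iv F23758)) (tt N929 (iv F23058)) (tt N663 F4709) (tt N1308 (iv F6184)) (tt N671 F4710) (tt N928 (iv F23050)))
theorem Q965 : ∀ i, i < 965 → P i := stepQ 964 Q964 (allL N964 (tt N929 (iv F23057)) (tt N1306 (iv F6182)) (tt N659 (iv D2626)) (tt N934 (iv F23060)) (tt N1309 (iv F6186)) (tt N672 F4711) (tt N927 (iv F23052)))
theorem Q966 : ∀ i, i < 966 → P i := stepQ 965 Q965 (allL N965 (tt N928 (iv F23048)) (tt N1312 D3565) (tt N927 (iv F23051)) (tt N665 F4712) (tt N1310 (iv F6188)) (tt N979 (iv F4742)) (tt N659 (iv D2627)))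
theorem Q967 : ∀ i, i < 967 → P i := stepQ 966 Q966 (allL N966 (tt N1313 D3566) (tt N660 (iv D2628)) (tt N1314 D3567) (tt N666 F4713) (tt N1311 (iv F6189)) (tt N1315 D3568) (tt N1312 (iv F6202)))
theorem Q968 : ∀ i, i < 968 → P i := stepQ 967 Q967 (allL N967 (tt N664 F4719) (tt N1316 D3581) (tt N663 (iv D2634)) (tt N808 (iv F4721)) (tt N1052 (iv F5005)) (tt N676 F4720) (tt N985 (iv F4775)))
theorem Q969 : ∀ i, i < 969 → P i := stepQ 968 Q968 (allL N968 (tt N985 (iv F4772)) (tt N1291 (iv F23214)) (tt N665 F4722) (tt N810 F4723) (tt N1053 (iv F5008)) (tt N984 (iv F4771)) (tt N664 (iv D2635)))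
theorem Q970 : ∀ i, i < 970 → P i := stepQ 969 Q969 (allL N969 (tt N1110 (iv F22885)) (tt N665 (iv D2636)) (tt N1317 D3584) (tt N1312 (iv F6201)) (tt N1112 F22563) (tt N932 (iv F22888)) (tt N666 F4724))
theorem Q971 : ∀ i, i < 971 → P i := stepQ 970 Q970 (allL N970 (tt N666 (iv D2637)) (tt N1318 D3586) (tt N1319 D3587) (tt N1313 (iv F6203)) (tt N1114 F22562) (tt N1287 (iv F22862)) (tt N1110 (iv F22886)))
theorem Q972 : ∀ i, i < 972 → P i := stepQ 971 Q971 (allL N971 (tt N1319 (iv F6222)) (tt N702 F4725) (tt N666 (iv D2638)) (tt N1320 D3589) (tt N1234 (iv F5614)) (tt N1321 D3590) (tt N1317 (iv F6221)))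
theorem Q973 : ∀ i, i < 973 → P i := stepQ 972 Q972 (allL N972 (tt N1287 (iv F22860)) (tt N955 F4726) (tt N1321 (iv F6226)) (tt N1315 (iv F6205)) (tt N1116 F23935) (tt N666 (iv D2639)) (tt N1285 (iv F22863)))
theorem Q974 : ∀ i, i < 974 → P i := stepQ 973 Q973 (allL N973 (tt N667 (iv D2645)) (tt N1322 D3605) (tt N1323 D3606) (tt N1238 (iv F5696)) (tt N671 F4730) (tt N1308 (iv F6185)) (tt N1324 D3607))
theorem Q975 : ∀ i, i < 975 → P i := stepQ 974 Q974 (allL N974 (tt N1323 (iv F6242)) (tt N1280 (iv F6004)) (tt N667 (iv D2646)) (tt N1325 D3608) (tt N672 F4731) (tt N1309 (iv F6187)) (tt N1275 (iv F23389)))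
theorem Q976 : ∀ i, i < 976 → P i := stepQ 975 Q975 (allL N975 (tt N1324 (iv F6244)) (tt N1326 D3610) (tt N1275 (iv F23388)) (tt N1240 (iv F5699)) (tt N673 F4732) (tt N1280 (iv F23374)) (tt N667 (iv D2647)))
theorem Q977 : ∀ i, i < 977 → P i := stepQ 976 Q976 (allL N976 (tt N1327 D3612) (tt N668 (iv D2648)) (tt N1328 D3613) (tt N1241 (iv F5701)) (tt N674 F4733) (tt N1328 (iv F23403)) (tt N1326 (iv F6250)))
theorem Q978 : ∀ i, i < 978 → P i := stepQ 977 Q977 (allL N977 (tt N1300 (iv F23690)) (tt N671 (iv D2653)) (tt N1329 D3626) (tt N675 F4738) (tt N1322 (iv F6241)) (tt N1131 (iv F20255)) (tt N946 F23605))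
theorem Q979 : ∀ i, i < 979 → P i := stepQ 978 Q978 (allL N978 (tt N672 F4739) (tt N946 (iv F20332)) (tt N671 (iv D2654)) (tt N937 (iv F23552)) (tt N1323 (iv F6243)) (tt N929 F23322) (tt N1277 (iv F23379)))
theorem Q980 : ∀ i, i < 980 → P i := stepQ 979 Q979 (allL N979 (tt N673 F4740) (tt N1277 F23053) (tt N1277 (iv F23378)) (tt N677 F4741) (tt N1324 (iv F6245)) (tt N965 F4742) (tt N671 (iv D2655)))
theorem Q981 : ∀ i, i < 981 → P i := stepQ 980 Q980 (allL N980 (tt N957 F22733) (tt N673 (iv D2658)) (tt N1274 (iv F23075)) (tt N679 F4744) (tt N1326 (iv F6249)) (tt N1306 F23387) (tt N674 F4745))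
theorem Q982 : ∀ i, i < 982 → P i := stepQ 981 Q981 (allL N981 (tt N674 (iv D2660)) (tt N1330 D3640) (tt N1331 D3641) (tt N681 F4749) (tt N1327 (iv F6254)) (tt N1331 F23093) (tt N957 F22734))
theorem Q983 : ∀ i, i < 983 → P i := stepQ 982 Q982 (allL N982 (tt N1331 (iv F6293)) (tt N931 (iv F23406)) (tt N674 (iv D2661)) (tt N683 (iv F23407)) (tt N1328 (iv F6255)) (tt N674 F23094) (tt N1274 F23095))
theorem Q984 : ∀ i, i < 984 → P i := stepQ 983 Q983 (allL N983 (tt N1332 D3678) (tt N676 (iv D2677)) (tt N1132 (iv F20403)) (tt N813 F4767) (tt N1061 (iv F5022)) (tt N1139 (iv F20398)) (tt N1333 D3680))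
theorem Q985 : ∀ i, i < 985 → P i := stepQ 984 Q984 (allL N984 (tt N678 F4768) (tt N1334 D3681) (tt N677 F4769) (tt N815 F4770) (tt N1062 (iv F5025)) (tt N968 F4771) (tt N676 (iv D2678)))
theorem Q986 : ∀ i, i < 986 → P i := stepQ 985 Q985 (allL N985 (tt N968 F4772) (tt N1134 (iv F23555)) (tt N680 F4773) (tt N818 F4774) (tt N1064 (iv F5031)) (tt N678 (iv D2680)) (tt N967 F4775))
theorem Q987 : ∀ i, i < 987 → P i := stepQ 986 Q986 (allL N986 (tt N679 (iv D2681)) (tt N923 (iv F24090)) (tt N1335 D3687) (tt N957 F22731) (tt N1250 (iv F5743)) (tt N924 F23762) (tt N681 F4776))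
theorem Q988 : ∀ i, i < 988 → P i := stepQ 987 Q987 (allL N987 (tt N1335 (iv F6346)) (tt N1182 (iv F5378)) (tt N679 (iv D2682)) (tt N1336 D3688) (tt N1251 (iv F5745)) (tt N1337 D3689) (tt N682 F4777))
theorem Q989 : ∀ i, i < 989 → P i := stepQ 988 Q988 (allL N988 (tt N924 (iv F23393)) (tt N934 F22757) (tt N1337 (iv F6349)) (tt N1306 (iv F23065)) (tt N1252 (iv F5747)) (tt N679 (iv D2683)) (tt N991 (iv F4780)))
theorem Q990 : ∀ i, i < 990 → P i := stepQ 989 Q989 (allL N989 (tt N1318 (iv F23938)) (tt N681 (iv D2685)) (tt N1338 D3695) (tt N1330 (iv F6292)) (tt N1253 (iv F5749)) (tt N1318 (iv F23941)) (tt N1290 (iv F24221)))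
theorem Q991 : ∀ i, i < 991 → P i := stepQ 990 Q990 (allL N990 (tt N682 F4778) (tt N1339 D3698) (tt N681 (iv D2686)) (tt N1340 D3699) (tt N1254 (iv F5751)) (tt N1341 D3700) (tt N1335 (iv F6347)))
theorem Q992 : ∀ i, i < 992 → P i := stepQ 991 Q991 (allL N991 (tt N683 F4779) (tt N1287 (iv F23566)) (tt N1341 (iv F6354)) (tt N1331 F23392) (tt N1255 (iv F5753)) (tt N681 (iv D2687)) (tt N988 F4780))
theorem Q993 : ∀ i, i < 993 → P i := stepQ 992 Q992 (allL N992 (tt N1340 (iv F6352)) (tt N684 F22525) (tt N1258 F23139) (tt N682 (iv D2688)) (tt N1258 (iv F22652)) (tt N1342 D3704) (tt N1336 (iv F6348)))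
theorem Q994 : ∀ i, i < 994 → P i := stepQ 993 Q993 (allL N993 (tt N1341 (iv F6353)) (tt N1343 D3705) (tt N683 F4782) (tt N1342 (iv F6357)) (tt N1257 (iv F5757)) (tt N682 (iv D2689)) (tt N1278 F23778))
theorem Q995 : ∀ i, i < 995 → P i := stepQ 994 Q994 (allL N994 (tt N1344 D3751) (tt N685 (iv D2711)) (tt N782 F4801) (tt N940 (iv F22424)) (tt N1261 (iv F5797)) (tt N1343 (iv F6359)) (tt N1001 F23923))
theorem Q996 : ∀ i, i < 996 → P i := stepQ 995 Q995 (allL N995 (tt N995 F4842) (tt N995 F4843) (tt N995 F4844) (tt N995 F4845) (tt N995 F24395) (tt N688 (iv D2730)) (tt N995 F4846))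
theorem Q997 : ∀ i, i < 997 → P i := stepQ 996 Q996 (allL N996 (tt N1030 (iv F21456)) (tt N691 (iv D2744)) (tt N784 F21136) (tt N754 (iv F21458)) (tt N1054 (iv F23250)) (tt N828 F21137) (tt N1291 (iv F21459)))
theorem Q998 : ∀ i, i < 998 → P i := stepQ 997 Q997 (allL N997 (tt N692 (iv D2748)) (tt N1345 D3811) (tt N1346 D3812) (tt N1075 F23183) (tt N1075 F23184) (tt N693 F4869) (tt N701 F23185))
theorem Q999 : ∀ i, i < 999 → P i := stepQ 998 Q998 (allL N998 (tt N1346 (iv F6495)) (tt N784 (iv F20804)) (tt N692 (iv D2749)) (tt N778 (iv F20802)) (tt N1076 F23186) (tt N694 F4870) (tt N702 F23187))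
theorem Q1000 : ∀ i, i < 1000 → P i := stepQ 999 Q999 (allL N999 (tt N1079 (iv F23490)) (tt N693 (iv D2756)) (tt N1347 D3823) (tt N1262 (iv F5858)) (tt N1262 (iv F5859)) (tt N1024 (iv F23488)) (tt N1077 F23207))
theorem Q1001 : ∀ i, i < 1001 → P i := stepQ 1000 Q1000 (allL N1000 (tt N694 F4873) (tt N1348 D3825) (tt N693 (iv D2757)) (tt N1349 D3826) (tt N1263 (iv F5861)) (tt N1346 (iv F6496)) (tt N1014 F23208))
theorem Q1002 : ∀ i, i < 1002 → P i := stepQ 1001 Q1001 (allL N1001 (tt N1349 (iv F6542)) (tt N809 F20557) (tt N771 (iv F20800)) (tt N694 (iv D2759)) (tt N1350 D3829) (tt N778 (iv F20803)) (tt N994 (iv F23923)))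
theorem Q1003 : ∀ i, i < 1003 → P i := stepQ 1002 Q1002 (allL N1002 (tt N1002 F4879) (tt N696 (iv D2762)) (tt N1002 F22866) (tt N1265 (iv F5873)) (tt N1265 (iv F5874)) (tt N1265 F22867) (tt N1265 F6513))
theorem Q1004 : ∀ i, i < 1004 → P i := stepQ 1003 Q1003 (allL N1003 (tt N697 F4880) (tt N1003 F22693) (tt N696 (iv D2763)) (tt N1282 F24271) (tt N1214 (iv F24316)) (tt N1351 D3837) (tt N1015 F22695))
theorem Q1005 : ∀ i, i < 1005 → P i := stepQ 1004 Q1004 (allL N1004 (tt N698 F4881) (tt N1073 (iv F6510)) (tt N1351 (iv F6555)) (tt N1073 F22868) (tt N1073 F22869) (tt N696 (iv D2764)) (tt N706 (iv F22875)))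
theorem Q1006 : ∀ i, i < 1006 → P i := stepQ 1005 Q1005 (allL N1005 (tt N1351 (iv F6554)) (tt N1352 D3841) (tt N698 F4883) (tt N1283 (iv F24089)) (tt N1215 F24065) (tt N697 (iv D2766)) (tt N1353 D3842))
theorem Q1007 : ∀ i, i < 1007 → P i := stepQ 1006 Q1006 (allL N1006 (tt N706 (iv F22874)) (tt N1077 (iv F6577)) (tt N1353 (iv F6559)) (tt N1070 F22870) (tt N1070 F22871) (tt N704 F22872) (tt N698 (iv D2767)))
theorem Q1008 : ∀ i, i < 1008 → P i := stepQ 1007 Q1007 (allL N1007 (tt N699 (iv D2768)) (tt N1079 F23494) (tt N1354 D3844) (tt N1010 F23495) (tt N1010 F23496) (tt N1355 D3845) (tt N743 F23497))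
theorem Q1009 : ∀ i, i < 1009 → P i := stepQ 1008 Q1008 (allL N1008 (tt N1354 (iv F6561)) (tt N1356 D3846) (tt N699 (iv D2769)) (tt N1357 D3847) (tt N1074 (iv F5076)) (tt N1358 D3848) (tt N1359 D3849))
theorem Q1010 : ∀ i, i < 1010 → P i := stepQ 1009 Q1009 (allL N1009 (tt N1355 (iv F6562)) (tt N706 F4886) (tt N1358 (iv F6567)) (tt N1072 (iv F5061)) (tt N1072 (iv F5062)) (tt N699 (iv D2770)) (tt N1072 F23182))
theorem Q1011 : ∀ i, i < 1011 → P i := stepQ 1010 Q1010 (allL N1010 (tt N743 F23492) (tt N1024 (iv F4920)) (tt N1359 (iv F6568)) (tt N1007 (iv F23495)) (tt N1007 (iv F23496)) (tt N1345 F23493) (tt N699 (iv D2771)))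
theorem Q1012 : ∀ i, i < 1012 → P i := stepQ 1011 Q1011 (allL N1011 (tt N1360 D3852) (tt N700 (iv D2772)) (tt N1356 (iv F6566)) (tt N807 F4887) (tt N1048 (iv F4980)) (tt N1361 D3853) (tt N1362 D3854))
theorem Q1013 : ∀ i, i < 1013 → P i := stepQ 1012 Q1012 (allL N1012 (tt N702 F4891) (tt N1342 F24294) (tt N701 (iv D2778)) (tt N1343 F24295) (tt N1266 (iv F5890)) (tt N940 F24296) (tt N1346 (iv F23527)))
theorem Q1014 : ∀ i, i < 1014 → P i := stepQ 1013 Q1013 (allL N1013 (tt N1343 F24195) (tt N1320 (iv F6225)) (tt N779 (iv F23528)) (tt N702 (iv D2780)) (tt N1320 (iv F23535)) (tt N1344 F24196) (tt N778 (iv F23529)))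
theorem Q1015 : ∀ i, i < 1015 → P i := stepQ 1014 Q1014 (allL N1014 (tt N940 F24276) (tt N1363 D3868) (tt N703 F4894) (tt N1344 F24277) (tt N1267 (iv F5904)) (tt N702 (iv D2781)) (tt N1000 (iv F23208)))
theorem Q1016 : ∀ i, i < 1016 → P i := stepQ 1015 Q1015 (allL N1015 (tt N705 F4903) (tt N1080 F5102) (tt N704 (iv D2788)) (tt N950 (iv F5046)) (tt N1069 (iv F5042)) (tt N1353 (iv F22721)) (tt N1003 (iv F22695)))
theorem Q1017 : ∀ i, i < 1017 → P i := stepQ 1016 Q1016 (allL N1016 (tt N1087 (iv F5135)) (tt N705 (iv D2791)) (tt N707 F4906) (tt N915 F5048) (tt N841 F23587) (tt N1364 D3884) (tt N839 (iv F23903)))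
theorem Q1018 : ∀ i, i < 1018 → P i := stepQ 1017 Q1017 (allL N1017 (tt N1353 F22732) (tt N1365 D3886) (tt N706 F4907) (tt N956 F5049) (tt N1071 (iv F5058)) (tt N705 (iv D2793)) (tt N1351 (iv F22739)))
theorem Q1019 : ∀ i, i < 1019 → P i := stepQ 1018 Q1018 (allL N1018 (tt N707 (iv D2798)) (tt N804 F4913) (tt N1087 (iv F5136)) (tt N804 F4914) (tt N1045 (iv F4969)) (tt N1366 D3892) (tt N1150 F23586))
theorem Q1020 : ∀ i, i < 1020 → P i := stepQ 1019 Q1019 (allL N1019 (tt N1366 (iv F6650)) (tt N1361 (iv F6579)) (tt N1364 (iv F6631)) (tt N806 F4915) (tt N1046 (iv F4972)) (tt N707 (iv D2799)) (tt N1367 D3894))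
theorem Q1021 : ∀ i, i < 1021 → P i := stepQ 1020 Q1020 (allL N1020 (tt N1150 (iv F23572)) (tt N789 F23517) (tt N839 (iv F23902)) (tt N788 F23518) (tt N838 (iv F23575)) (tt N1368 D3896) (tt N707 (iv D2800)))
theorem Q1022 : ∀ i, i < 1022 → P i := stepQ 1021 Q1021 (allL N1021 (tt N1040 (iv F22965)) (tt N708 (iv D2805)) (tt N1038 (iv F22969)) (tt N812 F4919) (tt N1055 (iv F5010)) (tt N1035 (iv F4958)) (tt N1037 (iv F22971)))
theorem Q1023 : ∀ i, i < 1023 → P i := stepQ 1022 Q1022 (allL N1022 (tt N709 (iv D2806)) (tt N1070 F23153) (tt N1369 D3906) (tt N1077 (iv F5092)) (tt N1077 (iv F5093)) (tt N1077 (iv F5094)) (tt N1262 (iv F23163)))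
theorem Q1024 : ∀ i, i < 1024 → P i := stepQ 1023 Q1023 (allL N1023 (tt N1369 (iv F6673)) (tt N1038 F23280) (tt N709 (iv D2807)) (tt N1370 D3908) (tt N1078 (iv F5095)) (tt N1078 (iv F5096)) (tt N1371 D3909))
theorem Q1025 : ∀ i, i < 1025 → P i := stepQ 1024 Q1024 (allL N1024 (tt N1262 F23487) (tt N1010 F4920) (tt N1371 (iv F6679)) (tt N1079 (iv F5098)) (tt N1079 (iv F5099)) (tt N999 F23488) (tt N709 (iv D2808)))
theorem Q1026 : ∀ i, i < 1026 → P i := stepQ 1025 Q1025 (allL N1025 (tt N1372 D3919) (tt N711 (iv D2816)) (tt N1373 D3920) (tt N1177 F23887) (tt N716 F4940) (tt N713 F4941) (tt N1374 D3921))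
theorem Q1027 : ∀ i, i < 1027 → P i := stepQ 1026 Q1026 (allL N1026 (tt N1375 D3924) (tt N712 (iv D2819)) (tt N1060 F23465) (tt N713 F4949) (tt N1057 (iv F5019)) (tt N1177 (iv F23723)) (tt N1059 F23466))
theorem Q1028 : ∀ i, i < 1028 → P i := stepQ 1027 Q1027 (allL N1027 (tt N713 (iv D2820)) (tt N1376 D3927) (tt N1377 D3928) (tt N1375 (iv F6712)) (tt N718 F4950) (tt N1372 (iv F6704)) (tt N1378 D3929))
theorem Q1029 : ∀ i, i < 1029 → P i := stepQ 1028 Q1028 (allL N1028 (tt N1377 (iv F6717)) (tt N714 F4951) (tt N713 (iv D2821)) (tt N1379 D3930) (tt N719 F4952) (tt N1373 (iv F6707)) (tt N1380 D3931))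
theorem Q1030 : ∀ i, i < 1030 → P i := stepQ 1029 Q1029 (allL N1029 (tt N1378 (iv F6719)) (tt N801 F4953) (tt N1380 (iv F6723)) (tt N1059 F23315) (tt N720 F4954) (tt N1381 D3932) (tt N713 (iv D2822)))
theorem Q1031 : ∀ i, i < 1031 → P i := stepQ 1030 Q1030 (allL N1030 (tt N996 F21456) (tt N1379 (iv F6722)) (tt N1124 (iv F5242)) (tt N714 (iv D2823)) (tt N1382 D3933) (tt N722 F4955) (tt N1184 (iv F5386)))
theorem Q1032 : ∀ i, i < 1032 → P i := stepQ 1031 Q1031 (allL N1031 (tt N1383 D3936) (tt N715 (iv D2828)) (tt N1374 (iv F23502)) (tt N1173 (iv F5365)) (tt N1035 (iv F23664)) (tt N1055 F23283) (tt N1373 (iv F23503)))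
theorem Q1033 : ∀ i, i < 1033 → P i := stepQ 1032 Q1032 (allL N1032 (tt N716 (iv D2830)) (tt N1384 D3942) (tt N1385 D3943) (tt N1174 (iv F5366)) (tt N1372 (iv F6703)) (tt N718 F4956) (tt N1041 (iv F4965)))
theorem Q1034 : ∀ i, i < 1034 → P i := stepQ 1033 Q1033 (allL N1033 (tt N1385 (iv F6734)) (tt N1373 (iv F6705)) (tt N716 (iv D2831)) (tt N1386 D3944) (tt N1373 (iv F6706)) (tt N719 F4957) (tt N1035 F23286))
theorem Q1035 : ∀ i, i < 1035 → P i := stepQ 1034 Q1034 (allL N1034 (tt N1041 (iv F4964)) (tt N1374 F23886) (tt N1035 F23282) (tt N1176 (iv F5370)) (tt N1374 (iv F6708)) (tt N1038 (iv F4961)) (tt N716 (iv D2832)))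
theorem Q1036 : ∀ i, i < 1036 → P i := stepQ 1035 Q1035 (allL N1035 (tt N1387 D3950) (tt N717 (iv D2834)) (tt N1034 (iv F23282)) (tt N1157 (iv F5344)) (tt N1031 F23664) (tt N1021 F4958) (tt N1033 (iv F23286)))
theorem Q1037 : ∀ i, i < 1037 → P i := stepQ 1036 Q1036 (allL N1036 (tt N1388 D3953) (tt N718 (iv D2835)) (tt N1389 D3954) (tt N1178 (iv F5372)) (tt N1376 (iv F6716)) (tt N1390 D3955) (tt N1391 D3956))
theorem Q1038 : ∀ i, i < 1038 → P i := stepQ 1037 Q1037 (allL N1037 (tt N719 F4959) (tt N1362 (iv F23287)) (tt N718 (iv D2836)) (tt N1160 F22970) (tt N1377 (iv F6718)) (tt N1385 (iv F6735)) (tt N1021 F22971))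
theorem Q1039 : ∀ i, i < 1039 → P i := stepQ 1038 Q1038 (allL N1038 (tt N720 F4960) (tt N1023 (iv F23280)) (tt N1021 F22969) (tt N1180 (iv F5375)) (tt N1378 (iv F6720)) (tt N1034 F4961) (tt N718 (iv D2837)))
theorem Q1040 : ∀ i, i < 1040 → P i := stepQ 1039 Q1039 (allL N1039 (tt N1160 F22967) (tt N722 F4962) (tt N1392 D3961) (tt N719 (iv D2838)) (tt N1393 D3962) (tt N1386 (iv F6736)) (tt N1158 F22968))
theorem Q1041 : ∀ i, i < 1041 → P i := stepQ 1040 Q1040 (allL N1040 (tt N1021 F22965) (tt N1394 D3964) (tt N720 F4963) (tt N1158 F22966) (tt N1380 (iv F6724)) (tt N1387 (iv F23275)) (tt N719 (iv D2839)))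
theorem Q1042 : ∀ i, i < 1042 → P i := stepQ 1041 Q1041 (allL N1041 (tt N1034 F4964) (tt N1138 (iv F23895)) (tt N1387 F23660) (tt N1141 F23852) (tt N1381 (iv F6726)) (tt N720 (iv D2840)) (tt N1032 F4965))
theorem Q1043 : ∀ i, i < 1043 → P i := stepQ 1042 Q1042 (allL N1042 (tt N1190 (iv F5394)) (tt N1393 (iv F6747)) (tt N1189 (iv F5391)) (tt N1382 (iv F6728)) (tt N722 (iv D2842)) (tt N1382 (iv F6729)) (tt N1395 D3970))
theorem Q1044 : ∀ i, i < 1044 → P i := stepQ 1043 Q1043 (allL N1043 (tt N1148 (iv F5318)) (tt N1396 D3971) (tt N802 F4966) (tt N723 F4967) (tt N1395 (iv F6756)) (tt N1291 (iv F6047)) (tt N722 (iv D2843)))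
theorem Q1045 : ∀ i, i < 1045 → P i := stepQ 1044 Q1044 (allL N1044 (tt N1397 D3972) (tt N723 (iv D2844)) (tt N831 F4968) (tt N1396 (iv F6757)) (tt N1183 (iv F5384)) (tt N1167 (iv F23930)) (tt N1394 (iv F6750)))
theorem Q1046 : ∀ i, i < 1046 → P i := stepQ 1045 Q1045 (allL N1045 (tt N724 (iv D2845)) (tt N805 (iv F4987)) (tt N767 F4986) (tt N1197 (iv F5450)) (tt N1018 F4969) (tt N1398 D3974) (tt N1197 F23573))
theorem Q1047 : ∀ i, i < 1047 → P i := stepQ 1046 Q1046 (allL N1046 (tt N1398 (iv F6760)) (tt N1399 D3978) (tt N1204 F23362) (tt N1201 (iv F5463)) (tt N1019 F4972) (tt N724 (iv D2847)) (tt N1400 D3979))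
theorem Q1048 : ∀ i, i < 1048 → P i := stepQ 1047 Q1047 (allL N1047 (tt N728 F4974) (tt N1397 (iv F20917)) (tt N770 F4975) (tt N726 F4976) (tt N1129 (iv F5267)) (tt N725 (iv D2849)) (tt N1051 (iv F5003)))
theorem Q1049 : ∀ i, i < 1049 → P i := stepQ 1048 Q1048 (allL N1048 (tt N1396 (iv F21619)) (tt N726 (iv D2851)) (tt N1401 D3985) (tt N1397 F21257) (tt N1011 F4980) (tt N1399 (iv F6773)) (tt N1402 D3986))
theorem Q1050 : ∀ i, i < 1050 → P i := stepQ 1049 Q1049 (allL N1049 (tt N1403 D3994) (tt N728 (iv D2856)) (tt N1061 F20641) (tt N730 F4997) (tt N1132 (iv F5284)) (tt N735 F4998) (tt N1404 D3996))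
theorem Q1051 : ∀ i, i < 1051 → P i := stepQ 1050 Q1050 (allL N1050 (tt N1051 (iv F5001)) (tt N1190 (iv F23625)) (tt N861 (iv F23630)) (tt N731 F4999) (tt N943 F23251) (tt N860 F23252) (tt N728 (iv D2857)))
theorem Q1052 : ∀ i, i < 1052 → P i := stepQ 1051 Q1051 (allL N1051 (tt N1050 F5001) (tt N887 (iv F23360)) (tt N881 (iv F23300)) (tt N732 F5002) (tt N1133 (iv F5291)) (tt N729 (iv D2858)) (tt N1047 F5003))
theorem Q1053 : ∀ i, i < 1053 → P i := stepQ 1052 Q1052 (allL N1052 (tt N730 (iv D2859)) (tt N1405 D3999) (tt N872 F5004) (tt N1403 (iv F6799)) (tt N967 F5005) (tt N736 F5006) (tt N1064 (iv F5032)))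
theorem Q1054 : ∀ i, i < 1054 → P i := stepQ 1053 Q1053 (allL N1053 (tt N1064 (iv F5029)) (tt N1406 D4000) (tt N873 F5007) (tt N1404 (iv F6802)) (tt N968 F5008) (tt N1062 (iv F5026)) (tt N730 (iv D2860)))
theorem Q1055 : ∀ i, i < 1055 → P i := stepQ 1054 Q1054 (allL N1054 (tt N1382 (iv F23624)) (tt N731 (iv D2861)) (tt N1125 (iv F23484)) (tt N1190 (iv F23626)) (tt N996 F23250) (tt N1190 (iv F23627)) (tt N1406 (iv F6807)))
theorem Q1056 : ∀ i, i < 1056 → P i := stepQ 1055 Q1055 (allL N1055 (tt N1380 (iv F23274)) (tt N732 (iv D2862)) (tt N1378 (iv F23281)) (tt N887 (iv F23361)) (tt N1021 F5010) (tt N1031 (iv F23283)) (tt N1377 (iv F23285)))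
theorem Q1057 : ∀ i, i < 1057 → P i := stepQ 1056 Q1056 (allL N1056 (tt N1127 (iv F23445)) (tt N1407 D4009) (tt N843 (iv F23447)) (tt N786 F5013) (tt N821 (iv F23449)) (tt N733 (iv D2864)) (tt N786 (iv F23448)))
theorem Q1058 : ∀ i, i < 1058 → P i := stepQ 1057 Q1057 (allL N1057 (tt N1408 D4012) (tt N734 (iv D2866)) (tt N1140 F23807) (tt N738 F5018) (tt N1026 F5019) (tt N1407 (iv F6826)) (tt N1139 F23808))
theorem Q1059 : ∀ i, i < 1059 → P i := stepQ 1058 Q1058 (allL N1058 (tt N735 (iv D2867)) (tt N1381 F23897) (tt N1409 D4016) (tt N736 F5020) (tt N1138 (iv F5301)) (tt N1403 (iv F6800)) (tt N1410 D4017))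
theorem Q1060 : ∀ i, i < 1060 → P i := stepQ 1059 Q1059 (allL N1059 (tt N1409 (iv F6842)) (tt N1140 (iv F23462)) (tt N735 (iv D2868)) (tt N1029 (iv F23315)) (tt N1139 (iv F5302)) (tt N1061 F20634) (tt N1026 (iv F23466)))
theorem Q1061 : ∀ i, i < 1061 → P i := stepQ 1060 Q1060 (allL N1060 (tt N1410 (iv F6843)) (tt N1139 (iv F23463)) (tt N1026 (iv F23465)) (tt N737 F5021) (tt N1140 (iv F5304)) (tt N1316 F23724) (tt N735 (iv D2869)))
theorem Q1062 : ∀ i, i < 1062 → P i := stepQ 1061 Q1061 (allL N1061 (tt N1411 D4021) (tt N736 (iv D2870)) (tt N1049 (iv F20641)) (tt N1381 (iv F23511)) (tt N983 F5022) (tt N1059 (iv F20634)) (tt N1412 D4024))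
theorem Q1063 : ∀ i, i < 1063 → P i := stepQ 1062 Q1062 (allL N1062 (tt N737 F5023) (tt N1413 D4025) (tt N891 F5024) (tt N1410 (iv F6844)) (tt N984 F5025) (tt N1053 F5026) (tt N736 (iv D2871)))
theorem Q1064 : ∀ i, i < 1064 → P i := stepQ 1063 Q1063 (allL N1063 (tt N1414 D4026) (tt N737 (iv D2872)) (tt N1415 D4027) (tt N1139 (iv F23464)) (tt N824 F5027) (tt N813 (iv F23468)) (tt N738 F5028))
theorem Q1065 : ∀ i, i < 1065 → P i := stepQ 1064 Q1064 (allL N1064 (tt N1053 F5029) (tt N808 (iv F23238)) (tt N893 F5030) (tt N1316 F23725) (tt N985 F5031) (tt N737 (iv D2873)) (tt N1052 F5032))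
theorem Q1066 : ∀ i, i < 1066 → P i := stepQ 1065 Q1065 (allL N1065 (tt N738 (iv D2874)) (tt N1416 D4030) (tt N1417 D4031) (tt N1408 (iv F6834)) (tt N822 F5033) (tt N1163 F23699) (tt N1414 (iv F6857)))
theorem Q1067 : ∀ i, i < 1067 → P i := stepQ 1066 Q1066 (allL N1066 (tt N1417 (iv F6864)) (tt N739 F5034) (tt N738 (iv D2875)) (tt N1418 D4033) (tt N823 F5035) (tt N1419 D4034) (tt N1415 (iv F6860)))
theorem Q1068 : ∀ i, i < 1068 → P i := stepQ 1067 Q1067 (allL N1067 (tt N1163 (iv F23451)) (tt N786 F5036) (tt N1419 (iv F6871)) (tt N1407 (iv F6824)) (tt N820 F5037) (tt N738 (iv D2876)) (tt N1161 (iv F23452)))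
theorem Q1069 : ∀ i, i < 1069 → P i := stepQ 1068 Q1068 (allL N1068 (tt N1228 (iv F5527)) (tt N1418 (iv F6869)) (tt N856 F5040) (tt N739 (iv D2877)) (tt N1228 F22648) (tt N856 F5038) (tt N898 F5039))
theorem Q1070 : ∀ i, i < 1070 → P i := stepQ 1069 Q1069 (allL N1069 (tt N741 F5041) (tt N751 (iv F5043)) (tt N740 (iv D2878)) (tt N865 F5044) (tt N1015 F5042) (tt N1420 D4037) (tt N1214 (iv F24318)))
theorem Q1071 : ∀ i, i < 1071 → P i := stepQ 1070 Q1070 (allL N1070 (tt N742 F5051) (tt N1022 (iv F23153)) (tt N1420 (iv F6881)) (tt N1006 (iv F22870)) (tt N1006 (iv F22871)) (tt N740 (iv D2879)) (tt N906 F22832))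
theorem Q1072 : ∀ i, i < 1072 → P i := stepQ 1071 Q1071 (allL N1071 (tt N1420 (iv F6880)) (tt N1421 D4039) (tt N742 F5057) (tt N1208 (iv F23951)) (tt N1017 F5058) (tt N741 (iv D2881)) (tt N1422 D4040))
theorem Q1073 : ∀ i, i < 1073 → P i := stepQ 1072 Q1072 (allL N1072 (tt N1345 F6527) (tt N742 (iv D2883)) (tt N1423 D4043) (tt N1009 F5061) (tt N1009 F5062) (tt N743 F5063) (tt N1009 (iv F23182)))
theorem Q1074 : ∀ i, i < 1074 → P i := stepQ 1073 Q1073 (allL N1073 (tt N906 F22829) (tt N1004 F6510) (tt N1422 (iv F6889)) (tt N1004 (iv F22868)) (tt N1004 (iv F22869)) (tt N905 F22830) (tt N742 (iv D2884)))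
theorem Q1075 : ∀ i, i < 1075 → P i := stepQ 1074 Q1074 (allL N1074 (tt N1359 (iv F23877)) (tt N1401 (iv F6784)) (tt N743 (iv D2888)) (tt N1424 D4046) (tt N1008 F5076) (tt N1423 (iv F6898)) (tt N1354 (iv F23784)))
theorem Q1076 : ∀ i, i < 1076 → P i := stepQ 1075 Q1075 (allL N1075 (tt N744 (iv D2893)) (tt N1355 (iv F23481)) (tt N1425 D4053) (tt N997 (iv F23183)) (tt N997 (iv F23184)) (tt N902 F23155) (tt N907 F5086))
theorem Q1077 : ∀ i, i < 1077 → P i := stepQ 1076 Q1076 (allL N1076 (tt N1425 (iv F6922)) (tt N1125 (iv F23483)) (tt N744 (iv D2894)) (tt N1426 D4054) (tt N998 (iv F23186)) (tt N903 F23156) (tt N908 F5088))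
theorem Q1078 : ∀ i, i < 1078 → P i := stepQ 1077 Q1077 (allL N1077 (tt N745 (iv D2896)) (tt N1006 F6577) (tt N1427 D4056) (tt N1022 F5092) (tt N1022 F5093) (tt N1022 F5094) (tt N999 (iv F23207)))
theorem Q1079 : ∀ i, i < 1079 → P i := stepQ 1078 Q1078 (allL N1078 (tt N1427 (iv F6928)) (tt N1378 F23663) (tt N745 (iv D2897)) (tt N1428 D4057) (tt N1023 F5095) (tt N1023 F5096) (tt N1429 D4058))
theorem Q1080 : ∀ i, i < 1080 → P i := stepQ 1079 Q1079 (allL N1079 (tt N999 F23490) (tt N1007 (iv F23494)) (tt N1429 (iv F6932)) (tt N1024 F5098) (tt N1024 F5099) (tt N1262 F23491) (tt N745 (iv D2898)))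
theorem Q1081 : ∀ i, i < 1081 → P i := stepQ 1080 Q1080 (allL N1080 (tt N746 (iv D2899)) (tt N1015 (iv F5102)) (tt N751 F5100) (tt N1301 (iv F6132)) (tt N751 F5101) (tt N1430 D4059) (tt N1080 F22717))
theorem Q1082 : ∀ i, i < 1082 → P i := stepQ 1081 Q1081 (allL N1081 (tt N1301 (iv F6130)) (tt N747 F5103) (tt N1431 D4061) (tt N746 (iv D2900)) (tt N1235 (iv F5633)) (tt N1432 D4062) (tt N1081 F22715))
theorem Q1083 : ∀ i, i < 1083 → P i := stepQ 1082 Q1082 (allL N1082 (tt N1430 (iv F6934)) (tt N1090 F23384) (tt N752 F5104) (tt N1432 (iv F6941)) (tt N752 F5105) (tt N746 (iv D2901)) (tt N1430 F23097))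
theorem Q1084 : ∀ i, i < 1084 → P i := stepQ 1083 Q1083 (allL N1083 (tt N760 F5108) (tt N1433 D4068) (tt N1083 F5109) (tt N748 F5110) (tt N1236 (iv F5683)) (tt N747 (iv D2903)) (tt N1098 (iv F5176)))
theorem Q1085 : ∀ i, i < 1085 → P i := stepQ 1084 Q1084 (allL N1084 (tt N761 F5111) (tt N1084 F22482) (tt N1084 F5112) (tt N749 F5113) (tt N1237 (iv F5687)) (tt N1097 (iv F5171)) (tt N747 (iv D2904)))
theorem Q1086 : ∀ i, i < 1086 → P i := stepQ 1085 Q1085 (allL N1085 (tt N1094 (iv F23915)) (tt N748 (iv D2905)) (tt N796 F23538) (tt N1433 (iv F6955)) (tt N753 F5115) (tt N1090 F23539) (tt N757 (iv F23917)))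
theorem Q1087 : ∀ i, i < 1087 → P i := stepQ 1086 Q1086 (allL N1086 (tt N752 F5121) (tt N835 F21052) (tt N1430 (iv F6935)) (tt N834 F21053) (tt N1430 (iv F6936)) (tt N751 (iv D2908)) (tt N752 F23098))
theorem Q1088 : ∀ i, i < 1088 → P i := stepQ 1087 Q1087 (allL N1087 (tt N1016 F5135) (tt N755 (iv D2922)) (tt N1018 F5136) (tt N1271 (iv F5948)) (tt N767 F5137) (tt N1434 D4100) (tt N1198 (iv F23953)))
theorem Q1089 : ∀ i, i < 1089 → P i := stepQ 1088 Q1088 (allL N1088 (tt N756 F5138) (tt N1271 (iv F5946)) (tt N1435 D4102) (tt N755 (iv D2923)) (tt N1131 (iv F5276)) (tt N1322 F20292) (tt N1293 F23715))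
theorem Q1090 : ∀ i, i < 1090 → P i := stepQ 1089 Q1089 (allL N1089 (tt N757 F5139) (tt N1238 F20311) (tt N790 F5140) (tt N1322 F20312) (tt N768 F5141) (tt N755 (iv D2924)) (tt N1094 (iv F5161)))
theorem Q1091 : ∀ i, i < 1091 → P i := stepQ 1090 Q1090 (allL N1090 (tt N758 F5142) (tt N1082 (iv F23384)) (tt N791 F5143) (tt N1293 (iv F23537)) (tt N769 F5144) (tt N1085 (iv F23539)) (tt N755 (iv D2925)))
theorem Q1092 : ∀ i, i < 1092 → P i := stepQ 1091 Q1091 (allL N1091 (tt N1435 (iv F7002)) (tt N1091 F5145) (tt N756 (iv D2926)) (tt N1298 F23323) (tt N1298 F23324) (tt N1436 D4108) (tt N1296 F23325))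
theorem Q1093 : ∀ i, i < 1093 → P i := stepQ 1092 Q1092 (allL N1092 (tt N1322 F20313) (tt N1437 D4112) (tt N1436 (iv F7012)) (tt N757 F5148) (tt N1300 F24035) (tt N756 (iv D2928)) (tt N1433 F24036))
theorem Q1094 : ∀ i, i < 1094 → P i := stepQ 1093 Q1093 (allL N1093 (tt N1438 D4116) (tt N757 (iv D2930)) (tt N1350 F21127) (tt N1437 (iv F7018)) (tt N771 F5150) (tt N762 F5151) (tt N1104 F24186))
theorem Q1095 : ∀ i, i < 1095 → P i := stepQ 1094 Q1094 (allL N1094 (tt N1085 F23915) (tt N1439 D4122) (tt N797 F5159) (tt N1299 F23916) (tt N772 F5160) (tt N758 (iv D2933)) (tt N1089 F5161))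
theorem Q1096 : ∀ i, i < 1096 → P i := stepQ 1095 Q1095 (allL N1095 (tt N1236 (iv F5680)) (tt N1440 D4123) (tt N1095 F5162) (tt N773 F5163) (tt N760 F5164) (tt N759 (iv D2934)) (tt N1441 D4124))
theorem Q1097 : ∀ i, i < 1097 → P i := stepQ 1096 Q1096 (allL N1096 (tt N1442 D4127) (tt N760 (iv D2936)) (tt N1443 D4128) (tt N762 F5168) (tt N1440 (iv F7041)) (tt N1437 (iv F7019)) (tt N1444 D4129))
theorem Q1098 : ∀ i, i < 1098 → P i := stepQ 1097 Q1097 (allL N1097 (tt N1098 (iv F5173)) (tt N1445 D4130) (tt N1097 F5169) (tt N763 F5170) (tt N1441 (iv F7044)) (tt N1084 F5171) (tt N760 (iv D2937)))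
theorem Q1099 : ∀ i, i < 1099 → P i := stepQ 1098 Q1098 (allL N1098 (tt N1097 F5173) (tt N1446 D4134) (tt N1098 F5174) (tt N765 F5175) (tt N1303 F24258) (tt N761 (iv D2939)) (tt N1083 F5176))
theorem Q1100 : ∀ i, i < 1100 → P i := stepQ 1099 Q1099 (allL N1099 (tt N762 (iv D2940)) (tt N1447 D4135) (tt N1448 D4136) (tt N1442 (iv F7053)) (tt N777 F5177) (tt N1438 (iv F7028)) (tt N1449 D4137))
theorem Q1101 : ∀ i, i < 1101 → P i := stepQ 1100 Q1100 (allL N1100 (tt N1448 (iv F7062)) (tt N766 F5178) (tt N762 (iv D2941)) (tt N1317 F23191) (tt N778 F5179) (tt N1350 F21129) (tt N1320 F23192))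
theorem Q1102 : ∀ i, i < 1102 → P i := stepQ 1101 Q1101 (allL N1101 (tt N1449 (iv F7064)) (tt N1450 D4140) (tt N1320 F23190) (tt N1444 (iv F7055)) (tt N779 F5180) (tt N1451 D4141) (tt N762 (iv D2942)))
theorem Q1103 : ∀ i, i < 1103 → P i := stepQ 1102 Q1102 (allL N1102 (tt N1452 D4142) (tt N763 (iv D2943)) (tt N780 F5181) (tt N1445 (iv F7056)) (tt N780 F5182) (tt N1102 F22768) (tt N1450 (iv F7073)))
theorem Q1104 : ∀ i, i < 1104 → P i := stepQ 1103 Q1103 (allL N1103 (tt N1232 (iv F24201)) (tt N1449 F23931) (tt N854 F5185) (tt N960 (iv F24203)) (tt N781 F5186) (tt N764 (iv D2945)) (tt N867 F23932))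
theorem Q1105 : ∀ i, i < 1105 → P i := stepQ 1104 Q1104 (allL N1104 (tt N1451 F24184) (tt N765 (iv D2946)) (tt N1261 (iv F5796)) (tt N1446 (iv F7060)) (tt N782 F5187) (tt N1449 F24185) (tt N1093 (iv F24186)))
theorem Q1106 : ∀ i, i < 1106 → P i := stepQ 1105 Q1105 (allL N1105 (tt N1193 (iv F5400)) (tt N1317 F23193) (tt N1291 (iv F6046)) (tt N766 (iv D2947)) (tt N1453 D4150) (tt N802 F5188) (tt N784 F5189))
theorem Q1107 : ∀ i, i < 1107 → P i := stepQ 1106 Q1106 (allL N1106 (tt N1204 F23739) (tt N1233 F20286) (tt N1398 (iv F6761)) (tt N843 F23740) (tt N1434 (iv F6998)) (tt N767 (iv D2948)) (tt N840 F23741))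
theorem Q1108 : ∀ i, i < 1108 → P i := stepQ 1107 Q1107 (allL N1107 (tt N1216 (iv F20912)) (tt N770 (iv D2954)) (tt N1454 D4166) (tt N771 F5192) (tt N1285 F20657) (tt N774 F5193) (tt N1116 F24020))
theorem Q1109 : ∀ i, i < 1109 → P i := stepQ 1108 Q1108 (allL N1108 (tt N771 (iv D2958)) (tt N1211 (iv F21598)) (tt N1349 F21121) (tt N1216 F21246) (tt N1438 (iv F7027)) (tt N777 F5203) (tt N1121 (iv F5231)))
theorem Q1110 : ∀ i, i < 1110 → P i := stepQ 1109 Q1109 (allL N1109 (tt N1455 D4183) (tt N772 (iv D2964)) (tt N1456 D4184) (tt N1221 (iv F22414)) (tt N1439 (iv F7039)) (tt N1213 (iv F22351)) (tt N1457 D4185))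
theorem Q1111 : ∀ i, i < 1111 → P i := stepQ 1110 Q1110 (allL N1110 (tt N969 F22885) (tt N773 (iv D2965)) (tt N1458 D4187) (tt N1440 (iv F7040)) (tt N774 F5209) (tt N1285 F20659) (tt N970 F22886))
theorem Q1112 : ∀ i, i < 1112 → P i := stepQ 1111 Q1111 (allL N1111 (tt N955 F24029) (tt N1459 D4189) (tt N885 F5210) (tt N1441 (iv F7043)) (tt N775 F5211) (tt N880 F5212) (tt N773 (iv D2966)))
theorem Q1113 : ∀ i, i < 1113 → P i := stepQ 1112 Q1112 (allL N1112 (tt N774 (iv D2969)) (tt N873 (iv F22559)) (tt N1426 F23868) (tt N777 F5218) (tt N969 (iv F22563)) (tt N1216 F21248) (tt N874 F22552))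
theorem Q1114 : ∀ i, i < 1114 → P i := stepQ 1113 Q1113 (allL N1113 (tt N1426 F23864) (tt N1212 (iv F5494)) (tt N774 (iv D2970)) (tt N1425 (iv F24167)) (tt N1458 (iv F7141)) (tt N1454 (iv F7121)) (tt N1339 (iv F24105)))
theorem Q1115 : ∀ i, i < 1115 → P i := stepQ 1114 Q1114 (allL N1114 (tt N874 F22551) (tt N1338 (iv F23937)) (tt N1339 (iv F24103)) (tt N779 F5219) (tt N970 (iv F22562)) (tt N1460 D4200) (tt N774 (iv D2971)))
theorem Q1116 : ∀ i, i < 1116 → P i := stepQ 1115 Q1115 (allL N1115 (tt N1461 D4201) (tt N775 (iv D2972)) (tt N1290 F22358) (tt N780 F5220) (tt N1459 (iv F7143)) (tt N1115 F22359) (tt N1338 F24223))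
theorem Q1117 : ∀ i, i < 1117 → P i := stepQ 1116 Q1116 (allL N1116 (tt N1460 F23803) (tt N776 (iv D2976)) (tt N1462 D4212) (tt N782 F5223) (tt N972 (iv F23935)) (tt N874 (iv F24137)) (tt N1107 (iv F24020)))
theorem Q1118 : ∀ i, i < 1118 → P i := stepQ 1117 Q1117 (allL N1117 (tt N1246 (iv F22980)) (tt N777 (iv D2977)) (tt N1463 D4215) (tt N873 F22854) (tt N1447 (iv F7061)) (tt N1243 F22855) (tt N869 F22856))
theorem Q1119 : ∀ i, i < 1119 → P i := stepQ 1118 Q1118 (allL N1118 (tt N778 F5224) (tt N1464 D4218) (tt N777 (iv D2978)) (tt N1346 F21122) (tt N1448 (iv F7063)) (tt N1349 F21123) (tt N1343 F24098))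
theorem Q1120 : ∀ i, i < 1120 → P i := stepQ 1119 Q1119 (allL N1119 (tt N779 F5225) (tt N781 (iv F24204)) (tt N1343 F24190) (tt N874 F22550) (tt N1449 (iv F7065)) (tt N782 F24191) (tt N777 (iv D2979)))
theorem Q1121 : ∀ i, i < 1121 → P i := stepQ 1120 Q1120 (allL N1120 (tt N1465 D4226) (tt N779 (iv D2982)) (tt N1450 (iv F7071)) (tt N1338 F24222) (tt N1450 (iv F7072)) (tt N1465 F22770) (tt N780 F5229))
theorem Q1122 : ∀ i, i < 1122 → P i := stepQ 1121 Q1121 (allL N1121 (tt N782 (iv F24134)) (tt N1466 D4228) (tt N1344 F23802) (tt N1460 (iv F7157)) (tt N1451 (iv F7075)) (tt N779 (iv D2983)) (tt N1108 F5231))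
theorem Q1123 : ∀ i, i < 1123 → P i := stepQ 1122 Q1122 (allL N1122 (tt N780 (iv D2984)) (tt N1422 F24225) (tt N1452 (iv F7077)) (tt N1461 (iv F7159)) (tt N1452 (iv F7078)) (tt N1122 F22442) (tt N1465 (iv F7187)))
theorem Q1124 : ∀ i, i < 1124 → P i := stepQ 1123 Q1123 (allL N1123 (tt N1467 D4243) (tt N783 (iv D2992)) (tt N1227 (iv F5525)) (tt N1468 D4244) (tt N1196 (iv F5406)) (tt N1469 D4245) (tt N1470 D4246))
theorem Q1125 : ∀ i, i < 1125 → P i := stepQ 1124 Q1124 (allL N1124 (tt N784 F5241) (tt N1468 (iv F7198)) (tt N1030 F5242) (tt N783 (iv D2993)) (tt N1471 D4247) (tt N827 F5243) (tt N1193 (iv F5403)))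
theorem Q1126 : ∀ i, i < 1126 → P i := stepQ 1125 Q1125 (allL N1125 (tt N1471 (iv F7200)) (tt N1076 F23483) (tt N1054 F23484) (tt N1453 (iv F7096)) (tt N784 (iv D2994)) (tt N829 F5244) (tt N1453 (iv F7098)))
theorem Q1127 : ∀ i, i < 1127 → P i := stepQ 1126 Q1126 (allL N1126 (tt N786 F5246) (tt N1472 D4248) (tt N836 F5247) (tt N1127 (iv F23446)) (tt N819 F5248) (tt N785 (iv D2996)) (tt N1127 (iv F5258)))
theorem Q1128 : ∀ i, i < 1128 → P i := stepQ 1127 Q1127 (allL N1127 (tt N1056 F23445) (tt N1473 D4251) (tt N845 F5256) (tt N1126 F23446) (tt N811 F5257) (tt N787 (iv D2999)) (tt N1126 F5258))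
theorem Q1129 : ∀ i, i < 1129 → P i := stepQ 1128 Q1128 (allL N1128 (tt N1151 (iv F5326)) (tt N1474 D4254) (tt N1149 (iv F5322)) (tt N1368 (iv F23904)) (tt N806 F5262) (tt N788 (iv D3001)) (tt N1149 (iv F23588)))
theorem Q1130 : ∀ i, i < 1130 → P i := stepQ 1129 Q1129 (allL N1129 (tt N793 F5264) (tt N1475 D4258) (tt N948 (iv F23301)) (tt N790 F5266) (tt N1047 F5267) (tt N789 (iv D3003)) (tt N1133 (iv F5292)))
theorem Q1131 : ∀ i, i < 1131 → P i := stepQ 1130 Q1130 (allL N1130 (tt N1476 D4260) (tt N790 (iv D3005)) (tt N1477 D4261) (tt N1475 (iv F7225)) (tt N807 F5272) (tt N1474 (iv F7215)) (tt N1478 D4262))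
theorem Q1132 : ∀ i, i < 1132 → P i := stepQ 1131 Q1131 (allL N1131 (tt N947 F23327) (tt N912 F5275) (tt N1479 D4266) (tt N792 (iv D3007)) (tt N1088 F5276) (tt N977 F20255) (tt N941 F23328))
theorem Q1133 : ∀ i, i < 1133 → P i := stepQ 1132 Q1132 (allL N1132 (tt N1172 F23541) (tt N793 (iv D3010)) (tt N983 F20403) (tt N795 F5283) (tt N1049 F5284) (tt N798 F5285) (tt N1480 D4273))
theorem Q1134 : ∀ i, i < 1134 → P i := stepQ 1133 Q1133 (allL N1133 (tt N943 F23196) (tt N1239 F23197) (tt N942 F23198) (tt N797 F5290) (tt N1051 F5291) (tt N794 (iv D3012)) (tt N1129 F5292))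
theorem Q1135 : ∀ i, i < 1135 → P i := stepQ 1134 Q1134 (allL N1134 (tt N795 (iv D3013)) (tt N985 F23555) (tt N1481 D4277) (tt N1172 F23556) (tt N808 F5293) (tt N799 F5294) (tt N1146 (iv F5316)))
theorem Q1136 : ∀ i, i < 1136 → P i := stepQ 1135 Q1135 (allL N1135 (tt N1481 (iv F7259)) (tt N1350 (iv F20801)) (tt N795 (iv D3014)) (tt N1482 D4278) (tt N809 F5295) (tt N800 F5296) (tt N1223 (iv F23927)))
theorem Q1137 : ∀ i, i < 1137 → P i := stepQ 1136 Q1136 (allL N1136 (tt N1146 (iv F5314)) (tt N803 (iv F23918)) (tt N1223 (iv F23926)) (tt N1480 (iv F7252)) (tt N810 F5297) (tt N1143 (iv F5310)) (tt N795 (iv D3015)))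
theorem Q1138 : ∀ i, i < 1138 → P i := stepQ 1137 Q1137 (allL N1137 (tt N1483 D4284) (tt N797 (iv D3017)) (tt N1484 D4285) (tt N1239 F23470) (tt N812 F5299) (tt N1473 (iv F7207)) (tt N1390 (iv F22973)))
theorem Q1139 : ∀ i, i < 1139 → P i := stepQ 1138 Q1138 (allL N1138 (tt N798 (iv D3018)) (tt N1041 F23895) (tt N1485 D4288) (tt N799 F5300) (tt N1058 F5301) (tt N1172 F23896) (tt N1486 D4289))
theorem Q1140 : ∀ i, i < 1140 → P i := stepQ 1139 Q1139 (allL N1139 (tt N1485 (iv F7277)) (tt N1060 F23463) (tt N798 (iv D3019)) (tt N1063 F23464) (tt N1059 F5302) (tt N983 F20398) (tt N1057 (iv F23808)))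
theorem Q1141 : ∀ i, i < 1141 → P i := stepQ 1140 Q1140 (allL N1140 (tt N1486 (iv F7279)) (tt N1059 F23462) (tt N1057 (iv F23807)) (tt N801 F5303) (tt N1060 F5304) (tt N1405 (iv F23806)) (tt N798 (iv D3020)))
theorem Q1142 : ∀ i, i < 1142 → P i := stepQ 1141 Q1141 (allL N1141 (tt N1176 F23837) (tt N799 (iv D3021)) (tt N1487 D4294) (tt N1041 (iv F23852)) (tt N813 F5305) (tt N824 F23838) (tt N1174 F23839))
theorem Q1143 : ∀ i, i < 1143 → P i := stepQ 1142 Q1142 (allL N1142 (tt N800 F5306) (tt N1488 D4297) (tt N799 (iv D3022)) (tt N1489 D4298) (tt N814 F5307) (tt N1481 (iv F7261)) (tt N1490 D4299))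
theorem Q1144 : ∀ i, i < 1144 → P i := stepQ 1143 Q1143 (allL N1143 (tt N801 F5308) (tt N1491 D4300) (tt N1490 (iv F7297)) (tt N1486 (iv F7280)) (tt N815 F5309) (tt N1136 F5310) (tt N799 (iv D3023)))
theorem Q1145 : ∀ i, i < 1145 → P i := stepQ 1144 Q1144 (allL N1144 (tt N1489 (iv F7295)) (tt N802 F5311) (tt N1492 D4301) (tt N800 (iv D3024)) (tt N1493 D4302) (tt N1482 (iv F7262)) (tt N1494 D4303))
theorem Q1146 : ∀ i, i < 1146 → P i := stepQ 1145 Q1145 (allL N1145 (tt N1490 (iv F7296)) (tt N1188 (iv F5388)) (tt N801 F5312) (tt N1494 (iv F7303)) (tt N817 F5313) (tt N1495 D4304) (tt N800 (iv D3025)))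
theorem Q1147 : ∀ i, i < 1147 → P i := stepQ 1146 Q1146 (allL N1146 (tt N1136 F5314) (tt N1403 F23920) (tt N1495 (iv F7305)) (tt N1405 F23921) (tt N818 F5315) (tt N801 (iv D3026)) (tt N1134 F5316))
theorem Q1148 : ∀ i, i < 1148 → P i := stepQ 1147 Q1147 (allL N1147 (tt N1191 (iv F5396)) (tt N1493 (iv F7301)) (tt N1395 (iv F6755)) (tt N829 F5317) (tt N802 (iv D3027)) (tt N1453 (iv F7097)) (tt N1189 (iv F5392)))
theorem Q1149 : ∀ i, i < 1149 → P i := stepQ 1148 Q1148 (allL N1148 (tt N1043 F5318) (tt N1480 F23628) (tt N830 F5319) (tt N803 (iv D3029)) (tt N1496 D4310) (tt N1184 (iv F5385)) (tt N828 F5320))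
theorem Q1150 : ∀ i, i < 1150 → P i := stepQ 1149 Q1149 (allL N1149 (tt N806 F5321) (tt N1497 D4311) (tt N1128 F5322) (tt N1366 (iv F6651)) (tt N1151 (iv F5328)) (tt N804 (iv D3030)) (tt N1128 F23588))
theorem Q1151 : ∀ i, i < 1151 → P i := stepQ 1150 Q1150 (allL N1150 (tt N1020 F23572) (tt N1197 F5451) (tt N1198 (iv F5454)) (tt N805 (iv D3032)) (tt N1197 F5452) (tt N1367 (iv F23957)) (tt N1018 (iv F23586)))
theorem Q1152 : ∀ i, i < 1152 → P i := stepQ 1151 Q1151 (allL N1151 (tt N1128 F5326) (tt N1498 D4315) (tt N806 F5327) (tt N1367 (iv F23956)) (tt N1149 F5328) (tt N805 (iv D3033)) (tt N806 F23589))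
theorem Q1153 : ∀ i, i < 1153 → P i := stepQ 1152 Q1152 (allL N1152 (tt N1499 D4317) (tt N806 (iv D3035)) (tt N1500 D4318) (tt N1361 (iv F6580)) (tt N1474 (iv F7214)) (tt N807 F5332) (tt N1501 D4319))
theorem Q1154 : ∀ i, i < 1154 → P i := stepQ 1153 Q1153 (allL N1153 (tt N807 (iv D3039)) (tt N1502 D4325) (tt N1478 (iv F23295)) (tt N1360 (iv F6578)) (tt N1476 (iv F7229)) (tt N1499 (iv F7320)) (tt N1477 (iv F23297)))
theorem Q1155 : ∀ i, i < 1155 → P i := stepQ 1154 Q1154 (allL N1154 (tt N1478 (iv F23293)) (tt N1242 F20649) (tt N807 (iv D3040)) (tt N1503 D4328) (tt N1477 (iv F7230)) (tt N1500 (iv F7323)) (tt N1476 (iv F23299)))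
theorem Q1156 : ∀ i, i < 1156 → P i := stepQ 1155 Q1155 (allL N1155 (tt N1477 (iv F23296)) (tt N1160 (iv F5346)) (tt N1476 (iv F23298)) (tt N1362 (iv F6581)) (tt N1478 (iv F7231)) (tt N1504 D4330) (tt N807 (iv D3041)))
theorem Q1157 : ∀ i, i < 1157 → P i := stepQ 1156 Q1156 (allL N1156 (tt N809 F5337) (tt N1505 D4341) (tt N808 (iv D3046)) (tt N1289 (iv F23890)) (tt N1481 (iv F7260)) (tt N814 F5338) (tt N1171 (iv F5359)))
theorem Q1158 : ∀ i, i < 1158 → P i := stepQ 1157 Q1157 (allL N1157 (tt N1506 D4360) (tt N811 (iv D3054)) (tt N1507 D4361) (tt N1035 F5344) (tt N1473 (iv F7206)) (tt N812 F5345) (tt N1386 (iv F22974)))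
theorem Q1159 : ∀ i, i < 1159 → P i := stepQ 1158 Q1158 (allL N1158 (tt N812 (iv D3055)) (tt N1508 D4363) (tt N1509 D4364) (tt N1040 (iv F22966)) (tt N1483 (iv F7271)) (tt N1506 (iv F7363)) (tt N1039 (iv F22968)))
theorem Q1160 : ∀ i, i < 1160 → P i := stepQ 1159 Q1159 (allL N1159 (tt N1509 (iv F7367)) (tt N1456 (iv F7138)) (tt N812 (iv D3056)) (tt N1510 D4366) (tt N1484 (iv F7272)) (tt N1507 (iv F7365)) (tt N1511 D4367))
theorem Q1161 : ∀ i, i < 1161 → P i := stepQ 1160 Q1160 (allL N1160 (tt N1039 (iv F22967)) (tt N1155 F5346) (tt N1511 (iv F7370)) (tt N1037 (iv F22970)) (tt N1390 (iv F22972)) (tt N1376 (iv F22975)) (tt N812 (iv D3057)))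
theorem Q1162 : ∀ i, i < 1162 → P i := stepQ 1161 Q1161 (allL N1161 (tt N813 (iv D3058)) (tt N1332 (iv F6339)) (tt N1512 D4369) (tt N1332 (iv F6340)) (tt N1176 (iv F23602)) (tt N1414 (iv F23467)) (tt N1067 F23452))
theorem Q1163 : ∀ i, i < 1163 → P i := stepQ 1162 Q1162 (allL N1162 (tt N1512 (iv F7373)) (tt N1513 D4372) (tt N813 (iv D3059)) (tt N1513 F21956) (tt N1487 (iv F7291)) (tt N1415 F23439) (tt N1514 D4375))
theorem Q1164 : ∀ i, i < 1164 → P i := stepQ 1163 Q1163 (allL N1163 (tt N1067 F23451) (tt N1515 D4377) (tt N1514 (iv F7378)) (tt N1333 (iv F6342)) (tt N1174 (iv F23600)) (tt N1065 (iv F23699)) (tt N813 (iv D3061)))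
theorem Q1165 : ∀ i, i < 1165 → P i := stepQ 1164 Q1164 (allL N1164 (tt N1482 (iv F21424)) (tt N814 (iv D3062)) (tt N1513 (iv F7376)) (tt N1481 F21113) (tt N1488 (iv F7294)) (tt N1489 (iv F21420)) (tt N1516 D4382))
theorem Q1166 : ∀ i, i < 1166 → P i := stepQ 1165 Q1165 (allL N1165 (tt N816 F5347) (tt N1481 (iv F20796)) (tt N922 F23553) (tt N814 (iv D3063)) (tt N1505 (iv F20675)) (tt N1289 F23554) (tt N921 (iv F23894)))
theorem Q1167 : ∀ i, i < 1167 → P i := stepQ 1166 Q1166 (allL N1166 (tt N817 F5349) (tt N1517 D4385) (tt N815 F5350) (tt N921 F23928) (tt N1490 (iv F7298)) (tt N935 F23929) (tt N814 (iv D3064)))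
theorem Q1168 : ∀ i, i < 1168 → P i := stepQ 1167 Q1167 (allL N1167 (tt N1518 D4386) (tt N815 (iv D3065)) (tt N1195 (iv F24200)) (tt N1334 (iv F6343)) (tt N1491 (iv F7300)) (tt N1044 F23930) (tt N1515 (iv F7380)))
theorem Q1169 : ∀ i, i < 1169 → P i := stepQ 1168 Q1168 (allL N1168 (tt N1505 (iv F20672)) (tt N829 F5354) (tt N1221 F23888) (tt N1493 (iv F7302)) (tt N816 (iv D3067)) (tt N1220 F23889) (tt N1519 D4392))
theorem Q1170 : ∀ i, i < 1170 → P i := stepQ 1169 Q1169 (allL N1169 (tt N921 F23975) (tt N1520 D4393) (tt N920 F23976) (tt N817 F5355) (tt N1519 (iv F7398)) (tt N933 F23977) (tt N816 (iv D3068)))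
theorem Q1171 : ∀ i, i < 1171 → P i := stepQ 1170 Q1170 (allL N1170 (tt N1521 D4395) (tt N817 (iv D3069)) (tt N1394 (iv F6749)) (tt N1520 (iv F7399)) (tt N1188 (iv F5389)) (tt N1522 D4396) (tt N831 F5356))
theorem Q1172 : ∀ i, i < 1172 → P i := stepQ 1171 Q1171 (allL N1171 (tt N935 F23844) (tt N1512 (iv F24163)) (tt N818 F5358) (tt N933 F23845) (tt N1495 (iv F7306)) (tt N817 (iv D3070)) (tt N1156 F5359))
theorem Q1173 : ∀ i, i < 1173 → P i := stepQ 1172 Q1172 (allL N1172 (tt N1132 (iv F23541)) (tt N818 (iv D3071)) (tt N1332 (iv F23810)) (tt N1134 (iv F23556)) (tt N1403 (iv F23811)) (tt N1138 (iv F23896)) (tt N1405 F23509))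
theorem Q1174 : ∀ i, i < 1174 → P i := stepQ 1173 Q1173 (allL N1173 (tt N1523 D4404) (tt N819 (iv D3076)) (tt N869 F20276) (tt N1031 F5365) (tt N1472 (iv F7203)) (tt N887 (iv F20343)) (tt N1463 (iv F23171)))
theorem Q1175 : ∀ i, i < 1175 → P i := stepQ 1174 Q1174 (allL N1174 (tt N820 (iv D3077)) (tt N1524 D4407) (tt N1525 D4408) (tt N1032 F5366) (tt N1163 F23600) (tt N822 F5367) (tt N1141 (iv F23839)))
theorem Q1176 : ∀ i, i < 1176 → P i := stepQ 1175 Q1175 (allL N1175 (tt N1525 (iv F7428)) (tt N921 F5368) (tt N820 (iv D3078)) (tt N1517 (iv F24199)) (tt N1419 (iv F6872)) (tt N823 F5369) (tt N1526 D4410))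
theorem Q1177 : ∀ i, i < 1177 → P i := stepQ 1176 Q1176 (allL N1176 (tt N1141 (iv F23837)) (tt N1411 F23601) (tt N1526 (iv F7432)) (tt N1034 F5370) (tt N1161 F23602) (tt N1180 (iv F5376)) (tt N820 (iv D3079)))
theorem Q1178 : ∀ i, i < 1178 → P i := stepQ 1177 Q1177 (allL N1177 (tt N1412 (iv F23461)) (tt N821 (iv D3080)) (tt N1316 F23721) (tt N1025 (iv F23887)) (tt N1407 F23722) (tt N1026 F23723) (tt N1411 (iv F23459)))
theorem Q1179 : ∀ i, i < 1179 → P i := stepQ 1178 Q1178 (allL N1178 (tt N1527 D4415) (tt N822 (iv D3081)) (tt N1528 D4416) (tt N1036 F5372) (tt N1416 (iv F6863)) (tt N1529 D4417) (tt N1530 D4418))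
theorem Q1180 : ∀ i, i < 1180 → P i := stepQ 1179 Q1179 (allL N1179 (tt N823 F5373) (tt N1531 D4419) (tt N822 (iv D3082)) (tt N1532 D4420) (tt N1417 (iv F6865)) (tt N1525 (iv F7429)) (tt N1533 D4421))
theorem Q1181 : ∀ i, i < 1181 → P i := stepQ 1180 Q1180 (allL N1180 (tt N824 F5374) (tt N1370 (iv F23662)) (tt N1533 (iv F7445)) (tt N1038 F5375) (tt N1414 (iv F6856)) (tt N1176 F5376) (tt N822 (iv D3083)))
theorem Q1182 : ∀ i, i < 1182 → P i := stepQ 1181 Q1181 (allL N1181 (tt N1532 (iv F7443)) (tt N833 (iv F22260)) (tt N1196 F22099) (tt N823 (iv D3084)) (tt N1227 (iv F22261)) (tt N1517 F24348) (tt N1534 D4425))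
theorem Q1183 : ∀ i, i < 1183 → P i := stepQ 1182 Q1182 (allL N1182 (tt N1533 (iv F7444)) (tt N987 F5378) (tt N824 F5379) (tt N1534 (iv F7450)) (tt N1415 (iv F6859)) (tt N1487 (iv F23782)) (tt N823 (iv D3085)))
theorem Q1184 : ∀ i, i < 1184 → P i := stepQ 1183 Q1183 (allL N1183 (tt N1475 F20925) (tt N825 (iv D3087)) (tt N826 F5383) (tt N1476 (iv F21270)) (tt N1044 F5384) (tt N1491 (iv F24019)) (tt N1503 F23623))
theorem Q1185 : ∀ i, i < 1185 → P i := stepQ 1184 Q1184 (allL N1184 (tt N1291 (iv F6045)) (tt N1476 F21474) (tt N1193 (iv F5401)) (tt N825 (iv D3088)) (tt N1502 (iv F21816)) (tt N1148 F5385) (tt N1030 F5386))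
theorem Q1186 : ∀ i, i < 1186 → P i := stepQ 1185 Q1185 (allL N1185 (tt N826 (iv D3089)) (tt N1535 D4433) (tt N1475 F20921) (tt N1536 D4434) (tt N1194 (iv F5404)) (tt N1537 D4435) (tt N1538 D4436))
theorem Q1187 : ∀ i, i < 1187 → P i := stepQ 1186 Q1186 (allL N1186 (tt N1536 (iv F7468)) (tt N827 F5387) (tt N1539 D4437) (tt N826 (iv D3090)) (tt N1540 D4438) (tt N1541 D4439) (tt N1542 D4440))
theorem Q1188 : ∀ i, i < 1188 → P i := stepQ 1187 Q1187 (allL N1187 (tt N1537 (iv F7469)) (tt N1469 (iv F7199)) (tt N1491 F24227) (tt N1541 (iv F7474)) (tt N1195 (iv F5405)) (tt N826 (iv D3091)) (tt N1543 D4441))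
theorem Q1189 : ∀ i, i < 1189 → P i := stepQ 1188 Q1188 (allL N1188 (tt N1538 (iv F7470)) (tt N1145 F5388) (tt N1503 F23694) (tt N1542 (iv F7476)) (tt N1170 F5389) (tt N1544 D4442) (tt N826 (iv D3092)))
theorem Q1190 : ∀ i, i < 1190 → P i := stepQ 1189 Q1189 (allL N1189 (tt N829 F5390) (tt N1540 (iv F7473)) (tt N1042 F5391) (tt N1191 (iv F5397)) (tt N827 (iv D3093)) (tt N1471 (iv F7202)) (tt N1147 F5392))
theorem Q1191 : ∀ i, i < 1191 → P i := stepQ 1190 Q1190 (allL N1190 (tt N1042 F5394) (tt N1050 F23625) (tt N829 F5395) (tt N1054 F23626) (tt N828 (iv D3095)) (tt N1054 F23627) (tt N1496 (iv F7313)))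
theorem Q1192 : ∀ i, i < 1192 → P i := stepQ 1191 Q1191 (allL N1191 (tt N1147 F5396) (tt N1545 D4447) (tt N1496 (iv F7312)) (tt N1189 F5397) (tt N830 F5398) (tt N1546 D4448) (tt N829 (iv D3096)))
theorem Q1193 : ∀ i, i < 1193 → P i := stepQ 1192 Q1192 (allL N1192 (tt N1547 D4449) (tt N830 (iv D3097)) (tt N1548 D4450) (tt N831 F5399) (tt N1545 (iv F7486)) (tt N1549 D4451) (tt N1520 (iv F7400)))
theorem Q1194 : ∀ i, i < 1194 → P i := stepQ 1193 Q1193 (allL N1193 (tt N1105 F5400) (tt N1511 F23262) (tt N1184 F5401) (tt N832 F5402) (tt N1546 (iv F7490)) (tt N830 (iv D3098)) (tt N1124 F5403))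
theorem Q1195 : ∀ i, i < 1195 → P i := stepQ 1194 Q1194 (allL N1194 (tt N831 (iv D3099)) (tt N1454 F21252) (tt N1397 (iv F6758)) (tt N1547 (iv F7492)) (tt N1185 F5404) (tt N1550 D4454) (tt N1521 (iv F7404)))
theorem Q1196 : ∀ i, i < 1196 → P i := stepQ 1195 Q1195 (allL N1195 (tt N1550 (iv F7496)) (tt N1551 D4455) (tt N1167 F24200) (tt N1549 (iv F7493)) (tt N1187 F5405) (tt N831 (iv D3100)) (tt N1552 D4456))
theorem Q1197 : ∀ i, i < 1197 → P i := stepQ 1196 Q1196 (allL N1196 (tt N1553 D4457) (tt N832 (iv D3101)) (tt N1181 (iv F22099)) (tt N1511 F23257) (tt N1123 F5406) (tt N1551 (iv F7500)) (tt N1510 F23258))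
theorem Q1198 : ∀ i, i < 1198 → P i := stepQ 1197 Q1197 (allL N1197 (tt N838 F5449) (tt N1150 (iv F5451)) (tt N835 (iv D3121)) (tt N1045 F5450) (tt N1150 (iv F5452)) (tt N1400 (iv F23591)) (tt N1045 (iv F23573)))
theorem Q1199 : ∀ i, i < 1199 → P i := stepQ 1198 Q1198 (allL N1198 (tt N839 F5453) (tt N1430 (iv F20974)) (tt N1150 F5454) (tt N913 F5455) (tt N835 (iv D3122)) (tt N1554 D4493) (tt N1087 F23953))
theorem Q1200 : ∀ i, i < 1200 → P i := stepQ 1199 Q1199 (allL N1199 (tt N840 F5456) (tt N1420 F20532) (tt N1400 F23744) (tt N836 F5457) (tt N1554 (iv F7583)) (tt N835 (iv D3123)) (tt N1204 (iv F5478)))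
theorem Q1201 : ∀ i, i < 1201 → P i := stepQ 1200 Q1200 (allL N1200 (tt N1208 (iv F23949)) (tt N836 (iv D3125)) (tt N867 F20274) (tt N1420 (iv F20338)) (tt N866 F20275) (tt N865 (iv F20339)) (tt N854 F23933))
theorem Q1202 : ∀ i, i < 1202 → P i := stepQ 1201 Q1201 (allL N1201 (tt N1400 F23742) (tt N1518 (iv F23860)) (tt N840 F5462) (tt N1046 F5463) (tt N1368 (iv F23905)) (tt N838 (iv D3127)) (tt N1398 F23743))
theorem Q1203 : ∀ i, i < 1203 → P i := stepQ 1202 Q1202 (allL N1202 (tt N1554 (iv F7580)) (tt N1555 D4507) (tt N1368 F23907) (tt N917 F5466) (tt N840 F5467) (tt N839 (iv D3129)) (tt N1434 F23908))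
theorem Q1204 : ∀ i, i < 1204 → P i := stepQ 1203 Q1203 (allL N1203 (tt N1457 F22633) (tt N840 (iv D3131)) (tt N1556 D4512) (tt N842 F5470) (tt N1555 (iv F7608)) (tt N848 F5471) (tt N1455 F22634))
theorem Q1205 : ∀ i, i < 1205 → P i := stepQ 1204 Q1204 (allL N1204 (tt N1106 (iv F23739)) (tt N1557 D4518) (tt N1046 (iv F23362)) (tt N845 F5477) (tt N1364 (iv F23363)) (tt N841 (iv D3134)) (tt N1199 F5478))
theorem Q1206 : ∀ i, i < 1206 → P i := stepQ 1205 Q1205 (allL N1205 (tt N842 (iv D3135)) (tt N891 (iv F22816)) (tt N1519 (iv F23892)) (tt N1457 F22626) (tt N920 F5479) (tt N850 F5480) (tt N1221 (iv F5510)))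
theorem Q1207 : ∀ i, i < 1207 → P i := stepQ 1206 Q1206 (allL N1206 (tt N1519 (iv F23891)) (tt N1419 (iv F6870)) (tt N842 (iv D3136)) (tt N1558 D4521) (tt N921 F5481) (tt N851 F5482) (tt N1505 F23508))
theorem Q1208 : ∀ i, i < 1208 → P i := stepQ 1207 Q1207 (allL N1207 (tt N1221 (iv F5508)) (tt N893 (iv F23507)) (tt N1505 (iv F23505)) (tt N1455 F22625) (tt N922 F5483) (tt N1218 (iv F5504)) (tt N842 (iv D3137)))
theorem Q1209 : ∀ i, i < 1209 → P i := stepQ 1208 Q1208 (allL N1208 (tt N1200 F23949) (tt N1250 F23950) (tt N1229 (iv F24080)) (tt N1071 F23951) (tt N923 F5487) (tt N844 (iv D3140)) (tt N1222 (iv F5514)))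
theorem Q1210 : ∀ i, i < 1210 → P i := stepQ 1209 Q1209 (allL N1209 (tt N1252 F23399) (tt N845 (iv D3141)) (tt N1559 D4530) (tt N1557 (iv F7629)) (tt N924 F5488) (tt N1250 (iv F23570)) (tt N896 F23400))
theorem Q1211 : ∀ i, i < 1211 → P i := stepQ 1210 Q1210 (allL N1210 (tt N1560 D4532) (tt N846 (iv D3142)) (tt N1561 D4533) (tt N925 F5489) (tt N848 F5490) (tt N1555 (iv F7609)) (tt N1562 D4534))
theorem Q1212 : ∀ i, i < 1212 → P i := stepQ 1211 Q1211 (allL N1211 (tt N848 (iv D3144)) (tt N1108 F21598) (tt N1563 D4539) (tt N850 F5493) (tt N1560 (iv F7651)) (tt N1457 F22638) (tt N1564 D4540))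
theorem Q1213 : ∀ i, i < 1213 → P i := stepQ 1212 Q1212 (allL N1212 (tt N1563 (iv F7663)) (tt N1113 F5494) (tt N848 (iv D3145)) (tt N1565 D4541) (tt N1561 (iv F7653)) (tt N1556 (iv F7622)) (tt N1566 D4542))
theorem Q1214 : ∀ i, i < 1214 → P i := stepQ 1213 Q1213 (allL N1213 (tt N1564 (iv F7664)) (tt N863 (iv F23967)) (tt N1566 (iv F7668)) (tt N852 F5495) (tt N1562 (iv F7655)) (tt N1109 F22351) (tt N848 (iv D3146)))
theorem Q1215 : ∀ i, i < 1215 → P i := stepQ 1214 Q1214 (allL N1214 (tt N849 (iv D3147)) (tt N1214 F22353) (tt N905 F24315) (tt N853 F5496) (tt N1003 F24316) (tt N1422 F24317) (tt N1069 F24318))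
theorem Q1216 : ∀ i, i < 1216 → P i := stepQ 1215 Q1215 (allL N1215 (tt N1422 (iv F24122)) (tt N1249 (iv F5722)) (tt N906 (iv F24206)) (tt N854 F5498) (tt N1005 (iv F24065)) (tt N849 (iv D3149)) (tt N1420 (iv F24072)))
theorem Q1217 : ∀ i, i < 1217 → P i := stepQ 1216 Q1216 (allL N1216 (tt N1107 F20912) (tt N850 (iv D3150)) (tt N1264 (iv F21428)) (tt N1108 (iv F21246)) (tt N932 F5499) (tt N1112 (iv F21248)) (tt N1460 (iv F21251)))
theorem Q1218 : ∀ i, i < 1218 → P i := stepQ 1217 Q1217 (allL N1217 (tt N851 F5500) (tt N1567 D4554) (tt N850 (iv D3151)) (tt N1568 D4555) (tt N933 F5501) (tt N1519 (iv F23893)) (tt N1569 D4556))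
theorem Q1219 : ∀ i, i < 1219 → P i := stepQ 1218 Q1218 (allL N1218 (tt N852 F5502) (tt N1252 (iv F22813)) (tt N1569 (iv F7690)) (tt N1564 (iv F7665)) (tt N934 F5503) (tt N1207 F5504) (tt N850 (iv D3152)))
theorem Q1220 : ∀ i, i < 1220 → P i := stepQ 1219 Q1219 (allL N1219 (tt N1568 (iv F7688)) (tt N856 F5505) (tt N1570 D4558) (tt N851 (iv D3153)) (tt N1571 D4559) (tt N1558 (iv F7634)) (tt N1572 D4560))
theorem Q1221 : ∀ i, i < 1221 → P i := stepQ 1220 Q1220 (allL N1220 (tt N1569 (iv F7689)) (tt N903 (iv F24145)) (tt N852 F5506) (tt N1572 (iv F7696)) (tt N936 F5507) (tt N1168 (iv F23889)) (tt N851 (iv D3154)))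
theorem Q1222 : ∀ i, i < 1222 → P i := stepQ 1221 Q1221 (allL N1221 (tt N1207 F5508) (tt N861 (iv F23629)) (tt N1168 (iv F23888)) (tt N1109 F22414) (tt N937 F5509) (tt N852 (iv D3155)) (tt N1205 F5510))
theorem Q1223 : ∀ i, i < 1223 → P i := stepQ 1222 Q1222 (allL N1222 (tt N854 F5512) (tt N1461 F22090) (tt N1232 (iv F24202)) (tt N1422 (iv F24123)) (tt N938 F5513) (tt N853 (iv D3157)) (tt N1208 F5514))
theorem Q1224 : ∀ i, i < 1224 → P i := stepQ 1223 Q1223 (allL N1223 (tt N1495 F23925) (tt N855 (iv D3159)) (tt N1136 F23926) (tt N1571 (iv F22192)) (tt N935 F21949) (tt N1490 (iv F24198)) (tt N1135 F23927))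
theorem Q1225 : ∀ i, i < 1225 → P i := stepQ 1224 Q1224 (allL N1224 (tt N856 F5520) (tt N1571 F22309) (tt N1228 (iv F5528)) (tt N855 (iv D3160)) (tt N856 (iv F22425)) (tt N1228 (iv F5529)) (tt N1260 (iv F5795)))
theorem Q1226 : ∀ i, i < 1226 → P i := stepQ 1225 Q1225 (allL N1225 (tt N1260 (iv F5792)) (tt N1573 D4576) (tt N898 F5522) (tt N857 F5523) (tt N1260 F22649) (tt N1259 (iv F5789)) (tt N856 (iv D3162)))
theorem Q1227 : ∀ i, i < 1227 → P i := stepQ 1226 Q1226 (allL N1226 (tt N1267 F24323) (tt N857 (iv D3163)) (tt N904 F24324) (tt N1573 (iv F7723)) (tt N940 F5524) (tt N1266 F24325) (tt N903 F24326))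
theorem Q1228 : ∀ i, i < 1228 → P i := stepQ 1227 Q1227 (allL N1227 (tt N1574 D4579) (tt N858 (iv D3164)) (tt N1123 F5525) (tt N1575 D4580) (tt N1181 F22261) (tt N1576 D4581) (tt N1577 D4582))
theorem Q1229 : ∀ i, i < 1229 → P i := stepQ 1228 Q1228 (allL N1228 (tt N1068 F5527) (tt N1575 (iv F7728)) (tt N1224 F5528) (tt N858 (iv D3165)) (tt N1068 (iv F22648)) (tt N1224 F5529) (tt N1259 (iv F5790)))
theorem Q1230 : ∀ i, i < 1230 → P i := stepQ 1229 Q1229 (allL N1229 (tt N867 F5557) (tt N1562 F24079) (tt N1208 F24080) (tt N952 F5558) (tt N863 F5559) (tt N862 (iv D3181)) (tt N1232 (iv F5598)))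
theorem Q1231 : ∀ i, i < 1231 → P i := stepQ 1230 Q1230 (allL N1230 (tt N1578 D4638) (tt N867 (iv D3199)) (tt N1472 (iv F20249)) (tt N959 F5586) (tt N869 F5587) (tt N882 F5588) (tt N1447 (iv F23167)))
theorem Q1232 : ∀ i, i < 1232 → P i := stepQ 1231 Q1231 (allL N1231 (tt N1231 F22154) (tt N868 (iv D3201)) (tt N1231 F22155) (tt N961 F5592) (tt N870 F5593) (tt N884 F24373) (tt N884 F5594))
theorem Q1233 : ∀ i, i < 1233 → P i := stepQ 1232 Q1232 (allL N1232 (tt N1103 F24201) (tt N885 (iv F24230)) (tt N1222 F24202) (tt N962 F5596) (tt N871 F5597) (tt N868 (iv D3202)) (tt N1229 F5598))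
theorem Q1234 : ∀ i, i < 1234 → P i := stepQ 1233 Q1233 (allL N1233 (tt N869 (iv D3203)) (tt N1106 (iv F20286)) (tt N1523 (iv F20305)) (tt N872 F5599) (tt N1578 (iv F7835)) (tt N886 F5600) (tt N1246 (iv F5720)))
theorem Q1235 : ∀ i, i < 1235 → P i := stepQ 1234 Q1234 (allL N1234 (tt N1339 F24297) (tt N908 F5613) (tt N874 (iv D3214)) (tt N908 F23159) (tt N971 F5614) (tt N1462 F24298) (tt N1426 (iv F23486)))
theorem Q1236 : ∀ i, i < 1236 → P i := stepQ 1235 Q1235 (allL N1235 (tt N949 F5631) (tt N878 F5632) (tt N1579 D4690) (tt N876 (iv D3223)) (tt N1081 F5633) (tt N1268 (iv F20707)) (tt N1235 F22722))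
theorem Q1237 : ∀ i, i < 1237 → P i := stepQ 1236 Q1236 (allL N1236 (tt N1095 F5680) (tt N1294 (iv F20782)) (tt N1236 F5681) (tt N879 F5682) (tt N1083 F5683) (tt N878 (iv D3230)) (tt N1303 (iv F24031)))
theorem Q1238 : ∀ i, i < 1238 → P i := stepQ 1237 Q1237 (allL N1237 (tt N954 F24259) (tt N1237 F22541) (tt N1237 F5685) (tt N880 F5686) (tt N1084 F5687) (tt N1441 (iv F7045)) (tt N878 (iv D3231)))
theorem Q1239 : ∀ i, i < 1239 → P i := stepQ 1238 Q1238 (allL N1238 (tt N882 (iv D3240)) (tt N1089 (iv F20311)) (tt N1580 D4724) (tt N973 F5696) (tt N886 F5697) (tt N1578 (iv F7836)) (tt N1581 D4725))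
theorem Q1240 : ∀ i, i < 1240 → P i := stepQ 1239 Q1239 (allL N1239 (tt N1580 (iv F7982)) (tt N1133 (iv F23197)) (tt N882 (iv D3241)) (tt N1137 (iv F23470)) (tt N887 F5698) (tt N1472 F20277) (tt N1529 (iv F23291)))
theorem Q1241 : ∀ i, i < 1241 → P i := stepQ 1240 Q1240 (allL N1240 (tt N1581 (iv F7984)) (tt N1582 D4728) (tt N1529 (iv F23289)) (tt N975 F5699) (tt N888 F5700) (tt N1528 (iv F23313)) (tt N882 (iv D3242)))
theorem Q1242 : ∀ i, i < 1242 → P i := stepQ 1241 Q1241 (allL N1241 (tt N1583 D4730) (tt N883 (iv D3243)) (tt N1584 D4731) (tt N976 F5701) (tt N889 F5702) (tt N1352 F24066) (tt N1582 (iv F7992)))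
theorem Q1243 : ∀ i, i < 1243 → P i := stepQ 1242 Q1242 (allL N1242 (tt N887 F5711) (tt N1154 (iv F20649)) (tt N886 (iv D3249)) (tt N1380 (iv F22979)) (tt N1580 (iv F7983)) (tt N1523 F20404) (tt N1379 (iv F22964)))
theorem Q1244 : ∀ i, i < 1244 → P i := stepQ 1243 Q1243 (allL N1243 (tt N888 F5712) (tt N1457 (iv F20541)) (tt N1379 (iv F22963)) (tt N891 F5713) (tt N1581 (iv F7986)) (tt N1117 (iv F22855)) (tt N886 (iv D3250)))
theorem Q1245 : ∀ i, i < 1245 → P i := stepQ 1244 Q1244 (allL N1244 (tt N1379 F23145) (tt N1585 D4754) (tt N888 F5715) (tt N1377 F23675) (tt N1529 (iv F23290)) (tt N1416 (iv F23318)) (tt N887 (iv D3252)))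
theorem Q1246 : ∀ i, i < 1246 → P i := stepQ 1245 Q1245 (allL N1245 (tt N1421 (iv F23133)) (tt N888 (iv D3253)) (tt N1586 D4757) (tt N892 F5716) (tt N1582 (iv F7991)) (tt N1587 D4758) (tt N889 F5717))
theorem Q1247 : ∀ i, i < 1247 → P i := stepQ 1246 Q1246 (allL N1246 (tt N1117 F22980) (tt N1455 F23580) (tt N1416 (iv F23317)) (tt N893 F5719) (tt N1528 (iv F23312)) (tt N888 (iv D3254)) (tt N1233 F5720))
theorem Q1248 : ∀ i, i < 1248 → P i := stepQ 1247 Q1247 (allL N1247 (tt N889 (iv D3255)) (tt N1465 (iv F23942)) (tt N1588 D4761) (tt N894 F5721) (tt N1583 (iv F7998)) (tt N1466 F23569) (tt N1421 (iv F23135)))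
theorem Q1249 : ∀ i, i < 1249 → P i := stepQ 1248 Q1248 (allL N1248 (tt N1588 (iv F8047)) (tt N1462 (iv F7175)) (tt N889 (iv D3256)) (tt N1589 D4763) (tt N1584 (iv F7999)) (tt N1589 F24215) (tt N1586 (iv F8043)))
theorem Q1250 : ∀ i, i < 1250 → P i := stepQ 1249 Q1249 (allL N1249 (tt N1466 F23562) (tt N1215 F5722) (tt N1589 F24218) (tt N896 F5723) (tt N1352 (iv F23727)) (tt N889 (iv D3257)) (tt N1557 F23563))
theorem Q1251 : ∀ i, i < 1251 → P i := stepQ 1250 Q1250 (allL N1250 (tt N892 (iv D3273)) (tt N1208 (iv F23950)) (tt N1590 D4801) (tt N1421 (iv F23134)) (tt N986 F5743) (tt N1209 F23570) (tt N894 F5744))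
theorem Q1252 : ∀ i, i < 1252 → P i := stepQ 1251 Q1251 (allL N1251 (tt N1590 (iv F8104)) (tt N1415 (iv F6858)) (tt N892 (iv D3274)) (tt N1591 D4802) (tt N987 F5745) (tt N1591 F23443) (tt N895 F5746))
theorem Q1253 : ∀ i, i < 1253 → P i := stepQ 1252 Q1252 (allL N1252 (tt N1209 (iv F23399)) (tt N1218 F22813) (tt N1591 F23442) (tt N1587 (iv F8044)) (tt N988 F5747) (tt N892 (iv D3275)) (tt N1255 (iv F5754)))
theorem Q1254 : ∀ i, i < 1254 → P i := stepQ 1253 Q1253 (allL N1253 (tt N1338 F13635) (tt N894 (iv D3277)) (tt N1318 (iv F23939)) (tt N1465 (iv F23943)) (tt N989 F5749) (tt N1338 F22814) (tt N1461 (iv F23944)))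
theorem Q1255 : ∀ i, i < 1255 → P i := stepQ 1254 Q1254 (allL N1254 (tt N895 F5750) (tt N1319 (iv F23934)) (tt N894 (iv D3278)) (tt N1257 F23567) (tt N990 F5751) (tt N1256 F23568) (tt N1590 (iv F8106)))
theorem Q1256 : ∀ i, i < 1256 → P i := stepQ 1255 Q1255 (allL N1255 (tt N896 F5752) (tt N1460 (iv F23437)) (tt N1256 F23716) (tt N1466 (iv F23435)) (tt N991 F5753) (tt N894 (iv D3279)) (tt N1252 F5754))
theorem Q1257 : ∀ i, i < 1257 → P i := stepQ 1256 Q1256 (allL N1256 (tt N1257 (iv F23565)) (tt N898 F5755) (tt N1255 (iv F23716)) (tt N895 (iv D3280)) (tt N1341 F23332) (tt N1254 (iv F23568)) (tt N1591 (iv F8107)))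
theorem Q1258 : ∀ i, i < 1258 → P i := stepQ 1257 Q1257 (allL N1257 (tt N1256 F23565) (tt N1592 D4819) (tt N896 F5756) (tt N1254 (iv F23567)) (tt N993 F5757) (tt N895 (iv D3281)) (tt N1559 (iv F23776)))
theorem Q1259 : ∀ i, i < 1259 → P i := stepQ 1258 Q1258 (allL N1258 (tt N1342 (iv F23333)) (tt N897 (iv D3298)) (tt N992 (iv F23139)) (tt N1341 F23330) (tt N992 F22652) (tt N1340 F23331) (tt N1593 D4859))
theorem Q1260 : ∀ i, i < 1260 → P i := stepQ 1259 Q1259 (allL N1259 (tt N898 F5788) (tt N1341 F23329) (tt N1260 (iv F5793)) (tt N897 (iv D3299)) (tt N898 (iv F22650)) (tt N1225 F5789) (tt N1228 F5790))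
theorem Q1261 : ∀ i, i < 1261 → P i := stepQ 1260 Q1260 (allL N1260 (tt N1225 F5792) (tt N1594 D4862) (tt N1259 F5793) (tt N899 F5794) (tt N1225 (iv F22649)) (tt N898 (iv D3301)) (tt N1224 F5795))
theorem Q1262 : ∀ i, i < 1262 → P i := stepQ 1261 Q1261 (allL N1261 (tt N1595 D4863) (tt N899 (iv D3302)) (tt N1104 F5796) (tt N1594 (iv F8219)) (tt N994 F5797) (tt N1592 (iv F8132)) (tt N1350 (iv F23909)))
theorem Q1263 : ∀ i, i < 1263 → P i := stepQ 1262 Q1262 (allL N1262 (tt N1024 (iv F23487)) (tt N902 (iv D3326)) (tt N1596 D4896) (tt N999 F5858) (tt N999 F5859) (tt N1079 (iv F23491)) (tt N1022 F23163))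
theorem Q1264 : ∀ i, i < 1264 → P i := stepQ 1263 Q1263 (allL N1263 (tt N903 F5860) (tt N1547 F21480) (tt N902 (iv D3327)) (tt N1454 F21481) (tt N1000 F5861) (tt N1425 (iv F23480)) (tt N1267 F23164))
theorem Q1265 : ∀ i, i < 1265 → P i := stepQ 1264 Q1264 (allL N1264 (tt N1454 F21427) (tt N1572 (iv F24147)) (tt N1216 F21428) (tt N903 (iv D3329)) (tt N1286 F21429) (tt N1426 (iv F23485)) (tt N1573 F24131))
theorem Q1266 : ∀ i, i < 1266 → P i := stepQ 1265 Q1265 (allL N1265 (tt N1265 F5872) (tt N905 (iv D3332)) (tt N1265 F22828) (tt N1002 F5873) (tt N1002 F5874) (tt N1002 (iv F22867)) (tt N1002 (iv F6513)))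
theorem Q1267 : ∀ i, i < 1267 → P i := stepQ 1266 Q1266 (allL N1266 (tt N908 F5889) (tt N1340 F24299) (tt N907 (iv D3339)) (tt N1339 F24300) (tt N1012 F5890) (tt N1226 (iv F24325)) (tt N1425 (iv F6924)))
theorem Q1268 : ∀ i, i < 1268 → P i := stepQ 1267 Q1267 (allL N1267 (tt N1226 (iv F24323)) (tt N1589 F24061) (tt N909 F5903) (tt N1462 (iv F24136)) (tt N1014 F5904) (tt N908 (iv D3342)) (tt N1263 (iv F23164)))
theorem Q1269 : ∀ i, i < 1269 → P i := stepQ 1268 Q1268 (allL N1268 (tt N911 F5923) (tt N941 F5924) (tt N1597 D4929) (tt N910 (iv D3349)) (tt N1432 (iv F20979)) (tt N1235 F20707) (tt N911 (iv F22724)))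
theorem Q1270 : ∀ i, i < 1270 → P i := stepQ 1269 Q1269 (allL N1269 (tt N1597 (iv F8342)) (tt N1479 (iv F7236)) (tt N911 (iv D3355)) (tt N1598 D4940) (tt N1598 F8365) (tt N1295 F20708) (tt N1597 F23070))
theorem Q1271 : ∀ i, i < 1271 → P i := stepQ 1270 Q1270 (allL N1270 (tt N1432 (iv F20978)) (tt N913 F5937) (tt N1598 (iv F8364)) (tt N1430 (iv F20975)) (tt N911 (iv D3356)) (tt N1301 F20705) (tt N1432 (iv F23062)))
theorem Q1272 : ∀ i, i < 1272 → P i := stepQ 1271 Q1271 (allL N1271 (tt N915 F5945) (tt N1088 F5946) (tt N913 F5947) (tt N1087 F5948) (tt N912 (iv D3363)) (tt N1276 (iv F24075)) (tt N913 (iv F24169)))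
theorem Q1273 : ∀ i, i < 1273 → P i := stepQ 1272 Q1272 (allL N1272 (tt N917 F5953) (tt N1302 F20335) (tt N1276 F24076) (tt N1554 (iv F7582)) (tt N914 F5954) (tt N913 (iv D3366)) (tt N1273 F24077))
theorem Q1274 : ∀ i, i < 1274 → P i := stepQ 1273 Q1273 (allL N1273 (tt N1276 (iv F24073)) (tt N1599 D4987) (tt N917 F5965) (tt N1364 (iv F6632)) (tt N916 F5966) (tt N915 (iv D3379)) (tt N1272 (iv F24077)))
theorem Q1275 : ∀ i, i < 1275 → P i := stepQ 1274 Q1274 (allL N1274 (tt N1306 F20218) (tt N916 (iv D3381)) (tt N980 F23075) (tt N924 (iv F23394)) (tt N1599 (iv F8428)) (tt N957 F5969) (tt N982 (iv F23095)))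
theorem Q1276 : ∀ i, i < 1276 → P i := stepQ 1275 Q1275 (allL N1275 (tt N1600 D4999) (tt N917 (iv D3385)) (tt N975 F23388) (tt N1555 (iv F7607)) (tt N918 F5976) (tt N925 F5977) (tt N974 F23389))
theorem Q1277 : ∀ i, i < 1277 → P i := stepQ 1276 Q1276 (allL N1276 (tt N1273 F24073) (tt N1308 (iv F24085)) (tt N1272 (iv F24076)) (tt N1434 F24074) (tt N919 F5978) (tt N1271 F24075) (tt N917 (iv D3386)))
theorem Q1278 : ∀ i, i < 1278 → P i := stepQ 1277 Q1277 (allL N1277 (tt N918 (iv D3389)) (tt N979 (iv F23053)) (tt N979 F23378) (tt N920 F5985) (tt N1600 (iv F8445)) (tt N927 F5986) (tt N978 F23379))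
theorem Q1279 : ∀ i, i < 1279 → P i := stepQ 1278 Q1278 (allL N1278 (tt N1337 F23398) (tt N1507 (iv F7364)) (tt N924 (iv D3408)) (tt N1601 D5052) (tt N1559 (iv F7647)) (tt N1335 (iv F23777)) (tt N993 (iv F23778)))
theorem Q1280 : ∀ i, i < 1280 → P i := stepQ 1279 Q1279 (allL N1279 (tt N925 (iv D3410)) (tt N1602 D5055) (tt N1310 F23376) (tt N1560 (iv F7650)) (tt N927 F6003) (tt N1600 (iv F8446)) (tt N1309 F23377))
theorem Q1281 : ∀ i, i < 1281 → P i := stepQ 1280 Q1280 (allL N1280 (tt N1310 F23373) (tt N974 F6004) (tt N925 (iv D3411)) (tt N1528 (iv F20326)) (tt N928 F6005) (tt N975 F23374) (tt N1308 F23375))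
theorem Q1282 : ∀ i, i < 1282 → P i := stepQ 1281 Q1281 (allL N1281 (tt N1309 F23381) (tt N952 (iv F23751)) (tt N1308 F23382) (tt N1562 (iv F7654)) (tt N929 F6006) (tt N1323 (iv F23701)) (tt N925 (iv D3412)))
theorem Q1283 : ∀ i, i < 1283 → P i := stepQ 1282 Q1282 (allL N1282 (tt N926 (iv D3413)) (tt N1282 F22257) (tt N953 F24265) (tt N1003 (iv F24271)) (tt N930 F6007) (tt N1305 F24266) (tt N950 F24267))
theorem Q1284 : ∀ i, i < 1284 → P i := stepQ 1283 Q1283 (allL N1283 (tt N1305 (iv F24112)) (tt N1328 F23780) (tt N962 (iv F24097)) (tt N1005 F24089) (tt N931 F6010) (tt N926 (iv D3415)) (tt N1302 (iv F24285)))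
theorem Q1285 : ∀ i, i < 1285 → P i := stepQ 1284 Q1284 (allL N1284 (tt N1603 D5067) (tt N927 (iv D3416)) (tt N1604 D5068) (tt N932 F6011) (tt N1602 (iv F8504)) (tt N1312 F22713) (tt N1605 D5070))
theorem Q1286 : ∀ i, i < 1286 → P i := stepQ 1285 Q1285 (allL N1285 (tt N932 (iv D3428)) (tt N948 F23691) (tt N1535 (iv F11480)) (tt N1603 (iv F8529)) (tt N1107 (iv F20657)) (tt N1110 (iv F20659)) (tt N972 F22863))
theorem Q1287 : ∀ i, i < 1287 → P i := stepQ 1286 Q1286 (allL N1286 (tt N1535 (iv F11479)) (tt N1482 (iv F21425)) (tt N932 (iv D3429)) (tt N1350 (iv F21433)) (tt N1264 (iv F21429)) (tt N1317 F23194) (tt N1594 F24130))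
theorem Q1288 : ∀ i, i < 1288 → P i := stepQ 1287 Q1287 (allL N1287 (tt N972 F22860) (tt N991 F23566) (tt N1594 (iv F23936)) (tt N1605 (iv F8531)) (tt N1460 (iv F21250)) (tt N970 F22862) (tt N932 (iv D3431)))
theorem Q1289 : ∀ i, i < 1289 → P i := stepQ 1288 Q1288 (allL N1288 (tt N1513 F11470) (tt N933 (iv D3432)) (tt N1482 F21824) (tt N1512 (iv F21836)) (tt N1567 (iv F7687)) (tt N1492 F21825) (tt N1606 D5108))
theorem Q1290 : ∀ i, i < 1290 → P i := stepQ 1289 Q1289 (allL N1289 (tt N936 F6033) (tt N1607 D5112) (tt N934 F6034) (tt N1156 F23890) (tt N1569 (iv F7691)) (tt N1165 (iv F23554)) (tt N933 (iv D3434)))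
theorem Q1291 : ∀ i, i < 1291 → P i := stepQ 1290 Q1290 (allL N1290 (tt N1459 F21398) (tt N938 (iv D3446)) (tt N1115 (iv F22358)) (tt N1307 (iv F24288)) (tt N1461 (iv F21801)) (tt N1290 F22258) (tt N989 F24221))
theorem Q1292 : ∀ i, i < 1292 → P i := stepQ 1291 Q1291 (allL N1291 (tt N1184 F6045) (tt N968 F23214) (tt N1105 F6046) (tt N939 (iv D3449)) (tt N1406 F23215) (tt N1043 F6047) (tt N996 F21459))
theorem Q1293 : ∀ i, i < 1293 → P i := stepQ 1292 Q1292 (allL N1292 (tt N944 F6090) (tt N1608 D5208) (tt N941 (iv D3479)) (tt N1609 D5209) (tt N1609 F8704) (tt N1610 D5210) (tt N1479 (iv F23025)))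
theorem Q1294 : ∀ i, i < 1294 → P i := stepQ 1293 Q1293 (allL N1293 (tt N945 F6091) (tt N1432 F20997) (tt N1609 (iv F8703)) (tt N1090 F23537) (tt N941 (iv D3480)) (tt N1433 F20998) (tt N1088 (iv F23715)))
theorem Q1295 : ∀ i, i < 1295 → P i := stepQ 1294 Q1294 (allL N1294 (tt N946 F6092) (tt N1236 F20782) (tt N1610 (iv F8706)) (tt N942 F6093) (tt N1433 (iv F20939)) (tt N941 (iv D3481)) (tt N1300 (iv F6125)))
theorem Q1296 : ∀ i, i < 1296 → P i := stepQ 1295 Q1295 (allL N1295 (tt N1579 (iv F7924)) (tt N944 (iv D3492)) (tt N949 F6110) (tt N1611 D5236) (tt N1611 F8745) (tt N1269 (iv F20708)) (tt N1295 F22723))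
theorem Q1297 : ∀ i, i < 1297 → P i := stepQ 1296 Q1296 (allL N1296 (tt N1609 (iv F8702)) (tt N1611 (iv F8743)) (tt N945 F6111) (tt N944 (iv D3493)) (tt N944 (iv F6112)) (tt N1612 D5239) (tt N1091 (iv F23325)))
theorem Q1298 : ∀ i, i < 1298 → P i := stepQ 1297 Q1297 (allL N1297 (tt N1610 (iv F8705)) (tt N1329 (iv F20696)) (tt N946 F6113) (tt N1612 (iv F8749)) (tt N1612 (iv F8750)) (tt N944 (iv D3494)) (tt N1329 (iv F23239)))
theorem Q1299 : ∀ i, i < 1299 → P i := stepQ 1298 Q1298 (allL N1298 (tt N1479 (iv F23024)) (tt N1298 F23020) (tt N947 F6114) (tt N1091 (iv F23323)) (tt N1091 (iv F23324)) (tt N1613 D5244) (tt N944 (iv D3495)))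
theorem Q1300 : ∀ i, i < 1300 → P i := stepQ 1299 Q1299 (allL N1299 (tt N1433 (iv F20938)) (tt N1323 F20485) (tt N1612 (iv F8748)) (tt N1094 (iv F23916)) (tt N946 F6115) (tt N945 (iv D3496)) (tt N1322 (iv F23974)))
theorem Q1301 : ∀ i, i < 1301 → P i := stepQ 1300 Q1300 (allL N1300 (tt N977 F23690) (tt N1603 (iv F23719)) (tt N1613 (iv F8757)) (tt N948 F6124) (tt N1092 (iv F24035)) (tt N947 (iv D3501)) (tt N1294 F6125))
theorem Q1302 : ∀ i, i < 1302 → P i := stepQ 1301 Q1301 (allL N1301 (tt N1081 F6130) (tt N950 F6131) (tt N1611 (iv F8744)) (tt N1080 F6132) (tt N949 (iv D3510)) (tt N1270 (iv F20705)) (tt N1301 F22458))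
theorem Q1303 : ∀ i, i < 1303 → P i := stepQ 1302 Q1302 (allL N1302 (tt N956 F6135) (tt N1272 (iv F20335)) (tt N952 F6136) (tt N1353 (iv F22720)) (tt N951 F6137) (tt N950 (iv D3513)) (tt N1283 F24285))
theorem Q1304 : ∀ i, i < 1304 → P i := stepQ 1303 Q1303 (allL N1303 (tt N1441 (iv F24255)) (tt N1315 (iv F6204)) (tt N1303 F22454) (tt N955 F6148) (tt N1098 (iv F24258)) (tt N954 (iv D3524)) (tt N1236 F24031))
theorem Q1305 : ∀ i, i < 1305 → P i := stepQ 1304 Q1304 (allL N1304 (tt N1326 (iv F23073)) (tt N956 (iv D3541)) (tt N1614 D5342) (tt N1365 (iv F6635)) (tt N957 F6173) (tt N1599 (iv F8429)) (tt N1327 (iv F23074)))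
theorem Q1306 : ∀ i, i < 1306 → P i := stepQ 1305 Q1305 (allL N1305 (tt N1283 F24112) (tt N1615 D5344) (tt N960 F6174) (tt N1351 (iv F22738)) (tt N958 F6175) (tt N1282 (iv F24266)) (tt N956 (iv D3542)))
theorem Q1307 : ∀ i, i < 1307 → P i := stepQ 1306 Q1306 (allL N1306 (tt N1274 (iv F20218)) (tt N964 F6182) (tt N957 (iv D3546)) (tt N988 F23065) (tt N1614 (iv F8883)) (tt N980 (iv F23387)) (tt N1331 (iv F22764)))
theorem Q1308 : ∀ i, i < 1308 → P i := stepQ 1307 Q1307 (allL N1307 (tt N1616 D5356) (tt N958 (iv D3548)) (tt N1617 D5357) (tt N1290 F24288) (tt N1615 (iv F8885)) (tt N1307 F22467) (tt N1330 (iv F22737)))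
theorem Q1309 : ∀ i, i < 1309 → P i := stepQ 1308 Q1308 (allL N1308 (tt N959 (iv D3553)) (tt N1276 F24085) (tt N1281 (iv F23382)) (tt N1578 (iv F7834)) (tt N963 F6184) (tt N973 F6185) (tt N1280 (iv F23375)))
theorem Q1310 : ∀ i, i < 1310 → P i := stepQ 1309 Q1309 (allL N1309 (tt N1281 (iv F23381)) (tt N1614 (iv F8882)) (tt N959 (iv D3554)) (tt N1618 D5371) (tt N964 F6186) (tt N974 F6187) (tt N1279 (iv F23377)))
theorem Q1311 : ∀ i, i < 1311 → P i := stepQ 1310 Q1310 (allL N1310 (tt N1280 (iv F23373)) (tt N1442 F23046) (tt N1279 (iv F23376)) (tt N1447 (iv F23165)) (tt N965 F6188) (tt N1324 (iv F6246)) (tt N959 (iv D3555)))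
theorem Q1312 : ∀ i, i < 1312 → P i := stepQ 1311 Q1311 (allL N1311 (tt N1444 (iv F22701)) (tt N960 (iv D3556)) (tt N1619 D5375) (tt N1449 (iv F22709)) (tt N966 F6189) (tt N1446 F24189) (tt N1442 (iv F22711)))
theorem Q1313 : ∀ i, i < 1313 → P i := stepQ 1312 Q1312 (allL N1312 (tt N1440 (iv F22706)) (tt N965 (iv D3565)) (tt N1620 D5394) (tt N969 F6201) (tt N1442 (iv F22710)) (tt N1284 (iv F22713)) (tt N966 F6202))
theorem Q1314 : ∀ i, i < 1314 → P i := stepQ 1313 Q1313 (allL N1313 (tt N966 (iv D3566)) (tt N1621 D5396) (tt N1622 D5397) (tt N970 F6203) (tt N1444 (iv F22702)) (tt N1605 (iv F22705)) (tt N1440 (iv F22707)))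
theorem Q1315 : ∀ i, i < 1315 → P i := stepQ 1314 Q1314 (allL N1314 (tt N1622 (iv F8950)) (tt N1617 (iv F8899)) (tt N966 (iv D3567)) (tt N1619 F23747) (tt N1619 (iv F8921)) (tt N1623 D5400) (tt N1620 (iv F8947)))
theorem Q1316 : ∀ i, i < 1316 → P i := stepQ 1315 Q1315 (allL N1315 (tt N1605 (iv F22703)) (tt N1303 F6204) (tt N1623 (iv F8954)) (tt N972 F6205) (tt N1446 (iv F24107)) (tt N966 (iv D3568)) (tt N1603 (iv F22712)))
theorem Q1317 : ∀ i, i < 1317 → P i := stepQ 1316 Q1316 (allL N1316 (tt N1404 (iv F23720)) (tt N967 (iv D3581)) (tt N1177 (iv F23721)) (tt N1064 (iv F23725)) (tt N1405 (iv F6805)) (tt N1060 (iv F23724)) (tt N1403 (iv F23812)))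
theorem Q1318 : ∀ i, i < 1318 → P i := stepQ 1317 Q1317 (allL N1317 (tt N1458 (iv F23086)) (tt N1105 (iv F23193)) (tt N969 (iv D3584)) (tt N1100 (iv F23191)) (tt N1426 F23869) (tt N1286 (iv F23194)) (tt N971 F6221))
theorem Q1319 : ∀ i, i < 1319 → P i := stepQ 1318 Q1318 (allL N1318 (tt N989 F23938) (tt N970 (iv D3586)) (tt N1253 F23939) (tt N1621 (iv F8949)) (tt N1338 F23940) (tt N989 F23941) (tt N1459 F22507))
theorem Q1320 : ∀ i, i < 1320 → P i := stepQ 1319 Q1319 (allL N1319 (tt N971 F6222) (tt N1254 F23934) (tt N970 (iv D3587)) (tt N1592 F23945) (tt N1339 (iv F24104)) (tt N1594 F23946) (tt N1458 (iv F23087)))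
theorem Q1321 : ∀ i, i < 1321 → P i := stepQ 1320 Q1320 (allL N1320 (tt N1592 F23952) (tt N1013 F6225) (tt N1101 (iv F23190)) (tt N971 (iv D3589)) (tt N1013 F23535) (tt N1595 (iv F24182)) (tt N1100 (iv F23192)))
theorem Q1322 : ∀ i, i < 1322 → P i := stepQ 1321 Q1321 (allL N1321 (tt N1594 F24129) (tt N1584 F24219) (tt N972 F6226) (tt N1595 (iv F24181)) (tt N1462 F24220) (tt N971 (iv D3590)) (tt N1535 (iv F23177)))
theorem Q1323 : ∀ i, i < 1323 → P i := stepQ 1322 Q1322 (allL N1322 (tt N1092 (iv F20313)) (tt N973 (iv D3605)) (tt N1624 D5476) (tt N1089 (iv F20312)) (tt N977 F6241) (tt N1088 (iv F20292)) (tt N1299 F23974))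
theorem Q1324 : ∀ i, i < 1324 → P i := stepQ 1323 Q1323 (allL N1323 (tt N974 F6242) (tt N1299 (iv F20485)) (tt N973 (iv D3606)) (tt N1439 (iv F23884)) (tt N978 F6243) (tt N1281 F23701) (tt N1600 F23702))
theorem Q1325 : ∀ i, i < 1325 → P i := stepQ 1324 Q1324 (allL N1324 (tt N975 F6244) (tt N1600 F22981) (tt N1600 (iv F23321)) (tt N1581 (iv F7985)) (tt N979 F6245) (tt N1310 F6246) (tt N973 (iv D3607)))
theorem Q1326 : ∀ i, i < 1326 → P i := stepQ 1325 Q1325 (allL N1325 (tt N1439 (iv F23883)) (tt N1528 (iv F20325)) (tt N1531 (iv F20324)) (tt N974 (iv D3608)) (tt N1455 F23500) (tt N1618 (iv F8915)) (tt N1555 F23501))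
theorem Q1327 : ∀ i, i < 1327 → P i := stepQ 1326 Q1326 (allL N1326 (tt N1304 F23073) (tt N975 (iv D3610)) (tt N1599 (iv F23391)) (tt N1582 (iv F7990)) (tt N980 F6249) (tt N1614 (iv F23386)) (tt N976 F6250))
theorem Q1328 : ∀ i, i < 1328 → P i := stepQ 1327 Q1327 (allL N1327 (tt N976 (iv D3612)) (tt N1625 D5492) (tt N1626 D5493) (tt N1583 (iv F7997)) (tt N981 F6254) (tt N1626 F23405) (tt N1304 F23074))
theorem Q1329 : ∀ i, i < 1329 → P i := stepQ 1328 Q1328 (allL N1328 (tt N1626 (iv F9081)) (tt N1283 (iv F23780)) (tt N976 (iv D3613)) (tt N1352 F24083) (tt N982 F6255) (tt N976 F23403) (tt N1599 F23404))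
theorem Q1330 : ∀ i, i < 1330 → P i := stepQ 1329 Q1329 (allL N1329 (tt N1613 (iv F23326)) (tt N1297 F20696) (tt N977 (iv D3626)) (tt N1624 F20445) (tt N1624 (iv F9057)) (tt N1479 (iv F20295)) (tt N1297 F23239))
theorem Q1331 : ∀ i, i < 1331 → P i := stepQ 1330 Q1330 (allL N1330 (tt N1621 (iv F24109)) (tt N981 (iv D3640)) (tt N1627 D5554) (tt N989 F6292) (tt N1625 (iv F9080)) (tt N1621 (iv F24110)) (tt N1307 F22737))
theorem Q1332 : ∀ i, i < 1332 → P i := stepQ 1331 Q1331 (allL N1331 (tt N982 F6293) (tt N1605 (iv F23754)) (tt N981 (iv D3641)) (tt N991 (iv F23392)) (tt N1626 (iv F9082)) (tt N981 (iv F23093)) (tt N1306 F22764))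
theorem Q1333 : ∀ i, i < 1333 → P i := stepQ 1332 Q1332 (allL N1332 (tt N983 (iv D3678)) (tt N1161 F6339) (tt N1172 F23810) (tt N1161 F6340) (tt N1411 (iv F6850)) (tt N1485 (iv F20639)) (tt N1407 F23809))
theorem Q1334 : ∀ i, i < 1334 → P i := stepQ 1333 Q1333 (allL N1333 (tt N1407 F23804) (tt N1548 (iv F24007)) (tt N1480 (iv F20644)) (tt N1163 F6342) (tt N1412 (iv F6854)) (tt N1408 (iv F24047)) (tt N983 (iv D3680)))
theorem Q1335 : ∀ i, i < 1335 → P i := stepQ 1334 Q1334 (allL N1334 (tt N1399 (iv F23659)) (tt N984 (iv D3681)) (tt N1520 (iv F24241)) (tt N1167 F6343) (tt N1413 (iv F6855)) (tt N1396 F23561) (tt N1548 F24024))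
theorem Q1336 : ∀ i, i < 1336 → P i := stepQ 1335 Q1335 (allL N1335 (tt N987 F6346) (tt N1566 (iv F23962)) (tt N986 (iv D3687)) (tt N1628 D5660) (tt N1590 (iv F8105)) (tt N1278 F23777) (tt N990 F6347))
theorem Q1337 : ∀ i, i < 1337 → P i := stepQ 1336 Q1336 (allL N1336 (tt N1628 (iv F9285)) (tt N1534 (iv F7449)) (tt N1593 F22810) (tt N987 (iv D3688)) (tt N1593 (iv F22529)) (tt N1593 F23717) (tt N992 F6348))
theorem Q1338 : ∀ i, i < 1338 → P i := stepQ 1337 Q1337 (allL N1337 (tt N1278 (iv F23398)) (tt N1629 D5664) (tt N988 F6349) (tt N1593 (iv F23427)) (tt N1591 (iv F23144)) (tt N987 (iv D3689)) (tt N1341 (iv F6355)))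
theorem Q1339 : ∀ i, i < 1339 → P i := stepQ 1338 Q1338 (allL N1338 (tt N1253 (iv F13635)) (tt N1114 F23937) (tt N989 (iv D3695)) (tt N1120 (iv F24222)) (tt N1318 (iv F23940)) (tt N1253 (iv F22814)) (tt N1115 (iv F24223)))
theorem Q1340 : ∀ i, i < 1340 → P i := stepQ 1339 Q1339 (allL N1339 (tt N1234 (iv F24297)) (tt N990 (iv D3698)) (tt N1114 F24103) (tt N1266 (iv F24300)) (tt N1319 F24104) (tt N1573 (iv F23428)) (tt N1113 F24105))
theorem Q1341 : ∀ i, i < 1341 → P i := stepQ 1340 Q1340 (allL N1340 (tt N992 F6352) (tt N1266 (iv F24299)) (tt N1342 F23140) (tt N990 (iv D3699)) (tt N1342 F23425) (tt N1258 (iv F23331)) (tt N1628 (iv F9286)))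
theorem Q1342 : ∀ i, i < 1342 → P i := stepQ 1341 Q1341 (allL N1341 (tt N993 F6353) (tt N1259 (iv F23329)) (tt N991 F6354) (tt N1258 (iv F23330)) (tt N1256 (iv F23332)) (tt N990 (iv D3700)) (tt N1337 F6355))
theorem Q1343 : ∀ i, i < 1343 → P i := stepQ 1342 Q1342 (allL N1342 (tt N1258 F23333) (tt N1012 (iv F24294)) (tt N1340 (iv F23140)) (tt N993 F6357) (tt N1340 (iv F23425)) (tt N992 (iv D3704)) (tt N1601 F24102))
theorem Q1344 : ∀ i, i < 1344 → P i := stepQ 1343 Q1343 (allL N1343 (tt N1013 (iv F24195)) (tt N993 (iv D3705)) (tt N1119 (iv F24190)) (tt N1012 (iv F24295)) (tt N1592 (iv F8131)) (tt N994 F6359) (tt N1118 (iv F24098)))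
theorem Q1345 : ∀ i, i < 1345 → P i := stepQ 1344 Q1344 (allL N1344 (tt N994 (iv D3751)) (tt N1630 D5796) (tt N1121 (iv F23802)) (tt N1014 (iv F24277)) (tt N1595 (iv F8221)) (tt N1013 (iv F24196)) (tt N1349 F24187))
theorem Q1346 : ∀ i, i < 1346 → P i := stepQ 1345 Q1345 (allL N1345 (tt N1072 (iv F6527)) (tt N997 (iv D3811)) (tt N1631 D5912) (tt N1355 (iv F6564)) (tt N1355 (iv F6565)) (tt N1010 (iv F23493)) (tt N1355 (iv F23482)))
theorem Q1347 : ∀ i, i < 1347 → P i := stepQ 1346 Q1346 (allL N1346 (tt N998 F6495) (tt N1632 D5913) (tt N997 (iv D3812)) (tt N1118 (iv F21122)) (tt N1425 F23526) (tt N1000 F6496) (tt N1012 F23527))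
theorem Q1348 : ∀ i, i < 1348 → P i := stepQ 1347 Q1347 (allL N1347 (tt N1429 (iv F23787)) (tt N1633 D5930) (tt N999 (iv D3823)) (tt N1634 D5931) (tt N1596 (iv F8287)) (tt N1371 (iv F23874)) (tt N1427 F23549))
theorem Q1349 : ∀ i, i < 1349 → P i := stepQ 1348 Q1348 (allL N1348 (tt N1545 F21856) (tt N1000 (iv D3825)) (tt N1633 (iv F9665)) (tt N1635 D5934) (tt N1547 F21857) (tt N1636 D5935) (tt N1637 D5936))
theorem Q1350 : ∀ i, i < 1350 → P i := stepQ 1349 Q1349 (allL N1349 (tt N1001 F6542) (tt N1635 (iv F9670)) (tt N1108 (iv F21121)) (tt N1000 (iv D3826)) (tt N1638 D5938) (tt N1118 (iv F21123)) (tt N1344 (iv F24187)))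
theorem Q1351 : ∀ i, i < 1351 → P i := stepQ 1350 Q1350 (allL N1350 (tt N1638 (iv F9674)) (tt N1135 F20801) (tt N1093 (iv F21127)) (tt N1286 F21433) (tt N1001 (iv D3829)) (tt N1100 (iv F21129)) (tt N1261 F23909))
theorem Q1352 : ∀ i, i < 1352 → P i := stepQ 1351 Q1351 (allL N1351 (tt N1005 F6554) (tt N1452 (iv F24358)) (tt N1004 F6555) (tt N1305 F22738) (tt N1422 (iv F22846)) (tt N1003 (iv D3837)) (tt N1017 F22739))
theorem Q1353 : ∀ i, i < 1353 → P i := stepQ 1352 Q1352 (allL N1352 (tt N1639 D5969) (tt N1005 (iv D3841)) (tt N1363 (iv F6596)) (tt N1328 (iv F24083)) (tt N1249 F23727) (tt N1241 (iv F24066)) (tt N1640 D5970))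
theorem Q1354 : ∀ i, i < 1354 → P i := stepQ 1353 Q1353 (allL N1353 (tt N1017 (iv F22732)) (tt N1554 (iv F23068)) (tt N1006 F6559) (tt N1302 F22720) (tt N1420 (iv F22901)) (tt N1015 F22721) (tt N1005 (iv D3842)))
theorem Q1355 : ∀ i, i < 1355 → P i := stepQ 1354 Q1354 (allL N1354 (tt N1008 F6561) (tt N1641 D5972) (tt N1007 (iv D3844)) (tt N1642 D5973) (tt N1359 (iv F23878)) (tt N1643 D5974) (tt N1074 F23784))
theorem Q1356 : ∀ i, i < 1356 → P i := stepQ 1355 Q1355 (allL N1355 (tt N1009 F6562) (tt N1075 F23481) (tt N1643 (iv F9710)) (tt N1345 F6564) (tt N1345 F6565) (tt N1007 (iv D3845)) (tt N1345 F23482))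
theorem Q1357 : ∀ i, i < 1357 → P i := stepQ 1356 Q1356 (allL N1356 (tt N1644 D5975) (tt N1008 (iv D3846)) (tt N1011 F6566) (tt N1645 D5976) (tt N1401 (iv F6785)) (tt N1637 (iv F23684)) (tt N1646 D5978))
theorem Q1358 : ∀ i, i < 1358 → P i := stepQ 1357 Q1357 (allL N1357 (tt N1642 (iv F9708)) (tt N1645 (iv F9713)) (tt N1647 D5979) (tt N1008 (iv D3847)) (tt N1648 D5980) (tt N1649 D5981) (tt N1650 D5982))
theorem Q1359 : ∀ i, i < 1359 → P i := stepQ 1358 Q1358 (allL N1358 (tt N1643 (iv F9709)) (tt N1651 D5983) (tt N1009 F6567) (tt N1649 (iv F9716)) (tt N1423 (iv F6897)) (tt N1008 (iv D3848)) (tt N1423 F23524))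
theorem Q1360 : ∀ i, i < 1360 → P i := stepQ 1359 Q1359 (allL N1359 (tt N1074 F23877) (tt N1652 D5985) (tt N1010 F6568) (tt N1650 (iv F9717)) (tt N1354 F23878) (tt N1631 F23879) (tt N1008 (iv D3849)))
theorem Q1361 : ∀ i, i < 1361 → P i := stepQ 1360 Q1360 (allL N1360 (tt N1011 (iv D3852)) (tt N1395 F21812) (tt N1644 (iv F9712)) (tt N1153 F6578) (tt N1396 F21813) (tt N1413 F23658) (tt N1653 D5989))
theorem Q1362 : ∀ i, i < 1362 → P i := stepQ 1361 Q1361 (allL N1361 (tt N1413 F23761) (tt N1019 F6579) (tt N1637 (iv F23683)) (tt N1152 F6580) (tt N1399 (iv F6772)) (tt N1011 (iv D3853)) (tt N1633 (iv F23688)))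
theorem Q1363 : ∀ i, i < 1363 → P i := stepQ 1362 Q1362 (allL N1362 (tt N1653 (iv F9728)) (tt N1037 F23287) (tt N1646 (iv F9715)) (tt N1155 F6581) (tt N1402 (iv F6786)) (tt N1654 D5991) (tt N1011 (iv D3854)))
theorem Q1364 : ∀ i, i < 1364 → P i := stepQ 1363 Q1363 (allL N1363 (tt N1655 D6021) (tt N1014 (iv D3868)) (tt N1352 F6596) (tt N1630 (iv F24278)) (tt N1589 F24214) (tt N1584 (iv F24178)) (tt N1656 D6022))
theorem Q1365 : ∀ i, i < 1365 → P i := stepQ 1364 Q1364 (allL N1364 (tt N1434 (iv F6996)) (tt N1640 (iv F23726)) (tt N1019 F6631) (tt N1273 F6632) (tt N1204 F23363) (tt N1016 (iv D3884)) (tt N1554 (iv F23745)))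
theorem Q1366 : ∀ i, i < 1366 → P i := stepQ 1365 Q1365 (allL N1365 (tt N1582 (iv F23137)) (tt N1017 (iv D3886)) (tt N1651 (iv F9718)) (tt N1304 F6635) (tt N1421 (iv F6888)) (tt N1640 F23789) (tt N1583 (iv F23132)))
theorem Q1367 : ∀ i, i < 1367 → P i := stepQ 1366 Q1366 (allL N1366 (tt N1019 F6650) (tt N1657 D6061) (tt N1434 (iv F6997)) (tt N1149 F6651) (tt N1398 (iv F6762)) (tt N1018 (iv D3892)) (tt N1368 (iv F6660)))
theorem Q1368 : ∀ i, i < 1368 → P i := stepQ 1367 Q1367 (allL N1367 (tt N1368 (iv F6658)) (tt N1427 F23954) (tt N1554 F23955) (tt N1151 F23956) (tt N1400 (iv F6774)) (tt N1150 F23957) (tt N1019 (iv D3894)))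
theorem Q1369 : ∀ i, i < 1369 → P i := stepQ 1368 Q1368 (allL N1368 (tt N1367 F6658) (tt N1658 D6067) (tt N1202 (iv F23907)) (tt N1128 F23904) (tt N1201 F23905) (tt N1020 (iv D3896)) (tt N1366 F6660))
theorem Q1370 : ∀ i, i < 1370 → P i := stepQ 1369 Q1369 (allL N1369 (tt N1023 F6673) (tt N1400 (iv F23444)) (tt N1022 (iv D3906)) (tt N1659 D6087) (tt N1427 (iv F6929)) (tt N1427 (iv F6930)) (tt N1596 (iv F23489)))
theorem Q1371 : ∀ i, i < 1371 → P i := stepQ 1370 Q1370 (allL N1370 (tt N1659 (iv F9880)) (tt N1180 F23662) (tt N1660 D6089) (tt N1023 (iv D3908)) (tt N1661 D6090) (tt N1428 (iv F6931)) (tt N1662 D6091))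
theorem Q1372 : ∀ i, i < 1372 → P i := stepQ 1371 Q1371 (allL N1371 (tt N1596 F23873) (tt N1391 (iv F23774)) (tt N1024 F6679) (tt N1662 (iv F9885)) (tt N1429 (iv F6933)) (tt N1347 F23874) (tt N1023 (iv D3909)))
theorem Q1373 : ∀ i, i < 1373 → P i := stepQ 1372 Q1372 (allL N1372 (tt N1025 (iv D3919)) (tt N1504 F23679) (tt N1663 D6109) (tt N1412 F23848) (tt N1032 F6703) (tt N1027 F6704) (tt N1381 (iv F6727)))
theorem Q1374 : ∀ i, i < 1374 → P i := stepQ 1373 Q1373 (allL N1373 (tt N1663 (iv F9916)) (tt N1033 F6705) (tt N1025 (iv D3920)) (tt N1463 (iv F21918)) (tt N1033 F6706) (tt N1028 F6707) (tt N1031 F23503))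
theorem Q1375 : ∀ i, i < 1375 → P i := stepQ 1374 Q1374 (allL N1374 (tt N1381 (iv F6725)) (tt N1034 (iv F23886)) (tt N1031 F23502) (tt N1411 (iv F23510)) (tt N1034 F6708) (tt N1378 (iv F6721)) (tt N1025 (iv D3921)))
theorem Q1376 : ∀ i, i < 1376 → P i := stepQ 1375 Q1375 (allL N1375 (tt N1026 (iv D3924)) (tt N1385 (iv F20861)) (tt N1410 (iv F24138)) (tt N1027 F6712) (tt N1408 (iv F6835)) (tt N1412 F23849) (tt N1409 F23850))
theorem Q1377 : ∀ i, i < 1377 → P i := stepQ 1376 Q1376 (allL N1376 (tt N1386 (iv F21548)) (tt N1027 (iv D3927)) (tt N1664 D6126) (tt N1385 F21191) (tt N1036 F6716) (tt N1160 F22975) (tt N1506 F22976))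
theorem Q1378 : ∀ i, i < 1378 → P i := stepQ 1377 Q1377 (allL N1377 (tt N1028 F6717) (tt N1402 (iv F23665)) (tt N1027 (iv D3928)) (tt N1244 (iv F23675)) (tt N1037 F6718) (tt N1663 (iv F9918)) (tt N1055 F23285))
theorem Q1379 : ∀ i, i < 1379 → P i := stepQ 1378 Q1378 (allL N1378 (tt N1029 F6719) (tt N1078 (iv F23663)) (tt N1055 F23281) (tt N1409 F23469) (tt N1038 F6720) (tt N1374 F6721) (tt N1027 (iv D3929)))
theorem Q1380 : ∀ i, i < 1380 → P i := stepQ 1379 Q1379 (allL N1379 (tt N1244 (iv F23145)) (tt N1030 F6722) (tt N1243 F22963) (tt N1028 (iv D3930)) (tt N1665 D6134) (tt N1463 (iv F21919)) (tt N1242 F22964))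
theorem Q1381 : ∀ i, i < 1381 → P i := stepQ 1380 Q1380 (allL N1380 (tt N1055 F23274) (tt N1503 (iv F23303)) (tt N1029 F6723) (tt N1242 F22979) (tt N1040 F6724) (tt N1383 (iv F23316)) (tt N1028 (iv D3931)))
theorem Q1382 : ∀ i, i < 1382 → P i := stepQ 1381 Q1381 (allL N1381 (tt N1374 F6725) (tt N1058 (iv F23897)) (tt N1383 (iv F23898)) (tt N1061 F23511) (tt N1041 F6726) (tt N1029 (iv D3932)) (tt N1372 F6727))
theorem Q1383 : ∀ i, i < 1383 → P i := stepQ 1382 Q1382 (allL N1382 (tt N1054 F23624) (tt N1665 (iv F9958)) (tt N1471 (iv F7201)) (tt N1042 F6728) (tt N1030 (iv D3933)) (tt N1042 F6729) (tt N1502 F21852))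
theorem Q1384 : ∀ i, i < 1384 → P i := stepQ 1383 Q1383 (allL N1383 (tt N1031 (iv D3936)) (tt N1666 D6144) (tt N1381 F23898) (tt N1523 (iv F7417)) (tt N1387 (iv F23697)) (tt N1380 F23316) (tt N1663 (iv F23698)))
theorem Q1385 : ∀ i, i < 1385 → P i := stepQ 1384 Q1384 (allL N1384 (tt N1500 (iv F7322)) (tt N1032 (iv D3942)) (tt N1499 (iv F7321)) (tt N1524 (iv F7427)) (tt N1504 F23673) (tt N1478 F23674) (tt N1667 D6155))
theorem Q1386 : ∀ i, i < 1386 → P i := stepQ 1385 Q1385 (allL N1385 (tt N1033 F6734) (tt N1375 F20861) (tt N1032 (iv D3943)) (tt N1376 (iv F21191)) (tt N1663 (iv F9917)) (tt N1037 F6735) (tt N1387 F23288))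
theorem Q1387 : ∀ i, i < 1387 → P i := stepQ 1386 Q1386 (allL N1386 (tt N1376 F21548) (tt N1463 (iv F21917)) (tt N1464 (iv F21926)) (tt N1033 (iv D3944)) (tt N1388 (iv F21928)) (tt N1039 F6736) (tt N1157 F22974))
theorem Q1388 : ∀ i, i < 1388 → P i := stepQ 1387 Q1387 (allL N1387 (tt N1035 (iv D3950)) (tt N1668 D6171) (tt N1041 (iv F23660)) (tt N1506 (iv F7362)) (tt N1383 F23697) (tt N1040 F23275) (tt N1385 (iv F23288)))
theorem Q1389 : ∀ i, i < 1389 → P i := stepQ 1388 Q1388 (allL N1388 (tt N1036 (iv D3953)) (tt N1527 (iv F7439)) (tt N1669 D6175) (tt N1527 (iv F7440)) (tt N1386 F21928) (tt N1393 F21929) (tt N1473 F23292))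
theorem Q1390 : ∀ i, i < 1390 → P i := stepQ 1389 Q1389 (allL N1389 (tt N1669 (iv F10017)) (tt N1646 F23991) (tt N1036 (iv D3954)) (tt N1670 D6179) (tt N1664 (iv F9948)) (tt N1671 D6180) (tt N1652 F23992))
theorem Q1391 : ∀ i, i < 1391 → P i := stepQ 1390 Q1390 (allL N1390 (tt N1393 F21915) (tt N1478 (iv F23294)) (tt N1671 (iv F10034)) (tt N1529 (iv F7441)) (tt N1160 F22972) (tt N1036 (iv D3955)) (tt N1137 F22973))
theorem Q1392 : ∀ i, i < 1392 → P i := stepQ 1391 Q1391 (allL N1391 (tt N1473 F23276) (tt N1371 F23774) (tt N1652 (iv F23786)) (tt N1530 (iv F7442)) (tt N1506 F23277) (tt N1483 F23278) (tt N1036 (iv D3956)))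
theorem Q1393 : ∀ i, i < 1393 → P i := stepQ 1392 Q1392 (allL N1392 (tt N1511 F23253) (tt N1539 (iv F7472)) (tt N1039 (iv D3961)) (tt N1553 F21840) (tt N1672 D6197) (tt N1464 (iv F21927)) (tt N1509 F23254))
theorem Q1394 : ∀ i, i < 1394 → P i := stepQ 1393 Q1393 (allL N1393 (tt N1390 (iv F21915)) (tt N1042 F6747) (tt N1672 (iv F10054)) (tt N1665 (iv F9959)) (tt N1039 (iv D3962)) (tt N1388 (iv F21929)) (tt N1483 F23279))
theorem Q1395 : ∀ i, i < 1395 → P i := stepQ 1394 Q1394 (allL N1394 (tt N1585 (iv F23650)) (tt N1040 (iv D3964)) (tt N1170 F6749) (tt N1508 F23269) (tt N1503 F23695) (tt N1673 D6203) (tt N1044 F6750))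
theorem Q1396 : ∀ i, i < 1396 → P i := stepQ 1395 Q1395 (allL N1395 (tt N1496 (iv F7311)) (tt N1360 (iv F21812)) (tt N1147 F6755) (tt N1502 (iv F21815)) (tt N1043 F6756) (tt N1406 F23514) (tt N1042 (iv D3970)))
theorem Q1397 : ∀ i, i < 1397 → P i := stepQ 1396 Q1396 (allL N1396 (tt N1048 F21619) (tt N1043 (iv D3971)) (tt N1674 D6215) (tt N1044 F6757) (tt N1360 (iv F21813)) (tt N1334 (iv F23561)) (tt N1508 F23273))
theorem Q1398 : ∀ i, i < 1398 → P i := stepQ 1397 Q1397 (allL N1397 (tt N1044 (iv D3972)) (tt N1047 F20917) (tt N1194 F6758) (tt N1048 (iv F21257)) (tt N1475 F20918) (tt N1518 (iv F23862)) (tt N1585 F23680))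
theorem Q1399 : ∀ i, i < 1399 → P i := stepQ 1398 Q1398 (allL N1398 (tt N1046 F6760) (tt N1659 F23828) (tt N1106 F6761) (tt N1400 (iv F23590)) (tt N1366 F6762) (tt N1045 (iv D3974)) (tt N1201 (iv F23743)))
theorem Q1400 : ∀ i, i < 1400 → P i := stepQ 1399 Q1399 (allL N1399 (tt N1334 F23659) (tt N1046 (iv D3978)) (tt N1675 D6225) (tt N1518 (iv F23861)) (tt N1361 F6772) (tt N1048 F6773) (tt N1676 D6226))
theorem Q1401 : ∀ i, i < 1401 → P i := stepQ 1400 Q1400 (allL N1400 (tt N1201 (iv F23742)) (tt N1369 F23444) (tt N1199 (iv F23744)) (tt N1398 F23590) (tt N1367 F6774) (tt N1197 F23591) (tt N1046 (iv D3979)))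
theorem Q1402 : ∀ i, i < 1402 → P i := stepQ 1401 Q1401 (allL N1401 (tt N1674 (iv F21822)) (tt N1074 F6784) (tt N1048 (iv D3985)) (tt N1552 (iv F24028)) (tt N1356 F6785) (tt N1675 (iv F10097)) (tt N1549 (iv F24005)))
theorem Q1403 : ∀ i, i < 1403 → P i := stepQ 1402 Q1402 (allL N1402 (tt N1508 F23268) (tt N1377 F23665) (tt N1549 (iv F24003)) (tt N1585 (iv F23651)) (tt N1362 F6786) (tt N1548 (iv F24009)) (tt N1048 (iv D3986)))
theorem Q1404 : ∀ i, i < 1404 → P i := stepQ 1403 Q1403 (allL N1403 (tt N1049 (iv D3994)) (tt N1146 (iv F23920)) (tt N1411 F20897) (tt N1052 F6799) (tt N1172 F23811) (tt N1058 F6800) (tt N1316 F23812))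
theorem Q1405 : ∀ i, i < 1405 → P i := stepQ 1404 Q1404 (allL N1404 (tt N1316 F23720) (tt N1496 (iv F23512)) (tt N1412 F20898) (tt N1053 F6802) (tt N1480 (iv F7253)) (tt N1410 (iv F6845)) (tt N1049 (iv D3996)))
theorem Q1406 : ∀ i, i < 1406 → P i := stepQ 1405 Q1405 (allL N1405 (tt N1480 F23805) (tt N1052 (iv D3999)) (tt N1407 (iv F20386)) (tt N1146 (iv F23921)) (tt N1316 F6805) (tt N1140 F23806) (tt N1172 (iv F23509)))
theorem Q1407 : ∀ i, i < 1407 → P i := stepQ 1406 Q1406 (allL N1406 (tt N1502 (iv F23302)) (tt N1053 (iv D4000)) (tt N1453 F23172) (tt N1496 (iv F23513)) (tt N1291 (iv F23215)) (tt N1395 (iv F23514)) (tt N1054 F6807))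
theorem Q1408 : ∀ i, i < 1408 → P i := stepQ 1407 Q1407 (allL N1407 (tt N1333 (iv F23804)) (tt N1056 (iv D4009)) (tt N1405 F20386) (tt N1067 F6824) (tt N1177 (iv F23722)) (tt N1057 F6826) (tt N1332 (iv F23809)))
theorem Q1409 : ∀ i, i < 1409 → P i := stepQ 1408 Q1408 (allL N1408 (tt N1057 (iv D4012)) (tt N1663 (iv F21189)) (tt N1486 F24046) (tt N1065 F6834) (tt N1375 F6835) (tt N1333 F24047) (tt N1485 F24048))
theorem Q1410 : ∀ i, i < 1410 → P i := stepQ 1409 Q1409 (allL N1409 (tt N1059 F6842) (tt N1428 (iv F24001)) (tt N1058 (iv D4016)) (tt N1378 (iv F23469)) (tt N1485 (iv F7278)) (tt N1411 F20890) (tt N1375 (iv F23850)))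
theorem Q1411 : ∀ i, i < 1411 → P i := stepQ 1410 Q1410 (allL N1410 (tt N1060 F6843) (tt N1499 (iv F23853)) (tt N1375 F24138) (tt N1062 F6844) (tt N1486 (iv F7281)) (tt N1404 F6845) (tt N1058 (iv D4017)))
theorem Q1412 : ∀ i, i < 1412 → P i := stepQ 1411 Q1411 (allL N1411 (tt N1061 (iv D4021)) (tt N1176 (iv F23601)) (tt N1403 (iv F20897)) (tt N1374 F23510) (tt N1332 F6850) (tt N1409 (iv F20890)) (tt N1177 F23459))
theorem Q1413 : ∀ i, i < 1413 → P i := stepQ 1412 Q1412 (allL N1412 (tt N1177 F23461) (tt N1654 (iv F23846)) (tt N1404 (iv F20898)) (tt N1372 (iv F23848)) (tt N1333 F6854) (tt N1375 (iv F23849)) (tt N1061 (iv D4024)))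
theorem Q1414 : ∀ i, i < 1414 → P i := stepQ 1413 Q1413 (allL N1413 (tt N1361 (iv F23761)) (tt N1062 (iv D4025)) (tt N1677 D6322) (tt N1499 (iv F23854)) (tt N1334 F6855) (tt N1360 (iv F23658)) (tt N1654 (iv F23847)))
theorem Q1415 : ∀ i, i < 1415 → P i := stepQ 1414 Q1414 (allL N1414 (tt N1063 (iv D4026)) (tt N1661 (iv F24002)) (tt N1678 D6324) (tt N1485 (iv F23851)) (tt N1180 F6856) (tt N1161 F23467) (tt N1065 F6857))
theorem Q1416 : ∀ i, i < 1416 → P i := stepQ 1415 Q1415 (allL N1415 (tt N1678 (iv F10378)) (tt N1251 F6858) (tt N1063 (iv D4027)) (tt N1679 D6325) (tt N1182 F6859) (tt N1162 (iv F23439)) (tt N1066 F6860))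
theorem Q1417 : ∀ i, i < 1417 → P i := stepQ 1416 Q1416 (allL N1416 (tt N1463 F10025) (tt N1065 (iv D4030)) (tt N1246 F23317) (tt N1663 F21544) (tt N1178 F6863) (tt N1244 F23318) (tt N1523 F23319))
theorem Q1418 : ∀ i, i < 1418 → P i := stepQ 1417 Q1417 (allL N1417 (tt N1066 F6864) (tt N1680 D6333) (tt N1065 (iv D4031)) (tt N1681 D6334) (tt N1179 F6865) (tt N1514 F23818) (tt N1678 (iv F10380)))
theorem Q1419 : ∀ i, i < 1419 → P i := stepQ 1418 Q1418 (allL N1418 (tt N1681 (iv F10395)) (tt N1068 F6869) (tt N1682 D6337) (tt N1066 (iv D4033)) (tt N1575 F22526) (tt N1606 F23821) (tt N1679 (iv F10382)))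
theorem Q1420 : ∀ i, i < 1420 → P i := stepQ 1419 Q1419 (allL N1419 (tt N1514 (iv F23455)) (tt N1206 F6870) (tt N1067 F6871) (tt N1606 (iv F23456)) (tt N1175 F6872) (tt N1066 (iv D4034)) (tt N1512 (iv F23458)))
theorem Q1421 : ∀ i, i < 1421 → P i := stepQ 1420 Q1420 (allL N1420 (tt N1071 F6880) (tt N1199 (iv F20532)) (tt N1070 F6881) (tt N1200 F20338) (tt N1353 F22901) (tt N1069 (iv D4037)) (tt N1215 F24072))
theorem Q1422 : ∀ i, i < 1422 → P i := stepQ 1421 Q1421 (allL N1421 (tt N1245 F23133) (tt N1071 (iv D4039)) (tt N1683 D6345) (tt N1250 F23134) (tt N1365 F6888) (tt N1557 F23422) (tt N1247 F23135))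
theorem Q1423 : ∀ i, i < 1423 → P i := stepQ 1422 Q1422 (allL N1422 (tt N1215 F24122) (tt N1122 (iv F24225)) (tt N1073 F6889) (tt N1222 F24123) (tt N1351 F22846) (tt N1214 (iv F24317)) (tt N1071 (iv D4040)))
theorem Q1424 : ∀ i, i < 1424 → P i := stepQ 1423 Q1423 (allL N1423 (tt N1631 (iv F9642)) (tt N1683 (iv F10419)) (tt N1072 (iv D4043)) (tt N1684 D6352) (tt N1358 F6897) (tt N1074 F6898) (tt N1358 (iv F23524)))
theorem Q1425 : ∀ i, i < 1425 → P i := stepQ 1424 Q1424 (allL N1424 (tt N1650 (iv F24172)) (tt N1552 F24254) (tt N1685 D6356) (tt N1074 (iv D4046)) (tt N1686 D6357) (tt N1684 (iv F10431)) (tt N1642 (iv F24116)))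
theorem Q1426 : ∀ i, i < 1426 → P i := stepQ 1425 Q1425 (allL N1425 (tt N1076 F6922) (tt N1565 (iv F23865)) (tt N1075 (iv D4053)) (tt N1113 F24167) (tt N1346 (iv F23526)) (tt N1263 F23480) (tt N1266 F6924))
theorem Q1427 : ∀ i, i < 1427 → P i := stepQ 1426 Q1426 (allL N1426 (tt N1113 (iv F23864)) (tt N1453 (iv F23867)) (tt N1112 (iv F23868)) (tt N1076 (iv D4054)) (tt N1317 (iv F23869)) (tt N1264 F23485) (tt N1234 F23486))
theorem Q1428 : ∀ i, i < 1428 → P i := stepQ 1427 Q1427 (allL N1427 (tt N1078 F6928) (tt N1367 (iv F23954)) (tt N1077 (iv D4056)) (tt N1498 (iv F23910)) (tt N1369 F6929) (tt N1369 F6930) (tt N1347 (iv F23549)))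
theorem Q1429 : ∀ i, i < 1429 → P i := stepQ 1428 Q1428 (allL N1428 (tt N1498 F24000) (tt N1409 F24001) (tt N1666 (iv F24055)) (tt N1078 (iv D4057)) (tt N1687 D6376) (tt N1370 F6931) (tt N1668 (iv F24121)))
theorem Q1430 : ∀ i, i < 1430 → P i := stepQ 1429 Q1429 (allL N1429 (tt N1347 F23787) (tt N1506 (iv F24100)) (tt N1079 F6932) (tt N1668 (iv F24120)) (tt N1371 F6933) (tt N1596 F23788) (tt N1078 (iv D4058)))
theorem Q1431 : ∀ i, i < 1431 → P i := stepQ 1430 Q1430 (allL N1430 (tt N1082 F6934) (tt N1198 F20974) (tt N1086 F6935) (tt N1270 F20975) (tt N1086 F6936) (tt N1080 (iv D4059)) (tt N1082 (iv F23097)))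
theorem Q1432 : ∀ i, i < 1432 → P i := stepQ 1431 Q1431 (allL N1431 (tt N1611 (iv F8742)) (tt N1431 F6940) (tt N1081 (iv D4061)) (tt N1579 (iv F7927)) (tt N1579 (iv F7926)) (tt N1688 D6381) (tt N1431 F23067))
theorem Q1433 : ∀ i, i < 1433 → P i := stepQ 1432 Q1432 (allL N1432 (tt N1270 F20978) (tt N1293 (iv F20997)) (tt N1688 (iv F10482)) (tt N1082 F6941) (tt N1268 F20979) (tt N1081 (iv D4062)) (tt N1270 F23062))
theorem Q1434 : ∀ i, i < 1434 → P i := stepQ 1433 Q1433 (allL N1433 (tt N1299 F20938) (tt N1083 (iv D4068)) (tt N1689 D6395) (tt N1085 F6955) (tt N1294 F20939) (tt N1293 (iv F20998)) (tt N1092 (iv F24036)))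
theorem Q1435 : ∀ i, i < 1435 → P i := stepQ 1434 Q1434 (allL N1434 (tt N1364 F6996) (tt N1578 F20254) (tt N1366 F6997) (tt N1276 (iv F24074)) (tt N1106 F6998) (tt N1087 (iv D4100)) (tt N1202 (iv F23908)))
theorem Q1436 : ∀ i, i < 1436 → P i := stepQ 1435 Q1435 (allL N1435 (tt N1091 F7002) (tt N1598 (iv F8363)) (tt N1088 (iv D4102)) (tt N1479 (iv F7237)) (tt N1479 (iv F7238)) (tt N1624 F20393) (tt N1609 F23371))
theorem Q1437 : ∀ i, i < 1437 → P i := stepQ 1436 Q1436 (allL N1436 (tt N1624 F20424) (tt N1690 D6472) (tt N1092 F7012) (tt N1613 F23707) (tt N1613 F23708) (tt N1091 (iv D4108)) (tt N1689 F23709))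
theorem Q1438 : ∀ i, i < 1438 → P i := stepQ 1437 Q1437 (allL N1437 (tt N1602 (iv F20661)) (tt N1092 (iv D4112)) (tt N1691 D6481) (tt N1093 F7018) (tt N1603 F20423) (tt N1096 F7019) (tt N1446 (iv F24108)))
theorem Q1439 : ∀ i, i < 1439 → P i := stepQ 1438 Q1438 (allL N1438 (tt N1093 (iv D4116)) (tt N1560 F20932) (tt N1638 F21436) (tt N1602 F20933) (tt N1108 F7027) (tt N1099 F7028) (tt N1451 (iv F7076)))
theorem Q1440 : ∀ i, i < 1440 → P i := stepQ 1439 Q1439 (allL N1439 (tt N1325 F23883) (tt N1094 (iv D4122)) (tt N1692 D6499) (tt N1323 F23884) (tt N1109 F7039) (tt N1562 F22415) (tt N1693 D6500))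
theorem Q1441 : ∀ i, i < 1441 → P i := stepQ 1440 Q1440 (allL N1440 (tt N1312 F22706) (tt N1095 (iv D4123)) (tt N1694 D6502) (tt N1110 F7040) (tt N1096 F7041) (tt N1603 F20434) (tt N1313 F22707))
theorem Q1442 : ∀ i, i < 1442 → P i := stepQ 1441 Q1441 (allL N1441 (tt N1303 F24255) (tt N1616 (iv F24306)) (tt N1441 F7042) (tt N1111 F7043) (tt N1097 F7044) (tt N1237 F7045) (tt N1095 (iv D4124)))
theorem Q1443 : ∀ i, i < 1443 → P i := stepQ 1442 Q1442 (allL N1442 (tt N1096 (iv D4127)) (tt N1310 (iv F23046)) (tt N1695 D6510) (tt N1099 F7053) (tt N1312 F22710) (tt N1602 F20935) (tt N1311 F22711))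
theorem Q1444 : ∀ i, i < 1444 → P i := stepQ 1443 Q1443 (allL N1443 (tt N1695 (iv F10686)) (tt N1443 F7054) (tt N1096 (iv D4128)) (tt N1694 F22439) (tt N1694 (iv F10672)) (tt N1691 (iv F10638)) (tt N1696 D6513))
theorem Q1445 : ∀ i, i < 1445 → P i := stepQ 1444 Q1444 (allL N1444 (tt N1311 F22701) (tt N1697 D6514) (tt N1696 (iv F10691)) (tt N1101 F7055) (tt N1313 F22702) (tt N1698 D6515) (tt N1096 (iv D4129)))
theorem Q1446 : ∀ i, i < 1446 → P i := stepQ 1445 Q1445 (allL N1445 (tt N1615 F24378) (tt N1097 (iv D4130)) (tt N1699 D6517) (tt N1102 F7056) (tt N1616 F24379) (tt N1445 F22794) (tt N1697 (iv F10693)))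
theorem Q1447 : ∀ i, i < 1447 → P i := stepQ 1446 Q1446 (allL N1446 (tt N1698 F24106) (tt N1098 (iv D4134)) (tt N1700 D6527) (tt N1104 F7060) (tt N1315 F24107) (tt N1311 (iv F24189)) (tt N1437 F24108))
theorem Q1448 : ∀ i, i < 1448 → P i := stepQ 1447 Q1447 (allL N1447 (tt N1528 F10029) (tt N1099 (iv D4135)) (tt N1527 F10020) (tt N1310 F23165) (tt N1117 F7061) (tt N1581 F23166) (tt N1230 F23167))
theorem Q1449 : ∀ i, i < 1449 → P i := stepQ 1448 Q1448 (allL N1448 (tt N1100 F7062) (tt N1669 (iv F10019)) (tt N1099 (iv D4136)) (tt N1458 F21981) (tt N1118 F7063) (tt N1638 F21437) (tt N1592 F23773))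
theorem Q1450 : ∀ i, i < 1450 → P i := stepQ 1449 Q1449 (allL N1449 (tt N1101 F7064) (tt N1103 (iv F23931)) (tt N1592 F23913) (tt N1311 F22709) (tt N1119 F7065) (tt N1104 (iv F24185)) (tt N1099 (iv D4137)))
theorem Q1451 : ∀ i, i < 1451 → P i := stepQ 1450 Q1450 (allL N1450 (tt N1701 D6538) (tt N1101 (iv D4140)) (tt N1120 F7071) (tt N1697 (iv F10692)) (tt N1120 F7072) (tt N1701 F23096) (tt N1102 F7073))
theorem Q1452 : ∀ i, i < 1452 → P i := stepQ 1451 Q1451 (allL N1451 (tt N1104 (iv F24184)) (tt N1639 (iv F16286)) (tt N1595 (iv F24180)) (tt N1698 (iv F10695)) (tt N1121 F7075) (tt N1101 (iv D4141)) (tt N1438 F7076))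
theorem Q1453 : ∀ i, i < 1453 → P i := stepQ 1452 Q1452 (allL N1452 (tt N1102 (iv D4142)) (tt N1351 F24358) (tt N1122 F7077) (tt N1615 F24359) (tt N1122 F7078) (tt N1452 F22672) (tt N1701 (iv F10735)))
theorem Q1454 : ∀ i, i < 1454 → P i := stepQ 1453 Q1453 (allL N1453 (tt N1546 (iv F7487)) (tt N1426 F23867) (tt N1406 (iv F23172)) (tt N1125 F7096) (tt N1105 (iv D4150)) (tt N1147 F7097) (tt N1125 F7098))
theorem Q1455 : ∀ i, i < 1455 → P i := stepQ 1454 Q1454 (allL N1454 (tt N1264 (iv F21427)) (tt N1194 (iv F21252)) (tt N1107 (iv D4166)) (tt N1263 (iv F21481)) (tt N1535 F20915) (tt N1113 F7121) (tt N1462 F24228))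
theorem Q1456 : ∀ i, i < 1456 → P i := stepQ 1455 Q1455 (allL N1455 (tt N1109 (iv D4183)) (tt N1246 (iv F23580)) (tt N1680 (iv F23499)) (tt N1207 (iv F22625)) (tt N1325 (iv F23500)) (tt N1564 (iv F22490)) (tt N1203 (iv F22634)))
theorem Q1457 : ∀ i, i < 1457 → P i := stepQ 1456 Q1456 (allL N1456 (tt N1680 F23882) (tt N1159 F7138) (tt N1109 (iv D4184)) (tt N1470 (iv F22635)) (tt N1692 (iv F10666)) (tt N1566 (iv F22492)) (tt N1468 (iv F22637)))
theorem Q1458 : ∀ i, i < 1458 → P i := stepQ 1457 Q1457 (allL N1457 (tt N1203 (iv F22633)) (tt N1243 F20541) (tt N1468 (iv F22636)) (tt N1205 (iv F22626)) (tt N1693 (iv F10668)) (tt N1211 (iv F22638)) (tt N1109 (iv D4185)))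
theorem Q1459 : ∀ i, i < 1459 → P i := stepQ 1458 Q1458 (allL N1458 (tt N1317 F23086) (tt N1561 (iv F7652)) (tt N1110 (iv D4187)) (tt N1448 (iv F21981)) (tt N1113 F7141) (tt N1535 F20922) (tt N1319 F23087))
theorem Q1460 : ∀ i, i < 1460 → P i := stepQ 1459 Q1459 (allL N1459 (tt N1290 (iv F21398)) (tt N1111 (iv D4189)) (tt N1461 (iv F22360)) (tt N1616 (iv F24307)) (tt N1115 F7143) (tt N1459 F22357) (tt N1318 (iv F22507)))
theorem Q1461 : ∀ i, i < 1461 → P i := stepQ 1460 Q1460 (allL N1460 (tt N1116 (iv F23803)) (tt N1255 F23437) (tt N1573 (iv F24128)) (tt N1121 F7157) (tt N1287 F21250) (tt N1114 (iv D4200)) (tt N1216 F21251))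
theorem Q1462 : ∀ i, i < 1462 → P i := stepQ 1461 Q1461 (allL N1461 (tt N1115 (iv D4201)) (tt N1222 (iv F22090)) (tt N1459 F22360) (tt N1122 F7159) (tt N1290 F21801) (tt N1461 F22361) (tt N1253 F23944))
theorem Q1463 : ∀ i, i < 1463 → P i := stepQ 1462 Q1462 (allL N1462 (tt N1573 F23794) (tt N1248 F7175) (tt N1116 (iv D4212)) (tt N1267 F24136) (tt N1321 (iv F24220)) (tt N1234 (iv F24298)) (tt N1454 (iv F24228)))
theorem Q1464 : ∀ i, i < 1464 → P i := stepQ 1463 Q1463 (allL N1463 (tt N1416 (iv F10025)) (tt N1386 F21917) (tt N1117 (iv D4215)) (tt N1373 F21918) (tt N1527 (iv F10026)) (tt N1379 F21919) (tt N1173 F23171))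
theorem Q1465 : ∀ i, i < 1465 → P i := stepQ 1464 Q1464 (allL N1464 (tt N1664 (iv F10022)) (tt N1118 (iv D4218)) (tt N1386 F21926) (tt N1632 F21440) (tt N1669 F10021) (tt N1392 F21927) (tt N1507 F23261))
theorem Q1466 : ∀ i, i < 1466 → P i := stepQ 1465 Q1465 (allL N1465 (tt N1120 (iv D4226)) (tt N1247 F23942) (tt N1701 (iv F10733)) (tt N1253 F23943) (tt N1701 (iv F10734)) (tt N1120 (iv F22770)) (tt N1122 F7187))
theorem Q1467 : ∀ i, i < 1467 → P i := stepQ 1466 Q1466 (allL N1466 (tt N1249 (iv F23562)) (tt N1121 (iv D4228)) (tt N1702 D6717) (tt N1255 F23435) (tt N1639 (iv F16287)) (tt N1247 (iv F23569)) (tt N1587 F23436))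
theorem Q1468 : ∀ i, i < 1468 → P i := stepQ 1467 Q1467 (allL N1467 (tt N1123 (iv D4243)) (tt N1703 D6748) (tt N1574 (iv F7726)) (tt N1556 (iv F22017)) (tt N1553 (iv F7504)) (tt N1565 F21847) (tt N1704 D6751))
theorem Q1469 : ∀ i, i < 1469 → P i := stepQ 1468 Q1468 (allL N1468 (tt N1556 (iv F22016)) (tt N1124 F7198) (tt N1457 F22636) (tt N1123 (iv D4244)) (tt N1705 D6753) (tt N1563 (iv F22019)) (tt N1456 F22637))
theorem Q1470 : ∀ i, i < 1470 → P i := stepQ 1469 Q1469 (allL N1469 (tt N1565 F21842) (tt N1187 F7199) (tt N1576 (iv F7730)) (tt N1563 (iv F22018)) (tt N1551 (iv F7499)) (tt N1123 (iv D4245)) (tt N1706 D6756))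
theorem Q1471 : ∀ i, i < 1471 → P i := stepQ 1470 Q1470 (allL N1470 (tt N1704 (iv F10989)) (tt N1510 (iv F22960)) (tt N1577 (iv F7732)) (tt N1456 F22635) (tt N1510 F23256) (tt N1707 D6757) (tt N1123 (iv D4246)))
theorem Q1472 : ∀ i, i < 1472 → P i := stepQ 1471 Q1471 (allL N1471 (tt N1125 F7200) (tt N1705 (iv F10991)) (tt N1382 F7201) (tt N1546 (iv F7489)) (tt N1124 (iv D4247)) (tt N1189 F7202) (tt N1546 (iv F7491)))
theorem Q1473 : ∀ i, i < 1473 → P i := stepQ 1472 Q1472 (allL N1472 (tt N1530 (iv F23308)) (tt N1126 (iv D4248)) (tt N1230 F20249) (tt N1473 (iv F23670)) (tt N1173 F7203) (tt N1239 (iv F20277)) (tt N1527 (iv F23498)))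
theorem Q1474 : ∀ i, i < 1474 → P i := stepQ 1473 Q1473 (allL N1473 (tt N1391 (iv F23276)) (tt N1127 (iv D4251)) (tt N1708 D6768) (tt N1472 F23670) (tt N1157 F7206) (tt N1137 F7207) (tt N1388 (iv F23292)))
theorem Q1475 : ∀ i, i < 1475 → P i := stepQ 1474 Q1474 (allL N1474 (tt N1667 (iv F23676)) (tt N1128 (iv D4254)) (tt N1501 (iv F23305)) (tt N1658 (iv F23692)) (tt N1152 F7214) (tt N1130 F7215) (tt N1500 (iv F23304)))
theorem Q1476 : ∀ i, i < 1476 → P i := stepQ 1475 Q1475 (allL N1475 (tt N1183 (iv F20925)) (tt N1129 (iv D4258)) (tt N1185 (iv F20921)) (tt N1130 F7225) (tt N1397 (iv F20918)) (tt N1658 (iv F23693)) (tt N1709 D6784))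
theorem Q1477 : ∀ i, i < 1477 → P i := stepQ 1476 Q1476 (allL N1476 (tt N1130 (iv D4260)) (tt N1184 (iv F21474)) (tt N1155 F23298) (tt N1183 F21270) (tt N1153 F7229) (tt N1667 (iv F23678)) (tt N1154 F23299))
theorem Q1478 : ∀ i, i < 1478 → P i := stepQ 1477 Q1477 (allL N1477 (tt N1155 F23296) (tt N1580 F20418) (tt N1130 (iv D4261)) (tt N1653 (iv F23666)) (tt N1154 F7230) (tt N1501 (iv F23307)) (tt N1153 F23297))
theorem Q1479 : ∀ i, i < 1479 → P i := stepQ 1478 Q1478 (allL N1478 (tt N1154 F23293) (tt N1390 F23294) (tt N1153 F23295) (tt N1709 (iv F11059)) (tt N1155 F7231) (tt N1384 (iv F23674)) (tt N1130 (iv D4262)))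
theorem Q1480 : ∀ i, i < 1480 → P i := stepQ 1479 Q1479 (allL N1479 (tt N1298 F23024) (tt N1269 F7236) (tt N1131 (iv D4266)) (tt N1435 F7237) (tt N1435 F7238) (tt N1329 F20295) (tt N1292 F23025))
theorem Q1481 : ∀ i, i < 1481 → P i := stepQ 1480 Q1480 (allL N1480 (tt N1405 (iv F23805)) (tt N1148 (iv F23628)) (tt N1333 F20644) (tt N1136 F7252) (tt N1404 F7253) (tt N1486 (iv F7282)) (tt N1132 (iv D4273)))
theorem Q1482 : ∀ i, i < 1482 → P i := stepQ 1481 Q1481 (allL N1481 (tt N1135 F7259) (tt N1165 F20796) (tt N1134 (iv D4277)) (tt N1164 (iv F21113)) (tt N1156 F7260) (tt N1142 F7261) (tt N1495 (iv F7307)))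
theorem Q1483 : ∀ i, i < 1483 → P i := stepQ 1482 Q1482 (allL N1482 (tt N1164 F21424) (tt N1286 F21425) (tt N1288 (iv F21824)) (tt N1135 (iv D4278)) (tt N1572 (iv F24148)) (tt N1144 F7262) (tt N1571 F23924))
theorem Q1484 : ∀ i, i < 1484 → P i := stepQ 1483 Q1483 (allL N1483 (tt N1137 (iv D4284)) (tt N1653 (iv F23270)) (tt N1710 D6835) (tt N1580 F23661) (tt N1158 F7271) (tt N1391 (iv F23278)) (tt N1393 (iv F23279)))
theorem Q1485 : ∀ i, i < 1485 → P i := stepQ 1484 Q1484 (allL N1484 (tt N1710 (iv F11170)) (tt N1692 (iv F10665)) (tt N1137 (iv D4285)) (tt N1692 (iv F23265)) (tt N1159 F7272) (tt N1708 (iv F11021)) (tt N1671 (iv F23260)))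
theorem Q1486 : ∀ i, i < 1486 → P i := stepQ 1485 Q1485 (allL N1485 (tt N1139 F7277) (tt N1687 (iv F24057)) (tt N1138 (iv D4288)) (tt N1414 F23851) (tt N1409 F7278) (tt N1332 F20639) (tt N1408 (iv F24048)))
theorem Q1487 : ∀ i, i < 1487 → P i := stepQ 1486 Q1486 (allL N1486 (tt N1140 F7279) (tt N1667 (iv F24164)) (tt N1408 (iv F24046)) (tt N1143 F7280) (tt N1410 F7281) (tt N1480 F7282) (tt N1138 (iv D4289)))
theorem Q1488 : ∀ i, i < 1488 → P i := stepQ 1487 Q1487 (allL N1487 (tt N1526 (iv F23833)) (tt N1711 D6857) (tt N1141 (iv D4294)) (tt N1712 D6858) (tt N1162 F7291) (tt N1182 F23782) (tt N1525 (iv F23832)))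
theorem Q1489 : ∀ i, i < 1489 → P i := stepQ 1488 Q1488 (allL N1488 (tt N1572 (iv F24146)) (tt N1142 (iv D4297)) (tt N1711 (iv F11212)) (tt N1569 F23827) (tt N1164 F7294) (tt N1607 F23611) (tt N1568 (iv F24150)))
theorem Q1490 : ∀ i, i < 1490 → P i := stepQ 1489 Q1489 (allL N1489 (tt N1144 F7295) (tt N1569 F23825) (tt N1679 F23819) (tt N1142 (iv D4298)) (tt N1607 F23826) (tt N1164 F21420) (tt N1682 (iv F24144)))
theorem Q1491 : ∀ i, i < 1491 → P i := stepQ 1490 Q1490 (allL N1490 (tt N1145 F7296) (tt N1576 (iv F24346)) (tt N1143 F7297) (tt N1682 F24197) (tt N1166 F7298) (tt N1223 F24198) (tt N1142 (iv D4299)))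
theorem Q1492 : ∀ i, i < 1492 → P i := stepQ 1491 Q1491 (allL N1491 (tt N1658 F23987) (tt N1143 (iv D4300)) (tt N1187 (iv F24227)) (tt N1667 (iv F24165)) (tt N1167 F7300) (tt N1183 F24019) (tt N1524 F23988))
theorem Q1493 : ∀ i, i < 1493 → P i := stepQ 1492 Q1492 (allL N1492 (tt N1679 F23816) (tt N1674 (iv F10075)) (tt N1144 (iv D4301)) (tt N1678 F23817) (tt N1713 D6875) (tt N1288 (iv F21825)) (tt N1681 (iv F24143)))
theorem Q1494 : ∀ i, i < 1494 → P i := stepQ 1493 Q1493 (allL N1493 (tt N1607 F23978) (tt N1147 F7301) (tt N1713 (iv F11243)) (tt N1168 F7302) (tt N1144 (iv D4302)) (tt N1572 (iv F24149)) (tt N1714 D6877))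
theorem Q1495 : ∀ i, i < 1495 → P i := stepQ 1494 Q1494 (allL N1494 (tt N1682 F24244) (tt N1542 (iv F7475)) (tt N1681 F24245) (tt N1145 F7303) (tt N1714 (iv F11246)) (tt N1516 (iv F21432)) (tt N1144 (iv D4303)))
theorem Q1496 : ∀ i, i < 1496 → P i := stepQ 1495 Q1495 (allL N1495 (tt N1223 (iv F23925)) (tt N1526 (iv F24234)) (tt N1146 F7305) (tt N1516 (iv F21431)) (tt N1171 F7306) (tt N1145 (iv D4304)) (tt N1481 F7307))
theorem Q1497 : ∀ i, i < 1497 → P i := stepQ 1496 Q1496 (allL N1496 (tt N1395 F7311) (tt N1404 F23512) (tt N1191 F7312) (tt N1406 F23513) (tt N1148 (iv D4310)) (tt N1502 (iv F21817)) (tt N1190 F7313))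
theorem Q1498 : ∀ i, i < 1498 → P i := stepQ 1497 Q1497 (allL N1497 (tt N1687 F24188) (tt N1149 (iv D4311)) (tt N1634 F21910) (tt N1657 (iv F9843)) (tt N1498 (iv F7318)) (tt N1657 (iv F9844)) (tt N1715 D6895))
theorem Q1499 : ∀ i, i < 1499 → P i := stepQ 1498 Q1498 (allL N1498 (tt N1428 (iv F24000)) (tt N1151 (iv D4315)) (tt N1715 (iv F11269)) (tt N1427 F23910) (tt N1497 F7318) (tt N1659 F23911) (tt N1634 (iv F21534)))
theorem Q1500 : ∀ i, i < 1500 → P i := stepQ 1499 Q1499 (allL N1499 (tt N1152 (iv D4317)) (tt N1410 F23853) (tt N1384 F7321) (tt N1413 F23854) (tt N1667 (iv F23677)) (tt N1153 F7320) (tt N1504 (iv F7333)))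
theorem Q1501 : ∀ i, i < 1501 → P i := stepQ 1500 Q1500 (allL N1500 (tt N1384 F7322) (tt N1715 (iv F11268)) (tt N1152 (iv D4318)) (tt N1716 D6906) (tt N1501 (iv F23306)) (tt N1154 F7323) (tt N1474 F23304))
theorem Q1502 : ∀ i, i < 1502 → P i := stepQ 1501 Q1501 (allL N1501 (tt N1504 (iv F7332)) (tt N1634 (iv F23696)) (tt N1474 F23305) (tt N1633 (iv F23686)) (tt N1500 F23306) (tt N1477 F23307) (tt N1152 (iv D4319)))
theorem Q1503 : ∀ i, i < 1503 → P i := stepQ 1502 Q1502 (allL N1502 (tt N1406 F23302) (tt N1153 (iv D4325)) (tt N1546 F21814) (tt N1395 F21815) (tt N1184 F21816) (tt N1496 F21817) (tt N1382 (iv F21852)))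
theorem Q1504 : ∀ i, i < 1504 → P i := stepQ 1503 Q1503 (allL N1503 (tt N1709 (iv F23671)) (tt N1380 F23303) (tt N1188 (iv F23694)) (tt N1154 (iv D4328)) (tt N1394 (iv F23695)) (tt N1716 (iv F11317)) (tt N1183 (iv F23623)))
theorem Q1505 : ∀ i, i < 1505 → P i := stepQ 1504 Q1504 (allL N1504 (tt N1501 F7332) (tt N1372 (iv F23679)) (tt N1667 (iv F9995)) (tt N1654 (iv F9733)) (tt N1384 (iv F23673)) (tt N1155 (iv D4330)) (tt N1499 F7333))
theorem Q1506 : ∀ i, i < 1506 → P i := stepQ 1505 Q1505 (allL N1505 (tt N1168 F20672) (tt N1156 (iv D4341)) (tt N1207 F23505) (tt N1607 (iv F23610)) (tt N1165 F20675) (tt N1569 F23506) (tt N1206 (iv F23508)))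
theorem Q1507 : ∀ i, i < 1507 → P i := stepQ 1506 Q1506 (allL N1506 (tt N1157 (iv D4360)) (tt N1429 F24100) (tt N1641 F24101) (tt N1387 F7362) (tt N1391 (iv F23277)) (tt N1158 F7363) (tt N1376 (iv F22976)))
theorem Q1508 : ∀ i, i < 1508 → P i := stepQ 1507 Q1507 (allL N1507 (tt N1641 (iv F23783)) (tt N1278 F7364) (tt N1157 (iv D4361)) (tt N1717 D6968) (tt N1708 (iv F11020)) (tt N1159 F7365) (tt N1464 (iv F23261)))
theorem Q1509 : ∀ i, i < 1509 → P i := stepQ 1508 Q1508 (allL N1508 (tt N1402 (iv F23268)) (tt N1158 (iv D4363)) (tt N1703 (iv F24250)) (tt N1394 (iv F23269)) (tt N1653 (iv F23271)) (tt N1676 (iv F23272)) (tt N1396 (iv F23273)))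
theorem Q1510 : ∀ i, i < 1510 → P i := stepQ 1509 Q1509 (allL N1509 (tt N1159 F7367) (tt N1574 (iv F24263)) (tt N1158 (iv D4364)) (tt N1718 D6974) (tt N1710 (iv F11171)) (tt N1641 F24045) (tt N1392 (iv F23254)))
theorem Q1511 : ∀ i, i < 1511 → P i := stepQ 1510 Q1510 (allL N1510 (tt N1718 (iv F11447)) (tt N1470 F22960) (tt N1534 (iv F23255)) (tt N1159 (iv D4366)) (tt N1470 (iv F23256)) (tt N1717 (iv F11439)) (tt N1196 (iv F23258)))
theorem Q1512 : ∀ i, i < 1512 → P i := stepQ 1511 Q1511 (allL N1511 (tt N1392 (iv F23253)) (tt N1193 (iv F23262)) (tt N1160 F7370) (tt N1196 (iv F23257)) (tt N1671 (iv F23259)) (tt N1664 (iv F23263)) (tt N1159 (iv D4367)))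
theorem Q1513 : ∀ i, i < 1513 → P i := stepQ 1512 Q1512 (allL N1512 (tt N1162 F7373) (tt N1171 F24163) (tt N1161 (iv D4369)) (tt N1288 F21836) (tt N1526 (iv F23834)) (tt N1678 F23457) (tt N1419 F23458))
theorem Q1514 : ∀ i, i < 1514 → P i := stepQ 1513 Q1513 (allL N1513 (tt N1288 (iv F11470)) (tt N1162 (iv D4372)) (tt N1164 F7376) (tt N1162 (iv F21956)) (tt N1711 (iv F11213)) (tt N1679 F23820) (tt N1719 D6990))
theorem Q1515 : ∀ i, i < 1515 → P i := stepQ 1514 Q1514 (allL N1514 (tt N1419 F23455) (tt N1685 (iv F23841)) (tt N1163 F7378) (tt N1719 F22197) (tt N1525 (iv F23831)) (tt N1417 (iv F23818)) (tt N1162 (iv D4375)))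
theorem Q1516 : ∀ i, i < 1516 → P i := stepQ 1515 Q1515 (allL N1515 (tt N1673 F23996) (tt N1163 (iv D4377)) (tt N1552 (iv F24139)) (tt N1548 (iv F24008)) (tt N1524 (iv F23973)) (tt N1585 F21077) (tt N1167 F7380))
theorem Q1517 : ∀ i, i < 1517 → P i := stepQ 1516 Q1516 (allL N1516 (tt N1571 F24156) (tt N1720 D7011) (tt N1719 (iv F11490)) (tt N1495 F21431) (tt N1568 F24157) (tt N1494 F21432) (tt N1164 (iv D4382)))
theorem Q1518 : ∀ i, i < 1518 → P i := stepQ 1517 Q1517 (allL N1517 (tt N1721 D7015) (tt N1166 (iv D4385)) (tt N1551 (iv F24352)) (tt N1175 F24199) (tt N1576 (iv F24347)) (tt N1181 (iv F24348)) (tt N1720 (iv F11519)))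
theorem Q1519 : ∀ i, i < 1519 → P i := stepQ 1518 Q1518 (allL N1518 (tt N1167 (iv D4386)) (tt N1201 F23860) (tt N1550 (iv F23961)) (tt N1399 F23861) (tt N1658 (iv F23906)) (tt N1397 F23862) (tt N1673 F23863))
theorem Q1520 : ∀ i, i < 1520 → P i := stepQ 1519 Q1519 (allL N1519 (tt N1206 F23891) (tt N1677 (iv F23980)) (tt N1205 F23892) (tt N1714 (iv F11245)) (tt N1169 F7398) (tt N1217 F23893) (tt N1168 (iv D4392)))
theorem Q1521 : ∀ i, i < 1521 → P i := stepQ 1520 Q1520 (allL N1520 (tt N1675 F24240) (tt N1169 (iv D4393)) (tt N1334 F24241) (tt N1170 F7399) (tt N1677 F24242) (tt N1674 F24243) (tt N1192 F7400))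
theorem Q1522 : ∀ i, i < 1522 → P i := stepQ 1521 Q1521 (allL N1521 (tt N1170 (iv D4395)) (tt N1586 F23994) (tt N1585 F23995) (tt N1675 F24239) (tt N1538 (iv F7471)) (tt N1552 (iv F7503)) (tt N1194 F7404))
theorem Q1523 : ∀ i, i < 1523 → P i := stepQ 1522 Q1522 (allL N1522 (tt N1552 (iv F7501)) (tt N1678 (iv F24140)) (tt N1673 (iv F10064)) (tt N1674 (iv F24023)) (tt N1544 (iv F7479)) (tt N1170 (iv D4396)) (tt N1550 (iv F7498)))
theorem Q1524 : ∀ i, i < 1524 → P i := stepQ 1523 Q1523 (allL N1523 (tt N1173 (iv D4404)) (tt N1722 D7048) (tt N1233 F20305) (tt N1383 F7417) (tt N1530 (iv F23310)) (tt N1242 (iv F20404)) (tt N1416 (iv F23319)))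
theorem Q1525 : ∀ i, i < 1525 → P i := stepQ 1524 Q1524 (allL N1524 (tt N1716 (iv F11316)) (tt N1174 (iv D4407)) (tt N1543 (iv F24252)) (tt N1384 F7427) (tt N1515 F23973) (tt N1709 F24018) (tt N1491 (iv F23988)))
theorem Q1526 : ∀ i, i < 1526 → P i := stepQ 1525 Q1525 (allL N1525 (tt N1175 F7428) (tt N1723 D7052) (tt N1174 (iv D4408)) (tt N1721 (iv F24350)) (tt N1514 F23831) (tt N1179 F7429) (tt N1487 F23832))
theorem Q1527 : ∀ i, i < 1527 → P i := stepQ 1526 Q1526 (allL N1526 (tt N1487 F23833) (tt N1495 F24234) (tt N1176 F7432) (tt N1720 (iv F24353)) (tt N1512 F23834) (tt N1533 (iv F7446)) (tt N1175 (iv D4410)))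
theorem Q1528 : ∀ i, i < 1528 → P i := stepQ 1527 Q1527 (allL N1527 (tt N1178 (iv D4415)) (tt N1388 F7439) (tt N1447 (iv F10020)) (tt N1388 F7440) (tt N1463 F10026) (tt N1665 F22167) (tt N1472 F23498))
theorem Q1529 : ∀ i, i < 1529 → P i := stepQ 1528 Q1528 (allL N1528 (tt N1447 (iv F10029)) (tt N1325 F20325) (tt N1178 (iv D4416)) (tt N1280 F20326) (tt N1246 F23312) (tt N1240 F23313) (tt N1578 F23314))
theorem Q1530 : ∀ i, i < 1530 → P i := stepQ 1529 Q1529 (allL N1529 (tt N1665 (iv F21937)) (tt N1709 (iv F23672)) (tt N1240 F23289) (tt N1390 F7441) (tt N1244 F23290) (tt N1178 (iv D4417)) (tt N1239 F23291))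
theorem Q1531 : ∀ i, i < 1531 → P i := stepQ 1530 Q1530 (allL N1530 (tt N1472 F23308) (tt N1662 F24099) (tt N1578 F23309) (tt N1391 F7442) (tt N1523 F23310) (tt N1580 F23311) (tt N1178 (iv D4418)))
theorem Q1532 : ∀ i, i < 1532 → P i := stepQ 1531 Q1531 (allL N1531 (tt N1692 (iv F24119)) (tt N1179 (iv D4419)) (tt N1325 F20324) (tt N1710 (iv F23993)) (tt N1680 (iv F10394)) (tt N1724 D7076) (tt N1725 D7077))
theorem Q1533 : ∀ i, i < 1533 → P i := stepQ 1532 Q1532 (allL N1532 (tt N1181 F7443) (tt N1710 F24249) (tt N1553 F21797) (tt N1179 (iv D4420)) (tt N1574 (iv F22100)) (tt N1721 (iv F24351)) (tt N1726 D7079))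
theorem Q1534 : ∀ i, i < 1534 → P i := stepQ 1533 Q1533 (allL N1533 (tt N1182 F7444) (tt N1544 F24311) (tt N1180 F7445) (tt N1726 (iv F11658)) (tt N1678 (iv F10379)) (tt N1526 F7446) (tt N1179 (iv D4421)))
theorem Q1535 : ∀ i, i < 1535 → P i := stepQ 1534 Q1534 (allL N1534 (tt N1726 (iv F11657)) (tt N1336 F7449) (tt N1510 F23255) (tt N1182 F7450) (tt N1577 (iv F22369)) (tt N1712 (iv F24114)) (tt N1181 (iv D4425)))
theorem Q1536 : ∀ i, i < 1536 → P i := stepQ 1535 Q1535 (allL N1535 (tt N1286 F11479) (tt N1185 (iv D4433)) (tt N1285 F11480) (tt N1638 (iv F21832)) (tt N1454 (iv F20915)) (tt N1458 (iv F20922)) (tt N1321 F23177))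
theorem Q1537 : ∀ i, i < 1537 → P i := stepQ 1536 Q1536 (allL N1536 (tt N1186 F7468) (tt N1638 F22120) (tt N1727 D7103) (tt N1185 (iv D4434)) (tt N1635 (iv F22142)) (tt N1728 D7105) (tt N1729 D7106))
theorem Q1538 : ∀ i, i < 1538 → P i := stepQ 1537 Q1537 (allL N1537 (tt N1187 F7469) (tt N1725 F23960) (tt N1658 F23964) (tt N1728 (iv F11707)) (tt N1550 (iv F7497)) (tt N1185 (iv D4435)) (tt N1544 (iv F7480)))
theorem Q1539 : ∀ i, i < 1539 → P i := stepQ 1538 Q1538 (allL N1538 (tt N1188 F7470) (tt N1730 D7108) (tt N1709 F21265) (tt N1729 (iv F11709)) (tt N1521 F7471) (tt N1543 (iv F7477)) (tt N1185 (iv D4436)))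
theorem Q1540 : ∀ i, i < 1540 → P i := stepQ 1539 Q1539 (allL N1539 (tt N1727 (iv F11704)) (tt N1392 F7472) (tt N1186 (iv D4437)) (tt N1636 F21666) (tt N1728 (iv F22285)) (tt N1635 (iv F22002)) (tt N1731 D7112))
theorem Q1541 : ∀ i, i < 1541 → P i := stepQ 1540 Q1540 (allL N1540 (tt N1635 F22280) (tt N1189 F7473) (tt N1728 (iv F22284)) (tt N1545 (iv F7485)) (tt N1186 (iv D4438)) (tt N1727 F22281) (tt N1732 D7114))
theorem Q1542 : ∀ i, i < 1542 → P i := stepQ 1541 Q1541 (allL N1541 (tt N1728 (iv F11706)) (tt N1563 F22221) (tt N1635 F22222) (tt N1187 F7474) (tt N1727 F22282) (tt N1186 (iv D4439)) (tt N1733 D7115))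
theorem Q1543 : ∀ i, i < 1543 → P i := stepQ 1542 Q1542 (allL N1542 (tt N1729 (iv F11708)) (tt N1494 F7475) (tt N1731 (iv F11715)) (tt N1188 F7476) (tt N1732 (iv F11719)) (tt N1734 D7116) (tt N1186 (iv D4440)))
theorem Q1544 : ∀ i, i < 1544 → P i := stepQ 1543 Q1543 (allL N1543 (tt N1544 (iv F7478)) (tt N1686 (iv F24365)) (tt N1524 F24252) (tt N1733 (iv F11720)) (tt N1552 (iv F7502)) (tt N1538 F7477) (tt N1187 (iv D4441)))
theorem Q1545 : ∀ i, i < 1545 → P i := stepQ 1544 Q1544 (allL N1544 (tt N1543 F7478) (tt N1533 (iv F24311)) (tt N1716 F24037) (tt N1734 (iv F11723)) (tt N1522 F7479) (tt N1188 (iv D4442)) (tt N1537 F7480))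
theorem Q1546 : ∀ i, i < 1546 → P i := stepQ 1545 Q1545 (allL N1545 (tt N1348 (iv F21856)) (tt N1191 (iv D4447)) (tt N1654 F24015) (tt N1540 F7485) (tt N1192 F7486) (tt N1646 F24016) (tt N1677 F24017))
theorem Q1547 : ∀ i, i < 1547 → P i := stepQ 1546 Q1546 (allL N1546 (tt N1453 F7487) (tt N1671 (iv F21862)) (tt N1502 (iv F21814)) (tt N1471 F7489) (tt N1193 F7490) (tt N1191 (iv D4448)) (tt N1471 F7491))
theorem Q1548 : ∀ i, i < 1548 → P i := stepQ 1547 Q1547 (allL N1547 (tt N1192 (iv D4449)) (tt N1263 (iv F21480)) (tt N1676 F24247) (tt N1194 F7492) (tt N1348 (iv F21857)) (tt N1703 (iv F21476)) (tt N1675 F24248))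
theorem Q1549 : ∀ i, i < 1549 → P i := stepQ 1548 Q1548 (allL N1548 (tt N1676 F24006) (tt N1333 F24007) (tt N1192 (iv D4450)) (tt N1515 F24008) (tt N1654 (iv F23667)) (tt N1402 F24009) (tt N1334 (iv F24024)))
theorem Q1550 : ∀ i, i < 1550 → P i := stepQ 1549 Q1549 (allL N1549 (tt N1703 (iv F21475)) (tt N1664 (iv F21839)) (tt N1402 F24003) (tt N1195 F7493) (tt N1646 F24004) (tt N1192 (iv D4451)) (tt N1401 F24005))
theorem Q1551 : ∀ i, i < 1551 → P i := stepQ 1550 Q1550 (allL N1550 (tt N1195 F7496) (tt N1556 F21605) (tt N1518 F23961) (tt N1703 F21884) (tt N1537 F7497) (tt N1194 (iv D4454)) (tt N1522 F7498))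
theorem Q1552 : ∀ i, i < 1552 → P i := stepQ 1551 Q1551 (allL N1551 (tt N1632 (iv F9644)) (tt N1195 (iv D4455)) (tt N1517 F24352) (tt N1664 F22130) (tt N1469 F7499) (tt N1196 F7500) (tt N1735 D7144))
theorem Q1553 : ∀ i, i < 1553 → P i := stepQ 1552 Q1552 (allL N1552 (tt N1522 F7501) (tt N1424 (iv F24254)) (tt N1515 F24139) (tt N1401 F24028) (tt N1543 F7502) (tt N1521 F7503) (tt N1195 (iv D4456)))
theorem Q1554 : ∀ i, i < 1554 → P i := stepQ 1553 Q1553 (allL N1553 (tt N1196 (iv D4457)) (tt N1636 (iv F9671)) (tt N1532 (iv F21797)) (tt N1392 (iv F21840)) (tt N1467 F7504) (tt N1632 F9645) (tt N1718 F23639))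
theorem Q1555 : ∀ i, i < 1555 → P i := stepQ 1554 Q1554 (allL N1554 (tt N1202 F7580) (tt N1353 F23068) (tt N1367 (iv F23955)) (tt N1272 F7582) (tt N1199 F7583) (tt N1198 (iv D4493)) (tt N1364 F23745))
theorem Q1556 : ∀ i, i < 1556 → P i := stepQ 1555 Q1555 (allL N1555 (tt N1693 F22752) (tt N1202 (iv D4507)) (tt N1725 (iv F23578)) (tt N1275 F7607) (tt N1203 F7608) (tt N1210 F7609) (tt N1325 (iv F23501)))
theorem Q1557 : ∀ i, i < 1557 → P i := stepQ 1556 Q1556 (allL N1556 (tt N1468 F22016) (tt N1550 (iv F21605)) (tt N1203 (iv D4512)) (tt N1467 F22017) (tt N1725 (iv F23579)) (tt N1212 F7622) (tt N1680 F23577))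
theorem Q1558 : ∀ i, i < 1558 → P i := stepQ 1557 Q1557 (allL N1557 (tt N1587 F23348) (tt N1204 (iv D4518)) (tt N1736 D7259) (tt N1209 F7629) (tt N1640 (iv F23084)) (tt N1421 (iv F23422)) (tt N1249 (iv F23563)))
theorem Q1559 : ∀ i, i < 1559 → P i := stepQ 1558 Q1558 (allL N1558 (tt N1714 (iv F24175)) (tt N1606 F23612) (tt N1575 F22427) (tt N1206 (iv D4521)) (tt N1682 F22426) (tt N1219 F7634) (tt N1607 F23613))
theorem Q1560 : ∀ i, i < 1560 → P i := stepQ 1559 Q1559 (allL N1559 (tt N1591 F23440) (tt N1708 (iv F11019)) (tt N1209 (iv D4530)) (tt N1590 (iv F23822)) (tt N1278 F7647) (tt N1590 (iv F23823)) (tt N1257 F23776))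
theorem Q1561 : ∀ i, i < 1561 → P i := stepQ 1560 Q1560 (allL N1560 (tt N1210 (iv D4532)) (tt N1438 (iv F20932)) (tt N1670 (iv F20960)) (tt N1279 F7650) (tt N1211 F7651) (tt N1693 F22751) (tt N1618 F23749))
theorem Q1562 : ∀ i, i < 1562 → P i := stepQ 1561 Q1561 (allL N1561 (tt N1670 F21298) (tt N1458 F7652) (tt N1210 (iv D4533)) (tt N1669 (iv F21667)) (tt N1212 F7653) (tt N1725 F23966) (tt N1737 D7294))
theorem Q1563 : ∀ i, i < 1563 → P i := stepQ 1562 Q1562 (allL N1562 (tt N1618 F23752) (tt N1229 (iv F24079)) (tt N1737 (iv F12045)) (tt N1281 F7654) (tt N1213 F7655) (tt N1439 (iv F22415)) (tt N1210 (iv D4534)))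
theorem Q1564 : ∀ i, i < 1564 → P i := stepQ 1563 Q1563 (allL N1563 (tt N1212 F7663) (tt N1541 (iv F22221)) (tt N1211 (iv D4539)) (tt N1469 F22018) (tt N1670 F21299) (tt N1468 F22019) (tt N1738 D7308))
theorem Q1565 : ∀ i, i < 1565 → P i := stepQ 1564 Q1564 (allL N1564 (tt N1213 F7664) (tt N1587 F23429) (tt N1738 (iv F12072)) (tt N1218 F7665) (tt N1618 F23430) (tt N1455 F22490) (tt N1211 (iv D4540)))
theorem Q1566 : ∀ i, i < 1566 → P i := stepQ 1565 Q1565 (allL N1565 (tt N1469 (iv F21842)) (tt N1425 F23865) (tt N1739 D7310) (tt N1212 (iv D4541)) (tt N1632 (iv F21846)) (tt N1467 (iv F21847)) (tt N1707 (iv F21848)))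
theorem Q1567 : ∀ i, i < 1567 → P i := stepQ 1566 Q1566 (allL N1566 (tt N1738 (iv F12071)) (tt N1335 F23962) (tt N1213 F7668) (tt N1707 F22137) (tt N1737 (iv F12046)) (tt N1456 F22492) (tt N1212 (iv D4542)))
theorem Q1568 : ∀ i, i < 1568 → P i := stepQ 1567 Q1567 (allL N1567 (tt N1711 (iv F11475)) (tt N1217 (iv D4554)) (tt N1572 F24161) (tt N1740 D7338) (tt N1288 F7687) (tt N1713 F21423) (tt N1570 F24162))
theorem Q1569 : ∀ i, i < 1569 → P i := stepQ 1568 Q1568 (allL N1568 (tt N1219 F7688) (tt N1740 (iv F12122)) (tt N1741 D7341) (tt N1217 (iv D4555)) (tt N1516 (iv F24157)) (tt N1714 (iv F24176)) (tt N1488 F24150))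
theorem Q1570 : ∀ i, i < 1570 → P i := stepQ 1569 Q1569 (allL N1569 (tt N1220 F7689) (tt N1489 (iv F23825)) (tt N1218 F7690) (tt N1488 (iv F23827)) (tt N1289 F7691) (tt N1505 (iv F23506)) (tt N1217 (iv D4556)))
theorem Q1571 : ∀ i, i < 1571 → P i := stepQ 1570 Q1570 (allL N1570 (tt N1741 (iv F12126)) (tt N1682 (iv F10401)) (tt N1219 (iv D4558)) (tt N1576 F22276) (tt N1606 F23843) (tt N1575 (iv F22378)) (tt N1567 (iv F24162)))
theorem Q1572 : ∀ i, i < 1572 → P i := stepQ 1571 Q1571 (allL N1571 (tt N1516 (iv F24156)) (tt N1224 (iv F22309)) (tt N1606 F23842) (tt N1223 F22192) (tt N1219 (iv D4559)) (tt N1682 F22428) (tt N1482 (iv F23924)))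
theorem Q1573 : ∀ i, i < 1573 → P i := stepQ 1572 Q1572 (allL N1572 (tt N1488 F24146) (tt N1264 F24147) (tt N1567 (iv F24161)) (tt N1220 F7696) (tt N1482 F24148) (tt N1493 F24149) (tt N1219 (iv D4560)))
theorem Q1574 : ∀ i, i < 1574 → P i := stepQ 1573 Q1573 (allL N1573 (tt N1462 (iv F23794)) (tt N1225 (iv D4576)) (tt N1460 F24128) (tt N1226 F7723) (tt N1594 F22984) (tt N1339 F23428) (tt N1264 (iv F24131)))
theorem Q1575 : ∀ i, i < 1575 → P i := stepQ 1574 Q1574 (allL N1574 (tt N1227 (iv D4579)) (tt N1509 F24263) (tt N1467 F7726) (tt N1742 D7390) (tt N1532 F22100) (tt N1739 (iv F21844)) (tt N1743 D7392))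
theorem Q1576 : ∀ i, i < 1576 → P i := stepQ 1575 Q1575 (allL N1575 (tt N1742 (iv F12223)) (tt N1228 F7728) (tt N1558 (iv F22427)) (tt N1227 (iv D4580)) (tt N1418 (iv F22526)) (tt N1570 F22378) (tt N1629 F23793))
theorem Q1577 : ∀ i, i < 1577 → P i := stepQ 1576 Q1576 (allL N1576 (tt N1739 F22135) (tt N1490 F24346) (tt N1469 F7730) (tt N1570 (iv F22276)) (tt N1517 F24347) (tt N1227 (iv D4581)) (tt N1740 (iv F24322)))
theorem Q1578 : ∀ i, i < 1578 → P i := stepQ 1577 Q1577 (allL N1577 (tt N1743 (iv F12228)) (tt N1593 (iv F8207)) (tt N1470 F7732) (tt N1629 F23792) (tt N1534 F22369) (tt N1744 D7398) (tt N1227 (iv D4582)))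
theorem Q1579 : ∀ i, i < 1579 → P i := stepQ 1578 Q1578 (allL N1578 (tt N1230 (iv D4638)) (tt N1434 (iv F20254)) (tt N1530 (iv F23309)) (tt N1308 F7834) (tt N1233 F7835) (tt N1238 F7836) (tt N1528 (iv F23314)))
theorem Q1580 : ∀ i, i < 1580 → P i := stepQ 1579 Q1579 (allL N1579 (tt N1295 F7924) (tt N1579 F7925) (tt N1235 (iv D4690)) (tt N1431 F7927) (tt N1431 F7926) (tt N1597 (iv F20981)) (tt N1579 F23069))
theorem Q1581 : ∀ i, i < 1581 → P i := stepQ 1580 Q1580 (allL N1580 (tt N1239 F7982) (tt N1477 (iv F20418)) (tt N1238 (iv D4724)) (tt N1483 (iv F23661)) (tt N1242 F7983) (tt N1530 (iv F23311)) (tt N1665 (iv F23267)))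
theorem Q1582 : ∀ i, i < 1582 → P i := stepQ 1581 Q1581 (allL N1581 (tt N1240 F7984) (tt N1693 (iv F20350)) (tt N1665 (iv F23266)) (tt N1324 F7985) (tt N1243 F7986) (tt N1447 (iv F23166)) (tt N1238 (iv D4725)))
theorem Q1583 : ∀ i, i < 1583 → P i := stepQ 1582 Q1582 (allL N1582 (tt N1365 F23137) (tt N1240 (iv D4728)) (tt N1730 (iv F23900)) (tt N1326 F7990) (tt N1245 F7991) (tt N1745 D7688) (tt N1241 F7992))
theorem Q1584 : ∀ i, i < 1584 → P i := stepQ 1583 Q1583 (allL N1583 (tt N1241 (iv D4730)) (tt N1701 (iv F24224)) (tt N1746 D7691) (tt N1327 F7997) (tt N1247 F7998) (tt N1639 F23948) (tt N1365 F23132))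
theorem Q1585 : ∀ i, i < 1585 → P i := stepQ 1584 Q1584 (allL N1584 (tt N1746 (iv F12756)) (tt N1321 (iv F24219)) (tt N1241 (iv D4731)) (tt N1747 D7693) (tt N1248 F7999) (tt N1363 F24178) (tt N1730 F24179))
theorem Q1586 : ∀ i, i < 1586 → P i := stepQ 1585 Q1585 (allL N1585 (tt N1394 F23650) (tt N1244 (iv D4754)) (tt N1521 (iv F23995)) (tt N1402 F23651) (tt N1709 (iv F23669)) (tt N1515 (iv F21077)) (tt N1397 (iv F23680)))
theorem Q1587 : ∀ i, i < 1587 → P i := stepQ 1586 Q1586 (allL N1586 (tt N1683 (iv F23419)) (tt N1521 (iv F23994)) (tt N1245 (iv D4757)) (tt N1736 (iv F24216)) (tt N1730 (iv F23901)) (tt N1748 D7752) (tt N1248 F8043))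
theorem Q1588 : ∀ i, i < 1588 → P i := stepQ 1587 Q1587 (allL N1587 (tt N1557 (iv F23348)) (tt N1564 (iv F23429)) (tt N1748 (iv F12854)) (tt N1252 F8044) (tt N1745 (iv F12751)) (tt N1245 (iv D4758)) (tt N1466 (iv F23436)))
theorem Q1589 : ∀ i, i < 1589 → P i := stepQ 1588 Q1588 (allL N1588 (tt N1248 F8047) (tt N1746 (iv F23417)) (tt N1247 (iv D4761)) (tt N1702 (iv F24213)) (tt N1746 (iv F12757)) (tt N1702 F23947) (tt N1683 (iv F23421)))
theorem Q1590 : ∀ i, i < 1590 → P i := stepQ 1589 Q1589 (allL N1589 (tt N1702 (iv F24212)) (tt N1267 (iv F24061)) (tt N1249 (iv F24218)) (tt N1248 (iv D4763)) (tt N1363 (iv F24214)) (tt N1248 (iv F24215)) (tt N1736 (iv F24217)))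
theorem Q1591 : ∀ i, i < 1591 → P i := stepQ 1590 Q1590 (allL N1590 (tt N1251 F8104) (tt N1737 (iv F24082)) (tt N1250 (iv D4801)) (tt N1559 F23822) (tt N1335 F8105) (tt N1559 F23823) (tt N1254 F8106))
theorem Q1592 : ∀ i, i < 1592 → P i := stepQ 1591 Q1591 (allL N1591 (tt N1559 (iv F23440)) (tt N1679 (iv F10381)) (tt N1252 (iv F23442)) (tt N1251 (iv D4802)) (tt N1337 F23144) (tt N1251 (iv F23443)) (tt N1256 F8107))
theorem Q1593 : ∀ i, i < 1593 → P i := stepQ 1592 Q1592 (allL N1592 (tt N1320 (iv F23952)) (tt N1257 (iv D4819)) (tt N1449 (iv F23913)) (tt N1319 (iv F23945)) (tt N1343 F8131) (tt N1261 F8132) (tt N1448 (iv F23773)))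
theorem Q1594 : ∀ i, i < 1594 → P i := stepQ 1593 Q1593 (allL N1593 (tt N1601 (iv F23426)) (tt N1577 F8207) (tt N1336 (iv F22810)) (tt N1337 F23427) (tt N1336 F22529) (tt N1336 (iv F23717)) (tt N1258 (iv D4859)))
theorem Q1595 : ∀ i, i < 1595 → P i := stepQ 1594 Q1594 (allL N1594 (tt N1321 (iv F24129)) (tt N1260 (iv D4862)) (tt N1287 F23936) (tt N1261 F8219) (tt N1573 (iv F22984)) (tt N1319 (iv F23946)) (tt N1286 (iv F24130)))
theorem Q1596 : ∀ i, i < 1596 → P i := stepQ 1595 Q1595 (allL N1595 (tt N1261 (iv D4863)) (tt N1747 F24354) (tt N1451 F24180) (tt N1321 F24181) (tt N1344 F8221) (tt N1320 F24182) (tt N1638 F24183))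
theorem Q1597 : ∀ i, i < 1597 → P i := stepQ 1596 Q1596 (allL N1596 (tt N1371 (iv F23873)) (tt N1676 (iv F23998)) (tt N1262 (iv D4896)) (tt N1749 D8022) (tt N1347 F8287) (tt N1429 (iv F23788)) (tt N1369 F23489))
theorem Q1598 : ∀ i, i < 1598 → P i := stepQ 1597 Q1597 (allL N1597 (tt N1269 F8342) (tt N1750 D8083) (tt N1268 (iv D4929)) (tt N1688 (iv F21308)) (tt N1688 (iv F21309)) (tt N1579 F20981) (tt N1269 (iv F23070)))
theorem Q1599 : ∀ i, i < 1599 → P i := stepQ 1598 Q1598 (allL N1598 (tt N1688 (iv F21307)) (tt N1435 F8363) (tt N1270 F8364) (tt N1269 (iv D4940)) (tt N1269 (iv F8365)) (tt N1611 F20980) (tt N1688 (iv F23383)))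
theorem Q1600 : ∀ i, i < 1600 → P i := stepQ 1599 Q1599 (allL N1599 (tt N1614 F20228) (tt N1273 (iv D4987)) (tt N1326 F23391) (tt N1640 F23753) (tt N1274 F8428) (tt N1304 F8429) (tt N1328 (iv F23404)))
theorem Q1601 : ∀ i, i < 1601 → P i := stepQ 1600 Q1600 (allL N1600 (tt N1275 (iv D4999)) (tt N1324 (iv F22981)) (tt N1324 F23321) (tt N1693 F22643) (tt N1277 F8445) (tt N1279 F8446) (tt N1323 (iv F23702)))
theorem Q1602 : ∀ i, i < 1602 → P i := stepQ 1601 Q1601 (allL N1601 (tt N1593 F23426) (tt N1717 (iv F11438)) (tt N1628 (iv F23764)) (tt N1278 (iv D5052)) (tt N1628 (iv F23790)) (tt N1628 (iv F23791)) (tt N1342 (iv F24102)))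
theorem Q1603 : ∀ i, i < 1603 → P i := stepQ 1602 Q1602 (allL N1602 (tt N1437 F20661) (tt N1279 (iv D5055)) (tt N1751 D8293) (tt N1438 (iv F20933)) (tt N1284 F8504) (tt N1442 (iv F20935)) (tt N1698 (iv F20937)))
theorem Q1604 : ∀ i, i < 1604 → P i := stepQ 1603 Q1603 (allL N1603 (tt N1284 (iv D5067)) (tt N1300 F23719) (tt N1752 D8320) (tt N1285 F8529) (tt N1437 (iv F20423)) (tt N1440 (iv F20434)) (tt N1315 F22712))
theorem Q1605 : ∀ i, i < 1605 → P i := stepQ 1604 Q1604 (allL N1604 (tt N1752 (iv F14002)) (tt N1620 F23054) (tt N1284 (iv D5068)) (tt N1751 (iv F24407)) (tt N1751 (iv F13960)) (tt N1620 F23056) (tt N1753 D8326))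
theorem Q1606 : ∀ i, i < 1606 → P i := stepQ 1605 Q1605 (allL N1605 (tt N1315 F22703) (tt N1331 F23754) (tt N1753 (iv F14009)) (tt N1287 F8531) (tt N1698 (iv F20936)) (tt N1313 F22705) (tt N1284 (iv D5070)))
theorem Q1607 : ∀ i, i < 1607 → P i := stepQ 1606 Q1606 (allL N1606 (tt N1719 (iv F11489)) (tt N1558 (iv F23612)) (tt N1571 (iv F23842)) (tt N1419 F23456) (tt N1570 (iv F23843)) (tt N1418 (iv F23821)) (tt N1288 (iv D5108)))
theorem Q1608 : ∀ i, i < 1608 → P i := stepQ 1607 Q1607 (allL N1607 (tt N1493 (iv F23978)) (tt N1289 (iv D5112)) (tt N1629 (iv F23397)) (tt N1505 F23610) (tt N1489 (iv F23826)) (tt N1488 (iv F23611)) (tt N1558 (iv F23613)))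
theorem Q1609 : ∀ i, i < 1609 → P i := stepQ 1608 Q1608 (allL N1608 (tt N1608 F8701) (tt N1292 (iv D5208)) (tt N1750 (iv F13455)) (tt N1754 D8575) (tt N1754 F14361) (tt N1608 F24452) (tt N1750 (iv F23703)))
theorem Q1610 : ∀ i, i < 1610 → P i := stepQ 1609 Q1609 (allL N1609 (tt N1296 F8702) (tt N1754 (iv F14360)) (tt N1293 F8703) (tt N1292 (iv D5209)) (tt N1292 (iv F8704)) (tt N1689 F21282) (tt N1435 (iv F23371)))
theorem Q1611 : ∀ i, i < 1611 → P i := stepQ 1610 Q1610 (allL N1610 (tt N1297 F8705) (tt N1610 F20964) (tt N1294 F8706) (tt N1689 (iv F20942)) (tt N1689 F21092) (tt N1292 (iv D5210)) (tt N1613 (iv F8758)))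
theorem Q1612 : ∀ i, i < 1612 → P i := stepQ 1611 Q1611 (allL N1611 (tt N1431 F8742) (tt N1296 F8743) (tt N1301 F8744) (tt N1295 (iv D5236)) (tt N1295 (iv F8745)) (tt N1598 (iv F20980)) (tt N1611 F22716))
theorem Q1613 : ∀ i, i < 1613 → P i := stepQ 1612 Q1612 (allL N1612 (tt N1689 (iv F20941)) (tt N1624 (iv F20943)) (tt N1299 F8748) (tt N1297 F8749) (tt N1297 F8750) (tt N1296 (iv D5239)) (tt N1624 (iv F23606)))
theorem Q1614 : ∀ i, i < 1614 → P i := stepQ 1613 Q1613 (allL N1613 (tt N1329 F23326) (tt N1755 D8632) (tt N1300 F8757) (tt N1436 (iv F23707)) (tt N1436 (iv F23708)) (tt N1298 (iv D5244)) (tt N1610 F8758))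
theorem Q1615 : ∀ i, i < 1615 → P i := stepQ 1614 Q1614 (allL N1614 (tt N1599 (iv F20228)) (tt N1309 F8882) (tt N1304 (iv D5342)) (tt N1745 (iv F23411)) (tt N1306 F8883) (tt N1326 F23386) (tt N1626 (iv F23092)))
theorem Q1616 : ∀ i, i < 1616 → P i := stepQ 1615 Q1615 (allL N1615 (tt N1445 (iv F24378)) (tt N1305 (iv D5344)) (tt N1756 D8802) (tt N1452 (iv F24359)) (tt N1307 F8885) (tt N1615 F22736) (tt N1625 (iv F23079)))
theorem Q1617 : ∀ i, i < 1617 → P i := stepQ 1616 Q1616 (allL N1616 (tt N1307 (iv D5356)) (tt N1441 F24306) (tt N1757 D8832) (tt N1459 F24307) (tt N1445 (iv F24379)) (tt N1616 F22696) (tt N1621 F24308))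
theorem Q1618 : ∀ i, i < 1618 → P i := stepQ 1617 Q1617 (allL N1617 (tt N1757 (iv F14780)) (tt N1314 F8899) (tt N1307 (iv D5357)) (tt N1756 (iv F23746)) (tt N1756 (iv F14742)) (tt N1617 F22735) (tt N1627 (iv F23076)))
theorem Q1619 : ∀ i, i < 1619 → P i := stepQ 1618 Q1618 (allL N1618 (tt N1562 (iv F23752)) (tt N1745 (iv F23410)) (tt N1724 (iv F20263)) (tt N1309 (iv D5371)) (tt N1564 (iv F23430)) (tt N1325 F8915) (tt N1560 (iv F23749)))
theorem Q1620 : ∀ i, i < 1620 → P i := stepQ 1619 Q1619 (allL N1619 (tt N1696 F23372) (tt N1756 (iv F14741)) (tt N1311 (iv D5375)) (tt N1314 (iv F23747)) (tt N1314 F8921) (tt N1700 F24345) (tt N1695 (iv F23041)))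
theorem Q1621 : ∀ i, i < 1621 → P i := stepQ 1620 Q1620 (allL N1620 (tt N1694 (iv F23033)) (tt N1604 (iv F23054)) (tt N1312 (iv D5394)) (tt N1695 (iv F23055)) (tt N1695 (iv F23040)) (tt N1604 (iv F23056)) (tt N1314 F8947))
theorem Q1622 : ∀ i, i < 1622 → P i := stepQ 1621 Q1621 (allL N1621 (tt N1330 F24109) (tt N1313 (iv D5396)) (tt N1758 D8920) (tt N1318 F8949) (tt N1697 (iv F23029)) (tt N1330 F24110) (tt N1616 (iv F24308)))
theorem Q1623 : ∀ i, i < 1623 → P i := stepQ 1622 Q1622 (allL N1622 (tt N1314 F8950) (tt N1759 D8922) (tt N1313 (iv D5397)) (tt N1696 (iv F23031)) (tt N1696 (iv F23032)) (tt N1753 (iv F23037)) (tt N1694 (iv F23034)))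
theorem Q1624 : ∀ i, i < 1624 → P i := stepQ 1623 Q1623 (allL N1623 (tt N1753 (iv F23036)) (tt N1623 F23019) (tt N1315 F8954) (tt N1700 F24374) (tt N1700 (iv F24302)) (tt N1314 (iv D5400)) (tt N1752 (iv F23047)))
theorem Q1625 : ∀ i, i < 1625 → P i := stepQ 1624 Q1624 (allL N1624 (tt N1436 (iv F20424)) (tt N1612 F20943) (tt N1322 (iv D5476)) (tt N1329 (iv F20445)) (tt N1329 F9057) (tt N1435 (iv F20393)) (tt N1612 F23606))
theorem Q1626 : ∀ i, i < 1626 → P i := stepQ 1625 Q1625 (allL N1625 (tt N1697 F24355) (tt N1327 (iv D5492)) (tt N1760 D9079) (tt N1701 F24356) (tt N1330 F9080) (tt N1697 F24357) (tt N1615 F23079))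
theorem Q1627 : ∀ i, i < 1627 → P i := stepQ 1626 Q1626 (allL N1626 (tt N1328 F9081) (tt N1698 (iv F23779)) (tt N1327 (iv D5493)) (tt N1639 (iv F23800)) (tt N1331 F9082) (tt N1327 (iv F23405)) (tt N1614 F23092))
theorem Q1628 : ∀ i, i < 1628 → P i := stepQ 1627 Q1627 (allL N1627 (tt N1758 (iv F24304)) (tt N1753 (iv F24084)) (tt N1330 (iv D5554)) (tt N1760 (iv F24426)) (tt N1760 (iv F15146)) (tt N1758 (iv F24305)) (tt N1617 F23076))
theorem Q1629 : ∀ i, i < 1629 → P i := stepQ 1628 Q1628 (allL N1628 (tt N1336 F9285) (tt N1707 (iv F24124)) (tt N1601 F23764) (tt N1335 (iv D5660)) (tt N1601 F23790) (tt N1601 F23791) (tt N1340 F9286))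
theorem Q1630 : ∀ i, i < 1630 → P i := stepQ 1629 Q1629 (allL N1629 (tt N1713 (iv F23454)) (tt N1337 (iv D5664)) (tt N1607 F23397) (tt N1577 (iv F23792)) (tt N1679 (iv F23441)) (tt N1711 (iv F23453)) (tt N1575 (iv F23793)))
theorem Q1631 : ∀ i, i < 1631 → P i := stepQ 1630 Q1630 (allL N1630 (tt N1761 D9638) (tt N1344 (iv D5796)) (tt N1762 D9639) (tt N1363 F24278) (tt N1747 (iv F24344)) (tt N1747 (iv F24367)) (tt N1763 D9641))
theorem Q1632 : ∀ i, i < 1632 → P i := stepQ 1631 Q1631 (allL N1631 (tt N1423 F9642) (tt N1721 (iv F24349)) (tt N1345 (iv D5912)) (tt N1723 (iv F22370)) (tt N1643 (iv F9711)) (tt N1359 (iv F23879)) (tt N1643 (iv F23866)))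
theorem Q1633 : ∀ i, i < 1633 → P i := stepQ 1632 Q1632 (allL N1632 (tt N1551 F9644) (tt N1346 (iv D5913)) (tt N1721 F24387) (tt N1464 (iv F21440)) (tt N1565 F21846) (tt N1553 (iv F9645)) (tt N1717 F23646))
theorem Q1634 : ∀ i, i < 1634 → P i := stepQ 1633 Q1633 (allL N1633 (tt N1654 F23685) (tt N1347 (iv D5930)) (tt N1348 F9665) (tt N1501 F23686) (tt N1676 (iv F23999)) (tt N1653 F23687) (tt N1361 F23688))
theorem Q1635 : ∀ i, i < 1635 → P i := stepQ 1634 Q1634 (allL N1634 (tt N1668 (iv F24038)) (tt N1501 F23696) (tt N1497 (iv F21910)) (tt N1347 (iv D5931)) (tt N1715 (iv F21911)) (tt N1662 F23919) (tt N1498 F21534))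
theorem Q1636 : ∀ i, i < 1636 → P i := stepQ 1635 Q1635 (allL N1635 (tt N1540 (iv F22280)) (tt N1349 F9670) (tt N1541 (iv F22222)) (tt N1348 (iv D5934)) (tt N1536 F22142) (tt N1539 F22002) (tt N1764 D9894))
theorem Q1637 : ∀ i, i < 1637 → P i := stepQ 1636 Q1636 (allL N1636 (tt N1646 F24010) (tt N1553 F9671) (tt N1653 F24011) (tt N1539 (iv F21666)) (tt N1703 (iv F10983)) (tt N1348 (iv D5935)) (tt N1644 F24012))
theorem Q1638 : ∀ i, i < 1638 → P i := stepQ 1637 Q1637 (allL N1637 (tt N1677 (iv F23979)) (tt N1656 (iv F24063)) (tt N1361 F23683) (tt N1764 (iv F16425)) (tt N1675 (iv F23981)) (tt N1356 F23684) (tt N1348 (iv D5936)))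
theorem Q1639 : ∀ i, i < 1639 → P i := stepQ 1638 Q1638 (allL N1638 (tt N1350 F9674) (tt N1536 (iv F22120)) (tt N1438 (iv F21436)) (tt N1535 F21832) (tt N1349 (iv D5938)) (tt N1448 (iv F21437)) (tt N1595 (iv F24183)))
theorem Q1640 : ∀ i, i < 1640 → P i := stepQ 1639 Q1639 (allL N1639 (tt N1352 (iv D5969)) (tt N1451 F16286) (tt N1655 (iv F9778)) (tt N1626 F23800) (tt N1466 F16287) (tt N1583 (iv F23948)) (tt N1745 F23801))
theorem Q1641 : ∀ i, i < 1641 → P i := stepQ 1640 Q1640 (allL N1640 (tt N1745 (iv F23433)) (tt N1364 F23726) (tt N1656 (iv F9779)) (tt N1599 (iv F23753)) (tt N1557 F23084) (tt N1365 (iv F23789)) (tt N1352 (iv D5970)))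
theorem Q1642 : ∀ i, i < 1642 → P i := stepQ 1641 Q1641 (allL N1641 (tt N1507 F23783) (tt N1354 (iv D5972)) (tt N1506 (iv F24101)) (tt N1735 (iv F23989)) (tt N1652 (iv F23785)) (tt N1509 (iv F24045)) (tt N1664 (iv F24115)))
theorem Q1643 : ∀ i, i < 1643 → P i := stepQ 1642 Q1642 (allL N1642 (tt N1357 F9708) (tt N1735 F24117) (tt N1765 D9948) (tt N1354 (iv D5973)) (tt N1766 D9949) (tt N1767 D9950) (tt N1424 F24116))
theorem Q1644 : ∀ i, i < 1644 → P i := stepQ 1643 Q1643 (allL N1643 (tt N1358 F9709) (tt N1739 (iv F21843)) (tt N1355 F9710) (tt N1767 (iv F16517)) (tt N1631 F9711) (tt N1354 (iv D5974)) (tt N1631 F23866))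
theorem Q1645 : ∀ i, i < 1645 → P i := stepQ 1644 Q1644 (allL N1644 (tt N1356 (iv D5975)) (tt N1713 F21421) (tt N1360 F9712) (tt N1731 (iv F24022)) (tt N1674 (iv F21823)) (tt N1677 F23615) (tt N1636 (iv F24012)))
theorem Q1646 : ∀ i, i < 1646 → P i := stepQ 1645 Q1645 (allL N1645 (tt N1731 (iv F24021)) (tt N1357 F9713) (tt N1729 (iv F24025)) (tt N1356 (iv D5976)) (tt N1733 (iv F24026)) (tt N1764 (iv F24027)) (tt N1727 (iv F24014)))
theorem Q1647 : ∀ i, i < 1647 → P i := stepQ 1646 Q1646 (allL N1646 (tt N1636 (iv F24010)) (tt N1389 (iv F23991)) (tt N1362 F9715) (tt N1727 (iv F24013)) (tt N1549 (iv F24004)) (tt N1545 (iv F24016)) (tt N1356 (iv D5978)))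
theorem Q1648 : ∀ i, i < 1648 → P i := stepQ 1647 Q1647 (allL N1647 (tt N1765 (iv F16513)) (tt N1768 D9961) (tt N1357 (iv D5979)) (tt N1769 D9962) (tt N1649 F24397) (tt N1648 F24398) (tt N1769 (iv F24337)))
theorem Q1649 : ∀ i, i < 1649 → P i := stepQ 1648 Q1648 (allL N1648 (tt N1766 (iv F16515)) (tt N1733 F24253) (tt N1649 (iv F24396)) (tt N1686 (iv F10437)) (tt N1357 (iv D5980)) (tt N1647 (iv F24398)) (tt N1770 D9967))
theorem Q1650 : ∀ i, i < 1650 → P i := stepQ 1649 Q1649 (allL N1649 (tt N1767 (iv F16516)) (tt N1771 D9968) (tt N1648 F24396) (tt N1358 F9716) (tt N1647 (iv F24397)) (tt N1357 (iv D5981)) (tt N1684 F23912))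
theorem Q1651 : ∀ i, i < 1651 → P i := stepQ 1650 Q1650 (allL N1650 (tt N1424 F24172) (tt N1724 F24173) (tt N1769 (iv F24336)) (tt N1359 F9717) (tt N1770 (iv F16541)) (tt N1723 F24174) (tt N1357 (iv D5982)))
theorem Q1652 : ∀ i, i < 1652 → P i := stepQ 1651 Q1651 (allL N1651 (tt N1730 (iv F23899)) (tt N1358 (iv D5983)) (tt N1365 F9718) (tt N1771 (iv F16542)) (tt N1683 (iv F10420)) (tt N1656 F24064) (tt N1746 (iv F23418)))
theorem Q1653 : ∀ i, i < 1653 → P i := stepQ 1652 Q1652 (allL N1652 (tt N1708 (iv F23775)) (tt N1359 (iv D5985)) (tt N1391 F23786) (tt N1724 (iv F24118)) (tt N1641 F23785) (tt N1710 (iv F23990)) (tt N1389 (iv F23992)))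
theorem Q1654 : ∀ i, i < 1654 → P i := stepQ 1653 Q1653 (allL N1653 (tt N1362 F9728) (tt N1483 F23270) (tt N1636 (iv F24011)) (tt N1477 F23666) (tt N1508 F23271) (tt N1633 (iv F23687)) (tt N1360 (iv D5989)))
theorem Q1655 : ∀ i, i < 1655 → P i := stepQ 1654 Q1654 (allL N1654 (tt N1633 (iv F23685)) (tt N1412 F23846) (tt N1545 (iv F24015)) (tt N1504 F9733) (tt N1548 F23667) (tt N1362 (iv D5991)) (tt N1413 F23847))
theorem Q1656 : ∀ i, i < 1656 → P i := stepQ 1655 Q1655 (allL N1655 (tt N1363 (iv D6021)) (tt N1761 (iv F24327)) (tt N1639 F9778) (tt N1761 (iv F24328)) (tt N1702 (iv F16285)) (tt N1746 (iv F24226)) (tt N1772 D10036))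
theorem Q1657 : ∀ i, i < 1657 → P i := stepQ 1656 Q1656 (allL N1656 (tt N1772 (iv F16643)) (tt N1637 F24063) (tt N1640 F9779) (tt N1763 (iv F24369)) (tt N1736 (iv F23349)) (tt N1651 (iv F24064)) (tt N1363 (iv D6022)))
theorem Q1658 : ∀ i, i < 1658 → P i := stepQ 1657 Q1657 (allL N1657 (tt N1661 F23969) (tt N1366 (iv D6061)) (tt N1662 F24041) (tt N1497 F9843) (tt N1659 F23970) (tt N1497 F9844) (tt N1660 F24042))
theorem Q1659 : ∀ i, i < 1659 → P i := stepQ 1658 Q1658 (allL N1658 (tt N1491 (iv F23987)) (tt N1368 (iv D6067)) (tt N1537 (iv F23964)) (tt N1474 F23692) (tt N1518 F23906) (tt N1475 F23693) (tt N1716 (iv F11318)))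
theorem Q1660 : ∀ i, i < 1660 → P i := stepQ 1659 Q1659 (allL N1659 (tt N1370 F9880) (tt N1398 (iv F23828)) (tt N1722 (iv F24050)) (tt N1369 (iv D6087)) (tt N1657 (iv F23970)) (tt N1498 (iv F23911)) (tt N1749 (iv F23876)))
theorem Q1661 : ∀ i, i < 1661 → P i := stepQ 1660 Q1660 (allL N1660 (tt N1722 (iv F24049)) (tt N1716 (iv F24051)) (tt N1370 (iv D6089)) (tt N1715 (iv F24052)) (tt N1749 (iv F24054)) (tt N1666 (iv F24056)) (tt N1657 (iv F24042)))
theorem Q1662 : ∀ i, i < 1662 → P i := stepQ 1661 Q1661 (allL N1661 (tt N1657 (iv F23969)) (tt N1414 F24002) (tt N1749 (iv F24053)) (tt N1687 (iv F10473)) (tt N1370 (iv D6090)) (tt N1687 (iv F10474)) (tt N1722 (iv F24044)))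
theorem Q1663 : ∀ i, i < 1663 → P i := stepQ 1662 Q1662 (allL N1662 (tt N1749 (iv F23875)) (tt N1530 (iv F24099)) (tt N1657 (iv F24041)) (tt N1371 F9885) (tt N1722 (iv F24043)) (tt N1634 (iv F23919)) (tt N1370 (iv D6091)))
theorem Q1664 : ∀ i, i < 1664 → P i := stepQ 1663 Q1663 (allL N1663 (tt N1373 F9916) (tt N1408 F21189) (tt N1372 (iv D6109)) (tt N1416 (iv F21544)) (tt N1385 F9917) (tt N1377 F9918) (tt N1383 F23698))
theorem Q1665 : ∀ i, i < 1665 → P i := stepQ 1664 Q1664 (allL N1664 (tt N1464 F10022) (tt N1549 F21839) (tt N1376 (iv D6126)) (tt N1551 (iv F22130)) (tt N1389 F9948) (tt N1511 F23263) (tt N1641 F24115))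
theorem Q1666 : ∀ i, i < 1666 → P i := stepQ 1665 Q1665 (allL N1665 (tt N1529 F21937) (tt N1382 F9958) (tt N1581 F23266) (tt N1393 F9959) (tt N1379 (iv D6134)) (tt N1527 (iv F22167)) (tt N1580 F23267))
theorem Q1667 : ∀ i, i < 1667 → P i := stepQ 1666 Q1666 (allL N1666 (tt N1715 F11271) (tt N1383 (iv D6144)) (tt N1428 F24055) (tt N1722 (iv F11589)) (tt N1668 (iv F24039)) (tt N1660 F24056) (tt N1687 F24262))
theorem Q1668 : ∀ i, i < 1668 → P i := stepQ 1667 Q1667 (allL N1667 (tt N1474 F23676) (tt N1486 F24164) (tt N1504 F9995) (tt N1491 F24165) (tt N1499 F23677) (tt N1476 F23678) (tt N1384 (iv D6155)))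
theorem Q1669 : ∀ i, i < 1669 → P i := stepQ 1668 Q1668 (allL N1668 (tt N1634 F24038) (tt N1387 (iv D6171)) (tt N1687 F24264) (tt N1429 F24120) (tt N1666 F24039) (tt N1749 F24040) (tt N1428 F24121))
theorem Q1670 : ∀ i, i < 1670 → P i := stepQ 1669 Q1669 (allL N1669 (tt N1389 F10017) (tt N1448 F10019) (tt N1388 (iv D6175)) (tt N1561 F21667) (tt N1464 (iv F10021)) (tt N1672 F22177) (tt N1708 F23647))
theorem Q1671 : ∀ i, i < 1671 → P i := stepQ 1670 Q1670 (allL N1670 (tt N1561 (iv F21298)) (tt N1727 F22219) (tt N1560 F20960) (tt N1389 (iv D6179)) (tt N1563 (iv F21299)) (tt N1705 F22105) (tt N1724 F24229))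
theorem Q1672 : ∀ i, i < 1672 → P i := stepQ 1671 Q1671 (allL N1671 (tt N1672 F22165) (tt N1546 F21862) (tt N1390 F10034) (tt N1705 F21863) (tt N1511 F23259) (tt N1389 (iv D6180)) (tt N1484 F23260))
theorem Q1673 : ∀ i, i < 1673 → P i := stepQ 1672 Q1672 (allL N1672 (tt N1671 (iv F22165)) (tt N1728 (iv F22283)) (tt N1393 F10054) (tt N1725 F23965) (tt N1392 (iv D6197)) (tt N1669 (iv F22177)) (tt N1710 F23643))
theorem Q1674 : ∀ i, i < 1674 → P i := stepQ 1673 Q1673 (allL N1673 (tt N1515 (iv F23996)) (tt N1749 (iv F23997)) (tt N1522 F10064) (tt N1676 (iv F21969)) (tt N1716 F23959) (tt N1394 (iv D6203)) (tt N1518 (iv F23863)))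
theorem Q1675 : ∀ i, i < 1675 → P i := stepQ 1674 Q1674 (allL N1674 (tt N1401 F21822) (tt N1492 F10075) (tt N1396 (iv D6215)) (tt N1522 F24023) (tt N1644 F21823) (tt N1520 (iv F24243)) (tt N1703 (iv F24251)))
theorem Q1676 : ∀ i, i < 1676 → P i := stepQ 1675 Q1675 (allL N1675 (tt N1520 (iv F24240)) (tt N1736 (iv F23729)) (tt N1399 (iv D6225)) (tt N1521 (iv F24239)) (tt N1637 F23981) (tt N1401 F10097) (tt N1547 (iv F24248)))
theorem Q1677 : ∀ i, i < 1677 → P i := stepQ 1676 Q1676 (allL N1676 (tt N1548 (iv F24006)) (tt N1596 F23998) (tt N1547 (iv F24247)) (tt N1673 F21969) (tt N1633 F23999) (tt N1508 F23272) (tt N1399 (iv D6226)))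
theorem Q1678 : ∀ i, i < 1678 → P i := stepQ 1677 Q1677 (allL N1677 (tt N1637 F23979) (tt N1519 F23980) (tt N1413 (iv D6322)) (tt N1732 (iv F24246)) (tt N1520 (iv F24242)) (tt N1644 (iv F23615)) (tt N1545 (iv F24017)))
theorem Q1679 : ∀ i, i < 1679 → P i := stepQ 1678 Q1678 (allL N1678 (tt N1415 F10378) (tt N1522 F24140) (tt N1414 (iv D6324)) (tt N1492 (iv F23817)) (tt N1533 F10379) (tt N1512 (iv F23457)) (tt N1417 F10380))
theorem Q1680 : ∀ i, i < 1680 → P i := stepQ 1679 Q1679 (allL N1679 (tt N1492 (iv F23816)) (tt N1591 F10381) (tt N1489 (iv F23819)) (tt N1415 (iv D6325)) (tt N1629 F23441) (tt N1513 (iv F23820)) (tt N1418 F10382))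
theorem Q1681 : ∀ i, i < 1681 → P i := stepQ 1680 Q1680 (allL N1680 (tt N1456 (iv F23882)) (tt N1417 (iv D6333)) (tt N1455 F23499) (tt N1704 (iv F23885)) (tt N1531 F10394) (tt N1738 (iv F23798)) (tt N1556 (iv F23577)))
theorem Q1682 : ∀ i, i < 1682 → P i := stepQ 1681 Q1681 (allL N1681 (tt N1418 F10395) (tt N1704 (iv F24340)) (tt N1494 (iv F24245)) (tt N1417 (iv D6334)) (tt N1742 (iv F22264)) (tt N1719 F24142) (tt N1492 F24143))
theorem Q1683 : ∀ i, i < 1683 → P i := stepQ 1682 Q1682 (allL N1682 (tt N1494 (iv F24244)) (tt N1570 F10401) (tt N1418 (iv D6337)) (tt N1490 (iv F24197)) (tt N1558 (iv F22426)) (tt N1571 (iv F22428)) (tt N1489 F24144))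
theorem Q1684 : ∀ i, i < 1684 → P i := stepQ 1683 Q1683 (allL N1683 (tt N1586 F23419) (tt N1423 F10419) (tt N1421 (iv D6345)) (tt N1748 (iv F24394)) (tt N1651 F10420) (tt N1736 F23420) (tt N1588 F23421))
theorem Q1685 : ∀ i, i < 1685 → P i := stepQ 1684 Q1684 (allL N1684 (tt N1723 F22530) (tt N1748 (iv F24393)) (tt N1770 (iv F24414)) (tt N1423 (iv D6352)) (tt N1769 (iv F24400)) (tt N1424 F10431) (tt N1649 (iv F23912)))
theorem Q1686 : ∀ i, i < 1686 → P i := stepQ 1685 Q1685 (allL N1685 (tt N1769 (iv F16533)) (tt N1514 F23841) (tt N1424 (iv D6356)) (tt N1765 (iv F16514)) (tt N1723 F22653) (tt N1770 (iv F24415)) (tt N1765 (iv F24155)))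
theorem Q1687 : ∀ i, i < 1687 → P i := stepQ 1686 Q1686 (allL N1686 (tt N1770 (iv F24338)) (tt N1543 F24365) (tt N1723 (iv F22429)) (tt N1648 F10437) (tt N1424 (iv D6357)) (tt N1769 (iv F24401)) (tt N1766 (iv F24313)))
theorem Q1688 : ∀ i, i < 1688 → P i := stepQ 1687 Q1687 (allL N1687 (tt N1497 (iv F24188)) (tt N1485 F24057) (tt N1668 (iv F24264)) (tt N1661 F10473) (tt N1428 (iv D6376)) (tt N1661 F10474) (tt N1666 (iv F24262)))
theorem Q1689 : ∀ i, i < 1689 → P i := stepQ 1688 Q1688 (allL N1688 (tt N1598 F21307) (tt N1773 D10603) (tt N1432 F10482) (tt N1597 F21308) (tt N1597 F21309) (tt N1431 (iv D6381)) (tt N1598 F23383))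
theorem Q1690 : ∀ i, i < 1690 → P i := stepQ 1689 Q1689 (allL N1689 (tt N1612 F20941) (tt N1689 F10509) (tt N1433 (iv D6395)) (tt N1610 F20942) (tt N1610 (iv F21092)) (tt N1609 (iv F21282)) (tt N1436 (iv F23709)))
theorem Q1691 : ∀ i, i < 1691 → P i := stepQ 1690 Q1690 (allL N1690 (tt N1690 F24439) (tt N1436 (iv D6472)) (tt N1774 D10746) (tt N1755 (iv F23711)) (tt N1755 (iv F23712)) (tt N1690 F10616) (tt N1690 F24445))
theorem Q1692 : ∀ i, i < 1692 → P i := stepQ 1691 Q1691 (allL N1691 (tt N1751 (iv F20929)) (tt N1774 (iv F18021)) (tt N1437 (iv D6481)) (tt N1752 (iv F22440)) (tt N1752 (iv F20431)) (tt N1443 F10638) (tt N1700 (iv F24303)))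
theorem Q1693 : ∀ i, i < 1693 → P i := stepQ 1692 Q1692 (allL N1692 (tt N1531 F24119) (tt N1484 F10665) (tt N1439 (iv D6499)) (tt N1484 F23265) (tt N1456 F10666) (tt N1737 (iv F22476)) (tt N1705 (iv F22962)))
theorem Q1694 : ∀ i, i < 1694 → P i := stepQ 1693 Q1693 (allL N1693 (tt N1555 (iv F22752)) (tt N1581 F20350) (tt N1705 (iv F22961)) (tt N1600 (iv F22643)) (tt N1457 F10668) (tt N1560 (iv F22751)) (tt N1439 (iv D6500)))
theorem Q1695 : ∀ i, i < 1695 → P i := stepQ 1694 Q1694 (allL N1694 (tt N1620 F23033) (tt N1694 F10671) (tt N1440 (iv D6502)) (tt N1443 (iv F22439)) (tt N1443 F10672) (tt N1752 (iv F20432)) (tt N1622 F23034))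
theorem Q1696 : ∀ i, i < 1696 → P i := stepQ 1695 Q1695 (allL N1695 (tt N1443 F10686) (tt N1751 (iv F24406)) (tt N1442 (iv D6510)) (tt N1620 F23055) (tt N1620 F23040) (tt N1751 (iv F20930)) (tt N1619 F23041))
theorem Q1697 : ∀ i, i < 1697 → P i := stepQ 1696 Q1696 (allL N1696 (tt N1619 (iv F23372)) (tt N1775 D10832) (tt N1444 F10691) (tt N1622 F23031) (tt N1622 F23032) (tt N1776 D10833) (tt N1443 (iv D6513)))
theorem Q1698 : ∀ i, i < 1698 → P i := stepQ 1697 Q1697 (allL N1697 (tt N1625 (iv F24355)) (tt N1444 (iv D6514)) (tt N1777 D10835) (tt N1450 F10692) (tt N1621 F23029) (tt N1625 (iv F24357)) (tt N1445 F10693))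
theorem Q1699 : ∀ i, i < 1699 → P i := stepQ 1698 Q1698 (allL N1698 (tt N1446 (iv F24106)) (tt N1626 F23779) (tt N1776 (iv F18186)) (tt N1451 F10695) (tt N1605 F20936) (tt N1444 (iv D6515)) (tt N1602 F20937))
theorem Q1700 : ∀ i, i < 1700 → P i := stepQ 1699 Q1699 (allL N1699 (tt N1756 (iv F24382)) (tt N1699 F10698) (tt N1445 (iv D6517)) (tt N1757 (iv F24376)) (tt N1757 (iv F24377)) (tt N1699 F23124) (tt N1777 (iv F18190)))
theorem Q1701 : ∀ i, i < 1701 → P i := stepQ 1700 Q1700 (allL N1700 (tt N1776 F24301) (tt N1700 F10714) (tt N1446 (iv D6527)) (tt N1623 (iv F24374)) (tt N1623 F24302) (tt N1619 (iv F24345)) (tt N1691 F24303))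
theorem Q1702 : ∀ i, i < 1702 → P i := stepQ 1701 Q1701 (allL N1701 (tt N1450 (iv D6538)) (tt N1583 F24224) (tt N1465 F10733) (tt N1625 (iv F24356)) (tt N1465 F10734) (tt N1450 (iv F23096)) (tt N1452 F10735))
theorem Q1703 : ∀ i, i < 1703 → P i := stepQ 1702 Q1702 (allL N1702 (tt N1589 F24212) (tt N1762 (iv F24132)) (tt N1466 (iv D6717)) (tt N1588 F24213) (tt N1655 F16285) (tt N1588 (iv F23947)) (tt N1748 F23799))
theorem Q1704 : ∀ i, i < 1704 → P i := stepQ 1703 Q1703 (allL N1703 (tt N1549 F21475) (tt N1467 (iv D6748)) (tt N1508 F24250) (tt N1550 (iv F21884)) (tt N1636 F10983) (tt N1547 F21476) (tt N1674 F24251))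
theorem Q1705 : ∀ i, i < 1705 → P i := stepQ 1704 Q1704 (allL N1704 (tt N1470 F10989) (tt N1681 F24340) (tt N1743 (iv F12229)) (tt N1680 F23885) (tt N1718 F23636) (tt N1706 (iv F10995)) (tt N1467 (iv D6751)))
theorem Q1706 : ∀ i, i < 1706 → P i := stepQ 1705 Q1705 (allL N1705 (tt N1725 F23963) (tt N1471 F10991) (tt N1693 F22961) (tt N1671 (iv F21863)) (tt N1468 (iv D6753)) (tt N1670 (iv F22105)) (tt N1692 F22962))
theorem Q1707 : ∀ i, i < 1707 → P i := stepQ 1706 Q1706 (allL N1706 (tt N1707 (iv F10996)) (tt N1766 (iv F24314)) (tt N1740 (iv F24320)) (tt N1738 (iv F22233)) (tt N1735 (iv F11765)) (tt N1704 F10995) (tt N1469 (iv D6756)))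
theorem Q1708 : ∀ i, i < 1708 → P i := stepQ 1707 Q1707 (allL N1707 (tt N1706 F10996) (tt N1628 F24124) (tt N1744 (iv F12241)) (tt N1566 (iv F22137)) (tt N1717 F23645) (tt N1470 (iv D6757)) (tt N1565 F21848))
theorem Q1709 : ∀ i, i < 1709 → P i := stepQ 1708 Q1708 (allL N1708 (tt N1652 F23775) (tt N1559 F11019) (tt N1473 (iv D6768)) (tt N1737 (iv F23648)) (tt N1507 F11020) (tt N1484 F11021) (tt N1669 (iv F23647)))
theorem Q1710 : ∀ i, i < 1710 → P i := stepQ 1709 Q1709 (allL N1709 (tt N1503 F23671) (tt N1529 F23672) (tt N1538 (iv F21265)) (tt N1478 F11059) (tt N1585 F23669) (tt N1524 (iv F24018)) (tt N1475 (iv D6784)))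
theorem Q1711 : ∀ i, i < 1711 → P i := stepQ 1710 Q1710 (allL N1710 (tt N1484 F11170) (tt N1532 (iv F24249)) (tt N1483 (iv D6835)) (tt N1531 F23993) (tt N1509 F11171) (tt N1652 F23990) (tt N1672 (iv F23643)))
theorem Q1712 : ∀ i, i < 1712 → P i := stepQ 1711 Q1711 (allL N1711 (tt N1567 F11475) (tt N1487 (iv D6857)) (tt N1488 F11212) (tt N1744 (iv F24126)) (tt N1513 F11213) (tt N1629 F23453) (tt N1741 (iv F24160)))
theorem Q1713 : ∀ i, i < 1713 → P i := stepQ 1712 Q1712 (allL N1712 (tt N1720 F24388) (tt N1744 (iv F24125)) (tt N1717 (iv F24312)) (tt N1487 (iv D6858)) (tt N1744 (iv F24127)) (tt N1534 F24114) (tt N1721 F24389))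
theorem Q1714 : ∀ i, i < 1714 → P i := stepQ 1713 Q1713 (allL N1713 (tt N1629 F23454) (tt N1644 (iv F21421)) (tt N1493 F11243) (tt N1743 (iv F24409)) (tt N1492 (iv D6875)) (tt N1567 (iv F21423)) (tt N1742 (iv F24330)))
theorem Q1715 : ∀ i, i < 1715 → P i := stepQ 1714 Q1714 (allL N1714 (tt N1558 F24175) (tt N1732 (iv F11717)) (tt N1742 (iv F24329)) (tt N1519 F11245) (tt N1494 F11246) (tt N1568 F24176) (tt N1493 (iv D6877)))
theorem Q1716 : ∀ i, i < 1716 → P i := stepQ 1715 Q1715 (allL N1715 (tt N1666 (iv F11271)) (tt N1500 F11268) (tt N1498 F11269) (tt N1660 F24052) (tt N1634 F21911) (tt N1722 (iv F11590)) (tt N1497 (iv D6895)))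
theorem Q1717 : ∀ i, i < 1717 → P i := stepQ 1716 Q1716 (allL N1716 (tt N1524 F11316) (tt N1660 F24051) (tt N1544 (iv F24037)) (tt N1500 (iv D6906)) (tt N1673 (iv F23959)) (tt N1503 F11317) (tt N1658 F11318))
theorem Q1718 : ∀ i, i < 1718 → P i := stepQ 1717 Q1717 (allL N1717 (tt N1735 (iv F23637)) (tt N1601 F11438) (tt N1712 F24312) (tt N1507 (iv D6968)) (tt N1707 (iv F23645)) (tt N1510 F11439) (tt N1632 (iv F23646)))
theorem Q1719 : ∀ i, i < 1719 → P i := stepQ 1718 Q1718 (allL N1718 (tt N1510 F11447) (tt N1742 (iv F24341)) (tt N1726 (iv F23635)) (tt N1509 (iv D6974)) (tt N1704 (iv F23636)) (tt N1735 (iv F23638)) (tt N1553 (iv F23639)))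
theorem Q1720 : ∀ i, i < 1720 → P i := stepQ 1719 Q1719 (allL N1719 (tt N1606 F11489) (tt N1765 (iv F24153)) (tt N1516 F11490) (tt N1514 (iv F22197)) (tt N1741 (iv F24159)) (tt N1681 (iv F24142)) (tt N1513 (iv D6990)))
theorem Q1721 : ∀ i, i < 1721 → P i := stepQ 1720 Q1720 (allL N1720 (tt N1712 (iv F24388)) (tt N1516 (iv D7011)) (tt N1735 (iv F24390)) (tt N1526 F24353) (tt N1740 (iv F24331)) (tt N1726 (iv F24364)) (tt N1517 F11519))
theorem Q1722 : ∀ i, i < 1722 → P i := stepQ 1721 Q1721 (allL N1721 (tt N1517 (iv D7015)) (tt N1631 F24349) (tt N1632 (iv F24387)) (tt N1525 F24350) (tt N1739 (iv F24386)) (tt N1532 F24351) (tt N1712 (iv F24389)))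
theorem Q1723 : ∀ i, i < 1723 → P i := stepQ 1722 Q1722 (allL N1722 (tt N1660 F24049) (tt N1523 (iv D7048)) (tt N1659 F24050) (tt N1666 F11589) (tt N1662 F24043) (tt N1715 F11590) (tt N1661 F24044))
theorem Q1724 : ∀ i, i < 1724 → P i := stepQ 1723 Q1723 (allL N1723 (tt N1684 (iv F22530)) (tt N1525 (iv D7052)) (tt N1686 F22429) (tt N1631 F22370) (tt N1685 (iv F22653)) (tt N1650 (iv F24174)) (tt N1767 (iv F24168)))
theorem Q1725 : ∀ i, i < 1725 → P i := stepQ 1724 Q1724 (allL N1724 (tt N1737 (iv F24081)) (tt N1650 (iv F24173)) (tt N1618 F20263) (tt N1652 F24118) (tt N1738 (iv F23797)) (tt N1531 (iv D7076)) (tt N1670 (iv F24229)))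
theorem Q1726 : ∀ i, i < 1726 → P i := stepQ 1725 Q1725 (allL N1725 (tt N1705 (iv F23963)) (tt N1537 (iv F23960)) (tt N1555 F23578) (tt N1672 (iv F23965)) (tt N1556 F23579) (tt N1561 (iv F23966)) (tt N1531 (iv D7077)))
theorem Q1727 : ∀ i, i < 1727 → P i := stepQ 1726 Q1726 (allL N1726 (tt N1534 F11657) (tt N1734 F24363) (tt N1718 F23635) (tt N1533 F11658) (tt N1743 (iv F22265)) (tt N1720 F24364) (tt N1532 (iv D7079)))
theorem Q1728 : ∀ i, i < 1728 → P i := stepQ 1727 Q1727 (allL N1727 (tt N1539 F11704) (tt N1670 (iv F22219)) (tt N1536 (iv D7103)) (tt N1646 F24013) (tt N1541 (iv F22282)) (tt N1540 (iv F22281)) (tt N1645 F24014))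
theorem Q1729 : ∀ i, i < 1729 → P i := stepQ 1728 Q1728 (allL N1728 (tt N1541 F11706) (tt N1672 F22283) (tt N1540 F22284) (tt N1537 F11707) (tt N1539 F22285) (tt N1536 (iv D7105)) (tt N1734 (iv F11724)))
theorem Q1730 : ∀ i, i < 1730 → P i := stepQ 1729 Q1729 (allL N1729 (tt N1542 F11708) (tt N1778 D11745) (tt N1645 F24025) (tt N1538 F11709) (tt N1764 (iv F21866)) (tt N1733 (iv F11721)) (tt N1536 (iv D7106)))
theorem Q1731 : ∀ i, i < 1731 → P i := stepQ 1730 Q1730 (allL N1730 (tt N1651 F23899) (tt N1538 (iv D7108)) (tt N1582 F23900) (tt N1778 (iv F19842)) (tt N1586 F23901) (tt N1772 F23515) (tt N1584 (iv F24179)))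
theorem Q1732 : ∀ i, i < 1732 → P i := stepQ 1731 Q1731 (allL N1731 (tt N1645 F24021) (tt N1743 (iv F24366)) (tt N1542 F11715) (tt N1644 F24022) (tt N1734 (iv F22227)) (tt N1732 (iv F22229)) (tt N1539 (iv D7112)))
theorem Q1733 : ∀ i, i < 1733 → P i := stepQ 1732 Q1732 (allL N1732 (tt N1764 (iv F21865)) (tt N1714 F11717) (tt N1734 F22228) (tt N1677 F24246) (tt N1542 F11719) (tt N1731 F22229) (tt N1540 (iv D7114)))
theorem Q1734 : ∀ i, i < 1734 → P i := stepQ 1733 Q1733 (allL N1733 (tt N1734 (iv F11722)) (tt N1648 (iv F24253)) (tt N1764 (iv F22223)) (tt N1543 F11720) (tt N1645 F24026) (tt N1729 F11721) (tt N1541 (iv D7115)))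
theorem Q1735 : ∀ i, i < 1735 → P i := stepQ 1734 Q1734 (allL N1734 (tt N1733 F11722) (tt N1726 (iv F24363)) (tt N1732 (iv F22228)) (tt N1544 F11723) (tt N1731 F22227) (tt N1542 (iv D7116)) (tt N1728 F11724))
theorem Q1736 : ∀ i, i < 1736 → P i := stepQ 1735 Q1735 (allL N1735 (tt N1717 F23637) (tt N1642 (iv F24117)) (tt N1720 F24390) (tt N1641 F23989) (tt N1706 F11765) (tt N1718 F23638) (tt N1551 (iv D7144)))
theorem Q1737 : ∀ i, i < 1737 → P i := stepQ 1736 Q1736 (allL N1736 (tt N1748 F23728) (tt N1675 F23729) (tt N1557 (iv D7259)) (tt N1586 F24216) (tt N1656 F23349) (tt N1683 (iv F23420)) (tt N1589 F24217))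
theorem Q1738 : ∀ i, i < 1738 → P i := stepQ 1737 Q1737 (allL N1737 (tt N1724 F24081) (tt N1590 F24082) (tt N1562 F12045) (tt N1708 F23648) (tt N1566 F12046) (tt N1692 F22476) (tt N1561 (iv D7294)))
theorem Q1739 : ∀ i, i < 1739 → P i := stepQ 1738 Q1738 (allL N1738 (tt N1566 F12071) (tt N1770 (iv F24413)) (tt N1564 F12072) (tt N1706 F22233) (tt N1724 F23797) (tt N1680 F23798) (tt N1563 (iv D7308)))
theorem Q1740 : ∀ i, i < 1740 → P i := stepQ 1739 Q1739 (allL N1739 (tt N1576 (iv F22135)) (tt N1643 F21843) (tt N1565 (iv D7310)) (tt N1741 (iv F12127)) (tt N1721 F24386) (tt N1574 F21844) (tt N1744 F21845))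
theorem Q1741 : ∀ i, i < 1741 → P i := stepQ 1740 Q1740 (allL N1740 (tt N1744 F24319) (tt N1568 F12122) (tt N1706 F24320) (tt N1567 (iv D7338)) (tt N1720 F24331) (tt N1743 F24321) (tt N1576 F24322))
theorem Q1742 : ∀ i, i < 1742 → P i := stepQ 1741 Q1741 (allL N1741 (tt N1570 F12126) (tt N1767 F24158) (tt N1568 (iv D7341)) (tt N1739 F12127) (tt N1719 F24159) (tt N1742 F24437) (tt N1711 F24160))
theorem Q1743 : ∀ i, i < 1743 → P i := stepQ 1742 Q1742 (allL N1742 (tt N1575 F12223) (tt N1718 F24341) (tt N1714 F24329) (tt N1574 (iv D7390)) (tt N1681 F22264) (tt N1741 (iv F24437)) (tt N1713 F24330))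
theorem Q1744 : ∀ i, i < 1744 → P i := stepQ 1743 Q1743 (allL N1743 (tt N1577 F12228) (tt N1731 F24366) (tt N1704 F12229) (tt N1713 F24409) (tt N1726 F22265) (tt N1740 (iv F24321)) (tt N1574 (iv D7392)))
theorem Q1745 : ∀ i, i < 1745 → P i := stepQ 1744 Q1744 (allL N1744 (tt N1740 (iv F24319)) (tt N1712 F24125) (tt N1707 F12241) (tt N1711 F24126) (tt N1712 F24127) (tt N1577 (iv D7398)) (tt N1739 (iv F21845)))
theorem Q1746 : ∀ i, i < 1746 → P i := stepQ 1745 Q1745 (allL N1745 (tt N1640 F23433) (tt N1618 F23410) (tt N1772 F23434) (tt N1614 F23411) (tt N1587 F12751) (tt N1582 (iv D7688)) (tt N1639 (iv F23801)))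
theorem Q1747 : ∀ i, i < 1747 → P i := stepQ 1746 Q1746 (allL N1746 (tt N1584 F12756) (tt N1588 F23417) (tt N1583 (iv D7691)) (tt N1762 (iv F24423)) (tt N1588 F12757) (tt N1655 F24226) (tt N1651 F23418))
theorem Q1748 : ∀ i, i < 1748 → P i := stepQ 1747 Q1747 (allL N1747 (tt N1762 F24342) (tt N1595 (iv F24354)) (tt N1761 F24343) (tt N1584 (iv D7693)) (tt N1630 F24344) (tt N1630 F24367) (tt N1778 F24418))
theorem Q1749 : ∀ i, i < 1749 → P i := stepQ 1748 Q1748 (allL N1748 (tt N1736 (iv F23728)) (tt N1684 F24393) (tt N1587 F12854) (tt N1683 F24394) (tt N1772 F23432) (tt N1586 (iv D7752)) (tt N1702 (iv F23799)))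
theorem Q1750 : ∀ i, i < 1750 → P i := stepQ 1749 Q1749 (allL N1749 (tt N1662 F23875) (tt N1673 F23997) (tt N1661 F24053) (tt N1596 (iv D8022)) (tt N1660 F24054) (tt N1668 (iv F24040)) (tt N1659 F23876))
theorem Q1751 : ∀ i, i < 1751 → P i := stepQ 1750 Q1750 (allL N1750 (tt N1750 F13454) (tt N1597 (iv D8083)) (tt N1608 F13455) (tt N1773 (iv F24449)) (tt N1773 (iv F24450)) (tt N1750 F24454) (tt N1608 F23703))
theorem Q1752 : ∀ i, i < 1752 → P i := stepQ 1751 Q1751 (allL N1751 (tt N1691 F20929) (tt N1695 F24406) (tt N1602 (iv D8293)) (tt N1604 F24407) (tt N1604 F13960) (tt N1695 F20930) (tt N1776 F20931))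
theorem Q1753 : ∀ i, i < 1753 → P i := stepQ 1752 Q1752 (allL N1752 (tt N1604 F14002) (tt N1779 D11948) (tt N1603 (iv D8320)) (tt N1691 F22440) (tt N1691 F20431) (tt N1694 F20432) (tt N1623 F23047))
theorem Q1754 : ∀ i, i < 1754 → P i := stepQ 1753 Q1753 (allL N1753 (tt N1623 F23036) (tt N1627 F24084) (tt N1605 F14009) (tt N1776 F24408) (tt N1776 F24436) (tt N1622 F23037) (tt N1604 (iv D8326)))
theorem Q1755 : ∀ i, i < 1755 → P i := stepQ 1754 Q1754 (allL N1754 (tt N1754 F14359) (tt N1609 F14360) (tt N1773 F24453) (tt N1608 (iv D8575)) (tt N1608 (iv F14361)) (tt N1754 F24451) (tt N1773 F24447))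
theorem Q1756 : ∀ i, i < 1756 → P i := stepQ 1755 Q1755 (allL N1755 (tt N1755 F23710) (tt N1613 (iv D8632)) (tt N1779 (iv F24459)) (tt N1690 F23711) (tt N1690 F23712) (tt N1755 F23713) (tt N1755 F24446))
theorem Q1757 : ∀ i, i < 1757 → P i := stepQ 1756 Q1756 (allL N1756 (tt N1699 F24382) (tt N1619 F14741) (tt N1615 (iv D8802)) (tt N1617 F23746) (tt N1617 F14742) (tt N1756 F24433) (tt N1760 F24430))
theorem Q1758 : ∀ i, i < 1758 → P i := stepQ 1757 Q1757 (allL N1757 (tt N1617 F14780) (tt N1757 F24375) (tt N1616 (iv D8832)) (tt N1699 F24376) (tt N1699 F24377) (tt N1757 F24435) (tt N1758 (iv F24434)))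
theorem Q1759 : ∀ i, i < 1759 → P i := stepQ 1758 Q1758 (allL N1758 (tt N1627 F24304) (tt N1780 D11949) (tt N1621 (iv D8920)) (tt N1777 (iv F24428)) (tt N1777 (iv F24432)) (tt N1627 F24305) (tt N1757 F24434))
theorem Q1760 : ∀ i, i < 1760 → P i := stepQ 1759 Q1759 (allL N1759 (tt N1759 F24443) (tt N1622 (iv D8922)) (tt N1780 (iv F24465)) (tt N1775 F24457) (tt N1775 F24456) (tt N1780 (iv F24466)) (tt N1759 F24455))
theorem Q1761 : ∀ i, i < 1761 → P i := stepQ 1760 Q1760 (allL N1760 (tt N1777 F24431) (tt N1776 (iv F24427)) (tt N1625 (iv D9079)) (tt N1627 F24426) (tt N1627 F15146) (tt N1777 (iv F24429)) (tt N1756 (iv F24430)))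
theorem Q1762 : ∀ i, i < 1762 → P i := stepQ 1761 Q1761 (allL N1761 (tt N1630 (iv D9638)) (tt N1655 F24327) (tt N1747 (iv F24343)) (tt N1655 F24328) (tt N1762 (iv F16396)) (tt N1762 (iv F24133)) (tt N1768 (iv F24416)))
theorem Q1763 : ∀ i, i < 1763 → P i := stepQ 1762 Q1762 (allL N1762 (tt N1747 (iv F24342)) (tt N1702 F24132) (tt N1630 (iv D9639)) (tt N1746 F24423) (tt N1761 F16396) (tt N1761 F24133) (tt N1771 (iv F24422)))
theorem Q1764 : ∀ i, i < 1764 → P i := stepQ 1763 Q1763 (allL N1763 (tt N1768 F24417) (tt N1764 F24368) (tt N1771 F24405) (tt N1656 F24369) (tt N1778 (iv F24425)) (tt N1771 (iv F24421)) (tt N1630 (iv D9641)))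
theorem Q1765 : ∀ i, i < 1765 → P i := stepQ 1764 Q1764 (allL N1764 (tt N1732 F21865) (tt N1763 (iv F24368)) (tt N1733 F22223) (tt N1637 F16425) (tt N1729 F21866) (tt N1645 F24027) (tt N1635 (iv D9894)))
theorem Q1766 : ∀ i, i < 1766 → P i := stepQ 1765 Q1765 (allL N1765 (tt N1647 F16513) (tt N1719 F24153) (tt N1642 (iv D9948)) (tt N1685 F16514) (tt N1767 F24410) (tt N1766 (iv F24412)) (tt N1685 F24155))
theorem Q1767 : ∀ i, i < 1767 → P i := stepQ 1766 Q1766 (allL N1766 (tt N1648 F16515) (tt N1706 F24314) (tt N1767 (iv F24411)) (tt N1770 (iv F24339)) (tt N1642 (iv D9949)) (tt N1765 F24412) (tt N1686 F24313))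
theorem Q1768 : ∀ i, i < 1768 → P i := stepQ 1767 Q1767 (allL N1767 (tt N1649 F16516) (tt N1741 (iv F24158)) (tt N1766 F24411) (tt N1643 F16517) (tt N1765 (iv F24410)) (tt N1642 (iv D9950)) (tt N1723 F24168))
theorem Q1769 : ∀ i, i < 1769 → P i := stepQ 1768 Q1768 (allL N1768 (tt N1763 (iv F24417)) (tt N1647 (iv D9961)) (tt N1778 (iv F24404)) (tt N1772 F24403) (tt N1771 F24424) (tt N1778 (iv F24419)) (tt N1761 F24416))
theorem Q1770 : ∀ i, i < 1770 → P i := stepQ 1769 Q1769 (allL N1769 (tt N1685 F16533) (tt N1772 F24399) (tt N1650 F24336) (tt N1647 (iv D9962)) (tt N1684 F24400) (tt N1686 F24401) (tt N1647 F24337))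
theorem Q1771 : ∀ i, i < 1771 → P i := stepQ 1770 Q1770 (allL N1770 (tt N1686 F24338) (tt N1738 F24413) (tt N1684 F24414) (tt N1766 F24339) (tt N1650 F16541) (tt N1685 F24415) (tt N1648 (iv D9967)))
theorem Q1772 : ∀ i, i < 1772 → P i := stepQ 1771 Q1771 (allL N1771 (tt N1778 F24420) (tt N1649 (iv D9968)) (tt N1763 (iv F24405)) (tt N1651 F16542) (tt N1768 (iv F24424)) (tt N1763 F24421) (tt N1762 F24422))
theorem Q1773 : ∀ i, i < 1773 → P i := stepQ 1772 Q1772 (allL N1772 (tt N1656 F16643) (tt N1769 (iv F24399)) (tt N1745 (iv F23434)) (tt N1768 (iv F24403)) (tt N1748 (iv F23432)) (tt N1730 (iv F23515)) (tt N1655 (iv D10036)))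
theorem Q1774 : ∀ i, i < 1774 → P i := stepQ 1773 Q1773 (allL N1773 (tt N1773 F24448) (tt N1688 (iv D10603)) (tt N1754 (iv F24453)) (tt N1750 F24449) (tt N1750 F24450) (tt N1773 F17745) (tt N1754 (iv F24447)))
theorem Q1775 : ∀ i, i < 1775 → P i := stepQ 1774 Q1774 (allL N1774 (tt N1774 F24438) (tt N1691 F18021) (tt N1690 (iv D10746)) (tt N1779 (iv F24460)) (tt N1779 (iv F24461)) (tt N1774 F18022) (tt N1774 F24444))
theorem Q1776 : ∀ i, i < 1776 → P i := stepQ 1775 Q1775 (allL N1775 (tt N1775 F24442) (tt N1696 (iv D10832)) (tt N1781 D11950) (tt N1759 (iv F24457)) (tt N1759 (iv F24456)) (tt N1781 (iv F24472)) (tt N1775 F18184))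
theorem Q1777 : ∀ i, i < 1777 → P i := stepQ 1776 Q1776 (allL N1776 (tt N1700 (iv F24301)) (tt N1760 F24427) (tt N1698 F18186) (tt N1753 (iv F24408)) (tt N1753 (iv F24436)) (tt N1696 (iv D10833)) (tt N1751 (iv F20931)))
theorem Q1778 : ∀ i, i < 1778 → P i := stepQ 1777 Q1777 (allL N1777 (tt N1760 (iv F24431)) (tt N1781 (iv F24469)) (tt N1697 (iv D10835)) (tt N1758 F24428) (tt N1758 F24432) (tt N1760 F24429) (tt N1699 F18190))
theorem Q1779 : ∀ i, i < 1779 → P i := stepQ 1778 Q1778 (allL N1778 (tt N1771 (iv F24420)) (tt N1729 (iv D11745)) (tt N1768 F24404) (tt N1730 F19842) (tt N1763 F24425) (tt N1768 F24419) (tt N1747 (iv F24418)))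
theorem Q1780 : ∀ i, i < 1780 → P i := stepQ 1779 Q1779 (allL N1779 (tt N1779 F24458) (tt N1752 (iv D11948)) (tt N1755 F24459) (tt N1774 F24460) (tt N1774 F24461) (tt N1779 F24462) (tt N1779 F24463))
theorem Q1781 : ∀ i, i < 1781 → P i := stepQ 1780 Q1780 (allL N1780 (tt N1780 F24464) (tt N1758 (iv D11949)) (tt N1759 F24465) (tt N1781 (iv F24473)) (tt N1781 (iv F24470)) (tt N1759 F24466) (tt N1780 F24467))
theorem Q1782 : ∀ i, i < 1782 → P i := stepQ 1781 Q1781 (allL N1781 (tt N1781 F24468) (tt N1777 F24469) (tt N1775 (iv D11950)) (tt N1780 F24473) (tt N1780 F24470) (tt N1775 F24472) (tt N1781 F24471))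

theorem closedN : ∀ i, i < N → P i := Q1782

end Cfsg.Agent.Helper17.SuzTC
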