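import Cfsg.Agent.Helper17.SuzTC.Base

set_option autoImplicit false
set_option linter.all false

noncomputable section

namespace Cfsg.Agent.Helper17.SuzTC

theorem c0_6 {p0 p1 p2 p3 p4 p5 p6 q6 q7 q8 q9 : Q} (h0 : act 1 p0 = p1) (h1 : act 0 p1 = p2) (h2 : act 1 p2 = p3) (h3 : act 0 p3 = p4) (h4 : act 1 p4 = p5) (h5 : act 0 p5 = p6) (h6 : act 1 q6 = q7) (h7 : act 0 q7 = q8) (h8 : act 1 q8 = q9) (h9 : act 0 q9 = p0) : p6 = q6 := by
  have hr := R0 p0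
  subst h0
  subst h1
  subst h2
  subst h3
  subst h4
  subst h5
  subst h9
  subst h8
  subst h7
  subst h6
  exact ij (ij (ij (ij (hr))))

theorem c0_7 {p0 p1 p2 p3 p4 p5 p6 p7 q7 q8 q9 : Q} (h0 : act 1 p0 = p1) (h1 : act 0 p1 = p2) (h2 : act 1 p2 = p3) (h3 : act 0 p3 = p4) (h4 : act 1 p4 = p5) (h5 : act 0 p5 = p6) (h6 : act 1 p6 = p7) (h7 : act 0 q7 = q8) (h8 : act 1 q8 = q9) (h9 : act 0 q9 = p0) : p7 = q7 := by
  have hr := R0 p0
  subst h0
  subst h1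
  subst h2
  subst h3
  subst h4
  subst h5
  subst h6
  subst h9
  subst h8
  subst h7
  exact ij (ij (ij (hr)))

theorem c1_2 {p0 p1 p2 q2 q3 : Q} (h0 : act 2 p0 = p1) (h1 : act 0 p1 = p2) (h2 : act 2 q2 = q3) (h3 : act 0 q3 = p0) : p2 = q2 := by
  have hr := R1 p0
  subst h0
  subst h1
  subst h3
  subst h2
  exact ij (ij (hr))

theorem c1_4 {p0 p1 p2 p3 p4 : Q} (h0 : act 2 p0 = p1) (h1 : act 0 p1 = p2) (h2 : act 2 p2 = p3) (h3 : act 0 p3 = p4) : p4 = p0 := by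
  have hr := R1 p0
  subst h0
  subst h1
  subst h2
  subst h3
  exact hr

theorem c3_3 {p0 p1 p2 p3 q3 : Q} (h0 : act 4 p0 = p1) (h1 : act 0 p1 = p2) (h2 : act 4 p2 = p3) (h3 : act 0 q3 = p0) : p3 = q3 := by
  have hr := R3 p0
  subst h0
  subst h1
  subst h2
  subst h3
  exact ij (hr)

theorem c5_2 {p0 p1 p2 q2 q3 : Q} (h0 : act 6 p0 = p1) (h1 : act 0 p1 = p2) (h2 : act 6 q2 = q3) (h3 : act 0 q3 = p0) : p2 = q2 := by
  have hr := R5 p0
  subst h0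
  subst h1
  subst h3
  subst h2
  exact ij (ij (hr))

theorem c5_4 {p0 p1 p2 p3 p4 : Q} (h0 : act 6 p0 = p1) (h1 : act 0 p1 = p2) (h2 : act 6 p2 = p3) (h3 : act 0 p3 = p4) : p4 = p0 := by
  have hr := R5 p0
  subst h0
  subst h1
  subst h2
  subst h3
  exact hr

theorem c6_2 {p0 p1 p2 q2 q3 q4 q5 : Q} (h0 : act 2 p0 = p1) (h1 : act 1 p1 = p2) (h2 : act 2 q2 = q3) (h3 : act 1 q3 = q4) (h4 : act 2 q4 = q5) (h5 : act 1 q5 = p0) : p2 = q2 := by
  have hr := R6 p0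
  subst h0
  subst h1
  subst h5
  subst h4
  subst h3
  subst h2
  exact ij (ij (ij (ij (hr))))

theorem c6_4 {p0 p1 p2 p3 p4 q4 q5 : Q} (h0 : act 2 p0 = p1) (h1 : act 1 p1 = p2) (h2 : act 2 p2 = p3) (h3 : act 1 p3 = p4) (h4 : act 2 q4 = q5) (h5 : act 1 q5 = p0) : p4 = q4 := by
  have hr := R6 p0
  subst h0
  subst h1
  subst h2
  subst h3
  subst h5
  subst h4
  exact ij (ij (hr))

theorem c6_5 {p0 p1 p2 p3 p4 p5 q5 : Q} (h0 : act 2 p0 = p1) (h1 : act 1 p1 = p2) (h2 : act 2 p2 = p3) (h3 : act 1 p3 = p4) (h4 : act 2 p4 = p5) (h5 : act 1 q5 = p0) : p5 = q5 := by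
  have hr := R6 p0
  subst h0
  subst h1
  subst h2
  subst h3
  subst h4
  subst h5
  exact ij (hr)

theorem c6_6 {p0 p1 p2 p3 p4 p5 p6 : Q} (h0 : act 2 p0 = p1) (h1 : act 1 p1 = p2) (h2 : act 2 p2 = p3) (h3 : act 1 p3 = p4) (h4 : act 2 p4 = p5) (h5 : act 1 p5 = p6) : p6 = p0 := by
  have hr := R6 p0
  subst h0
  subst h1
  subst h2
  subst h3
  subst h4
  subst h5
  exact hr

theorem c7_3 {p0 p1 p2 p3 q3 : Q} (h0 : act 3 p0 = p1) (h1 : act 1 p1 = p2) (h2 : act 3 p2 = p3) (h3 : act 1 q3 = p0) : p3 = q3 := by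
  have hr := R7 p0
  subst h0
  subst h1
  subst h2
  subst h3
  exact ij (hr)

theorem c7_4 {p0 p1 p2 p3 p4 : Q} (h0 : act 3 p0 = p1) (h1 : act 1 p1 = p2) (h2 : act 3 p2 = p3) (h3 : act 1 p3 = p4) : p4 = p0 := by
  have hr := R7 p0
  subst h0
  subst h1
  subst h2
  subst h3
  exact hr

theorem c8_3 {p0 p1 p2 p3 q3 : Q} (h0 : act 4 p0 = p1) (h1 : act 1 p1 = p2) (h2 : act 4 p2 = p3) (h3 : act 1 q3 = p0) : p3 = q3 := by
  have hr := R8 p0
  subst h0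
  subst h1
  subst h2
  subst h3
  exact ij (hr)

theorem c8_4 {p0 p1 p2 p3 p4 : Q} (h0 : act 4 p0 = p1) (h1 : act 1 p1 = p2) (h2 : act 4 p2 = p3) (h3 : act 1 p3 = p4) : p4 = p0 := by
  have hr := R8 p0
  subst h0
  subst h1
  subst h2
  subst h3
  exact hr

theorem c9_4 {p0 p1 p2 p3 p4 q4 q5 : Q} (h0 : act 5 p0 = p1) (h1 : act 1 p1 = p2) (h2 : act 5 p2 = p3) (h3 : act 1 p3 = p4) (h4 : act 5 q4 = q5) (h5 : act 1 q5 = p0) : p4 = q4 := by
  have hr := R9 p0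
  subst h0
  subst h1
  subst h2
  subst h3
  subst h5
  subst h4
  exact ij (ij (hr))

theorem c10_3 {p0 p1 p2 p3 q3 q4 q5 : Q} (h0 : act 6 p0 = p1) (h1 : act 1 p1 = p2) (h2 : act 6 p2 = p3) (h3 : act 1 q3 = q4) (h4 : act 6 q4 = q5) (h5 : act 1 q5 = p0) : p3 = q3 := by
  have hr := R10 p0
  subst h0
  subst h1
  subst h2
  subst h5
  subst h4
  subst h3
  exact ij (ij (ij (hr)))

theorem c10_5 {p0 p1 p2 p3 p4 p5 q5 : Q} (h0 : act 6 p0 = p1) (h1 : act 1 p1 = p2) (h2 : act 6 p2 = p3) (h3 : act 1 p3 = p4) (h4 : act 6 p4 = p5) (h5 : act 1 q5 = p0) : p5 = q5 := by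
  have hr := R10 p0
  subst h0
  subst h1
  subst h2
  subst h3
  subst h4
  subst h5
  exact ij (hr)

theorem c12_3 {p0 p1 p2 p3 q3 : Q} (h0 : act 4 p0 = p1) (h1 : act 2 p1 = p2) (h2 : act 4 p2 = p3) (h3 : act 2 q3 = p0) : p3 = q3 := by
  have hr := R12 p0
  subst h0
  subst h1
  subst h2
  subst h3
  exact ij (hr)

theorem c13_4 {p0 p1 p2 p3 p4 : Q} (h0 : act 5 p0 = p1) (h1 : act 2 p1 = p2) (h2 : act 5 p2 = p3) (h3 : act 2 p3 = p4) : p4 = p0 := by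
  have hr := R13 p0
  subst h0
  subst h1
  subst h2
  subst h3
  exact hr

theorem c14_2 {p0 p1 p2 q2 q3 : Q} (h0 : act 6 p0 = p1) (h1 : act 2 p1 = p2) (h2 : act 6 q2 = q3) (h3 : act 2 q3 = p0) : p2 = q2 := by
  have hr := R14 p0
  subst h0
  subst h1
  subst h3
  subst h2
  exact ij (ij (hr))

theorem c14_3 {p0 p1 p2 p3 q3 : Q} (h0 : act 6 p0 = p1) (h1 : act 2 p1 = p2) (h2 : act 6 p2 = p3) (h3 : act 2 q3 = p0) : p3 = q3 := by
  have hr := R14 p0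
  subst h0
  subst h1
  subst h2
  subst h3
  exact ij (hr)

theorem c14_4 {p0 p1 p2 p3 p4 : Q} (h0 : act 6 p0 = p1) (h1 : act 2 p1 = p2) (h2 : act 6 p2 = p3) (h3 : act 2 p3 = p4) : p4 = p0 := by
  have hr := R14 p0
  subst h0
  subst h1
  subst h2
  subst h3
  exact hr

theorem c15_4 {p0 p1 p2 p3 p4 q4 q5 : Q} (h0 : act 4 p0 = p1) (h1 : act 3 p1 = p2) (h2 : act 4 p2 = p3) (h3 : act 3 p3 = p4) (h4 : act 4 q4 = q5) (h5 : act 3 q5 = p0) : p4 = q4 := by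
  have hr := R15 p0
  subst h0
  subst h1
  subst h2
  subst h3
  subst h5
  subst h4
  exact ij (ij (hr))

theorem c16_3 {p0 p1 p2 p3 q3 : Q} (h0 : act 5 p0 = p1) (h1 : act 3 p1 = p2) (h2 : act 5 p2 = p3) (h3 : act 3 q3 = p0) : p3 = q3 := by
  have hr := R16 p0
  subst h0
  subst h1
  subst h2
  subst h3
  exact ij (hr)

theorem c19_2 {p0 p1 p2 q2 q3 : Q} (h0 : act 6 p0 = p1) (h1 : act 4 p1 = p2) (h2 : act 6 q2 = q3) (h3 : act 4 q3 = p0) : p2 = q2 := by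
  have hr := R19 p0
  subst h0
  subst h1
  subst h3
  subst h2
  exact ij (ij (hr))

theorem c20_7 {p0 p1 p2 p3 p4 p5 p6 p7 q7 : Q} (h0 : act 6 p0 = p1) (h1 : act 5 p1 = p2) (h2 : act 6 p2 = p3) (h3 : act 5 p3 = p4) (h4 : act 6 p4 = p5) (h5 : act 5 p5 = p6) (h6 : act 6 p6 = p7) (h7 : act 5 q7 = p0) : p7 = q7 := by
  have hr := R20 p0
  subst h0
  subst h1
  subst h2
  subst h3
  subst h4
  subst h5
  subst h6
  subst h7
  exact ij (hr)

theorem c21_6 {p0 p1 p2 p3 p4 p5 p6 q6 q7 q8 : Q} (h0 : act 2 p0 = p1) (h1 : act 3 p1 = p2) (h2 : act 2 p2 = p3) (h3 : act 3 p3 = p4) (h4 : act 2 p4 = p5) (h5 : act 3 p5 = p6) (h6 : act 2 q6 = q7) (h7 : act 3 q7 = q8) (h8 : act 0 q8 = p0) : p6 = q6 := by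
  have hr := R21 p0
  subst h0
  subst h1
  subst h2
  subst h3
  subst h4
  subst h5
  subst h8
  subst h7
  subst h6
  exact ij (ij (ij (hr)))

theorem c21_9 {p0 p1 p2 p3 p4 p5 p6 p7 p8 p9 : Q} (h0 : act 2 p0 = p1) (h1 : act 3 p1 = p2) (h2 : act 2 p2 = p3) (h3 : act 3 p3 = p4) (h4 : act 2 p4 = p5) (h5 : act 3 p5 = p6) (h6 : act 2 p6 = p7) (h7 : act 3 p7 = p8) (h8 : act 0 p8 = p9) : p9 = p0 := by
  have hr := R21 p0
  subst h0
  subst h1
  subst h2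
  subst h3
  subst h4
  subst h5
  subst h6
  subst h7
  subst h8
  exact hr

theorem c22_1 {p0 p1 q1 q2 q3 q4 : Q} (h0 : act 5 p0 = p1) (h1 : act 6 q1 = q2) (h2 : act 5 q2 = q3) (h3 : act 6 q3 = q4) (h4 : act 0 q4 = p0) : p1 = q1 := by
  have hr := R22 p0
  subst h0
  subst h4
  subst h3
  subst h2
  subst h1
  exact ij (ij (ij (ij (hr))))

theorem c22_3 {p0 p1 p2 p3 q3 q4 : Q} (h0 : act 5 p0 = p1) (h1 : act 6 p1 = p2) (h2 : act 5 p2 = p3) (h3 : act 6 q3 = q4) (h4 : act 0 q4 = p0) : p3 = q3 := by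
  have hr := R22 p0
  subst h0
  subst h1
  subst h2
  subst h4
  subst h3
  exact ij (ij (hr))

theorem c22_4 {p0 p1 p2 p3 p4 q4 : Q} (h0 : act 5 p0 = p1) (h1 : act 6 p1 = p2) (h2 : act 5 p2 = p3) (h3 : act 6 p3 = p4) (h4 : act 0 q4 = p0) : p4 = q4 := by
  have hr := R22 p0
  subst h0
  subst h1
  subst h2
  subst h3
  subst h4
  exact ij (hr)

theorem c22_5 {p0 p1 p2 p3 p4 p5 : Q} (h0 : act 5 p0 = p1) (h1 : act 6 p1 = p2) (h2 : act 5 p2 = p3) (h3 : act 6 p3 = p4) (h4 : act 0 p4 = p5) : p5 = p0 := by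
  have hr := R22 p0
  subst h0
  subst h1
  subst h2
  subst h3
  subst h4
  exact hr

theorem c23_3 {p0 p1 p2 p3 q3 q4 q5 q6 q7 q8 q9 q10 q11 q12 q13 q14 q15 q16 q17 q18 q19 : Q} (h0 : act 5 p0 = p1) (h1 : act 2 p1 = p2) (h2 : act 1 p2 = p3) (h3 : act 0 q3 = q4) (h4 : act 5 q4 = q5) (h5 : act 2 q5 = q6) (h6 : act 1 q6 = q7) (h7 : act 0 q7 = q8) (h8 : act 5 q8 = q9) (h9 : act 2 q9 = q10) (h10 : act 1 q10 = q11) (h11 : act 0 q11 = q12) (h12 : act 5 q12 = q13) (h13 : act 2 q13 = q14) (h14 : act 1 q14 = q15) (h15 : act 0 q15 = q16) (h16 : act 5 q16 = q17) (h17 : act 2 q17 = q18) (h18 : act 1 q18 = q19) (h19 : act 0 q19 = p0) : p3 = q3 := by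
  have hr := R23 p0
  subst h0
  subst h1
  subst h2
  subst h19
  subst h18
  subst h17
  subst h16
  subst h15
  subst h14
  subst h13
  subst h12
  subst h11
  subst h10
  subst h9
  subst h8
  subst h7
  subst h6
  subst h5
  subst h4
  subst h3
  exact ij (ij (ij (ij (ij (ij (ij (ij (ij (ij (ij (ij (ij (ij (ij (ij (ij (hr)))))))))))))))))

theorem c23_6 {p0 p1 p2 p3 p4 p5 p6 q6 q7 q8 q9 q10 q11 q12 q13 q14 q15 q16 q17 q18 q19 : Q} (h0 : act 5 p0 = p1) (h1 : act 2 p1 = p2) (h2 : act 1 p2 = p3) (h3 : act 0 p3 = p4) (h4 : act 5 p4 = p5) (h5 : act 2 p5 = p6) (h6 : act 1 q6 = q7) (h7 : act 0 q7 = q8) (h8 : act 5 q8 = q9) (h9 : act 2 q9 = q10) (h10 : act 1 q10 = q11) (h11 : act 0 q11 = q12) (h12 : act 5 q12 = q13) (h13 : act 2 q13 = q14) (h14 : act 1 q14 = q15) (h15 : act 0 q15 = q16) (h16 : act 5 q16 = q17) (h17 : act 2 q17 = q18) (h18 : act 1 q18 = q19) (h19 : act 0 q19 = p0) : p6 = q6 := by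
  have hr := R23 p0
  subst h0
  subst h1
  subst h2
  subst h3
  subst h4
  subst h5
  subst h19
  subst h18
  subst h17
  subst h16
  subst h15
  subst h14
  subst h13
  subst h12
  subst h11
  subst h10
  subst h9
  subst h8
  subst h7
  subst h6
  exact ij (ij (ij (ij (ij (ij (ij (ij (ij (ij (ij (ij (ij (ij (hr))))))))))))))

theorem c23_8 {p0 p1 p2 p3 p4 p5 p6 p7 p8 q8 q9 q10 q11 q12 q13 q14 q15 q16 q17 q18 q19 : Q} (h0 : act 5 p0 = p1) (h1 : act 2 p1 = p2) (h2 : act 1 p2 = p3) (h3 : act 0 p3 = p4) (h4 : act 5 p4 = p5) (h5 : act 2 p5 = p6) (h6 : act 1 p6 = p7) (h7 : act 0 p7 = p8) (h8 : act 5 q8 = q9) (h9 : act 2 q9 = q10) (h10 : act 1 q10 = q11) (h11 : act 0 q11 = q12) (h12 : act 5 q12 = q13) (h13 : act 2 q13 = q14) (h14 : act 1 q14 = q15) (h15 : act 0 q15 = q16) (h16 : act 5 q16 = q17) (h17 : act 2 q17 = q18) (h18 : act 1 q18 = q19) (h19 : act 0 q19 = p0) : p8 = q8 := by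
  have hr := R23 p0
  subst h0
  subst h1
  subst h2
  subst h3
  subst h4
  subst h5
  subst h6
  subst h7
  subst h19
  subst h18
  subst h17
  subst h16
  subst h15
  subst h14
  subst h13
  subst h12
  subst h11
  subst h10
  subst h9
  subst h8
  exact ij (ij (ij (ij (ij (ij (ij (ij (ij (ij (ij (ij (hr))))))))))))

theorem c23_14 {p0 p1 p2 p3 p4 p5 p6 p7 p8 p9 p10 p11 p12 p13 p14 q14 q15 q16 q17 q18 q19 : Q} (h0 : act 5 p0 = p1) (h1 : act 2 p1 = p2) (h2 : act 1 p2 = p3) (h3 : act 0 p3 = p4) (h4 : act 5 p4 = p5) (h5 : act 2 p5 = p6) (h6 : act 1 p6 = p7) (h7 : act 0 p7 = p8) (h8 : act 5 p8 = p9) (h9 : act 2 p9 = p10) (h10 : act 1 p10 = p11) (h11 : act 0 p11 = p12) (h12 : act 5 p12 = p13) (h13 : act 2 p13 = p14) (h14 : act 1 q14 = q15) (h15 : act 0 q15 = q16) (h16 : act 5 q16 = q17) (h17 : act 2 q17 = q18) (h18 : act 1 q18 = q19) (h19 : act 0 q19 = p0) : p14 = q14 := by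
  have hr := R23 p0
  subst h0
  subst h1
  subst h2
  subst h3
  subst h4
  subst h5
  subst h6
  subst h7
  subst h8
  subst h9
  subst h10
  subst h11
  subst h12
  subst h13
  subst h19
  subst h18
  subst h17
  subst h16
  subst h15
  subst h14
  exact ij (ij (ij (ij (ij (ij (hr))))))

theorem c23_18 {p0 p1 p2 p3 p4 p5 p6 p7 p8 p9 p10 p11 p12 p13 p14 p15 p16 p17 p18 q18 q19 : Q} (h0 : act 5 p0 = p1) (h1 : act 2 p1 = p2) (h2 : act 1 p2 = p3) (h3 : act 0 p3 = p4) (h4 : act 5 p4 = p5) (h5 : act 2 p5 = p6) (h6 : act 1 p6 = p7) (h7 : act 0 p7 = p8) (h8 : act 5 p8 = p9) (h9 : act 2 p9 = p10) (h10 : act 1 p10 = p11) (h11 : act 0 p11 = p12) (h12 : act 5 p12 = p13) (h13 : act 2 p13 = p14) (h14 : act 1 p14 = p15) (h15 : act 0 p15 = p16) (h16 : act 5 p16 = p17) (h17 : act 2 p17 = p18) (h18 : act 1 q18 = q19) (h19 : act 0 q19 = p0) : p18 = q18 := by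
  have hr := R23 p0
  subst h0
  subst h1
  subst h2
  subst h3
  subst h4
  subst h5
  subst h6
  subst h7
  subst h8
  subst h9
  subst h10
  subst h11
  subst h12
  subst h13
  subst h14
  subst h15
  subst h16
  subst h17
  subst h19
  subst h18
  exact ij (ij (hr))

theorem c23_20 {p0 p1 p2 p3 p4 p5 p6 p7 p8 p9 p10 p11 p12 p13 p14 p15 p16 p17 p18 p19 p20 : Q} (h0 : act 5 p0 = p1) (h1 : act 2 p1 = p2) (h2 : act 1 p2 = p3) (h3 : act 0 p3 = p4) (h4 : act 5 p4 = p5) (h5 : act 2 p5 = p6) (h6 : act 1 p6 = p7) (h7 : act 0 p7 = p8) (h8 : act 5 p8 = p9) (h9 : act 2 p9 = p10) (h10 : act 1 p10 = p11) (h11 : act 0 p11 = p12) (h12 : act 5 p12 = p13) (h13 : act 2 p13 = p14) (h14 : act 1 p14 = p15) (h15 : act 0 p15 = p16) (h16 : act 5 p16 = p17) (h17 : act 2 p17 = p18) (h18 : act 1 p18 = p19) (h19 : act 0 p19 = p20) : p20 = p0 := by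
  have hr := R23 p0
  subst h0
  subst h1
  subst h2
  subst h3
  subst h4
  subst h5
  subst h6
  subst h7
  subst h8
  subst h9
  subst h10
  subst h11
  subst h12
  subst h13
  subst h14
  subst h15
  subst h16
  subst h17
  subst h18
  subst h19
  exact hr

theorem c24_3 {p0 p1 p2 p3 q3 q4 q5 q6 q7 q8 q9 q10 q11 q12 q13 q14 : Q} (h0 : act 6 p0 = p1) (h1 : act 5 p1 = p2) (h2 : act 1 p2 = p3) (h3 : act 6 q3 = q4) (h4 : act 5 q4 = q5) (h5 : act 1 q5 = q6) (h6 : act 6 q6 = q7) (h7 : act 5 q7 = q8) (h8 : act 1 q8 = q9) (h9 : act 6 q9 = q10) (h10 : act 5 q10 = q11) (h11 : act 1 q11 = q12) (h12 : act 6 q12 = q13) (h13 : act 5 q13 = q14) (h14 : act 1 q14 = p0) : p3 = q3 := by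
  have hr := R24 p0
  subst h0
  subst h1
  subst h2
  subst h14
  subst h13
  subst h12
  subst h11
  subst h10
  subst h9
  subst h8
  subst h7
  subst h6
  subst h5
  subst h4
  subst h3
  exact ij (ij (ij (ij (ij (ij (ij (ij (ij (ij (ij (ij (hr))))))))))))

theorem c25_14 {p0 p1 p2 p3 p4 p5 p6 p7 p8 p9 p10 p11 p12 p13 p14 q14 q15 q16 q17 q18 q19 q20 q21 q22 q23 q24 q25 q26 q27 q28 q29 q30 q31 q32 q33 q34 q35 q36 q37 q38 q39 q40 q41 q42 q43 q44 q45 q46 q47 q48 q49 q50 q51 q52 q53 q54 q55 q56 q57 q58 q59 q60 q61 q62 q63 q64 q65 q66 q67 q68 q69 q70 q71 q72 q73 q74 q75 q76 q77 : Q} (h0 : act 4 p0 = p1) (h1 : act 3 p1 = p2) (h2 : act 2 p2 = p3) (h3 : act 3 p3 = p4) (h4 : act 2 p4 = p5) (h5 : act 1 p5 = p6) (h6 : act 3 p6 = p7) (h7 : act 2 p7 = p8) (h8 : act 3 p8 = p9) (h9 : act 2 p9 = p10) (h10 : act 1 p10 = p11) (h11 : act 3 p11 = p12) (h12 : act 2 p12 = p13) (h13 : act 3 p13 = p14) (h14 : act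 2 q14 = q15) (h15 : act 1 q15 = q16) (h16 : act 3 q16 = q17) (h17 : act 2 q17 = q18) (h18 : act 3 q18 = q19) (h19 : act 2 q19 = q20) (h20 : act 1 q20 = q21) (h21 : act 3 q21 = q22) (h22 : act 2 q22 = q23) (h23 : act 3 q23 = q24) (h24 : act 2 q24 = q25) (h25 : act 1 q25 = q26) (h26 : act 4 q26 = q27) (h27 : act 3 q27 = q28) (h28 : act 2 q28 = q29) (h29 : act 3 q29 = q30) (h30 : act 2 q30 = q31) (h31 : act 1 q31 = q32) (h32 : act 3 q32 = q33) (h33 : act 2 q33 = q34) (h34 : act 3 q34 = q35) (h35 : act 2 q35 = q36) (h36 : act 1 q36 = q37) (h37 : act 3 q37 = q38) (h38 : act 2 q38 = q39) (h39 : act 3 q39 = q40) (h40 : act 2 q40 = q41) (h41 : act 1 q41 = q42) (h42 : act 3 q42 = q43) (h43 : act 2 q43 = q44) (h44 : act 3 q44 = q45) (h45 : act 2 q45 = q46) (h46 : act 1 q46 = q47) (h47 : act 3 q47 = q48) (h48 : act 2 q48 = q49) (h49 : act 3 q49 = q50) (h50 : act 2 q50 = q51) (h51 : act 1 q51 = q52) (h52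 : act 4 q52 = q53) (h53 : act 3 q53 = q54) (h54 : act 2 q54 = q55) (h55 : act 3 q55 = q56) (h56 : act 2 q56 = q57) (h57 : act 1 q57 = q58) (h58 : act 3 q58 = q59) (h59 : act 2 q59 = q60) (h60 : act 3 q60 = q61) (h61 : act 2 q61 = q62) (h62 : act 1 q62 = q63) (h63 : act 3 q63 = q64) (h64 : act 2 q64 = q65) (h65 : act 3 q65 = q66) (h66 : act 2 q66 = q67) (h67 : act 1 q67 = q68) (h68 : act 3 q68 = q69) (h69 : act 2 q69 = q70) (h70 : act 3 q70 = q71) (h71 : act 2 q71 = q72) (h72 : act 1 q72 = q73) (h73 : act 3 q73 = q74) (h74 : act 2 q74 = q75) (h75 : act 3 q75 = q76) (h76 : act 2 q76 = q77) (h77 : act 1 q77 = p0) : p14 = q14 := by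
  have hr := R25 p0
  subst h0
  subst h1
  subst h2
  subst h3
  subst h4
  subst h5
  subst h6
  subst h7
  subst h8
  subst h9
  subst h10
  subst h11
  subst h12
  subst h13
  subst h77
  subst h76
  subst h75
  subst h74
  subst h73
  subst h72
  subst h71
  subst h70
  subst h69
  subst h68
  subst h67
  subst h66
  subst h65
  subst h64
  subst h63
  subst h62
  subst h61
  subst h60
  subst h59
  subst h58
  subst h57
  subst h56
  subst h55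
  subst h54
  subst h53
  subst h52
  subst h51
  subst h50
  subst h49
  subst h48
  subst h47
  subst h46
  subst h45
  subst h44
  subst h43
  subst h42
  subst h41
  subst h40
  subst h39
  subst h38
  subst h37
  subst h36
  subst h35
  subst h34
  subst h33
  subst h32
  subst h31
  subst h30
  subst h29
  subst h28
  subst h27
  subst h26
  subst h25
  subst h24
  subst h23
  subst h22
  subst h21
  subst h20
  subst h19
  subst h18
  subst h17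
  subst h16
  subst h15
  subst h14
  exact ij (ij (ij (ij (ij (ij (ij (ij (ij (ij (ij (ij (ij (ij (ij (ij (ij (ij (ij (ij (ij (ij (ij (ij (ij (ij (ij (ij (ij (ij (ij (ij (ij (ij (ij (ij (ij (ij (ij (ij (ij (ij (ij (ij (ij (ij (ij (ij (ij (ij (ij (ij (ij (ij (ij (ij (ij (ij (ij (ij (ij (ij (ij (ij (hr))))))))))))))))))))))))))))))))))))))))))))))))))))))))))))))))

theorem c25_18 {p0 p1 p2 p3 p4 p5 p6 p7 p8 p9 p10 p11 p12 p13 p14 p15 p16 p17 p18 q18 q19 q20 q21 q22 q23 q24 q25 q26 q27 q28 q29 q30 q31 q32 q33 q34 q35 q36 q37 q38 q39 q40 q41 q42 q43 q44 q45 q46 q47 q48 q49 q50 q51 q52 q53 q54 q55 q56 q57 q58 q59 q60 q61 q62 q63 q64 q65 q66 q67 q68 q69 q70 q71 q72 q73 q74 q75 q76 q77 : Q} (h0 : act 4 p0 = p1) (h1 : act 3 p1 = p2) (h2 : act 2 p2 = p3) (h3 : act 3 p3 = p4) (h4 : act 2 p4 = p5) (h5 : act 1 p5 = p6) (h6 : act 3 p6 = p7) (h7 : act 2 p7 = p8) (h8 : act 3 p8 = p9) (h9 : act 2 p9 = p10)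 (h10 : act 1 p10 = p11) (h11 : act 3 p11 = p12) (h12 : act 2 p12 = p13) (h13 : act 3 p13 = p14) (h14 : act 2 p14 = p15) (h15 : act 1 p15 = p16) (h16 : act 3 p16 = p17) (h17 : act 2 p17 = p18) (h18 : act 3 q18 = q19) (h19 : act 2 q19 = q20) (h20 : act 1 q20 = q21) (h21 : act 3 q21 = q22) (h22 : act 2 q22 = q23) (h23 : act 3 q23 = q24) (h24 : act 2 q24 = q25) (h25 : act 1 q25 = q26) (h26 : act 4 q26 = q27) (h27 : act 3 q27 = q28) (h28 : act 2 q28 = q29) (h29 : act 3 q29 = q30) (h30 : act 2 q30 = q31) (h31 : act 1 q31 = q32) (h32 : act 3 q32 = q33) (h33 : act 2 q33 = q34) (h34 : act 3 q34 = q35) (h35 : act 2 q35 = q36) (h36 : act 1 q36 = q37) (h37 : act 3 q37 = q38) (h38 : act 2 q38 = q39) (h39 : act 3 q39 = q40) (h40 : act 2 q40 = q41) (h41 : act 1 q41 = q42) (h42 : act 3 q42 = q43) (h43 : act 2 q43 = q44) (h44 : act 3 q44 = q45) (h45 : act 2 q45 = q46) (h46 : act 1 q46 = q47) (h47 : act 3 q47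 = q48) (h48 : act 2 q48 = q49) (h49 : act 3 q49 = q50) (h50 : act 2 q50 = q51) (h51 : act 1 q51 = q52) (h52 : act 4 q52 = q53) (h53 : act 3 q53 = q54) (h54 : act 2 q54 = q55) (h55 : act 3 q55 = q56) (h56 : act 2 q56 = q57) (h57 : act 1 q57 = q58) (h58 : act 3 q58 = q59) (h59 : act 2 q59 = q60) (h60 : act 3 q60 = q61) (h61 : act 2 q61 = q62) (h62 : act 1 q62 = q63) (h63 : act 3 q63 = q64) (h64 : act 2 q64 = q65) (h65 : act 3 q65 = q66) (h66 : act 2 q66 = q67) (h67 : act 1 q67 = q68) (h68 : act 3 q68 = q69) (h69 : act 2 q69 = q70) (h70 : act 3 q70 = q71) (h71 : act 2 q71 = q72) (h72 : act 1 q72 = q73) (h73 : act 3 q73 = q74) (h74 : act 2 q74 = q75) (h75 : act 3 q75 = q76) (h76 : act 2 q76 = q77) (h77 : act 1 q77 = p0) : p18 = q18 := by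
  have hr := R25 p0
  subst h0
  subst h1
  subst h2
  subst h3
  subst h4
  subst h5
  subst h6
  subst h7
  subst h8
  subst h9
  subst h10
  subst h11
  subst h12
  subst h13
  subst h14
  subst h15
  subst h16
  subst h17
  subst h77
  subst h76
  subst h75
  subst h74
  subst h73
  subst h72
  subst h71
  subst h70
  subst h69
  subst h68
  subst h67
  subst h66
  subst h65
  subst h64
  subst h63
  subst h62
  subst h61
  subst h60
  subst h59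
  subst h58
  subst h57
  subst h56
  subst h55
  subst h54
  subst h53
  subst h52
  subst h51
  subst h50
  subst h49
  subst h48
  subst h47
  subst h46
  subst h45
  subst h44
  subst h43
  subst h42
  subst h41
  subst h40
  subst h39
  subst h38
  subst h37
  subst h36
  subst h35
  subst h34
  subst h33
  subst h32
  subst h31
  subst h30
  subst h29
  subst h28
  subst h27
  subst h26
  subst h25
  subst h24
  subst h23
  subst h22
  subst h21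
  subst h20
  subst h19
  subst h18
  exact ij (ij (ij (ij (ij (ij (ij (ij (ij (ij (ij (ij (ij (ij (ij (ij (ij (ij (ij (ij (ij (ij (ij (ij (ij (ij (ij (ij (ij (ij (ij (ij (ij (ij (ij (ij (ij (ij (ij (ij (ij (ij (ij (ij (ij (ij (ij (ij (ij (ij (ij (ij (ij (ij (ij (ij (ij (ij (ij (ij (hr))))))))))))))))))))))))))))))))))))))))))))))))))))))))))))

theorem c25_32 {p0 p1 p2 p3 p4 p5 p6 p7 p8 p9 p10 p11 p12 p13 p14 p15 p16 p17 p18 p19 p20 p21 p22 p23 p24 p25 p26 p27 p28 p29 p30 p31 p32 q32 q33 q34 q35 q36 q37 q38 q39 q40 q41 q42 q43 q44 q45 q46 q47 q48 q49 q50 q51 q52 q53 q54 q55 q56 q57 q58 q59 q60 q61 q62 q63 q64 q65 q66 q67 q68 q69 q70 q71 q72 q73 q74 q75 q76 q77 : Q} (h0 : act 4 p0 = p1) (h1 : act 3 p1 = p2) (h2 : act 2 p2 = p3) (h3 : act 3 p3 = p4) (h4 : act 2 p4 = p5) (h5 : act 1 p5 = p6) (h6 : act 3 p6 = p7) (h7 : act 2 p7 = p8) (h8 : act 3 p8 = p9) (h9 : act 2 p9 = p10) (h10 : act 1 p10 =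 p11) (h11 : act 3 p11 = p12) (h12 : act 2 p12 = p13) (h13 : act 3 p13 = p14) (h14 : act 2 p14 = p15) (h15 : act 1 p15 = p16) (h16 : act 3 p16 = p17) (h17 : act 2 p17 = p18) (h18 : act 3 p18 = p19) (h19 : act 2 p19 = p20) (h20 : act 1 p20 = p21) (h21 : act 3 p21 = p22) (h22 : act 2 p22 = p23) (h23 : act 3 p23 = p24) (h24 : act 2 p24 = p25) (h25 : act 1 p25 = p26) (h26 : act 4 p26 = p27) (h27 : act 3 p27 = p28) (h28 : act 2 p28 = p29) (h29 : act 3 p29 = p30) (h30 : act 2 p30 = p31) (h31 : act 1 p31 = p32) (h32 : act 3 q32 = q33) (h33 : act 2 q33 = q34) (h34 : act 3 q34 = q35) (h35 : act 2 q35 = q36) (h36 : act 1 q36 = q37) (h37 : act 3 q37 = q38) (h38 : act 2 q38 = q39) (h39 : act 3 q39 = q40) (h40 : act 2 q40 = q41) (h41 : act 1 q41 = q42) (h42 : act 3 q42 = q43) (h43 : act 2 q43 = q44) (h44 : act 3 q44 = q45) (h45 : act 2 q45 = q46) (h46 : act 1 q46 = q47) (h47 : act 3 q47 = q48) (h48 : act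 2 q48 = q49) (h49 : act 3 q49 = q50) (h50 : act 2 q50 = q51) (h51 : act 1 q51 = q52) (h52 : act 4 q52 = q53) (h53 : act 3 q53 = q54) (h54 : act 2 q54 = q55) (h55 : act 3 q55 = q56) (h56 : act 2 q56 = q57) (h57 : act 1 q57 = q58) (h58 : act 3 q58 = q59) (h59 : act 2 q59 = q60) (h60 : act 3 q60 = q61) (h61 : act 2 q61 = q62) (h62 : act 1 q62 = q63) (h63 : act 3 q63 = q64) (h64 : act 2 q64 = q65) (h65 : act 3 q65 = q66) (h66 : act 2 q66 = q67) (h67 : act 1 q67 = q68) (h68 : act 3 q68 = q69) (h69 : act 2 q69 = q70) (h70 : act 3 q70 = q71) (h71 : act 2 q71 = q72) (h72 : act 1 q72 = q73) (h73 : act 3 q73 = q74) (h74 : act 2 q74 = q75) (h75 : act 3 q75 = q76) (h76 : act 2 q76 = q77) (h77 : act 1 q77 = p0) : p32 = q32 := by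
  have hr := R25 p0
  subst h0
  subst h1
  subst h2
  subst h3
  subst h4
  subst h5
  subst h6
  subst h7
  subst h8
  subst h9
  subst h10
  subst h11
  subst h12
  subst h13
  subst h14
  subst h15
  subst h16
  subst h17
  subst h18
  subst h19
  subst h20
  subst h21
  subst h22
  subst h23
  subst h24
  subst h25
  subst h26
  subst h27
  subst h28
  subst h29
  subst h30
  subst h31
  subst h77
  subst h76
  subst h75
  subst h74
  subst h73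
  subst h72
  subst h71
  subst h70
  subst h69
  subst h68
  subst h67
  subst h66
  subst h65
  subst h64
  subst h63
  subst h62
  subst h61
  subst h60
  subst h59
  subst h58
  subst h57
  subst h56
  subst h55
  subst h54
  subst h53
  subst h52
  subst h51
  subst h50
  subst h49
  subst h48
  subst h47
  subst h46
  subst h45
  subst h44
  subst h43
  subst h42
  subst h41
  subst h40
  subst h39
  subst h38
  subst h37
  subst h36
  subst h35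
  subst h34
  subst h33
  subst h32
  exact ij (ij (ij (ij (ij (ij (ij (ij (ij (ij (ij (ij (ij (ij (ij (ij (ij (ij (ij (ij (ij (ij (ij (ij (ij (ij (ij (ij (ij (ij (ij (ij (ij (ij (ij (ij (ij (ij (ij (ij (ij (ij (ij (ij (ij (ij (hr))))))))))))))))))))))))))))))))))))))))))))))

theorem c25_40 {p0 p1 p2 p3 p4 p5 p6 p7 p8 p9 p10 p11 p12 p13 p14 p15 p16 p17 p18 p19 p20 p21 p22 p23 p24 p25 p26 p27 p28 p29 p30 p31 p32 p33 p34 p35 p36 p37 p38 p39 p40 q40 q41 q42 q43 q44 q45 q46 q47 q48 q49 q50 q51 q52 q53 q54 q55 q56 q57 q58 q59 q60 q61 q62 q63 q64 q65 q66 q67 q68 q69 q70 q71 q72 q73 q74 q75 q76 q77 : Q} (h0 : act 4 p0 = p1) (h1 : act 3 p1 = p2) (h2 : act 2 p2 = p3) (h3 : act 3 p3 = p4) (h4 : act 2 p4 = p5) (h5 : act 1 p5 = p6) (h6 : act 3 p6 = p7) (h7 : act 2 p7 = p8) (h8 : act 3 p8 = p9) (h9 : act 2 p9 = p10) (h10 : act 1 p10 = p11) (h11 : act 3 p11 = p12) (h12 : act 2 p12 = p13) (h13 : act 3 p13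 = p14) (h14 : act 2 p14 = p15) (h15 : act 1 p15 = p16) (h16 : act 3 p16 = p17) (h17 : act 2 p17 = p18) (h18 : act 3 p18 = p19) (h19 : act 2 p19 = p20) (h20 : act 1 p20 = p21) (h21 : act 3 p21 = p22) (h22 : act 2 p22 = p23) (h23 : act 3 p23 = p24) (h24 : act 2 p24 = p25) (h25 : act 1 p25 = p26) (h26 : act 4 p26 = p27) (h27 : act 3 p27 = p28) (h28 : act 2 p28 = p29) (h29 : act 3 p29 = p30) (h30 : act 2 p30 = p31) (h31 : act 1 p31 = p32) (h32 : act 3 p32 = p33) (h33 : act 2 p33 = p34) (h34 : act 3 p34 = p35) (h35 : act 2 p35 = p36) (h36 : act 1 p36 = p37) (h37 : act 3 p37 = p38) (h38 : act 2 p38 = p39) (h39 : act 3 p39 = p40) (h40 : act 2 q40 = q41) (h41 : act 1 q41 = q42) (h42 : act 3 q42 = q43) (h43 : act 2 q43 = q44) (h44 : act 3 q44 = q45) (h45 : act 2 q45 = q46) (h46 : act 1 q46 = q47) (h47 : act 3 q47 = q48) (h48 : act 2 q48 = q49) (h49 : act 3 q49 = q50) (h50 : act 2 q50 = q51) (h51 : act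 1 q51 = q52) (h52 : act 4 q52 = q53) (h53 : act 3 q53 = q54) (h54 : act 2 q54 = q55) (h55 : act 3 q55 = q56) (h56 : act 2 q56 = q57) (h57 : act 1 q57 = q58) (h58 : act 3 q58 = q59) (h59 : act 2 q59 = q60) (h60 : act 3 q60 = q61) (h61 : act 2 q61 = q62) (h62 : act 1 q62 = q63) (h63 : act 3 q63 = q64) (h64 : act 2 q64 = q65) (h65 : act 3 q65 = q66) (h66 : act 2 q66 = q67) (h67 : act 1 q67 = q68) (h68 : act 3 q68 = q69) (h69 : act 2 q69 = q70) (h70 : act 3 q70 = q71) (h71 : act 2 q71 = q72) (h72 : act 1 q72 = q73) (h73 : act 3 q73 = q74) (h74 : act 2 q74 = q75) (h75 : act 3 q75 = q76) (h76 : act 2 q76 = q77) (h77 : act 1 q77 = p0) : p40 = q40 := by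
  have hr := R25 p0
  subst h0
  subst h1
  subst h2
  subst h3
  subst h4
  subst h5
  subst h6
  subst h7
  subst h8
  subst h9
  subst h10
  subst h11
  subst h12
  subst h13
  subst h14
  subst h15
  subst h16
  subst h17
  subst h18
  subst h19
  subst h20
  subst h21
  subst h22
  subst h23
  subst h24
  subst h25
  subst h26
  subst h27
  subst h28
  subst h29
  subst h30
  subst h31
  subst h32
  subst h33
  subst h34
  subst h35
  subst h36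
  subst h37
  subst h38
  subst h39
  subst h77
  subst h76
  subst h75
  subst h74
  subst h73
  subst h72
  subst h71
  subst h70
  subst h69
  subst h68
  subst h67
  subst h66
  subst h65
  subst h64
  subst h63
  subst h62
  subst h61
  subst h60
  subst h59
  subst h58
  subst h57
  subst h56
  subst h55
  subst h54
  subst h53
  subst h52
  subst h51
  subst h50
  subst h49
  subst h48
  subst h47
  subst h46
  subst h45
  subst h44
  subst h43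
  subst h42
  subst h41
  subst h40
  exact ij (ij (ij (ij (ij (ij (ij (ij (ij (ij (ij (ij (ij (ij (ij (ij (ij (ij (ij (ij (ij (ij (ij (ij (ij (ij (ij (ij (ij (ij (ij (ij (ij (ij (ij (ij (ij (ij (hr))))))))))))))))))))))))))))))))))))))

theorem c25_60 {p0 p1 p2 p3 p4 p5 p6 p7 p8 p9 p10 p11 p12 p13 p14 p15 p16 p17 p18 p19 p20 p21 p22 p23 p24 p25 p26 p27 p28 p29 p30 p31 p32 p33 p34 p35 p36 p37 p38 p39 p40 p41 p42 p43 p44 p45 p46 p47 p48 p49 p50 p51 p52 p53 p54 p55 p56 p57 p58 p59 p60 q60 q61 q62 q63 q64 q65 q66 q67 q68 q69 q70 q71 q72 q73 q74 q75 q76 q77 : Q} (h0 : act 4 p0 = p1) (h1 : act 3 p1 = p2) (h2 : act 2 p2 = p3) (h3 : act 3 p3 = p4) (h4 : act 2 p4 = p5) (h5 : act 1 p5 = p6) (h6 : act 3 p6 = p7) (h7 : act 2 p7 = p8) (h8 : act 3 p8 = p9) (h9 : act 2 p9 = p10) (h10 : act 1 p10 = p11) (h11 : act 3 p11 = p12) (h12 : act 2 p12 = p13) (h13 : act 3 p13 = p14) (h14 : act 2 p14 = p15) (h15 : act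 1 p15 = p16) (h16 : act 3 p16 = p17) (h17 : act 2 p17 = p18) (h18 : act 3 p18 = p19) (h19 : act 2 p19 = p20) (h20 : act 1 p20 = p21) (h21 : act 3 p21 = p22) (h22 : act 2 p22 = p23) (h23 : act 3 p23 = p24) (h24 : act 2 p24 = p25) (h25 : act 1 p25 = p26) (h26 : act 4 p26 = p27) (h27 : act 3 p27 = p28) (h28 : act 2 p28 = p29) (h29 : act 3 p29 = p30) (h30 : act 2 p30 = p31) (h31 : act 1 p31 = p32) (h32 : act 3 p32 = p33) (h33 : act 2 p33 = p34) (h34 : act 3 p34 = p35) (h35 : act 2 p35 = p36) (h36 : act 1 p36 = p37) (h37 : act 3 p37 = p38) (h38 : act 2 p38 = p39) (h39 : act 3 p39 = p40) (h40 : act 2 p40 = p41) (h41 : act 1 p41 = p42) (h42 : act 3 p42 = p43) (h43 : act 2 p43 = p44) (h44 : act 3 p44 = p45) (h45 : act 2 p45 = p46) (h46 : act 1 p46 = p47) (h47 : act 3 p47 = p48) (h48 : act 2 p48 = p49) (h49 : act 3 p49 = p50) (h50 : act 2 p50 = p51) (h51 : act 1 p51 = p52) (h52 : act 4 p52 = p53) (h53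 : act 3 p53 = p54) (h54 : act 2 p54 = p55) (h55 : act 3 p55 = p56) (h56 : act 2 p56 = p57) (h57 : act 1 p57 = p58) (h58 : act 3 p58 = p59) (h59 : act 2 p59 = p60) (h60 : act 3 q60 = q61) (h61 : act 2 q61 = q62) (h62 : act 1 q62 = q63) (h63 : act 3 q63 = q64) (h64 : act 2 q64 = q65) (h65 : act 3 q65 = q66) (h66 : act 2 q66 = q67) (h67 : act 1 q67 = q68) (h68 : act 3 q68 = q69) (h69 : act 2 q69 = q70) (h70 : act 3 q70 = q71) (h71 : act 2 q71 = q72) (h72 : act 1 q72 = q73) (h73 : act 3 q73 = q74) (h74 : act 2 q74 = q75) (h75 : act 3 q75 = q76) (h76 : act 2 q76 = q77) (h77 : act 1 q77 = p0) : p60 = q60 := by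
  have hr := R25 p0
  subst h0
  subst h1
  subst h2
  subst h3
  subst h4
  subst h5
  subst h6
  subst h7
  subst h8
  subst h9
  subst h10
  subst h11
  subst h12
  subst h13
  subst h14
  subst h15
  subst h16
  subst h17
  subst h18
  subst h19
  subst h20
  subst h21
  subst h22
  subst h23
  subst h24
  subst h25
  subst h26
  subst h27
  subst h28
  subst h29
  subst h30
  subst h31
  subst h32
  subst h33
  subst h34
  subst h35
  subst h36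
  subst h37
  subst h38
  subst h39
  subst h40
  subst h41
  subst h42
  subst h43
  subst h44
  subst h45
  subst h46
  subst h47
  subst h48
  subst h49
  subst h50
  subst h51
  subst h52
  subst h53
  subst h54
  subst h55
  subst h56
  subst h57
  subst h58
  subst h59
  subst h77
  subst h76
  subst h75
  subst h74
  subst h73
  subst h72
  subst h71
  subst h70
  subst h69
  subst h68
  subst h67
  subst h66
  subst h65
  subst h64
  subst h63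
  subst h62
  subst h61
  subst h60
  exact ij (ij (ij (ij (ij (ij (ij (ij (ij (ij (ij (ij (ij (ij (ij (ij (ij (ij (hr))))))))))))))))))

theorem c25_74 {p0 p1 p2 p3 p4 p5 p6 p7 p8 p9 p10 p11 p12 p13 p14 p15 p16 p17 p18 p19 p20 p21 p22 p23 p24 p25 p26 p27 p28 p29 p30 p31 p32 p33 p34 p35 p36 p37 p38 p39 p40 p41 p42 p43 p44 p45 p46 p47 p48 p49 p50 p51 p52 p53 p54 p55 p56 p57 p58 p59 p60 p61 p62 p63 p64 p65 p66 p67 p68 p69 p70 p71 p72 p73 p74 q74 q75 q76 q77 : Q} (h0 : act 4 p0 = p1) (h1 : act 3 p1 = p2) (h2 : act 2 p2 = p3) (h3 : act 3 p3 = p4) (h4 : act 2 p4 = p5) (h5 : act 1 p5 = p6) (h6 : act 3 p6 = p7) (h7 : act 2 p7 = p8) (h8 : act 3 p8 = p9) (h9 : act 2 p9 = p10) (h10 : act 1 p10 = p11) (h11 : act 3 p11 = p12) (h12 : act 2 p12 = p13) (h13 : act 3 p13 = p14) (h14 : act 2 p14 = p15) (h15 : act 1 p15 = p16) (h16 : act 3 p16 = p17) (h17 : act 2 p17 = p18) (h18 : act 3 p18 = p19) (h19 : act 2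 p19 = p20) (h20 : act 1 p20 = p21) (h21 : act 3 p21 = p22) (h22 : act 2 p22 = p23) (h23 : act 3 p23 = p24) (h24 : act 2 p24 = p25) (h25 : act 1 p25 = p26) (h26 : act 4 p26 = p27) (h27 : act 3 p27 = p28) (h28 : act 2 p28 = p29) (h29 : act 3 p29 = p30) (h30 : act 2 p30 = p31) (h31 : act 1 p31 = p32) (h32 : act 3 p32 = p33) (h33 : act 2 p33 = p34) (h34 : act 3 p34 = p35) (h35 : act 2 p35 = p36) (h36 : act 1 p36 = p37) (h37 : act 3 p37 = p38) (h38 : act 2 p38 = p39) (h39 : act 3 p39 = p40) (h40 : act 2 p40 = p41) (h41 : act 1 p41 = p42) (h42 : act 3 p42 = p43) (h43 : act 2 p43 = p44) (h44 : act 3 p44 = p45) (h45 : act 2 p45 = p46) (h46 : act 1 p46 = p47) (h47 : act 3 p47 = p48) (h48 : act 2 p48 = p49) (h49 : act 3 p49 = p50) (h50 : act 2 p50 = p51) (h51 : act 1 p51 = p52) (h52 : act 4 p52 = p53) (h53 : act 3 p53 = p54) (h54 : act 2 p54 = p55) (h55 : act 3 p55 = p56) (h56 : act 2 p56 = p57) (h57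 : act 1 p57 = p58) (h58 : act 3 p58 = p59) (h59 : act 2 p59 = p60) (h60 : act 3 p60 = p61) (h61 : act 2 p61 = p62) (h62 : act 1 p62 = p63) (h63 : act 3 p63 = p64) (h64 : act 2 p64 = p65) (h65 : act 3 p65 = p66) (h66 : act 2 p66 = p67) (h67 : act 1 p67 = p68) (h68 : act 3 p68 = p69) (h69 : act 2 p69 = p70) (h70 : act 3 p70 = p71) (h71 : act 2 p71 = p72) (h72 : act 1 p72 = p73) (h73 : act 3 p73 = p74) (h74 : act 2 q74 = q75) (h75 : act 3 q75 = q76) (h76 : act 2 q76 = q77) (h77 : act 1 q77 = p0) : p74 = q74 := by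
  have hr := R25 p0
  subst h0
  subst h1
  subst h2
  subst h3
  subst h4
  subst h5
  subst h6
  subst h7
  subst h8
  subst h9
  subst h10
  subst h11
  subst h12
  subst h13
  subst h14
  subst h15
  subst h16
  subst h17
  subst h18
  subst h19
  subst h20
  subst h21
  subst h22
  subst h23
  subst h24
  subst h25
  subst h26
  subst h27
  subst h28
  subst h29
  subst h30
  subst h31
  subst h32
  subst h33
  subst h34
  subst h35
  subst h36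
  subst h37
  subst h38
  subst h39
  subst h40
  subst h41
  subst h42
  subst h43
  subst h44
  subst h45
  subst h46
  subst h47
  subst h48
  subst h49
  subst h50
  subst h51
  subst h52
  subst h53
  subst h54
  subst h55
  subst h56
  subst h57
  subst h58
  subst h59
  subst h60
  subst h61
  subst h62
  subst h63
  subst h64
  subst h65
  subst h66
  subst h67
  subst h68
  subst h69
  subst h70
  subst h71
  subst h72
  subst h73
  subst h77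
  subst h76
  subst h75
  subst h74
  exact ij (ij (ij (ij (hr))))

theorem d0_0 {p0 q1 q2 q3 q4 q5 q6 q7 q8 q9 : Q} (h1 : act 0 q1 = q2) (h2 : act 1 q2 = q3) (h3 : act 0 q3 = q4) (h4 : act 1 q4 = q5) (h5 : act 0 q5 = q6) (h6 : act 1 q6 = q7) (h7 : act 0 q7 = q8) (h8 : act 1 q8 = q9) (h9 : act 0 q9 = p0) : act 1 p0 = q1 := by
  have hr := R0 p0
  subst h9
  subst h8
  subst h7
  subst h6
  subst h5
  subst h4
  subst h3
  subst h2
  subst h1
  exact ij (ij (ij (ij (ij (ij (ij (ij (ij (hr)))))))))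

theorem d0_1 {p0 p1 q2 q3 q4 q5 q6 q7 q8 q9 : Q} (h0 : act 1 p0 = p1) (h2 : act 1 q2 = q3) (h3 : act 0 q3 = q4) (h4 : act 1 q4 = q5) (h5 : act 0 q5 = q6) (h6 : act 1 q6 = q7) (h7 : act 0 q7 = q8) (h8 : act 1 q8 = q9) (h9 : act 0 q9 = p0) : act 0 p1 = q2 := by
  have hr := R0 p0
  subst h0
  subst h9
  subst h8
  subst h7
  subst h6
  subst h5
  subst h4
  subst h3
  subst h2
  exact ij (ij (ij (ij (ij (ij (ij (ij (hr))))))))

theorem d0_2 {p0 p1 p2 q3 q4 q5 q6 q7 q8 q9 : Q} (h0 : act 1 p0 = p1) (h1 : act 0 p1 = p2) (h3 : act 0 q3 = q4) (h4 : act 1 q4 = q5) (h5 : act 0 q5 = q6) (h6 : act 1 q6 = q7) (h7 : act 0 q7 = q8) (h8 : act 1 q8 = q9) (h9 : act 0 q9 = p0) : act 1 p2 = q3 := by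
  have hr := R0 p0
  subst h0
  subst h1
  subst h9
  subst h8
  subst h7
  subst h6
  subst h5
  subst h4
  subst h3
  exact ij (ij (ij (ij (ij (ij (ij (hr)))))))

theorem d0_3 {p0 p1 p2 p3 q4 q5 q6 q7 q8 q9 : Q} (h0 : act 1 p0 = p1) (h1 : act 0 p1 = p2) (h2 : act 1 p2 = p3) (h4 : act 1 q4 = q5) (h5 : act 0 q5 = q6) (h6 : act 1 q6 = q7) (h7 : act 0 q7 = q8) (h8 : act 1 q8 = q9) (h9 : act 0 q9 = p0) : act 0 p3 = q4 := by
  have hr := R0 p0
  subst h0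
  subst h1
  subst h2
  subst h9
  subst h8
  subst h7
  subst h6
  subst h5
  subst h4
  exact ij (ij (ij (ij (ij (ij (hr))))))

theorem d0_4 {p0 p1 p2 p3 p4 q5 q6 q7 q8 q9 : Q} (h0 : act 1 p0 = p1) (h1 : act 0 p1 = p2) (h2 : act 1 p2 = p3) (h3 : act 0 p3 = p4) (h5 : act 0 q5 = q6) (h6 : act 1 q6 = q7) (h7 : act 0 q7 = q8) (h8 : act 1 q8 = q9) (h9 : act 0 q9 = p0) : act 1 p4 = q5 := by
  have hr := R0 p0
  subst h0
  subst h1
  subst h2
  subst h3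
  subst h9
  subst h8
  subst h7
  subst h6
  subst h5
  exact ij (ij (ij (ij (ij (hr)))))

theorem d0_5 {p0 p1 p2 p3 p4 p5 q6 q7 q8 q9 : Q} (h0 : act 1 p0 = p1) (h1 : act 0 p1 = p2) (h2 : act 1 p2 = p3) (h3 : act 0 p3 = p4) (h4 : act 1 p4 = p5) (h6 : act 1 q6 = q7) (h7 : act 0 q7 = q8) (h8 : act 1 q8 = q9) (h9 : act 0 q9 = p0) : act 0 p5 = q6 := by
  have hr := R0 p0
  subst h0
  subst h1
  subst h2
  subst h3
  subst h4
  subst h9
  subst h8
  subst h7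
  subst h6
  exact ij (ij (ij (ij (hr))))

theorem d0_6 {p0 p1 p2 p3 p4 p5 p6 q7 q8 q9 : Q} (h0 : act 1 p0 = p1) (h1 : act 0 p1 = p2) (h2 : act 1 p2 = p3) (h3 : act 0 p3 = p4) (h4 : act 1 p4 = p5) (h5 : act 0 p5 = p6) (h7 : act 0 q7 = q8) (h8 : act 1 q8 = q9) (h9 : act 0 q9 = p0) : act 1 p6 = q7 := by
  have hr := R0 p0
  subst h0
  subst h1
  subst h2
  subst h3
  subst h4
  subst h5
  subst h9
  subst h8
  subst h7
  exact ij (ij (ij (hr)))

theorem d0_7 {p0 p1 p2 p3 p4 p5 p6 p7 q8 q9 : Q} (h0 : act 1 p0 = p1) (h1 : act 0 p1 = p2) (h2 : act 1 p2 = p3) (h3 : act 0 p3 = p4) (h4 : act 1 p4 = p5) (h5 : act 0 p5 = p6) (h6 : act 1 p6 = p7) (h8 : act 1 q8 = q9) (h9 : act 0 q9 = p0) : act 0 p7 = q8 := by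
  have hr := R0 p0
  subst h0
  subst h1
  subst h2
  subst h3
  subst h4
  subst h5
  subst h6
  subst h9
  subst h8
  exact ij (ij (hr))

theorem d0_8 {p0 p1 p2 p3 p4 p5 p6 p7 p8 q9 : Q} (h0 : act 1 p0 = p1) (h1 : act 0 p1 = p2) (h2 : act 1 p2 = p3) (h3 : act 0 p3 = p4) (h4 : act 1 p4 = p5) (h5 : act 0 p5 = p6) (h6 : act 1 p6 = p7) (h7 : act 0 p7 = p8) (h9 : act 0 q9 = p0) : act 1 p8 = q9 := by
  have hr := R0 p0
  subst h0
  subst h1
  subst h2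
  subst h3
  subst h4
  subst h5
  subst h6
  subst h7
  subst h9
  exact ij (hr)

theorem d0_9 {p0 p1 p2 p3 p4 p5 p6 p7 p8 p9 : Q} (h0 : act 1 p0 = p1) (h1 : act 0 p1 = p2) (h2 : act 1 p2 = p3) (h3 : act 0 p3 = p4) (h4 : act 1 p4 = p5) (h5 : act 0 p5 = p6) (h6 : act 1 p6 = p7) (h7 : act 0 p7 = p8) (h8 : act 1 p8 = p9) : act 0 p9 = p0 := by
  have hr := R0 p0
  subst h0
  subst h1
  subst h2
  subst h3
  subst h4
  subst h5
  subst h6
  subst h7
  subst h8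
  exact hr

theorem d1_0 {p0 q1 q2 q3 : Q} (h1 : act 0 q1 = q2) (h2 : act 2 q2 = q3) (h3 : act 0 q3 = p0) : act 2 p0 = q1 := by
  have hr := R1 p0
  subst h3
  subst h2
  subst h1
  exact ij (ij (ij (hr)))

theorem d1_1 {p0 p1 q2 q3 : Q} (h0 : act 2 p0 = p1) (h2 : act 2 q2 = q3) (h3 : act 0 q3 = p0) : act 0 p1 = q2 := by
  have hr := R1 p0
  subst h0
  subst h3
  subst h2
  exact ij (ij (hr))

theorem d1_2 {p0 p1 p2 q3 : Q} (h0 : act 2 p0 = p1) (h1 : act 0 p1 = p2) (h3 : act 0 q3 = p0) : act 2 p2 = q3 := by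
  have hr := R1 p0
  subst h0
  subst h1
  subst h3
  exact ij (hr)

theorem d1_3 {p0 p1 p2 p3 : Q} (h0 : act 2 p0 = p1) (h1 : act 0 p1 = p2) (h2 : act 2 p2 = p3) : act 0 p3 = p0 := by
  have hr := R1 p0
  subst h0
  subst h1
  subst h2
  exact hr

theorem d2_0 {p0 q1 q2 q3 : Q} (h1 : act 0 q1 = q2) (h2 : act 3 q2 = q3) (h3 : act 0 q3 = p0) : act 3 p0 = q1 := by
  have hr := R2 p0
  subst h3
  subst h2
  subst h1
  exact ij (ij (ij (hr)))

theorem d2_1 {p0 p1 q2 q3 : Q} (h0 : act 3 p0 = p1) (h2 : act 3 q2 = q3) (h3 : act 0 q3 = p0) : act 0 p1 = q2 := by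
  have hr := R2 p0
  subst h0
  subst h3
  subst h2
  exact ij (ij (hr))

theorem d2_2 {p0 p1 p2 q3 : Q} (h0 : act 3 p0 = p1) (h1 : act 0 p1 = p2) (h3 : act 0 q3 = p0) : act 3 p2 = q3 := by
  have hr := R2 p0
  subst h0
  subst h1
  subst h3
  exact ij (hr)

theorem d2_3 {p0 p1 p2 p3 : Q} (h0 : act 3 p0 = p1) (h1 : act 0 p1 = p2) (h2 : act 3 p2 = p3) : act 0 p3 = p0 := by
  have hr := R2 p0
  subst h0
  subst h1
  subst h2
  exact hr

theorem d3_0 {p0 q1 q2 q3 : Q} (h1 : act 0 q1 = q2) (h2 : act 4 q2 = q3) (h3 : act 0 q3 = p0) : act 4 p0 = q1 := by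
  have hr := R3 p0
  subst h3
  subst h2
  subst h1
  exact ij (ij (ij (hr)))

theorem d3_1 {p0 p1 q2 q3 : Q} (h0 : act 4 p0 = p1) (h2 : act 4 q2 = q3) (h3 : act 0 q3 = p0) : act 0 p1 = q2 := by
  have hr := R3 p0
  subst h0
  subst h3
  subst h2
  exact ij (ij (hr))

theorem d3_2 {p0 p1 p2 q3 : Q} (h0 : act 4 p0 = p1) (h1 : act 0 p1 = p2) (h3 : act 0 q3 = p0) : act 4 p2 = q3 := by
  have hr := R3 p0
  subst h0
  subst h1
  subst h3
  exact ij (hr)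

theorem d3_3 {p0 p1 p2 p3 : Q} (h0 : act 4 p0 = p1) (h1 : act 0 p1 = p2) (h2 : act 4 p2 = p3) : act 0 p3 = p0 := by
  have hr := R3 p0
  subst h0
  subst h1
  subst h2
  exact hr

theorem d4_0 {p0 q1 q2 q3 : Q} (h1 : act 0 q1 = q2) (h2 : act 5 q2 = q3) (h3 : act 0 q3 = p0) : act 5 p0 = q1 := by
  have hr := R4 p0
  subst h3
  subst h2
  subst h1
  exact ij (ij (ij (hr)))

theorem d4_1 {p0 p1 q2 q3 : Q} (h0 : act 5 p0 = p1) (h2 : act 5 q2 = q3) (h3 : act 0 q3 = p0) : act 0 p1 = q2 := by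
  have hr := R4 p0
  subst h0
  subst h3
  subst h2
  exact ij (ij (hr))

theorem d4_2 {p0 p1 p2 q3 : Q} (h0 : act 5 p0 = p1) (h1 : act 0 p1 = p2) (h3 : act 0 q3 = p0) : act 5 p2 = q3 := by
  have hr := R4 p0
  subst h0
  subst h1
  subst h3
  exact ij (hr)

theorem d4_3 {p0 p1 p2 p3 : Q} (h0 : act 5 p0 = p1) (h1 : act 0 p1 = p2) (h2 : act 5 p2 = p3) : act 0 p3 = p0 := by
  have hr := R4 p0
  subst h0
  subst h1
  subst h2
  exact hr

theorem d5_0 {p0 q1 q2 q3 : Q} (h1 : act 0 q1 = q2) (h2 : act 6 q2 = q3) (h3 : act 0 q3 = p0) : act 6 p0 = q1 := by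
  have hr := R5 p0
  subst h3
  subst h2
  subst h1
  exact ij (ij (ij (hr)))

theorem d5_1 {p0 p1 q2 q3 : Q} (h0 : act 6 p0 = p1) (h2 : act 6 q2 = q3) (h3 : act 0 q3 = p0) : act 0 p1 = q2 := by
  have hr := R5 p0
  subst h0
  subst h3
  subst h2
  exact ij (ij (hr))

theorem d5_2 {p0 p1 p2 q3 : Q} (h0 : act 6 p0 = p1) (h1 : act 0 p1 = p2) (h3 : act 0 q3 = p0) : act 6 p2 = q3 := by
  have hr := R5 p0
  subst h0
  subst h1
  subst h3
  exact ij (hr)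

theorem d5_3 {p0 p1 p2 p3 : Q} (h0 : act 6 p0 = p1) (h1 : act 0 p1 = p2) (h2 : act 6 p2 = p3) : act 0 p3 = p0 := by
  have hr := R5 p0
  subst h0
  subst h1
  subst h2
  exact hr

theorem d6_0 {p0 q1 q2 q3 q4 q5 : Q} (h1 : act 1 q1 = q2) (h2 : act 2 q2 = q3) (h3 : act 1 q3 = q4) (h4 : act 2 q4 = q5) (h5 : act 1 q5 = p0) : act 2 p0 = q1 := by
  have hr := R6 p0
  subst h5
  subst h4
  subst h3
  subst h2
  subst h1
  exact ij (ij (ij (ij (ij (hr)))))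

theorem d6_1 {p0 p1 q2 q3 q4 q5 : Q} (h0 : act 2 p0 = p1) (h2 : act 2 q2 = q3) (h3 : act 1 q3 = q4) (h4 : act 2 q4 = q5) (h5 : act 1 q5 = p0) : act 1 p1 = q2 := by
  have hr := R6 p0
  subst h0
  subst h5
  subst h4
  subst h3
  subst h2
  exact ij (ij (ij (ij (hr))))

theorem d6_2 {p0 p1 p2 q3 q4 q5 : Q} (h0 : act 2 p0 = p1) (h1 : act 1 p1 = p2) (h3 : act 1 q3 = q4) (h4 : act 2 q4 = q5) (h5 : act 1 q5 = p0) : act 2 p2 = q3 := by
  have hr := R6 p0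
  subst h0
  subst h1
  subst h5
  subst h4
  subst h3
  exact ij (ij (ij (hr)))

theorem d6_3 {p0 p1 p2 p3 q4 q5 : Q} (h0 : act 2 p0 = p1) (h1 : act 1 p1 = p2) (h2 : act 2 p2 = p3) (h4 : act 2 q4 = q5) (h5 : act 1 q5 = p0) : act 1 p3 = q4 := by
  have hr := R6 p0
  subst h0
  subst h1
  subst h2
  subst h5
  subst h4
  exact ij (ij (hr))

theorem d6_4 {p0 p1 p2 p3 p4 q5 : Q} (h0 : act 2 p0 = p1) (h1 : act 1 p1 = p2) (h2 : act 2 p2 = p3) (h3 : act 1 p3 = p4) (h5 : act 1 q5 = p0) : act 2 p4 = q5 := by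
  have hr := R6 p0
  subst h0
  subst h1
  subst h2
  subst h3
  subst h5
  exact ij (hr)

theorem d6_5 {p0 p1 p2 p3 p4 p5 : Q} (h0 : act 2 p0 = p1) (h1 : act 1 p1 = p2) (h2 : act 2 p2 = p3) (h3 : act 1 p3 = p4) (h4 : act 2 p4 = p5) : act 1 p5 = p0 := by
  have hr := R6 p0
  subst h0
  subst h1
  subst h2
  subst h3
  subst h4
  exact hr

theorem d7_0 {p0 q1 q2 q3 : Q} (h1 : act 1 q1 = q2) (h2 : act 3 q2 = q3) (h3 : act 1 q3 = p0) : act 3 p0 = q1 := by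
  have hr := R7 p0
  subst h3
  subst h2
  subst h1
  exact ij (ij (ij (hr)))

theorem d7_1 {p0 p1 q2 q3 : Q} (h0 : act 3 p0 = p1) (h2 : act 3 q2 = q3) (h3 : act 1 q3 = p0) : act 1 p1 = q2 := by
  have hr := R7 p0
  subst h0
  subst h3
  subst h2
  exact ij (ij (hr))

theorem d7_2 {p0 p1 p2 q3 : Q} (h0 : act 3 p0 = p1) (h1 : act 1 p1 = p2) (h3 : act 1 q3 = p0) : act 3 p2 = q3 := by
  have hr := R7 p0
  subst h0
  subst h1
  subst h3
  exact ij (hr)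

theorem d7_3 {p0 p1 p2 p3 : Q} (h0 : act 3 p0 = p1) (h1 : act 1 p1 = p2) (h2 : act 3 p2 = p3) : act 1 p3 = p0 := by
  have hr := R7 p0
  subst h0
  subst h1
  subst h2
  exact hr

theorem d8_0 {p0 q1 q2 q3 : Q} (h1 : act 1 q1 = q2) (h2 : act 4 q2 = q3) (h3 : act 1 q3 = p0) : act 4 p0 = q1 := by
  have hr := R8 p0
  subst h3
  subst h2
  subst h1
  exact ij (ij (ij (hr)))

theorem d8_1 {p0 p1 q2 q3 : Q} (h0 : act 4 p0 = p1) (h2 : act 4 q2 = q3) (h3 : act 1 q3 = p0) : act 1 p1 = q2 := by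
  have hr := R8 p0
  subst h0
  subst h3
  subst h2
  exact ij (ij (hr))

theorem d8_2 {p0 p1 p2 q3 : Q} (h0 : act 4 p0 = p1) (h1 : act 1 p1 = p2) (h3 : act 1 q3 = p0) : act 4 p2 = q3 := by
  have hr := R8 p0
  subst h0
  subst h1
  subst h3
  exact ij (hr)

theorem d8_3 {p0 p1 p2 p3 : Q} (h0 : act 4 p0 = p1) (h1 : act 1 p1 = p2) (h2 : act 4 p2 = p3) : act 1 p3 = p0 := by
  have hr := R8 p0
  subst h0
  subst h1
  subst h2
  exact hr

theorem d9_0 {p0 q1 q2 q3 q4 q5 : Q} (h1 : act 1 q1 = q2) (h2 : act 5 q2 = q3) (h3 : act 1 q3 = q4) (h4 : act 5 q4 = q5) (h5 : act 1 q5 = p0) : act 5 p0 = q1 := by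
  have hr := R9 p0
  subst h5
  subst h4
  subst h3
  subst h2
  subst h1
  exact ij (ij (ij (ij (ij (hr)))))

theorem d9_1 {p0 p1 q2 q3 q4 q5 : Q} (h0 : act 5 p0 = p1) (h2 : act 5 q2 = q3) (h3 : act 1 q3 = q4) (h4 : act 5 q4 = q5) (h5 : act 1 q5 = p0) : act 1 p1 = q2 := by
  have hr := R9 p0
  subst h0
  subst h5
  subst h4
  subst h3
  subst h2
  exact ij (ij (ij (ij (hr))))

theorem d9_2 {p0 p1 p2 q3 q4 q5 : Q} (h0 : act 5 p0 = p1) (h1 : act 1 p1 = p2) (h3 : act 1 q3 = q4) (h4 : act 5 q4 = q5) (h5 : act 1 q5 = p0) : act 5 p2 = q3 := by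
  have hr := R9 p0
  subst h0
  subst h1
  subst h5
  subst h4
  subst h3
  exact ij (ij (ij (hr)))

theorem d9_3 {p0 p1 p2 p3 q4 q5 : Q} (h0 : act 5 p0 = p1) (h1 : act 1 p1 = p2) (h2 : act 5 p2 = p3) (h4 : act 5 q4 = q5) (h5 : act 1 q5 = p0) : act 1 p3 = q4 := by
  have hr := R9 p0
  subst h0
  subst h1
  subst h2
  subst h5
  subst h4
  exact ij (ij (hr))

theorem d9_4 {p0 p1 p2 p3 p4 q5 : Q} (h0 : act 5 p0 = p1) (h1 : act 1 p1 = p2) (h2 : act 5 p2 = p3) (h3 : act 1 p3 = p4) (h5 : act 1 q5 = p0) : act 5 p4 = q5 := by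
  have hr := R9 p0
  subst h0
  subst h1
  subst h2
  subst h3
  subst h5
  exact ij (hr)

theorem d9_5 {p0 p1 p2 p3 p4 p5 : Q} (h0 : act 5 p0 = p1) (h1 : act 1 p1 = p2) (h2 : act 5 p2 = p3) (h3 : act 1 p3 = p4) (h4 : act 5 p4 = p5) : act 1 p5 = p0 := by
  have hr := R9 p0
  subst h0
  subst h1
  subst h2
  subst h3
  subst h4
  exact hr

theorem d10_0 {p0 q1 q2 q3 q4 q5 : Q} (h1 : act 1 q1 = q2) (h2 : act 6 q2 = q3) (h3 : act 1 q3 = q4) (h4 : act 6 q4 = q5) (h5 : act 1 q5 = p0) : act 6 p0 = q1 := by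
  have hr := R10 p0
  subst h5
  subst h4
  subst h3
  subst h2
  subst h1
  exact ij (ij (ij (ij (ij (hr)))))

theorem d10_1 {p0 p1 q2 q3 q4 q5 : Q} (h0 : act 6 p0 = p1) (h2 : act 6 q2 = q3) (h3 : act 1 q3 = q4) (h4 : act 6 q4 = q5) (h5 : act 1 q5 = p0) : act 1 p1 = q2 := by
  have hr := R10 p0
  subst h0
  subst h5
  subst h4
  subst h3
  subst h2
  exact ij (ij (ij (ij (hr))))

theorem d10_2 {p0 p1 p2 q3 q4 q5 : Q} (h0 : act 6 p0 = p1) (h1 : act 1 p1 = p2) (h3 : act 1 q3 = q4) (h4 : act 6 q4 = q5) (h5 : act 1 q5 = p0) : act 6 p2 = q3 := by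
  have hr := R10 p0
  subst h0
  subst h1
  subst h5
  subst h4
  subst h3
  exact ij (ij (ij (hr)))

theorem d10_3 {p0 p1 p2 p3 q4 q5 : Q} (h0 : act 6 p0 = p1) (h1 : act 1 p1 = p2) (h2 : act 6 p2 = p3) (h4 : act 6 q4 = q5) (h5 : act 1 q5 = p0) : act 1 p3 = q4 := by
  have hr := R10 p0
  subst h0
  subst h1
  subst h2
  subst h5
  subst h4
  exact ij (ij (hr))

theorem d10_4 {p0 p1 p2 p3 p4 q5 : Q} (h0 : act 6 p0 = p1) (h1 : act 1 p1 = p2) (h2 : act 6 p2 = p3) (h3 : act 1 p3 = p4) (h5 : act 1 q5 = p0) : act 6 p4 = q5 := by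
  have hr := R10 p0
  subst h0
  subst h1
  subst h2
  subst h3
  subst h5
  exact ij (hr)

theorem d10_5 {p0 p1 p2 p3 p4 p5 : Q} (h0 : act 6 p0 = p1) (h1 : act 1 p1 = p2) (h2 : act 6 p2 = p3) (h3 : act 1 p3 = p4) (h4 : act 6 p4 = p5) : act 1 p5 = p0 := by
  have hr := R10 p0
  subst h0
  subst h1
  subst h2
  subst h3
  subst h4
  exact hr

theorem d11_1 {p0 p1 q2 q3 q4 q5 q6 q7 q8 q9 q10 q11 q12 q13 q14 q15 : Q} (h0 : act 3 p0 = p1) (h2 : act 3 q2 = q3) (h3 : act 2 q3 = q4) (h4 : act 3 q4 = q5) (h5 : act 2 q5 = q6) (h6 : act 3 q6 = q7) (h7 : act 2 q7 = q8) (h8 : act 3 q8 = q9) (h9 : act 2 q9 = q10) (h10 : act 3 q10 = q11) (h11 : act 2 q11 = q12) (h12 : act 3 q12 = q13) (h13 : act 2 q13 = q14) (h14 : act 3 q14 = q15) (h15 : act 2 q15 = p0) : act 2 p1 = q2 := by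
  have hr := R11 p0
  subst h0
  subst h15
  subst h14
  subst h13
  subst h12
  subst h11
  subst h10
  subst h9
  subst h8
  subst h7
  subst h6
  subst h5
  subst h4
  subst h3
  subst h2
  exact ij (ij (ij (ij (ij (ij (ij (ij (ij (ij (ij (ij (ij (ij (hr))))))))))))))

theorem d11_2 {p0 p1 p2 q3 q4 q5 q6 q7 q8 q9 q10 q11 q12 q13 q14 q15 : Q} (h0 : act 3 p0 = p1) (h1 : act 2 p1 = p2) (h3 : act 2 q3 = q4) (h4 : act 3 q4 = q5) (h5 : act 2 q5 = q6) (h6 : act 3 q6 = q7) (h7 : act 2 q7 = q8) (h8 : act 3 q8 = q9) (h9 : act 2 q9 = q10) (h10 : act 3 q10 = q11) (h11 : act 2 q11 = q12) (h12 : act 3 q12 = q13) (h13 : act 2 q13 = q14) (h14 : act 3 q14 = q15) (h15 : act 2 q15 = p0) : act 3 p2 = q3 := by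
  have hr := R11 p0
  subst h0
  subst h1
  subst h15
  subst h14
  subst h13
  subst h12
  subst h11
  subst h10
  subst h9
  subst h8
  subst h7
  subst h6
  subst h5
  subst h4
  subst h3
  exact ij (ij (ij (ij (ij (ij (ij (ij (ij (ij (ij (ij (ij (hr)))))))))))))

theorem d11_3 {p0 p1 p2 p3 q4 q5 q6 q7 q8 q9 q10 q11 q12 q13 q14 q15 : Q} (h0 : act 3 p0 = p1) (h1 : act 2 p1 = p2) (h2 : act 3 p2 = p3) (h4 : act 3 q4 = q5) (h5 : act 2 q5 = q6) (h6 : act 3 q6 = q7) (h7 : act 2 q7 = q8) (h8 : act 3 q8 = q9) (h9 : act 2 q9 = q10) (h10 : act 3 q10 = q11) (h11 : act 2 q11 = q12) (h12 : act 3 q12 = q13) (h13 : act 2 q13 = q14) (h14 : act 3 q14 = q15) (h15 : act 2 q15 = p0) : act 2 p3 = q4 := by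
  have hr := R11 p0
  subst h0
  subst h1
  subst h2
  subst h15
  subst h14
  subst h13
  subst h12
  subst h11
  subst h10
  subst h9
  subst h8
  subst h7
  subst h6
  subst h5
  subst h4
  exact ij (ij (ij (ij (ij (ij (ij (ij (ij (ij (ij (ij (hr))))))))))))

theorem d11_8 {p0 p1 p2 p3 p4 p5 p6 p7 p8 q9 q10 q11 q12 q13 q14 q15 : Q} (h0 : act 3 p0 = p1) (h1 : act 2 p1 = p2) (h2 : act 3 p2 = p3) (h3 : act 2 p3 = p4) (h4 : act 3 p4 = p5) (h5 : act 2 p5 = p6) (h6 : act 3 p6 = p7) (h7 : act 2 p7 = p8) (h9 : act 2 q9 = q10) (h10 : act 3 q10 = q11) (h11 : act 2 q11 = q12) (h12 : act 3 q12 = q13) (h13 : act 2 q13 = q14) (h14 : act 3 q14 = q15) (h15 : act 2 q15 = p0) : act 3 p8 = q9 := by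
  have hr := R11 p0
  subst h0
  subst h1
  subst h2
  subst h3
  subst h4
  subst h5
  subst h6
  subst h7
  subst h15
  subst h14
  subst h13
  subst h12
  subst h11
  subst h10
  subst h9
  exact ij (ij (ij (ij (ij (ij (ij (hr)))))))

theorem d11_9 {p0 p1 p2 p3 p4 p5 p6 p7 p8 p9 q10 q11 q12 q13 q14 q15 : Q} (h0 : act 3 p0 = p1) (h1 : act 2 p1 = p2) (h2 : act 3 p2 = p3) (h3 : act 2 p3 = p4) (h4 : act 3 p4 = p5) (h5 : act 2 p5 = p6) (h6 : act 3 p6 = p7) (h7 : act 2 p7 = p8) (h8 : act 3 p8 = p9) (h10 : act 3 q10 = q11) (h11 : act 2 q11 = q12) (h12 : act 3 q12 = q13) (h13 : act 2 q13 = q14) (h14 : act 3 q14 = q15) (h15 : act 2 q15 = p0) : act 2 p9 = q10 := by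
  have hr := R11 p0
  subst h0
  subst h1
  subst h2
  subst h3
  subst h4
  subst h5
  subst h6
  subst h7
  subst h8
  subst h15
  subst h14
  subst h13
  subst h12
  subst h11
  subst h10
  exact ij (ij (ij (ij (ij (ij (hr))))))

theorem d12_0 {p0 q1 q2 q3 : Q} (h1 : act 2 q1 = q2) (h2 : act 4 q2 = q3) (h3 : act 2 q3 = p0) : act 4 p0 = q1 := by
  have hr := R12 p0
  subst h3
  subst h2
  subst h1
  exact ij (ij (ij (hr)))

theorem d12_1 {p0 p1 q2 q3 : Q} (h0 : act 4 p0 = p1) (h2 : act 4 q2 = q3) (h3 : act 2 q3 = p0) : act 2 p1 = q2 := by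
  have hr := R12 p0
  subst h0
  subst h3
  subst h2
  exact ij (ij (hr))

theorem d12_2 {p0 p1 p2 q3 : Q} (h0 : act 4 p0 = p1) (h1 : act 2 p1 = p2) (h3 : act 2 q3 = p0) : act 4 p2 = q3 := by
  have hr := R12 p0
  subst h0
  subst h1
  subst h3
  exact ij (hr)

theorem d12_3 {p0 p1 p2 p3 : Q} (h0 : act 4 p0 = p1) (h1 : act 2 p1 = p2) (h2 : act 4 p2 = p3) : act 2 p3 = p0 := by
  have hr := R12 p0
  subst h0
  subst h1
  subst h2
  exact hr

theorem d13_0 {p0 q1 q2 q3 : Q} (h1 : act 2 q1 = q2) (h2 : act 5 q2 = q3) (h3 : act 2 q3 = p0) : act 5 p0 = q1 := by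
  have hr := R13 p0
  subst h3
  subst h2
  subst h1
  exact ij (ij (ij (hr)))

theorem d13_1 {p0 p1 q2 q3 : Q} (h0 : act 5 p0 = p1) (h2 : act 5 q2 = q3) (h3 : act 2 q3 = p0) : act 2 p1 = q2 := by
  have hr := R13 p0
  subst h0
  subst h3
  subst h2
  exact ij (ij (hr))

theorem d13_2 {p0 p1 p2 q3 : Q} (h0 : act 5 p0 = p1) (h1 : act 2 p1 = p2) (h3 : act 2 q3 = p0) : act 5 p2 = q3 := by
  have hr := R13 p0
  subst h0
  subst h1
  subst h3
  exact ij (hr)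

theorem d13_3 {p0 p1 p2 p3 : Q} (h0 : act 5 p0 = p1) (h1 : act 2 p1 = p2) (h2 : act 5 p2 = p3) : act 2 p3 = p0 := by
  have hr := R13 p0
  subst h0
  subst h1
  subst h2
  exact hr

theorem d14_0 {p0 q1 q2 q3 : Q} (h1 : act 2 q1 = q2) (h2 : act 6 q2 = q3) (h3 : act 2 q3 = p0) : act 6 p0 = q1 := by
  have hr := R14 p0
  subst h3
  subst h2
  subst h1
  exact ij (ij (ij (hr)))

theorem d14_1 {p0 p1 q2 q3 : Q} (h0 : act 6 p0 = p1) (h2 : act 6 q2 = q3) (h3 : act 2 q3 = p0) : act 2 p1 = q2 := by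
  have hr := R14 p0
  subst h0
  subst h3
  subst h2
  exact ij (ij (hr))

theorem d14_2 {p0 p1 p2 q3 : Q} (h0 : act 6 p0 = p1) (h1 : act 2 p1 = p2) (h3 : act 2 q3 = p0) : act 6 p2 = q3 := by
  have hr := R14 p0
  subst h0
  subst h1
  subst h3
  exact ij (hr)

theorem d14_3 {p0 p1 p2 p3 : Q} (h0 : act 6 p0 = p1) (h1 : act 2 p1 = p2) (h2 : act 6 p2 = p3) : act 2 p3 = p0 := by
  have hr := R14 p0
  subst h0
  subst h1
  subst h2
  exact hr

theorem d15_0 {p0 q1 q2 q3 q4 q5 : Q} (h1 : act 3 q1 = q2) (h2 : act 4 q2 = q3) (h3 : act 3 q3 = q4) (h4 : act 4 q4 = q5) (h5 : act 3 q5 = p0) : act 4 p0 = q1 := by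
  have hr := R15 p0
  subst h5
  subst h4
  subst h3
  subst h2
  subst h1
  exact ij (ij (ij (ij (ij (hr)))))

theorem d15_1 {p0 p1 q2 q3 q4 q5 : Q} (h0 : act 4 p0 = p1) (h2 : act 4 q2 = q3) (h3 : act 3 q3 = q4) (h4 : act 4 q4 = q5) (h5 : act 3 q5 = p0) : act 3 p1 = q2 := by
  have hr := R15 p0
  subst h0
  subst h5
  subst h4
  subst h3
  subst h2
  exact ij (ij (ij (ij (hr))))

theorem d15_2 {p0 p1 p2 q3 q4 q5 : Q} (h0 : act 4 p0 = p1) (h1 : act 3 p1 = p2) (h3 : act 3 q3 = q4) (h4 : act 4 q4 = q5) (h5 : act 3 q5 = p0) : act 4 p2 = q3 := by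
  have hr := R15 p0
  subst h0
  subst h1
  subst h5
  subst h4
  subst h3
  exact ij (ij (ij (hr)))

theorem d15_4 {p0 p1 p2 p3 p4 q5 : Q} (h0 : act 4 p0 = p1) (h1 : act 3 p1 = p2) (h2 : act 4 p2 = p3) (h3 : act 3 p3 = p4) (h5 : act 3 q5 = p0) : act 4 p4 = q5 := by
  have hr := R15 p0
  subst h0
  subst h1
  subst h2
  subst h3
  subst h5
  exact ij (hr)

theorem d15_5 {p0 p1 p2 p3 p4 p5 : Q} (h0 : act 4 p0 = p1) (h1 : act 3 p1 = p2) (h2 : act 4 p2 = p3) (h3 : act 3 p3 = p4) (h4 : act 4 p4 = p5) : act 3 p5 = p0 := by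
  have hr := R15 p0
  subst h0
  subst h1
  subst h2
  subst h3
  subst h4
  exact hr

theorem d16_0 {p0 q1 q2 q3 : Q} (h1 : act 3 q1 = q2) (h2 : act 5 q2 = q3) (h3 : act 3 q3 = p0) : act 5 p0 = q1 := by
  have hr := R16 p0
  subst h3
  subst h2
  subst h1
  exact ij (ij (ij (hr)))

theorem d16_1 {p0 p1 q2 q3 : Q} (h0 : act 5 p0 = p1) (h2 : act 5 q2 = q3) (h3 : act 3 q3 = p0) : act 3 p1 = q2 := by
  have hr := R16 p0
  subst h0
  subst h3
  subst h2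
  exact ij (ij (hr))

theorem d16_2 {p0 p1 p2 q3 : Q} (h0 : act 5 p0 = p1) (h1 : act 3 p1 = p2) (h3 : act 3 q3 = p0) : act 5 p2 = q3 := by
  have hr := R16 p0
  subst h0
  subst h1
  subst h3
  exact ij (hr)

theorem d16_3 {p0 p1 p2 p3 : Q} (h0 : act 5 p0 = p1) (h1 : act 3 p1 = p2) (h2 : act 5 p2 = p3) : act 3 p3 = p0 := by
  have hr := R16 p0
  subst h0
  subst h1
  subst h2
  exact hr

theorem d17_0 {p0 q1 q2 q3 : Q} (h1 : act 3 q1 = q2) (h2 : act 6 q2 = q3) (h3 : act 3 q3 = p0) : act 6 p0 = q1 := by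
  have hr := R17 p0
  subst h3
  subst h2
  subst h1
  exact ij (ij (ij (hr)))

theorem d17_1 {p0 p1 q2 q3 : Q} (h0 : act 6 p0 = p1) (h2 : act 6 q2 = q3) (h3 : act 3 q3 = p0) : act 3 p1 = q2 := by
  have hr := R17 p0
  subst h0
  subst h3
  subst h2
  exact ij (ij (hr))

theorem d17_2 {p0 p1 p2 q3 : Q} (h0 : act 6 p0 = p1) (h1 : act 3 p1 = p2) (h3 : act 3 q3 = p0) : act 6 p2 = q3 := by
  have hr := R17 p0
  subst h0
  subst h1
  subst h3
  exact ij (hr)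

theorem d17_3 {p0 p1 p2 p3 : Q} (h0 : act 6 p0 = p1) (h1 : act 3 p1 = p2) (h2 : act 6 p2 = p3) : act 3 p3 = p0 := by
  have hr := R17 p0
  subst h0
  subst h1
  subst h2
  exact hr

theorem d18_0 {p0 q1 q2 q3 : Q} (h1 : act 4 q1 = q2) (h2 : act 5 q2 = q3) (h3 : act 4 q3 = p0) : act 5 p0 = q1 := by
  have hr := R18 p0
  subst h3
  subst h2
  subst h1
  exact ij (ij (ij (hr)))

theorem d18_1 {p0 p1 q2 q3 : Q} (h0 : act 5 p0 = p1) (h2 : act 5 q2 = q3) (h3 : act 4 q3 = p0) : act 4 p1 = q2 := by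
  have hr := R18 p0
  subst h0
  subst h3
  subst h2
  exact ij (ij (hr))

theorem d18_2 {p0 p1 p2 q3 : Q} (h0 : act 5 p0 = p1) (h1 : act 4 p1 = p2) (h3 : act 4 q3 = p0) : act 5 p2 = q3 := by
  have hr := R18 p0
  subst h0
  subst h1
  subst h3
  exact ij (hr)

theorem d18_3 {p0 p1 p2 p3 : Q} (h0 : act 5 p0 = p1) (h1 : act 4 p1 = p2) (h2 : act 5 p2 = p3) : act 4 p3 = p0 := by
  have hr := R18 p0
  subst h0
  subst h1
  subst h2
  exact hr

theorem d19_0 {p0 q1 q2 q3 : Q} (h1 : act 4 q1 = q2) (h2 : act 6 q2 = q3) (h3 : act 4 q3 = p0) : act 6 p0 = q1 := by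
  have hr := R19 p0
  subst h3
  subst h2
  subst h1
  exact ij (ij (ij (hr)))

theorem d19_1 {p0 p1 q2 q3 : Q} (h0 : act 6 p0 = p1) (h2 : act 6 q2 = q3) (h3 : act 4 q3 = p0) : act 4 p1 = q2 := by
  have hr := R19 p0
  subst h0
  subst h3
  subst h2
  exact ij (ij (hr))

theorem d19_2 {p0 p1 p2 q3 : Q} (h0 : act 6 p0 = p1) (h1 : act 4 p1 = p2) (h3 : act 4 q3 = p0) : act 6 p2 = q3 := by
  have hr := R19 p0
  subst h0
  subst h1
  subst h3
  exact ij (hr)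

theorem d19_3 {p0 p1 p2 p3 : Q} (h0 : act 6 p0 = p1) (h1 : act 4 p1 = p2) (h2 : act 6 p2 = p3) : act 4 p3 = p0 := by
  have hr := R19 p0
  subst h0
  subst h1
  subst h2
  exact hr

theorem d20_0 {p0 q1 q2 q3 q4 q5 q6 q7 : Q} (h1 : act 5 q1 = q2) (h2 : act 6 q2 = q3) (h3 : act 5 q3 = q4) (h4 : act 6 q4 = q5) (h5 : act 5 q5 = q6) (h6 : act 6 q6 = q7) (h7 : act 5 q7 = p0) : act 6 p0 = q1 := by
  have hr := R20 p0
  subst h7
  subst h6
  subst h5
  subst h4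
  subst h3
  subst h2
  subst h1
  exact ij (ij (ij (ij (ij (ij (ij (hr)))))))

theorem d20_1 {p0 p1 q2 q3 q4 q5 q6 q7 : Q} (h0 : act 6 p0 = p1) (h2 : act 6 q2 = q3) (h3 : act 5 q3 = q4) (h4 : act 6 q4 = q5) (h5 : act 5 q5 = q6) (h6 : act 6 q6 = q7) (h7 : act 5 q7 = p0) : act 5 p1 = q2 := by
  have hr := R20 p0
  subst h0
  subst h7
  subst h6
  subst h5
  subst h4
  subst h3
  subst h2
  exact ij (ij (ij (ij (ij (ij (hr))))))

theorem d20_2 {p0 p1 p2 q3 q4 q5 q6 q7 : Q} (h0 : act 6 p0 = p1) (h1 : act 5 p1 = p2) (h3 : act 5 q3 = q4) (h4 : act 6 q4 = q5) (h5 : act 5 q5 = q6) (h6 : act 6 q6 = q7) (h7 : act 5 q7 = p0) : act 6 p2 = q3 := by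
  have hr := R20 p0
  subst h0
  subst h1
  subst h7
  subst h6
  subst h5
  subst h4
  subst h3
  exact ij (ij (ij (ij (ij (hr)))))

theorem d20_3 {p0 p1 p2 p3 q4 q5 q6 q7 : Q} (h0 : act 6 p0 = p1) (h1 : act 5 p1 = p2) (h2 : act 6 p2 = p3) (h4 : act 6 q4 = q5) (h5 : act 5 q5 = q6) (h6 : act 6 q6 = q7) (h7 : act 5 q7 = p0) : act 5 p3 = q4 := by
  have hr := R20 p0
  subst h0
  subst h1
  subst h2
  subst h7
  subst h6
  subst h5
  subst h4
  exact ij (ij (ij (ij (hr))))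

theorem d20_5 {p0 p1 p2 p3 p4 p5 q6 q7 : Q} (h0 : act 6 p0 = p1) (h1 : act 5 p1 = p2) (h2 : act 6 p2 = p3) (h3 : act 5 p3 = p4) (h4 : act 6 p4 = p5) (h6 : act 6 q6 = q7) (h7 : act 5 q7 = p0) : act 5 p5 = q6 := by
  have hr := R20 p0
  subst h0
  subst h1
  subst h2
  subst h3
  subst h4
  subst h7
  subst h6
  exact ij (ij (hr))

theorem d20_6 {p0 p1 p2 p3 p4 p5 p6 q7 : Q} (h0 : act 6 p0 = p1) (h1 : act 5 p1 = p2) (h2 : act 6 p2 = p3) (h3 : act 5 p3 = p4) (h4 : act 6 p4 = p5) (h5 : act 5 p5 = p6) (h7 : act 5 q7 = p0) : act 6 p6 = q7 := by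
  have hr := R20 p0
  subst h0
  subst h1
  subst h2
  subst h3
  subst h4
  subst h5
  subst h7
  exact ij (hr)

theorem d20_7 {p0 p1 p2 p3 p4 p5 p6 p7 : Q} (h0 : act 6 p0 = p1) (h1 : act 5 p1 = p2) (h2 : act 6 p2 = p3) (h3 : act 5 p3 = p4) (h4 : act 6 p4 = p5) (h5 : act 5 p5 = p6) (h6 : act 6 p6 = p7) : act 5 p7 = p0 := by
  have hr := R20 p0
  subst h0
  subst h1
  subst h2
  subst h3
  subst h4
  subst h5
  subst h6
  exact hr

theorem d21_0 {p0 q1 q2 q3 q4 q5 q6 q7 q8 : Q} (h1 : act 3 q1 = q2) (h2 : act 2 q2 = q3) (h3 : act 3 q3 = q4) (h4 : act 2 q4 = q5) (h5 : act 3 q5 = q6) (h6 : act 2 q6 = q7) (h7 : act 3 q7 = q8) (h8 : act 0 q8 = p0) : act 2 p0 = q1 := by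
  have hr := R21 p0
  subst h8
  subst h7
  subst h6
  subst h5
  subst h4
  subst h3
  subst h2
  subst h1
  exact ij (ij (ij (ij (ij (ij (ij (ij (hr))))))))

theorem d21_1 {p0 p1 q2 q3 q4 q5 q6 q7 q8 : Q} (h0 : act 2 p0 = p1) (h2 : act 2 q2 = q3) (h3 : act 3 q3 = q4) (h4 : act 2 q4 = q5) (h5 : act 3 q5 = q6) (h6 : act 2 q6 = q7) (h7 : act 3 q7 = q8) (h8 : act 0 q8 = p0) : act 3 p1 = q2 := by
  have hr := R21 p0
  subst h0
  subst h8
  subst h7
  subst h6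
  subst h5
  subst h4
  subst h3
  subst h2
  exact ij (ij (ij (ij (ij (ij (ij (hr)))))))

theorem d21_2 {p0 p1 p2 q3 q4 q5 q6 q7 q8 : Q} (h0 : act 2 p0 = p1) (h1 : act 3 p1 = p2) (h3 : act 3 q3 = q4) (h4 : act 2 q4 = q5) (h5 : act 3 q5 = q6) (h6 : act 2 q6 = q7) (h7 : act 3 q7 = q8) (h8 : act 0 q8 = p0) : act 2 p2 = q3 := by
  have hr := R21 p0
  subst h0
  subst h1
  subst h8
  subst h7
  subst h6
  subst h5
  subst h4
  subst h3
  exact ij (ij (ij (ij (ij (ij (hr))))))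

theorem d21_4 {p0 p1 p2 p3 p4 q5 q6 q7 q8 : Q} (h0 : act 2 p0 = p1) (h1 : act 3 p1 = p2) (h2 : act 2 p2 = p3) (h3 : act 3 p3 = p4) (h5 : act 3 q5 = q6) (h6 : act 2 q6 = q7) (h7 : act 3 q7 = q8) (h8 : act 0 q8 = p0) : act 2 p4 = q5 := by
  have hr := R21 p0
  subst h0
  subst h1
  subst h2
  subst h3
  subst h8
  subst h7
  subst h6
  subst h5
  exact ij (ij (ij (ij (hr))))

theorem d21_5 {p0 p1 p2 p3 p4 p5 q6 q7 q8 : Q} (h0 : act 2 p0 = p1) (h1 : act 3 p1 = p2) (h2 : act 2 p2 = p3) (h3 : act 3 p3 = p4) (h4 : act 2 p4 = p5) (h6 : act 2 q6 = q7) (h7 : act 3 q7 = q8) (h8 : act 0 q8 = p0) : act 3 p5 = q6 := by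
  have hr := R21 p0
  subst h0
  subst h1
  subst h2
  subst h3
  subst h4
  subst h8
  subst h7
  subst h6
  exact ij (ij (ij (hr)))

theorem d21_7 {p0 p1 p2 p3 p4 p5 p6 p7 q8 : Q} (h0 : act 2 p0 = p1) (h1 : act 3 p1 = p2) (h2 : act 2 p2 = p3) (h3 : act 3 p3 = p4) (h4 : act 2 p4 = p5) (h5 : act 3 p5 = p6) (h6 : act 2 p6 = p7) (h8 : act 0 q8 = p0) : act 3 p7 = q8 := by
  have hr := R21 p0
  subst h0
  subst h1
  subst h2
  subst h3
  subst h4
  subst h5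
  subst h6
  subst h8
  exact ij (hr)

theorem d21_8 {p0 p1 p2 p3 p4 p5 p6 p7 p8 : Q} (h0 : act 2 p0 = p1) (h1 : act 3 p1 = p2) (h2 : act 2 p2 = p3) (h3 : act 3 p3 = p4) (h4 : act 2 p4 = p5) (h5 : act 3 p5 = p6) (h6 : act 2 p6 = p7) (h7 : act 3 p7 = p8) : act 0 p8 = p0 := by
  have hr := R21 p0
  subst h0
  subst h1
  subst h2
  subst h3
  subst h4
  subst h5
  subst h6
  subst h7
  exact hr

theorem d22_0 {p0 q1 q2 q3 q4 : Q} (h1 : act 6 q1 = q2) (h2 : act 5 q2 = q3) (h3 : act 6 q3 = q4) (h4 : act 0 q4 = p0) : act 5 p0 = q1 := by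
  have hr := R22 p0
  subst h4
  subst h3
  subst h2
  subst h1
  exact ij (ij (ij (ij (hr))))

theorem d22_1 {p0 p1 q2 q3 q4 : Q} (h0 : act 5 p0 = p1) (h2 : act 5 q2 = q3) (h3 : act 6 q3 = q4) (h4 : act 0 q4 = p0) : act 6 p1 = q2 := by
  have hr := R22 p0
  subst h0
  subst h4
  subst h3
  subst h2
  exact ij (ij (ij (hr)))

theorem d22_2 {p0 p1 p2 q3 q4 : Q} (h0 : act 5 p0 = p1) (h1 : act 6 p1 = p2) (h3 : act 6 q3 = q4) (h4 : act 0 q4 = p0) : act 5 p2 = q3 := by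
  have hr := R22 p0
  subst h0
  subst h1
  subst h4
  subst h3
  exact ij (ij (hr))

theorem d22_3 {p0 p1 p2 p3 q4 : Q} (h0 : act 5 p0 = p1) (h1 : act 6 p1 = p2) (h2 : act 5 p2 = p3) (h4 : act 0 q4 = p0) : act 6 p3 = q4 := by
  have hr := R22 p0
  subst h0
  subst h1
  subst h2
  subst h4
  exact ij (hr)

theorem d22_4 {p0 p1 p2 p3 p4 : Q} (h0 : act 5 p0 = p1) (h1 : act 6 p1 = p2) (h2 : act 5 p2 = p3) (h3 : act 6 p3 = p4) : act 0 p4 = p0 := by
  have hr := R22 p0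
  subst h0
  subst h1
  subst h2
  subst h3
  exact hr

theorem d23_0 {p0 q1 q2 q3 q4 q5 q6 q7 q8 q9 q10 q11 q12 q13 q14 q15 q16 q17 q18 q19 : Q} (h1 : act 2 q1 = q2) (h2 : act 1 q2 = q3) (h3 : act 0 q3 = q4) (h4 : act 5 q4 = q5) (h5 : act 2 q5 = q6) (h6 : act 1 q6 = q7) (h7 : act 0 q7 = q8) (h8 : act 5 q8 = q9) (h9 : act 2 q9 = q10) (h10 : act 1 q10 = q11) (h11 : act 0 q11 = q12) (h12 : act 5 q12 = q13) (h13 : act 2 q13 = q14) (h14 : act 1 q14 = q15) (h15 : act 0 q15 = q16) (h16 : act 5 q16 = q17) (h17 : act 2 q17 = q18) (h18 : act 1 q18 = q19) (h19 : act 0 q19 = p0) : act 5 p0 = q1 := by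
  have hr := R23 p0
  subst h19
  subst h18
  subst h17
  subst h16
  subst h15
  subst h14
  subst h13
  subst h12
  subst h11
  subst h10
  subst h9
  subst h8
  subst h7
  subst h6
  subst h5
  subst h4
  subst h3
  subst h2
  subst h1
  exact ij (ij (ij (ij (ij (ij (ij (ij (ij (ij (ij (ij (ij (ij (ij (ij (ij (ij (ij (hr)))))))))))))))))))

theorem d23_1 {p0 p1 q2 q3 q4 q5 q6 q7 q8 q9 q10 q11 q12 q13 q14 q15 q16 q17 q18 q19 : Q} (h0 : act 5 p0 = p1) (h2 : act 1 q2 = q3) (h3 : act 0 q3 = q4) (h4 : act 5 q4 = q5) (h5 : act 2 q5 = q6) (h6 : act 1 q6 = q7) (h7 : act 0 q7 = q8) (h8 : act 5 q8 = q9) (h9 : act 2 q9 = q10) (h10 : act 1 q10 = q11) (h11 : act 0 q11 = q12) (h12 : act 5 q12 = q13) (h13 : act 2 q13 = q14) (h14 : act 1 q14 = q15) (h15 : act 0 q15 = q16) (h16 : act 5 q16 = q17) (h17 : act 2 q17 = q18) (h18 : act 1 q18 = q19) (h19 : act 0 q19 = p0) : act 2 p1 = q2 := by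
  have hr := R23 p0
  subst h0
  subst h19
  subst h18
  subst h17
  subst h16
  subst h15
  subst h14
  subst h13
  subst h12
  subst h11
  subst h10
  subst h9
  subst h8
  subst h7
  subst h6
  subst h5
  subst h4
  subst h3
  subst h2
  exact ij (ij (ij (ij (ij (ij (ij (ij (ij (ij (ij (ij (ij (ij (ij (ij (ij (ij (hr))))))))))))))))))

theorem d23_2 {p0 p1 p2 q3 q4 q5 q6 q7 q8 q9 q10 q11 q12 q13 q14 q15 q16 q17 q18 q19 : Q} (h0 : act 5 p0 = p1) (h1 : act 2 p1 = p2) (h3 : act 0 q3 = q4) (h4 : act 5 q4 = q5) (h5 : act 2 q5 = q6) (h6 : act 1 q6 = q7) (h7 : act 0 q7 = q8) (h8 : act 5 q8 = q9) (h9 : act 2 q9 = q10) (h10 : act 1 q10 = q11) (h11 : act 0 q11 = q12) (h12 : act 5 q12 = q13) (h13 : act 2 q13 = q14) (h14 : act 1 q14 = q15) (h15 : act 0 q15 = q16) (h16 : act 5 q16 = q17) (h17 : act 2 q17 = q18) (h18 : act 1 q18 = q19) (h19 : act 0 q19 = p0) : act 1 p2 = q3 := by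
  have hr := R23 p0
  subst h0
  subst h1
  subst h19
  subst h18
  subst h17
  subst h16
  subst h15
  subst h14
  subst h13
  subst h12
  subst h11
  subst h10
  subst h9
  subst h8
  subst h7
  subst h6
  subst h5
  subst h4
  subst h3
  exact ij (ij (ij (ij (ij (ij (ij (ij (ij (ij (ij (ij (ij (ij (ij (ij (ij (hr)))))))))))))))))

theorem d23_3 {p0 p1 p2 p3 q4 q5 q6 q7 q8 q9 q10 q11 q12 q13 q14 q15 q16 q17 q18 q19 : Q} (h0 : act 5 p0 = p1) (h1 : act 2 p1 = p2) (h2 : act 1 p2 = p3) (h4 : act 5 q4 = q5) (h5 : act 2 q5 = q6) (h6 : act 1 q6 = q7) (h7 : act 0 q7 = q8) (h8 : act 5 q8 = q9) (h9 : act 2 q9 = q10) (h10 : act 1 q10 = q11) (h11 : act 0 q11 = q12) (h12 : act 5 q12 = q13) (h13 : act 2 q13 = q14) (h14 : act 1 q14 = q15) (h15 : act 0 q15 = q16) (h16 : act 5 q16 = q17) (h17 : act 2 q17 = q18) (h18 : act 1 q18 = q19) (h19 : act 0 q19 = p0) : act 0 p3 = q4 := by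
  have hr := R23 p0
  subst h0
  subst h1
  subst h2
  subst h19
  subst h18
  subst h17
  subst h16
  subst h15
  subst h14
  subst h13
  subst h12
  subst h11
  subst h10
  subst h9
  subst h8
  subst h7
  subst h6
  subst h5
  subst h4
  exact ij (ij (ij (ij (ij (ij (ij (ij (ij (ij (ij (ij (ij (ij (ij (ij (hr))))))))))))))))

theorem d23_4 {p0 p1 p2 p3 p4 q5 q6 q7 q8 q9 q10 q11 q12 q13 q14 q15 q16 q17 q18 q19 : Q} (h0 : act 5 p0 = p1) (h1 : act 2 p1 = p2) (h2 : act 1 p2 = p3) (h3 : act 0 p3 = p4) (h5 : act 2 q5 = q6) (h6 : act 1 q6 = q7) (h7 : act 0 q7 = q8) (h8 : act 5 q8 = q9) (h9 : act 2 q9 = q10) (h10 : act 1 q10 = q11) (h11 : act 0 q11 = q12) (h12 : act 5 q12 = q13) (h13 : act 2 q13 = q14) (h14 : act 1 q14 = q15) (h15 : act 0 q15 = q16) (h16 : act 5 q16 = q17) (h17 : act 2 q17 = q18) (h18 : act 1 q18 = q19) (h19 : act 0 q19 = p0) : act 5 p4 = q5 := by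
  have hr := R23 p0
  subst h0
  subst h1
  subst h2
  subst h3
  subst h19
  subst h18
  subst h17
  subst h16
  subst h15
  subst h14
  subst h13
  subst h12
  subst h11
  subst h10
  subst h9
  subst h8
  subst h7
  subst h6
  subst h5
  exact ij (ij (ij (ij (ij (ij (ij (ij (ij (ij (ij (ij (ij (ij (ij (hr)))))))))))))))

theorem d23_5 {p0 p1 p2 p3 p4 p5 q6 q7 q8 q9 q10 q11 q12 q13 q14 q15 q16 q17 q18 q19 : Q} (h0 : act 5 p0 = p1) (h1 : act 2 p1 = p2) (h2 : act 1 p2 = p3) (h3 : act 0 p3 = p4) (h4 : act 5 p4 = p5) (h6 : act 1 q6 = q7) (h7 : act 0 q7 = q8) (h8 : act 5 q8 = q9) (h9 : act 2 q9 = q10) (h10 : act 1 q10 = q11) (h11 : act 0 q11 = q12) (h12 : act 5 q12 = q13) (h13 : act 2 q13 = q14) (h14 : act 1 q14 = q15) (h15 : act 0 q15 = q16) (h16 : act 5 q16 = q17) (h17 : act 2 q17 = q18) (h18 : act 1 q18 = q19) (h19 : act 0 q19 = p0) : act 2 p5 = q6 := by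
  have hr := R23 p0
  subst h0
  subst h1
  subst h2
  subst h3
  subst h4
  subst h19
  subst h18
  subst h17
  subst h16
  subst h15
  subst h14
  subst h13
  subst h12
  subst h11
  subst h10
  subst h9
  subst h8
  subst h7
  subst h6
  exact ij (ij (ij (ij (ij (ij (ij (ij (ij (ij (ij (ij (ij (ij (hr))))))))))))))

theorem d23_10 {p0 p1 p2 p3 p4 p5 p6 p7 p8 p9 p10 q11 q12 q13 q14 q15 q16 q17 q18 q19 : Q} (h0 : act 5 p0 = p1) (h1 : act 2 p1 = p2) (h2 : act 1 p2 = p3) (h3 : act 0 p3 = p4) (h4 : act 5 p4 = p5) (h5 : act 2 p5 = p6) (h6 : act 1 p6 = p7) (h7 : act 0 p7 = p8) (h8 : act 5 p8 = p9) (h9 : act 2 p9 = p10) (h11 : act 0 q11 = q12) (h12 : act 5 q12 = q13) (h13 : act 2 q13 = q14) (h14 : act 1 q14 = q15) (h15 : act 0 q15 = q16) (h16 : act 5 q16 = q17) (h17 : act 2 q17 = q18) (h18 : act 1 q18 = q19) (h19 : act 0 q19 = p0) : act 1 p10 = q11 := by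
  have hr := R23 p0
  subst h0
  subst h1
  subst h2
  subst h3
  subst h4
  subst h5
  subst h6
  subst h7
  subst h8
  subst h9
  subst h19
  subst h18
  subst h17
  subst h16
  subst h15
  subst h14
  subst h13
  subst h12
  subst h11
  exact ij (ij (ij (ij (ij (ij (ij (ij (ij (hr)))))))))

theorem d23_12 {p0 p1 p2 p3 p4 p5 p6 p7 p8 p9 p10 p11 p12 q13 q14 q15 q16 q17 q18 q19 : Q} (h0 : act 5 p0 = p1) (h1 : act 2 p1 = p2) (h2 : act 1 p2 = p3) (h3 : act 0 p3 = p4) (h4 : act 5 p4 = p5) (h5 : act 2 p5 = p6) (h6 : act 1 p6 = p7) (h7 : act 0 p7 = p8) (h8 : act 5 p8 = p9) (h9 : act 2 p9 = p10) (h10 : act 1 p10 = p11) (h11 : act 0 p11 = p12) (h13 : act 2 q13 = q14) (h14 : act 1 q14 = q15) (h15 : act 0 q15 = q16) (h16 : act 5 q16 = q17) (h17 : act 2 q17 = q18) (h18 : act 1 q18 = q19) (h19 : act 0 q19 = p0) : act 5 p12 = q13 := by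
  have hr := R23 p0
  subst h0
  subst h1
  subst h2
  subst h3
  subst h4
  subst h5
  subst h6
  subst h7
  subst h8
  subst h9
  subst h10
  subst h11
  subst h19
  subst h18
  subst h17
  subst h16
  subst h15
  subst h14
  subst h13
  exact ij (ij (ij (ij (ij (ij (ij (hr)))))))

theorem d23_15 {p0 p1 p2 p3 p4 p5 p6 p7 p8 p9 p10 p11 p12 p13 p14 p15 q16 q17 q18 q19 : Q} (h0 : act 5 p0 = p1) (h1 : act 2 p1 = p2) (h2 : act 1 p2 = p3) (h3 : act 0 p3 = p4) (h4 : act 5 p4 = p5) (h5 : act 2 p5 = p6) (h6 : act 1 p6 = p7) (h7 : act 0 p7 = p8) (h8 : act 5 p8 = p9) (h9 : act 2 p9 = p10) (h10 : act 1 p10 = p11) (h11 : act 0 p11 = p12) (h12 : act 5 p12 = p13) (h13 : act 2 p13 = p14) (h14 : act 1 p14 = p15) (h16 : act 5 q16 = q17) (h17 : act 2 q17 = q18) (h18 : act 1 q18 = q19) (h19 : act 0 q19 = p0) : act 0 p15 = q16 := by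
  have hr := R23 p0
  subst h0
  subst h1
  subst h2
  subst h3
  subst h4
  subst h5
  subst h6
  subst h7
  subst h8
  subst h9
  subst h10
  subst h11
  subst h12
  subst h13
  subst h14
  subst h19
  subst h18
  subst h17
  subst h16
  exact ij (ij (ij (ij (hr))))

theorem d23_19 {p0 p1 p2 p3 p4 p5 p6 p7 p8 p9 p10 p11 p12 p13 p14 p15 p16 p17 p18 p19 : Q} (h0 : act 5 p0 = p1) (h1 : act 2 p1 = p2) (h2 : act 1 p2 = p3) (h3 : act 0 p3 = p4) (h4 : act 5 p4 = p5) (h5 : act 2 p5 = p6) (h6 : act 1 p6 = p7) (h7 : act 0 p7 = p8) (h8 : act 5 p8 = p9) (h9 : act 2 p9 = p10) (h10 : act 1 p10 = p11) (h11 : act 0 p11 = p12) (h12 : act 5 p12 = p13) (h13 : act 2 p13 = p14) (h14 : act 1 p14 = p15) (h15 : act 0 p15 = p16) (h16 : act 5 p16 = p17) (h17 : act 2 p17 = p18) (h18 : act 1 p18 = p19) : act 0 p19 = p0 := by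
  have hr := R23 p0
  subst h0
  subst h1
  subst h2
  subst h3
  subst h4
  subst h5
  subst h6
  subst h7
  subst h8
  subst h9
  subst h10
  subst h11
  subst h12
  subst h13
  subst h14
  subst h15
  subst h16
  subst h17
  subst h18
  exact hr

theorem d24_0 {p0 q1 q2 q3 q4 q5 q6 q7 q8 q9 q10 q11 q12 q13 q14 : Q} (h1 : act 5 q1 = q2) (h2 : act 1 q2 = q3) (h3 : act 6 q3 = q4) (h4 : act 5 q4 = q5) (h5 : act 1 q5 = q6) (h6 : act 6 q6 = q7) (h7 : act 5 q7 = q8) (h8 : act 1 q8 = q9) (h9 : act 6 q9 = q10) (h10 : act 5 q10 = q11) (h11 : act 1 q11 = q12) (h12 : act 6 q12 = q13) (h13 : act 5 q13 = q14) (h14 : act 1 q14 = p0) : act 6 p0 = q1 := by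
  have hr := R24 p0
  subst h14
  subst h13
  subst h12
  subst h11
  subst h10
  subst h9
  subst h8
  subst h7
  subst h6
  subst h5
  subst h4
  subst h3
  subst h2
  subst h1
  exact ij (ij (ij (ij (ij (ij (ij (ij (ij (ij (ij (ij (ij (ij (hr))))))))))))))

theorem d24_1 {p0 p1 q2 q3 q4 q5 q6 q7 q8 q9 q10 q11 q12 q13 q14 : Q} (h0 : act 6 p0 = p1) (h2 : act 1 q2 = q3) (h3 : act 6 q3 = q4) (h4 : act 5 q4 = q5) (h5 : act 1 q5 = q6) (h6 : act 6 q6 = q7) (h7 : act 5 q7 = q8) (h8 : act 1 q8 = q9) (h9 : act 6 q9 = q10) (h10 : act 5 q10 = q11) (h11 : act 1 q11 = q12) (h12 : act 6 q12 = q13) (h13 : act 5 q13 = q14) (h14 : act 1 q14 = p0) : act 5 p1 = q2 := by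
  have hr := R24 p0
  subst h0
  subst h14
  subst h13
  subst h12
  subst h11
  subst h10
  subst h9
  subst h8
  subst h7
  subst h6
  subst h5
  subst h4
  subst h3
  subst h2
  exact ij (ij (ij (ij (ij (ij (ij (ij (ij (ij (ij (ij (ij (hr)))))))))))))

theorem d24_2 {p0 p1 p2 q3 q4 q5 q6 q7 q8 q9 q10 q11 q12 q13 q14 : Q} (h0 : act 6 p0 = p1) (h1 : act 5 p1 = p2) (h3 : act 6 q3 = q4) (h4 : act 5 q4 = q5) (h5 : act 1 q5 = q6) (h6 : act 6 q6 = q7) (h7 : act 5 q7 = q8) (h8 : act 1 q8 = q9) (h9 : act 6 q9 = q10) (h10 : act 5 q10 = q11) (h11 : act 1 q11 = q12) (h12 : act 6 q12 = q13) (h13 : act 5 q13 = q14) (h14 : act 1 q14 = p0) : act 1 p2 = q3 := by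
  have hr := R24 p0
  subst h0
  subst h1
  subst h14
  subst h13
  subst h12
  subst h11
  subst h10
  subst h9
  subst h8
  subst h7
  subst h6
  subst h5
  subst h4
  subst h3
  exact ij (ij (ij (ij (ij (ij (ij (ij (ij (ij (ij (ij (hr))))))))))))

theorem d24_3 {p0 p1 p2 p3 q4 q5 q6 q7 q8 q9 q10 q11 q12 q13 q14 : Q} (h0 : act 6 p0 = p1) (h1 : act 5 p1 = p2) (h2 : act 1 p2 = p3) (h4 : act 5 q4 = q5) (h5 : act 1 q5 = q6) (h6 : act 6 q6 = q7) (h7 : act 5 q7 = q8) (h8 : act 1 q8 = q9) (h9 : act 6 q9 = q10) (h10 : act 5 q10 = q11) (h11 : act 1 q11 = q12) (h12 : act 6 q12 = q13) (h13 : act 5 q13 = q14) (h14 : act 1 q14 = p0) : act 6 p3 = q4 := by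
  have hr := R24 p0
  subst h0
  subst h1
  subst h2
  subst h14
  subst h13
  subst h12
  subst h11
  subst h10
  subst h9
  subst h8
  subst h7
  subst h6
  subst h5
  subst h4
  exact ij (ij (ij (ij (ij (ij (ij (ij (ij (ij (ij (hr)))))))))))

theorem d24_4 {p0 p1 p2 p3 p4 q5 q6 q7 q8 q9 q10 q11 q12 q13 q14 : Q} (h0 : act 6 p0 = p1) (h1 : act 5 p1 = p2) (h2 : act 1 p2 = p3) (h3 : act 6 p3 = p4) (h5 : act 1 q5 = q6) (h6 : act 6 q6 = q7) (h7 : act 5 q7 = q8) (h8 : act 1 q8 = q9) (h9 : act 6 q9 = q10) (h10 : act 5 q10 = q11) (h11 : act 1 q11 = q12) (h12 : act 6 q12 = q13) (h13 : act 5 q13 = q14) (h14 : act 1 q14 = p0) : act 5 p4 = q5 := by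
  have hr := R24 p0
  subst h0
  subst h1
  subst h2
  subst h3
  subst h14
  subst h13
  subst h12
  subst h11
  subst h10
  subst h9
  subst h8
  subst h7
  subst h6
  subst h5
  exact ij (ij (ij (ij (ij (ij (ij (ij (ij (ij (hr))))))))))

theorem d24_5 {p0 p1 p2 p3 p4 p5 q6 q7 q8 q9 q10 q11 q12 q13 q14 : Q} (h0 : act 6 p0 = p1) (h1 : act 5 p1 = p2) (h2 : act 1 p2 = p3) (h3 : act 6 p3 = p4) (h4 : act 5 p4 = p5) (h6 : act 6 q6 = q7) (h7 : act 5 q7 = q8) (h8 : act 1 q8 = q9) (h9 : act 6 q9 = q10) (h10 : act 5 q10 = q11) (h11 : act 1 q11 = q12) (h12 : act 6 q12 = q13) (h13 : act 5 q13 = q14) (h14 : act 1 q14 = p0) : act 1 p5 = q6 := by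
  have hr := R24 p0
  subst h0
  subst h1
  subst h2
  subst h3
  subst h4
  subst h14
  subst h13
  subst h12
  subst h11
  subst h10
  subst h9
  subst h8
  subst h7
  subst h6
  exact ij (ij (ij (ij (ij (ij (ij (ij (ij (hr)))))))))

theorem d24_6 {p0 p1 p2 p3 p4 p5 p6 q7 q8 q9 q10 q11 q12 q13 q14 : Q} (h0 : act 6 p0 = p1) (h1 : act 5 p1 = p2) (h2 : act 1 p2 = p3) (h3 : act 6 p3 = p4) (h4 : act 5 p4 = p5) (h5 : act 1 p5 = p6) (h7 : act 5 q7 = q8) (h8 : act 1 q8 = q9) (h9 : act 6 q9 = q10) (h10 : act 5 q10 = q11) (h11 : act 1 q11 = q12) (h12 : act 6 q12 = q13) (h13 : act 5 q13 = q14) (h14 : act 1 q14 = p0) : act 6 p6 = q7 := by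
  have hr := R24 p0
  subst h0
  subst h1
  subst h2
  subst h3
  subst h4
  subst h5
  subst h14
  subst h13
  subst h12
  subst h11
  subst h10
  subst h9
  subst h8
  subst h7
  exact ij (ij (ij (ij (ij (ij (ij (ij (hr))))))))

theorem d24_7 {p0 p1 p2 p3 p4 p5 p6 p7 q8 q9 q10 q11 q12 q13 q14 : Q} (h0 : act 6 p0 = p1) (h1 : act 5 p1 = p2) (h2 : act 1 p2 = p3) (h3 : act 6 p3 = p4) (h4 : act 5 p4 = p5) (h5 : act 1 p5 = p6) (h6 : act 6 p6 = p7) (h8 : act 1 q8 = q9) (h9 : act 6 q9 = q10) (h10 : act 5 q10 = q11) (h11 : act 1 q11 = q12) (h12 : act 6 q12 = q13) (h13 : act 5 q13 = q14) (h14 : act 1 q14 = p0) : act 5 p7 = q8 := by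
  have hr := R24 p0
  subst h0
  subst h1
  subst h2
  subst h3
  subst h4
  subst h5
  subst h6
  subst h14
  subst h13
  subst h12
  subst h11
  subst h10
  subst h9
  subst h8
  exact ij (ij (ij (ij (ij (ij (ij (hr)))))))

theorem d24_8 {p0 p1 p2 p3 p4 p5 p6 p7 p8 q9 q10 q11 q12 q13 q14 : Q} (h0 : act 6 p0 = p1) (h1 : act 5 p1 = p2) (h2 : act 1 p2 = p3) (h3 : act 6 p3 = p4) (h4 : act 5 p4 = p5) (h5 : act 1 p5 = p6) (h6 : act 6 p6 = p7) (h7 : act 5 p7 = p8) (h9 : act 6 q9 = q10) (h10 : act 5 q10 = q11) (h11 : act 1 q11 = q12) (h12 : act 6 q12 = q13) (h13 : act 5 q13 = q14) (h14 : act 1 q14 = p0) : act 1 p8 = q9 := by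
  have hr := R24 p0
  subst h0
  subst h1
  subst h2
  subst h3
  subst h4
  subst h5
  subst h6
  subst h7
  subst h14
  subst h13
  subst h12
  subst h11
  subst h10
  subst h9
  exact ij (ij (ij (ij (ij (ij (hr))))))

theorem d24_9 {p0 p1 p2 p3 p4 p5 p6 p7 p8 p9 q10 q11 q12 q13 q14 : Q} (h0 : act 6 p0 = p1) (h1 : act 5 p1 = p2) (h2 : act 1 p2 = p3) (h3 : act 6 p3 = p4) (h4 : act 5 p4 = p5) (h5 : act 1 p5 = p6) (h6 : act 6 p6 = p7) (h7 : act 5 p7 = p8) (h8 : act 1 p8 = p9) (h10 : act 5 q10 = q11) (h11 : act 1 q11 = q12) (h12 : act 6 q12 = q13) (h13 : act 5 q13 = q14) (h14 : act 1 q14 = p0) : act 6 p9 = q10 := by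
  have hr := R24 p0
  subst h0
  subst h1
  subst h2
  subst h3
  subst h4
  subst h5
  subst h6
  subst h7
  subst h8
  subst h14
  subst h13
  subst h12
  subst h11
  subst h10
  exact ij (ij (ij (ij (ij (hr)))))

theorem d24_12 {p0 p1 p2 p3 p4 p5 p6 p7 p8 p9 p10 p11 p12 q13 q14 : Q} (h0 : act 6 p0 = p1) (h1 : act 5 p1 = p2) (h2 : act 1 p2 = p3) (h3 : act 6 p3 = p4) (h4 : act 5 p4 = p5) (h5 : act 1 p5 = p6) (h6 : act 6 p6 = p7) (h7 : act 5 p7 = p8) (h8 : act 1 p8 = p9) (h9 : act 6 p9 = p10) (h10 : act 5 p10 = p11) (h11 : act 1 p11 = p12) (h13 : act 5 q13 = q14) (h14 : act 1 q14 = p0) : act 6 p12 = q13 := by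
  have hr := R24 p0
  subst h0
  subst h1
  subst h2
  subst h3
  subst h4
  subst h5
  subst h6
  subst h7
  subst h8
  subst h9
  subst h10
  subst h11
  subst h14
  subst h13
  exact ij (ij (hr))

theorem d24_13 {p0 p1 p2 p3 p4 p5 p6 p7 p8 p9 p10 p11 p12 p13 q14 : Q} (h0 : act 6 p0 = p1) (h1 : act 5 p1 = p2) (h2 : act 1 p2 = p3) (h3 : act 6 p3 = p4) (h4 : act 5 p4 = p5) (h5 : act 1 p5 = p6) (h6 : act 6 p6 = p7) (h7 : act 5 p7 = p8) (h8 : act 1 p8 = p9) (h9 : act 6 p9 = p10) (h10 : act 5 p10 = p11) (h11 : act 1 p11 = p12) (h12 : act 6 p12 = p13) (h14 : act 1 q14 = p0) : act 5 p13 = q14 := by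
  have hr := R24 p0
  subst h0
  subst h1
  subst h2
  subst h3
  subst h4
  subst h5
  subst h6
  subst h7
  subst h8
  subst h9
  subst h10
  subst h11
  subst h12
  subst h14
  exact ij (hr)

theorem d24_14 {p0 p1 p2 p3 p4 p5 p6 p7 p8 p9 p10 p11 p12 p13 p14 : Q} (h0 : act 6 p0 = p1) (h1 : act 5 p1 = p2) (h2 : act 1 p2 = p3) (h3 : act 6 p3 = p4) (h4 : act 5 p4 = p5) (h5 : act 1 p5 = p6) (h6 : act 6 p6 = p7) (h7 : act 5 p7 = p8) (h8 : act 1 p8 = p9) (h9 : act 6 p9 = p10) (h10 : act 5 p10 = p11) (h11 : act 1 p11 = p12) (h12 : act 6 p12 = p13) (h13 : act 5 p13 = p14) : act 1 p14 = p0 := by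
  have hr := R24 p0
  subst h0
  subst h1
  subst h2
  subst h3
  subst h4
  subst h5
  subst h6
  subst h7
  subst h8
  subst h9
  subst h10
  subst h11
  subst h12
  subst h13
  exact hr

theorem d25_0 {p0 q1 q2 q3 q4 q5 q6 q7 q8 q9 q10 q11 q12 q13 q14 q15 q16 q17 q18 q19 q20 q21 q22 q23 q24 q25 q26 q27 q28 q29 q30 q31 q32 q33 q34 q35 q36 q37 q38 q39 q40 q41 q42 q43 q44 q45 q46 q47 q48 q49 q50 q51 q52 q53 q54 q55 q56 q57 q58 q59 q60 q61 q62 q63 q64 q65 q66 q67 q68 q69 q70 q71 q72 q73 q74 q75 q76 q77 : Q} (h1 : act 3 q1 = q2) (h2 : act 2 q2 = q3) (h3 : act 3 q3 = q4) (h4 : act 2 q4 = q5) (h5 : act 1 q5 = q6) (h6 : act 3 q6 = q7) (h7 : act 2 q7 = q8) (h8 : act 3 q8 = q9) (h9 : act 2 q9 = q10) (h10 : act 1 q10 = q11) (h11 : act 3 q11 = q12) (h12 : act 2 q12 = q13) (h13 : act 3 q13 = q14) (h14 : act 2 q14 = q15) (h15 : act 1 q15 = q16) (h16 : act 3 q16 = q17) (h17 : act 2 q17 = q18) (h18 : act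 3 q18 = q19) (h19 : act 2 q19 = q20) (h20 : act 1 q20 = q21) (h21 : act 3 q21 = q22) (h22 : act 2 q22 = q23) (h23 : act 3 q23 = q24) (h24 : act 2 q24 = q25) (h25 : act 1 q25 = q26) (h26 : act 4 q26 = q27) (h27 : act 3 q27 = q28) (h28 : act 2 q28 = q29) (h29 : act 3 q29 = q30) (h30 : act 2 q30 = q31) (h31 : act 1 q31 = q32) (h32 : act 3 q32 = q33) (h33 : act 2 q33 = q34) (h34 : act 3 q34 = q35) (h35 : act 2 q35 = q36) (h36 : act 1 q36 = q37) (h37 : act 3 q37 = q38) (h38 : act 2 q38 = q39) (h39 : act 3 q39 = q40) (h40 : act 2 q40 = q41) (h41 : act 1 q41 = q42) (h42 : act 3 q42 = q43) (h43 : act 2 q43 = q44) (h44 : act 3 q44 = q45) (h45 : act 2 q45 = q46) (h46 : act 1 q46 = q47) (h47 : act 3 q47 = q48) (h48 : act 2 q48 = q49) (h49 : act 3 q49 = q50) (h50 : act 2 q50 = q51) (h51 : act 1 q51 = q52) (h52 : act 4 q52 = q53) (h53 : act 3 q53 = q54) (h54 : act 2 q54 = q55) (h55 : act 3 q55 = q56) (h56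 : act 2 q56 = q57) (h57 : act 1 q57 = q58) (h58 : act 3 q58 = q59) (h59 : act 2 q59 = q60) (h60 : act 3 q60 = q61) (h61 : act 2 q61 = q62) (h62 : act 1 q62 = q63) (h63 : act 3 q63 = q64) (h64 : act 2 q64 = q65) (h65 : act 3 q65 = q66) (h66 : act 2 q66 = q67) (h67 : act 1 q67 = q68) (h68 : act 3 q68 = q69) (h69 : act 2 q69 = q70) (h70 : act 3 q70 = q71) (h71 : act 2 q71 = q72) (h72 : act 1 q72 = q73) (h73 : act 3 q73 = q74) (h74 : act 2 q74 = q75) (h75 : act 3 q75 = q76) (h76 : act 2 q76 = q77) (h77 : act 1 q77 = p0) : act 4 p0 = q1 := by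
  have hr := R25 p0
  subst h77
  subst h76
  subst h75
  subst h74
  subst h73
  subst h72
  subst h71
  subst h70
  subst h69
  subst h68
  subst h67
  subst h66
  subst h65
  subst h64
  subst h63
  subst h62
  subst h61
  subst h60
  subst h59
  subst h58
  subst h57
  subst h56
  subst h55
  subst h54
  subst h53
  subst h52
  subst h51
  subst h50
  subst h49
  subst h48
  subst h47
  subst h46
  subst h45
  subst h44
  subst h43
  subst h42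
  subst h41
  subst h40
  subst h39
  subst h38
  subst h37
  subst h36
  subst h35
  subst h34
  subst h33
  subst h32
  subst h31
  subst h30
  subst h29
  subst h28
  subst h27
  subst h26
  subst h25
  subst h24
  subst h23
  subst h22
  subst h21
  subst h20
  subst h19
  subst h18
  subst h17
  subst h16
  subst h15
  subst h14
  subst h13
  subst h12
  subst h11
  subst h10
  subst h9
  subst h8
  subst h7
  subst h6
  subst h5
  subst h4
  subst h3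
  subst h2
  subst h1
  exact ij (ij (ij (ij (ij (ij (ij (ij (ij (ij (ij (ij (ij (ij (ij (ij (ij (ij (ij (ij (ij (ij (ij (ij (ij (ij (ij (ij (ij (ij (ij (ij (ij (ij (ij (ij (ij (ij (ij (ij (ij (ij (ij (ij (ij (ij (ij (ij (ij (ij (ij (ij (ij (ij (ij (ij (ij (ij (ij (ij (ij (ij (ij (ij (ij (ij (ij (ij (ij (ij (ij (ij (ij (ij (ij (ij (ij (hr)))))))))))))))))))))))))))))))))))))))))))))))))))))))))))))))))))))))))))))

theorem d25_1 {p0 p1 q2 q3 q4 q5 q6 q7 q8 q9 q10 q11 q12 q13 q14 q15 q16 q17 q18 q19 q20 q21 q22 q23 q24 q25 q26 q27 q28 q29 q30 q31 q32 q33 q34 q35 q36 q37 q38 q39 q40 q41 q42 q43 q44 q45 q46 q47 q48 q49 q50 q51 q52 q53 q54 q55 q56 q57 q58 q59 q60 q61 q62 q63 q64 q65 q66 q67 q68 q69 q70 q71 q72 q73 q74 q75 q76 q77 : Q} (h0 : act 4 p0 = p1) (h2 : act 2 q2 = q3) (h3 : act 3 q3 = q4) (h4 : act 2 q4 = q5) (h5 : act 1 q5 = q6) (h6 : act 3 q6 = q7) (h7 : act 2 q7 = q8) (h8 : act 3 q8 =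 q9) (h9 : act 2 q9 = q10) (h10 : act 1 q10 = q11) (h11 : act 3 q11 = q12) (h12 : act 2 q12 = q13) (h13 : act 3 q13 = q14) (h14 : act 2 q14 = q15) (h15 : act 1 q15 = q16) (h16 : act 3 q16 = q17) (h17 : act 2 q17 = q18) (h18 : act 3 q18 = q19) (h19 : act 2 q19 = q20) (h20 : act 1 q20 = q21) (h21 : act 3 q21 = q22) (h22 : act 2 q22 = q23) (h23 : act 3 q23 = q24) (h24 : act 2 q24 = q25) (h25 : act 1 q25 = q26) (h26 : act 4 q26 = q27) (h27 : act 3 q27 = q28) (h28 : act 2 q28 = q29) (h29 : act 3 q29 = q30) (h30 : act 2 q30 = q31) (h31 : act 1 q31 = q32) (h32 : act 3 q32 = q33) (h33 : act 2 q33 = q34) (h34 : act 3 q34 = q35) (h35 : act 2 q35 = q36) (h36 : act 1 q36 = q37) (h37 : act 3 q37 = q38) (h38 : act 2 q38 = q39) (h39 : act 3 q39 = q40) (h40 : act 2 q40 = q41) (h41 : act 1 q41 = q42) (h42 : act 3 q42 = q43) (h43 : act 2 q43 = q44) (h44 : act 3 q44 = q45) (h45 : act 2 q45 = q46) (h46 : act 1 q46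 = q47) (h47 : act 3 q47 = q48) (h48 : act 2 q48 = q49) (h49 : act 3 q49 = q50) (h50 : act 2 q50 = q51) (h51 : act 1 q51 = q52) (h52 : act 4 q52 = q53) (h53 : act 3 q53 = q54) (h54 : act 2 q54 = q55) (h55 : act 3 q55 = q56) (h56 : act 2 q56 = q57) (h57 : act 1 q57 = q58) (h58 : act 3 q58 = q59) (h59 : act 2 q59 = q60) (h60 : act 3 q60 = q61) (h61 : act 2 q61 = q62) (h62 : act 1 q62 = q63) (h63 : act 3 q63 = q64) (h64 : act 2 q64 = q65) (h65 : act 3 q65 = q66) (h66 : act 2 q66 = q67) (h67 : act 1 q67 = q68) (h68 : act 3 q68 = q69) (h69 : act 2 q69 = q70) (h70 : act 3 q70 = q71) (h71 : act 2 q71 = q72) (h72 : act 1 q72 = q73) (h73 : act 3 q73 = q74) (h74 : act 2 q74 = q75) (h75 : act 3 q75 = q76) (h76 : act 2 q76 = q77) (h77 : act 1 q77 = p0) : act 3 p1 = q2 := by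
  have hr := R25 p0
  subst h0
  subst h77
  subst h76
  subst h75
  subst h74
  subst h73
  subst h72
  subst h71
  subst h70
  subst h69
  subst h68
  subst h67
  subst h66
  subst h65
  subst h64
  subst h63
  subst h62
  subst h61
  subst h60
  subst h59
  subst h58
  subst h57
  subst h56
  subst h55
  subst h54
  subst h53
  subst h52
  subst h51
  subst h50
  subst h49
  subst h48
  subst h47
  subst h46
  subst h45
  subst h44
  subst h43
  subst h42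
  subst h41
  subst h40
  subst h39
  subst h38
  subst h37
  subst h36
  subst h35
  subst h34
  subst h33
  subst h32
  subst h31
  subst h30
  subst h29
  subst h28
  subst h27
  subst h26
  subst h25
  subst h24
  subst h23
  subst h22
  subst h21
  subst h20
  subst h19
  subst h18
  subst h17
  subst h16
  subst h15
  subst h14
  subst h13
  subst h12
  subst h11
  subst h10
  subst h9
  subst h8
  subst h7
  subst h6
  subst h5
  subst h4
  subst h3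
  subst h2
  exact ij (ij (ij (ij (ij (ij (ij (ij (ij (ij (ij (ij (ij (ij (ij (ij (ij (ij (ij (ij (ij (ij (ij (ij (ij (ij (ij (ij (ij (ij (ij (ij (ij (ij (ij (ij (ij (ij (ij (ij (ij (ij (ij (ij (ij (ij (ij (ij (ij (ij (ij (ij (ij (ij (ij (ij (ij (ij (ij (ij (ij (ij (ij (ij (ij (ij (ij (ij (ij (ij (ij (ij (ij (ij (ij (ij (hr))))))))))))))))))))))))))))))))))))))))))))))))))))))))))))))))))))))))))))

theorem d25_4 {p0 p1 p2 p3 p4 q5 q6 q7 q8 q9 q10 q11 q12 q13 q14 q15 q16 q17 q18 q19 q20 q21 q22 q23 q24 q25 q26 q27 q28 q29 q30 q31 q32 q33 q34 q35 q36 q37 q38 q39 q40 q41 q42 q43 q44 q45 q46 q47 q48 q49 q50 q51 q52 q53 q54 q55 q56 q57 q58 q59 q60 q61 q62 q63 q64 q65 q66 q67 q68 q69 q70 q71 q72 q73 q74 q75 q76 q77 : Q} (h0 : act 4 p0 = p1) (h1 : act 3 p1 = p2) (h2 : act 2 p2 = p3) (h3 : act 3 p3 = p4) (h5 : act 1 q5 = q6) (h6 : act 3 q6 = q7) (h7 : act 2 q7 = q8) (h8 : act 3 q8 = q9) (h9 : act 2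 q9 = q10) (h10 : act 1 q10 = q11) (h11 : act 3 q11 = q12) (h12 : act 2 q12 = q13) (h13 : act 3 q13 = q14) (h14 : act 2 q14 = q15) (h15 : act 1 q15 = q16) (h16 : act 3 q16 = q17) (h17 : act 2 q17 = q18) (h18 : act 3 q18 = q19) (h19 : act 2 q19 = q20) (h20 : act 1 q20 = q21) (h21 : act 3 q21 = q22) (h22 : act 2 q22 = q23) (h23 : act 3 q23 = q24) (h24 : act 2 q24 = q25) (h25 : act 1 q25 = q26) (h26 : act 4 q26 = q27) (h27 : act 3 q27 = q28) (h28 : act 2 q28 = q29) (h29 : act 3 q29 = q30) (h30 : act 2 q30 = q31) (h31 : act 1 q31 = q32) (h32 : act 3 q32 = q33) (h33 : act 2 q33 = q34) (h34 : act 3 q34 = q35) (h35 : act 2 q35 = q36) (h36 : act 1 q36 = q37) (h37 : act 3 q37 = q38) (h38 : act 2 q38 = q39) (h39 : act 3 q39 = q40) (h40 : act 2 q40 = q41) (h41 : act 1 q41 = q42) (h42 : act 3 q42 = q43) (h43 : act 2 q43 = q44) (h44 : act 3 q44 = q45) (h45 : act 2 q45 = q46) (h46 : act 1 q46 = q47) (h47 :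 act 3 q47 = q48) (h48 : act 2 q48 = q49) (h49 : act 3 q49 = q50) (h50 : act 2 q50 = q51) (h51 : act 1 q51 = q52) (h52 : act 4 q52 = q53) (h53 : act 3 q53 = q54) (h54 : act 2 q54 = q55) (h55 : act 3 q55 = q56) (h56 : act 2 q56 = q57) (h57 : act 1 q57 = q58) (h58 : act 3 q58 = q59) (h59 : act 2 q59 = q60) (h60 : act 3 q60 = q61) (h61 : act 2 q61 = q62) (h62 : act 1 q62 = q63) (h63 : act 3 q63 = q64) (h64 : act 2 q64 = q65) (h65 : act 3 q65 = q66) (h66 : act 2 q66 = q67) (h67 : act 1 q67 = q68) (h68 : act 3 q68 = q69) (h69 : act 2 q69 = q70) (h70 : act 3 q70 = q71) (h71 : act 2 q71 = q72) (h72 : act 1 q72 = q73) (h73 : act 3 q73 = q74) (h74 : act 2 q74 = q75) (h75 : act 3 q75 = q76) (h76 : act 2 q76 = q77) (h77 : act 1 q77 = p0) : act 2 p4 = q5 := by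
  have hr := R25 p0
  subst h0
  subst h1
  subst h2
  subst h3
  subst h77
  subst h76
  subst h75
  subst h74
  subst h73
  subst h72
  subst h71
  subst h70
  subst h69
  subst h68
  subst h67
  subst h66
  subst h65
  subst h64
  subst h63
  subst h62
  subst h61
  subst h60
  subst h59
  subst h58
  subst h57
  subst h56
  subst h55
  subst h54
  subst h53
  subst h52
  subst h51
  subst h50
  subst h49
  subst h48
  subst h47
  subst h46
  subst h45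
  subst h44
  subst h43
  subst h42
  subst h41
  subst h40
  subst h39
  subst h38
  subst h37
  subst h36
  subst h35
  subst h34
  subst h33
  subst h32
  subst h31
  subst h30
  subst h29
  subst h28
  subst h27
  subst h26
  subst h25
  subst h24
  subst h23
  subst h22
  subst h21
  subst h20
  subst h19
  subst h18
  subst h17
  subst h16
  subst h15
  subst h14
  subst h13
  subst h12
  subst h11
  subst h10
  subst h9
  subst h8
  subst h7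
  subst h6
  subst h5
  exact ij (ij (ij (ij (ij (ij (ij (ij (ij (ij (ij (ij (ij (ij (ij (ij (ij (ij (ij (ij (ij (ij (ij (ij (ij (ij (ij (ij (ij (ij (ij (ij (ij (ij (ij (ij (ij (ij (ij (ij (ij (ij (ij (ij (ij (ij (ij (ij (ij (ij (ij (ij (ij (ij (ij (ij (ij (ij (ij (ij (ij (ij (ij (ij (ij (ij (ij (ij (ij (ij (ij (ij (ij (hr)))))))))))))))))))))))))))))))))))))))))))))))))))))))))))))))))))))))))

theorem d25_26 {p0 p1 p2 p3 p4 p5 p6 p7 p8 p9 p10 p11 p12 p13 p14 p15 p16 p17 p18 p19 p20 p21 p22 p23 p24 p25 p26 q27 q28 q29 q30 q31 q32 q33 q34 q35 q36 q37 q38 q39 q40 q41 q42 q43 q44 q45 q46 q47 q48 q49 q50 q51 q52 q53 q54 q55 q56 q57 q58 q59 q60 q61 q62 q63 q64 q65 q66 q67 q68 q69 q70 q71 q72 q73 q74 q75 q76 q77 : Q} (h0 : act 4 p0 = p1) (h1 : act 3 p1 = p2) (h2 : act 2 p2 = p3) (h3 : act 3 p3 = p4) (h4 : act 2 p4 = p5) (h5 : act 1 p5 = p6) (h6 : act 3 p6 = p7) (h7 : act 2 p7 = p8) (h8 : act 3 p8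 = p9) (h9 : act 2 p9 = p10) (h10 : act 1 p10 = p11) (h11 : act 3 p11 = p12) (h12 : act 2 p12 = p13) (h13 : act 3 p13 = p14) (h14 : act 2 p14 = p15) (h15 : act 1 p15 = p16) (h16 : act 3 p16 = p17) (h17 : act 2 p17 = p18) (h18 : act 3 p18 = p19) (h19 : act 2 p19 = p20) (h20 : act 1 p20 = p21) (h21 : act 3 p21 = p22) (h22 : act 2 p22 = p23) (h23 : act 3 p23 = p24) (h24 : act 2 p24 = p25) (h25 : act 1 p25 = p26) (h27 : act 3 q27 = q28) (h28 : act 2 q28 = q29) (h29 : act 3 q29 = q30) (h30 : act 2 q30 = q31) (h31 : act 1 q31 = q32) (h32 : act 3 q32 = q33) (h33 : act 2 q33 = q34) (h34 : act 3 q34 = q35) (h35 : act 2 q35 = q36) (h36 : act 1 q36 = q37) (h37 : act 3 q37 = q38) (h38 : act 2 q38 = q39) (h39 : act 3 q39 = q40) (h40 : act 2 q40 = q41) (h41 : act 1 q41 = q42) (h42 : act 3 q42 = q43) (h43 : act 2 q43 = q44) (h44 : act 3 q44 = q45) (h45 : act 2 q45 = q46) (h46 : act 1 q46 = q47) (h47 : act 3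 q47 = q48) (h48 : act 2 q48 = q49) (h49 : act 3 q49 = q50) (h50 : act 2 q50 = q51) (h51 : act 1 q51 = q52) (h52 : act 4 q52 = q53) (h53 : act 3 q53 = q54) (h54 : act 2 q54 = q55) (h55 : act 3 q55 = q56) (h56 : act 2 q56 = q57) (h57 : act 1 q57 = q58) (h58 : act 3 q58 = q59) (h59 : act 2 q59 = q60) (h60 : act 3 q60 = q61) (h61 : act 2 q61 = q62) (h62 : act 1 q62 = q63) (h63 : act 3 q63 = q64) (h64 : act 2 q64 = q65) (h65 : act 3 q65 = q66) (h66 : act 2 q66 = q67) (h67 : act 1 q67 = q68) (h68 : act 3 q68 = q69) (h69 : act 2 q69 = q70) (h70 : act 3 q70 = q71) (h71 : act 2 q71 = q72) (h72 : act 1 q72 = q73) (h73 : act 3 q73 = q74) (h74 : act 2 q74 = q75) (h75 : act 3 q75 = q76) (h76 : act 2 q76 = q77) (h77 : act 1 q77 = p0) : act 4 p26 = q27 := by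
  have hr := R25 p0
  subst h0
  subst h1
  subst h2
  subst h3
  subst h4
  subst h5
  subst h6
  subst h7
  subst h8
  subst h9
  subst h10
  subst h11
  subst h12
  subst h13
  subst h14
  subst h15
  subst h16
  subst h17
  subst h18
  subst h19
  subst h20
  subst h21
  subst h22
  subst h23
  subst h24
  subst h25
  subst h77
  subst h76
  subst h75
  subst h74
  subst h73
  subst h72
  subst h71
  subst h70
  subst h69
  subst h68
  subst h67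
  subst h66
  subst h65
  subst h64
  subst h63
  subst h62
  subst h61
  subst h60
  subst h59
  subst h58
  subst h57
  subst h56
  subst h55
  subst h54
  subst h53
  subst h52
  subst h51
  subst h50
  subst h49
  subst h48
  subst h47
  subst h46
  subst h45
  subst h44
  subst h43
  subst h42
  subst h41
  subst h40
  subst h39
  subst h38
  subst h37
  subst h36
  subst h35
  subst h34
  subst h33
  subst h32
  subst h31
  subst h30
  subst h29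
  subst h28
  subst h27
  exact ij (ij (ij (ij (ij (ij (ij (ij (ij (ij (ij (ij (ij (ij (ij (ij (ij (ij (ij (ij (ij (ij (ij (ij (ij (ij (ij (ij (ij (ij (ij (ij (ij (ij (ij (ij (ij (ij (ij (ij (ij (ij (ij (ij (ij (ij (ij (ij (ij (ij (ij (hr)))))))))))))))))))))))))))))))))))))))))))))))))))

theorem d25_42 {p0 p1 p2 p3 p4 p5 p6 p7 p8 p9 p10 p11 p12 p13 p14 p15 p16 p17 p18 p19 p20 p21 p22 p23 p24 p25 p26 p27 p28 p29 p30 p31 p32 p33 p34 p35 p36 p37 p38 p39 p40 p41 p42 q43 q44 q45 q46 q47 q48 q49 q50 q51 q52 q53 q54 q55 q56 q57 q58 q59 q60 q61 q62 q63 q64 q65 q66 q67 q68 q69 q70 q71 q72 q73 q74 q75 q76 q77 : Q} (h0 : act 4 p0 = p1) (h1 : act 3 p1 = p2) (h2 : act 2 p2 = p3) (h3 : act 3 p3 = p4) (h4 : act 2 p4 = p5) (h5 : act 1 p5 = p6) (h6 : act 3 p6 = p7) (h7 : act 2 p7 = p8) (h8 : act 3 p8 = p9) (h9 : act 2 p9 = p10) (h10 : act 1 p10 = p11) (h11 : act 3 p11 = p12) (h12 : act 2 p12 = p13) (h13 :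 act 3 p13 = p14) (h14 : act 2 p14 = p15) (h15 : act 1 p15 = p16) (h16 : act 3 p16 = p17) (h17 : act 2 p17 = p18) (h18 : act 3 p18 = p19) (h19 : act 2 p19 = p20) (h20 : act 1 p20 = p21) (h21 : act 3 p21 = p22) (h22 : act 2 p22 = p23) (h23 : act 3 p23 = p24) (h24 : act 2 p24 = p25) (h25 : act 1 p25 = p26) (h26 : act 4 p26 = p27) (h27 : act 3 p27 = p28) (h28 : act 2 p28 = p29) (h29 : act 3 p29 = p30) (h30 : act 2 p30 = p31) (h31 : act 1 p31 = p32) (h32 : act 3 p32 = p33) (h33 : act 2 p33 = p34) (h34 : act 3 p34 = p35) (h35 : act 2 p35 = p36) (h36 : act 1 p36 = p37) (h37 : act 3 p37 = p38) (h38 : act 2 p38 = p39) (h39 : act 3 p39 = p40) (h40 : act 2 p40 = p41) (h41 : act 1 p41 = p42) (h43 : act 2 q43 = q44) (h44 : act 3 q44 = q45) (h45 : act 2 q45 = q46) (h46 : act 1 q46 = q47) (h47 : act 3 q47 = q48) (h48 : act 2 q48 = q49) (h49 : act 3 q49 = q50) (h50 : act 2 q50 = q51) (h51 : act 1 q51 = q52)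 (h52 : act 4 q52 = q53) (h53 : act 3 q53 = q54) (h54 : act 2 q54 = q55) (h55 : act 3 q55 = q56) (h56 : act 2 q56 = q57) (h57 : act 1 q57 = q58) (h58 : act 3 q58 = q59) (h59 : act 2 q59 = q60) (h60 : act 3 q60 = q61) (h61 : act 2 q61 = q62) (h62 : act 1 q62 = q63) (h63 : act 3 q63 = q64) (h64 : act 2 q64 = q65) (h65 : act 3 q65 = q66) (h66 : act 2 q66 = q67) (h67 : act 1 q67 = q68) (h68 : act 3 q68 = q69) (h69 : act 2 q69 = q70) (h70 : act 3 q70 = q71) (h71 : act 2 q71 = q72) (h72 : act 1 q72 = q73) (h73 : act 3 q73 = q74) (h74 : act 2 q74 = q75) (h75 : act 3 q75 = q76) (h76 : act 2 q76 = q77) (h77 : act 1 q77 = p0) : act 3 p42 = q43 := by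
  have hr := R25 p0
  subst h0
  subst h1
  subst h2
  subst h3
  subst h4
  subst h5
  subst h6
  subst h7
  subst h8
  subst h9
  subst h10
  subst h11
  subst h12
  subst h13
  subst h14
  subst h15
  subst h16
  subst h17
  subst h18
  subst h19
  subst h20
  subst h21
  subst h22
  subst h23
  subst h24
  subst h25
  subst h26
  subst h27
  subst h28
  subst h29
  subst h30
  subst h31
  subst h32
  subst h33
  subst h34
  subst h35
  subst h36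
  subst h37
  subst h38
  subst h39
  subst h40
  subst h41
  subst h77
  subst h76
  subst h75
  subst h74
  subst h73
  subst h72
  subst h71
  subst h70
  subst h69
  subst h68
  subst h67
  subst h66
  subst h65
  subst h64
  subst h63
  subst h62
  subst h61
  subst h60
  subst h59
  subst h58
  subst h57
  subst h56
  subst h55
  subst h54
  subst h53
  subst h52
  subst h51
  subst h50
  subst h49
  subst h48
  subst h47
  subst h46
  subst h45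
  subst h44
  subst h43
  exact ij (ij (ij (ij (ij (ij (ij (ij (ij (ij (ij (ij (ij (ij (ij (ij (ij (ij (ij (ij (ij (ij (ij (ij (ij (ij (ij (ij (ij (ij (ij (ij (ij (ij (ij (hr)))))))))))))))))))))))))))))))))))

theorem d25_76 {p0 p1 p2 p3 p4 p5 p6 p7 p8 p9 p10 p11 p12 p13 p14 p15 p16 p17 p18 p19 p20 p21 p22 p23 p24 p25 p26 p27 p28 p29 p30 p31 p32 p33 p34 p35 p36 p37 p38 p39 p40 p41 p42 p43 p44 p45 p46 p47 p48 p49 p50 p51 p52 p53 p54 p55 p56 p57 p58 p59 p60 p61 p62 p63 p64 p65 p66 p67 p68 p69 p70 p71 p72 p73 p74 p75 p76 q77 : Q} (h0 : act 4 p0 = p1) (h1 : act 3 p1 = p2) (h2 : act 2 p2 = p3) (h3 : act 3 p3 = p4) (h4 : act 2 p4 = p5) (h5 : act 1 p5 = p6) (h6 : act 3 p6 = p7) (h7 : act 2 p7 = p8) (h8 : act 3 p8 = p9) (h9 : act 2 p9 = p10) (h10 : act 1 p10 = p11) (h11 : act 3 p11 = p12) (h12 : act 2 p12 = p13) (h13 : act 3 p13 = p14) (h14 : act 2 p14 = p15) (h15 : act 1 p15 = p16) (h16 : act 3 p16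 = p17) (h17 : act 2 p17 = p18) (h18 : act 3 p18 = p19) (h19 : act 2 p19 = p20) (h20 : act 1 p20 = p21) (h21 : act 3 p21 = p22) (h22 : act 2 p22 = p23) (h23 : act 3 p23 = p24) (h24 : act 2 p24 = p25) (h25 : act 1 p25 = p26) (h26 : act 4 p26 = p27) (h27 : act 3 p27 = p28) (h28 : act 2 p28 = p29) (h29 : act 3 p29 = p30) (h30 : act 2 p30 = p31) (h31 : act 1 p31 = p32) (h32 : act 3 p32 = p33) (h33 : act 2 p33 = p34) (h34 : act 3 p34 = p35) (h35 : act 2 p35 = p36) (h36 : act 1 p36 = p37) (h37 : act 3 p37 = p38) (h38 : act 2 p38 = p39) (h39 : act 3 p39 = p40) (h40 : act 2 p40 = p41) (h41 : act 1 p41 = p42) (h42 : act 3 p42 = p43) (h43 : act 2 p43 = p44) (h44 : act 3 p44 = p45) (h45 : act 2 p45 = p46) (h46 : act 1 p46 = p47) (h47 : act 3 p47 = p48) (h48 : act 2 p48 = p49) (h49 : act 3 p49 = p50) (h50 : act 2 p50 = p51) (h51 : act 1 p51 = p52) (h52 : act 4 p52 = p53) (h53 : act 3 p53 = p54) (h54 : act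 2 p54 = p55) (h55 : act 3 p55 = p56) (h56 : act 2 p56 = p57) (h57 : act 1 p57 = p58) (h58 : act 3 p58 = p59) (h59 : act 2 p59 = p60) (h60 : act 3 p60 = p61) (h61 : act 2 p61 = p62) (h62 : act 1 p62 = p63) (h63 : act 3 p63 = p64) (h64 : act 2 p64 = p65) (h65 : act 3 p65 = p66) (h66 : act 2 p66 = p67) (h67 : act 1 p67 = p68) (h68 : act 3 p68 = p69) (h69 : act 2 p69 = p70) (h70 : act 3 p70 = p71) (h71 : act 2 p71 = p72) (h72 : act 1 p72 = p73) (h73 : act 3 p73 = p74) (h74 : act 2 p74 = p75) (h75 : act 3 p75 = p76) (h77 : act 1 q77 = p0) : act 2 p76 = q77 := by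
  have hr := R25 p0
  subst h0
  subst h1
  subst h2
  subst h3
  subst h4
  subst h5
  subst h6
  subst h7
  subst h8
  subst h9
  subst h10
  subst h11
  subst h12
  subst h13
  subst h14
  subst h15
  subst h16
  subst h17
  subst h18
  subst h19
  subst h20
  subst h21
  subst h22
  subst h23
  subst h24
  subst h25
  subst h26
  subst h27
  subst h28
  subst h29
  subst h30
  subst h31
  subst h32
  subst h33
  subst h34
  subst h35
  subst h36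
  subst h37
  subst h38
  subst h39
  subst h40
  subst h41
  subst h42
  subst h43
  subst h44
  subst h45
  subst h46
  subst h47
  subst h48
  subst h49
  subst h50
  subst h51
  subst h52
  subst h53
  subst h54
  subst h55
  subst h56
  subst h57
  subst h58
  subst h59
  subst h60
  subst h61
  subst h62
  subst h63
  subst h64
  subst h65
  subst h66
  subst h67
  subst h68
  subst h69
  subst h70
  subst h71
  subst h72
  subst h73
  subst h74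
  subst h75
  subst h77
  exact ij (hr)

theorem d26_0 {p0 : Q} (hr : act 0 p0 = p0) : act 0 p0 = p0 := by
  exact hr

theorem d27_0 {p0 : Q} (hr : act 1 p0 = p0) : act 1 p0 = p0 := by
  exact hr

theorem d28_0 {p0 : Q} (hr : act 2 p0 = p0) : act 2 p0 = p0 := by
  exact hr

theorem d29_0 {p0 : Q} (hr : act 3 p0 = p0) : act 3 p0 = p0 := by
  exact hr

theorem d30_0 {p0 : Q} (hr : act 4 p0 = p0) : act 4 p0 = p0 := by
  exact hr

theorem d31_0 {p0 : Q} (hr : act 5 p0 = p0) : act 5 p0 = p0 := by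
  exact hr


end Cfsg.Agent.Helper17.SuzTC
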